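import Cfsg.Agent.McLThree.Form

/-!
The elements of `N(Z) ∩ C(t)` centralising `E`.
-/

set_option autoImplicit false
set_option maxHeartbeats 800000

namespace CfsgLib.McLThree

open Subgroup
open scoped commutatorElement

universe u

variable {G : Type u} [Group G] [Finite G]

namespace Frame

variable (F : Frame G)

theorem normZ_mem {g : G} (hg : g ∈ normalizer (F.Z : Set G)) {z : G} (hz : z ∈ F.Z) :
    g * z * g⁻¹ ∈ F.Z := (mem_normalizer_iff.1 hg z).1 hz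

theorem R_eq {q : G} : q ∈ F.R ↔ q ∈ F.Q ∧ ⁅F.y, q⁆ ∈ F.Z := by
  rw [← F.toCtx.Fix_eq F.y_S F.y_Q]; rfl

/-- An element fixing or inverting `y` normalises `R`. -/
theorem conj_R {g : G} (hg : g ∈ normalizer (F.Z : Set G))
    (hy : g * F.y * g⁻¹ = F.y ∨ g * F.y * g⁻¹ = F.y⁻¹) {r : G} (hr : r ∈ F.R) :
    g * r * g⁻¹ ∈ F.R := by
  obtain ⟨hrQ, hrz⟩ := F.R_eq.1 hr
  refine F.R_eq.2 ⟨F.Q_normal g hg r hrQ, ?_⟩
  have hc : ⁅g * F.y * g⁻¹, g * r * g⁻¹⁆ = 1 := by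
    rw [commutatorElement_eq_one_iff_mul_comm]
    calc g * F.y * g⁻¹ * (g * r * g⁻¹) = g * (F.y * r) * g⁻¹ := by group
      _ = g * (r * F.y) * g⁻¹ := by rw [F.y_comm_R hr]
      _ = _ := by group
  rcases hy with hy | hy <;> rw [hy] at hc
  · rw [hc]; exact one_mem _
  · have h2 : Commute F.y (g * r * g⁻¹) := by
      simpa using (Commute.inv_left (commutatorElement_eq_one_iff_mul_comm.1 hc : Commute F.y⁻¹ _))
    rw [commutatorElement_eq_one_iff_mul_comm.2 h2.eq]; exact one_mem _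

theorem exists_v : ∃ v : F.Q, (v : G) ∉ F.R := by
  by_contra h
  push Not at h
  have := card_le_of_le (show F.Q ≤ F.R from fun q hq => h ⟨q, hq⟩)
  rw [F.Q_card, F.toData.card_R] at this
  omega

theorem e_norm : F.e ∈ normalizer (F.Z : Set G) := centralizer_le_normalizer _ F.e_cent

theorem e_y_conj : F.e * F.y * F.e⁻¹ = F.y⁻¹ := by rw [F.e_y, mul_inv_cancel_right]

/-- The conjugate by `e`. -/
def ev (v : F.Q) : F.Q := F.cq F.e_norm v

theorem ev_ev (v : F.Q) : (F.ev (F.ev v) : G) = F.t * (v : G) * F.t := by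
  show F.e * (F.e * (v : G) * F.e⁻¹) * F.e⁻¹ = F.t * (v : G) * F.t
  calc F.e * (F.e * (v : G) * F.e⁻¹) * F.e⁻¹ = (F.e * F.e) * v * (F.e * F.e)⁻¹ := by group
    _ = _ := by rw [F.e_sq, F.toCtx.t_inv_eq]

theorem Z_le_R' {z : G} (hz : z ∈ F.Z) : z ∈ F.R := F.toData.Z_le_R hz

/-- `v` and its conjugate by `e` form a basis of `Q/R`. -/
theorem basis {v : F.Q} (hv : (v : G) ∉ F.R) (u : F.Q) :
    ∃ a b : Fin 3, ((v ^ (a : ℕ) * F.ev v ^ (b : ℕ) : F.Q) : G)⁻¹ * u ∈ F.R := by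
  classical
  set w := F.ev v with hw
  have hndep : ∀ a b : Fin 3, (v : G) ^ (a : ℕ) * (w : G) ^ (b : ℕ) ∈ F.R → a = 0 ∧ b = 0 := by
    intro a b h
    have hv3 := F.Q_cube v v.2
    have hw3 := F.Q_cube w w.2
    have htv : F.t * (v : G) * F.t * v ∈ F.R := F.Z_le_R' (F.toCtx.t_inverts v.2)
    have hvv : (v : G) * v ∉ F.R := fun h2 => hv (by
      have := mul_mem h2 h2
      rwa [show (v : G) * v * ((v : G) * v) = v * v * v * v by simp only [mul_assoc], hv3, one_mul]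
        at this)
    have hcase : b = 0 → a = 0 := by
      rintro rfl
      simp only [Fin.val_zero, pow_zero, mul_one] at h
      fin_cases a
      · rfl
      · exact absurd (by simpa using h) hv
      · exact absurd (by simpa [sq] using h) hvv
    by_cases hb : b = 0
    · exact ⟨hcase hb, hb⟩
    exfalso
    -- `w` is congruent to a power of `v`
    obtain ⟨i, hi⟩ : ∃ i : ℕ, ((v : G) ^ i)⁻¹ * w ∈ F.R := by
      have hcQ : ∀ c ∈ F.R, ∀ q ∈ F.Q, q * c * q⁻¹ ∈ F.R := fun c hc q hq => by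
        rw [show q * c * q⁻¹ = ⁅q, c⁆ * c by simp [commutatorElement_def]]
        exact mul_mem (F.Z_le_R' (F.Q_comm q hq c hc.2)) hc
      fin_cases b
      · exact absurd rfl hb
      · refine ⟨2 * (a : ℕ), ?_⟩
        simp only [pow_one] at h
        have e : ((v : G) ^ (2 * (a : ℕ)))⁻¹ = (v : G) ^ (a : ℕ) := by
          refine inv_eq_of_mul_eq_one_right ?_
          rw [← pow_add, show 2 * (a : ℕ) + (a : ℕ) = 3 * (a : ℕ) by ring, pow_mul, pow_three', hv3,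
            one_pow]
        rw [e]; exact h
      · refine ⟨(a : ℕ), ?_⟩
        simp only at h
        have hw2 : (w : G) ^ 2 = (w : G)⁻¹ := by
          refine (inv_eq_of_mul_eq_one_right ?_).symm
          rw [← pow_succ', pow_three', hw3]
        rw [hw2] at h
        have := hcQ _ (inv_mem h) _ (pow_mem (inv_mem v.2) (a : ℕ))
        rw [mul_inv_rev, inv_inv] at this
        rw [inv_pow] at this
        convert this using 1
        group
    have h2 : (F.t * (v : G) * F.t)⁻¹ * ((w : G) ^ i) ∈ F.R := by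
      have := F.conj_R F.e_norm (Or.inr F.e_y_conj) hi
      have e1 : F.e * (((v : G) ^ i)⁻¹ * w) * F.e⁻¹ = ((w : G) ^ i)⁻¹ * (F.ev w : G) := by
        show _ = ((F.e * (v : G) * F.e⁻¹) ^ i)⁻¹ * (F.e * (w : G) * F.e⁻¹)
        rw [conj_pow]; group
      rw [e1, show (F.ev w : G) = F.t * (v : G) * F.t from F.ev_ev v] at this
      have := inv_mem this
      rwa [mul_inv_rev, inv_inv] at this
    have hπ : ∀ j : ℕ, ((v : G) ^ (i * j))⁻¹ * (w : G) ^ j ∈ F.R := by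
      intro j
      induction j with
      | zero => simp
      | succ j ih =>
        have e : ((v : G) ^ (i * (j + 1)))⁻¹ * (w : G) ^ (j + 1) =
            ((v : G) ^ i)⁻¹ * (((v : G) ^ (i * j))⁻¹ * (w : G) ^ j) * (v : G) ^ i *
              (((v : G) ^ i)⁻¹ * w) := by
          rw [mul_add, mul_one, pow_add, pow_succ]; group
        rw [e]
        refine mul_mem ?_ hi
        set c := ((v : G) ^ (i * j))⁻¹ * (w : G) ^ j
        have hq : ((v : G) ^ i)⁻¹ ∈ F.Q := inv_mem (pow_mem v.2 _)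
        rw [show ((v : G) ^ i)⁻¹ * c * (v : G) ^ i = ⁅((v : G) ^ i)⁻¹, c⁆ * c by
          simp [commutatorElement_def]]
        exact mul_mem (F.Z_le_R' (F.Q_comm _ hq c ih.2)) ih
    -- so `t v t ≡ v ^ (i * i)`, hence `v ^ (i * i + 1) ∈ R`
    have h4 : ((v : G) ^ (i * i))⁻¹ * (F.t * v * F.t) ∈ F.R := by
      have := mul_mem (hπ i) (inv_mem h2)
      simpa [mul_assoc] using this
    have h5 : ((v : G) ^ (i * i + 1))⁻¹ ∈ F.R := by
      have hc := F.toCtx.t_inverts v.2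
      have hvt : (v : G) * (F.t * v * F.t) ∈ F.R := by
        have e : (v : G) * (F.t * v * F.t) = v * (F.t * v * F.t * v) * (v : G)⁻¹ := by group
        rw [e, ← F.toData.Z_comm_Q v.2 hc, mul_inv_cancel_right]
        exact F.Z_le_R' hc
      have := mul_mem h4 (inv_mem hvt)
      have e : ((v : G) ^ (i * i))⁻¹ * (F.t * v * F.t) * ((v : G) * (F.t * v * F.t))⁻¹ =
          ((v : G) ^ (i * i + 1))⁻¹ := by rw [pow_succ', mul_inv_rev ((v : G))]; group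
      rwa [e] at this
    rw [inv_mem_iff] at h5
    have hsq : i * i % 3 = 0 ∨ i * i % 3 = 1 := by
      rw [Nat.mul_mod]
      have : i % 3 < 3 := Nat.mod_lt _ (by norm_num)
      interval_cases i % 3 <;> simp
    have hm : (i * i + 1) % 3 = 1 ∨ (i * i + 1) % 3 = 2 := by omega
    have hred : (v : G) ^ (i * i + 1) = (v : G) ^ ((i * i + 1) % 3) := by
      conv_lhs => rw [← Nat.div_add_mod (i * i + 1) 3, pow_add, pow_mul, pow_three', hv3, one_pow,
        one_mul]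
    rw [hred] at h5
    rcases hm with hm | hm <;> rw [hm] at h5
    · exact hv (by simpa using h5)
    · exact hvv (by simpa [sq] using h5)
  -- counting
  let f : Fin 3 × Fin 3 × F.R → F.Q := fun p =>
    v ^ (p.1 : ℕ) * w ^ (p.2.1 : ℕ) * ⟨p.2.2, F.toData.R_le_Q p.2.2.2⟩
  have hinj : Function.Injective f := by
    rintro ⟨a, b, r⟩ ⟨a', b', r'⟩ h
    have hG : (v : G) ^ (a : ℕ) * (w : G) ^ (b : ℕ) * r = (v : G) ^ (a' : ℕ) * (w : G) ^ (b' : ℕ) * r' := by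
      simpa [f] using congrArg Subtype.val h
    -- compare modulo `R`, using that commutators lie in `Z`
    obtain ⟨a'', ha⟩ : ∃ a'' : Fin 3, a'' + a' = a := ⟨a - a', sub_add_cancel a a'⟩
    obtain ⟨b'', hb⟩ : ∃ b'' : Fin 3, b'' + b' = b := ⟨b - b', sub_add_cancel b b'⟩
    have hp : ∀ (x : F.Q) (i j k : Fin 3), i + j = k →
        (x : G) ^ (k : ℕ) = (x : G) ^ (i : ℕ) * (x : G) ^ (j : ℕ) := by
      intro x i j k hk
      rw [← pow_add, ← hk, Fin.val_add]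
      conv_rhs => rw [← Nat.div_add_mod ((i : ℕ) + j) 3, pow_add, pow_mul, pow_three',
        F.Q_cube x x.2, one_pow, one_mul]
    have hcQ : ∀ c ∈ F.R, ∀ q ∈ F.Q, q * c * q⁻¹ ∈ F.R := fun c hc q hq => by
      rw [show q * c * q⁻¹ = ⁅q, c⁆ * c by simp [commutatorElement_def]]
      exact mul_mem (F.Z_le_R' (F.Q_comm q hq c hc.2)) hc
    rw [hp v a'' a' a ha, hp w b'' b' b hb] at hG
    set A := (v : G) ^ (a'' : ℕ); set A' := (v : G) ^ (a' : ℕ)
    set B := (w : G) ^ (b'' : ℕ); set B' := (w : G) ^ (b' : ℕ)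
    have hA' : A' ∈ F.Q := pow_mem v.2 _
    have hB' : B' ∈ F.Q := pow_mem w.2 _
    have hBQ : B ∈ F.Q := pow_mem w.2 _
    have hAQ : A ∈ F.Q := pow_mem v.2 _
    have h1 : A * B * ⁅B⁻¹, A'⁆ = A' * B' * ((r' : G) * (r : G)⁻¹) * B'⁻¹ * A'⁻¹ := by
      calc A * B * ⁅B⁻¹, A'⁆
          = (A * A' * (B * B') * r) * (r : G)⁻¹ * B'⁻¹ * A'⁻¹ := by
            simp only [commutatorElement_def]; group
        _ = (A' * B' * r') * (r : G)⁻¹ * B'⁻¹ * A'⁻¹ := by rw [hG]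
        _ = _ := by group
    have h2 : A * B * ⁅B⁻¹, A'⁆ ∈ F.R := by
      rw [h1, show A' * B' * ((r' : G) * (r : G)⁻¹) * B'⁻¹ * A'⁻¹ =
        (A' * B') * ((r' : G) * (r : G)⁻¹) * (A' * B')⁻¹ by group]
      exact hcQ _ (mul_mem r'.2 (inv_mem r.2)) _ (mul_mem hA' hB')
    have h3 := mul_mem h2 (inv_mem (F.Z_le_R' (F.Q_comm _ (inv_mem hBQ) _ hA')))
    rw [mul_inv_cancel_right] at h3
    obtain ⟨rfl, rfl⟩ := hndep a'' b'' h3
    rw [zero_add] at ha hb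
    subst ha hb
    simp only [A, B, Fin.val_zero, pow_zero, one_mul] at hG
    obtain rfl : r = r' := Subtype.ext (mul_left_cancel hG)
    rfl
  have hbij : Function.Bijective f := by
    rw [Nat.bijective_iff_injective_and_card]
    refine ⟨hinj, ?_⟩
    rw [Nat.card_prod, Nat.card_prod, Nat.card_fin, F.toData.card_R, F.Q_card]
  obtain ⟨⟨a, b, r⟩, h⟩ := hbij.2 u
  refine ⟨a, b, ?_⟩
  rw [← h]
  simp [f, mul_assoc]

theorem bf_congr_left (a u v : F.Q) (h : (a : G)⁻¹ * u ∈ F.R) : F.bf u v = F.bf a v := by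
  have e : u = a * ⟨(a : G)⁻¹ * u, F.toData.R_le_Q h⟩ := Subtype.ext (by simp)
  have h' := F.bf_mul_left a ⟨(a : G)⁻¹ * u, F.toData.R_le_Q h⟩ v
  rw [← e, F.bf_R_left ⟨(a : G)⁻¹ * u, F.toData.R_le_Q h⟩ v h, add_zero] at h'
  exact h'

theorem bf_congr_right (a u v : F.Q) (h : (a : G)⁻¹ * v ∈ F.R) : F.bf u v = F.bf u a := by
  have e : v = a * ⟨(a : G)⁻¹ * v, F.toData.R_le_Q h⟩ := Subtype.ext (by simp)
  have h' := F.bf_mul_right u a ⟨(a : G)⁻¹ * v, F.toData.R_le_Q h⟩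
  rw [← e, F.bf_R_right u ⟨(a : G)⁻¹ * v, F.toData.R_le_Q h⟩ h, add_zero] at h'
  exact h'

/-- Conjugation by `e` negates the form. -/
theorem bf_ev (u v : F.Q) : F.bf (F.ev u) (F.ev v) = -F.bf u v := by
  have hA := (F.comm_y_mem v.2)
  have hAy : F.y * ⁅F.y, (v : G)⁆ = ⁅F.y, (v : G)⁆ * F.y := F.y_comm_R hA
  have h : F.bz (F.ev u) (F.ev v) = (F.bz u v)⁻¹ := by
    apply Subtype.ext
    show ⁅F.e * (u : G) * F.e⁻¹, ⁅F.y, F.e * (v : G) * F.e⁻¹⁆⁆ = (⁅(u : G), ⁅F.y, (v : G)⁆⁆)⁻¹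
    have ey : F.e⁻¹ * F.y * F.e = F.y⁻¹ := by
      have h1 := congrArg (fun x => F.e⁻¹ * x⁻¹ * F.e) F.e_y_conj
      simp only [inv_inv] at h1
      rw [← h1]; group
    have e1 : ⁅F.y, F.e * (v : G) * F.e⁻¹⁆ = F.e * ⁅F.y⁻¹, (v : G)⁆ * F.e⁻¹ := by
      rw [← ey]; simp only [commutatorElement_def]; group
    have e2 : ⁅F.y⁻¹, (v : G)⁆ = (⁅F.y, (v : G)⁆)⁻¹ := by
      have : ⁅F.y⁻¹, (v : G)⁆ = F.y⁻¹ * (⁅F.y, (v : G)⁆)⁻¹ * F.y := by
        simp only [commutatorElement_def]; group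
      rw [this, mul_assoc, (Commute.inv_left (hAy.symm : Commute ⁅F.y, (v : G)⁆ F.y)).eq,
        inv_mul_cancel_left]
    have hc := (F.bz u v).2
    change ⁅(u : G), ⁅F.y, (v : G)⁆⁆ ∈ F.Z at hc
    have e3 : ⁅F.e * (u : G) * F.e⁻¹, F.e * (⁅F.y, (v : G)⁆)⁻¹ * F.e⁻¹⁆ =
        F.e * ((⁅F.y, (v : G)⁆)⁻¹ * (⁅(u : G), ⁅F.y, (v : G)⁆⁆)⁻¹ * ⁅F.y, (v : G)⁆) * F.e⁻¹ := by
      simp only [commutatorElement_def]; group
    rw [e1, e2, e3, mul_assoc _ _ ⁅F.y, (v : G)⁆, F.toData.Z_comm_Q hA.2 (inv_mem hc),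
      inv_mul_cancel_left, ← F.toData.comm_Z F.e_cent (inv_mem hc), mul_inv_cancel_right]
  rw [bf, h, map_inv, toAdd_inv, bf]

/-- Every element of `R` is a commutator with `y`, up to `Z`. -/
theorem commY_surj {v : F.Q} (hv : (v : G) ∉ F.R) :
    Function.Surjective fun p : Fin 3 × Fin 3 × F.Z =>
      (⟨⁅F.y, ((v ^ (p.1 : ℕ) * F.ev v ^ (p.2.1 : ℕ) : F.Q) : G)⁆ * p.2.2,
        mul_mem (F.comm_y_mem (Subtype.prop _)) (F.Z_le_R' p.2.2.2)⟩ : F.R) := by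
  classical
  let f : Fin 3 × Fin 3 × F.Z → F.R := fun p =>
    ⟨⁅F.y, ((v ^ (p.1 : ℕ) * F.ev v ^ (p.2.1 : ℕ) : F.Q) : G)⁆ * p.2.2,
      mul_mem (F.comm_y_mem (Subtype.prop _)) (F.Z_le_R' p.2.2.2)⟩
  have hinj : Function.Injective f := by
    rintro ⟨a, b, z⟩ ⟨a', b', z'⟩ h
    have h' : ⁅F.y, ((v ^ (a : ℕ) * F.ev v ^ (b : ℕ) : F.Q) : G)⁆ * (z : G) =
        ⁅F.y, ((v ^ (a' : ℕ) * F.ev v ^ (b' : ℕ) : F.Q) : G)⁆ * (z' : G) := congrArg Subtype.val h
    set q := v ^ (a : ℕ) * F.ev v ^ (b : ℕ) with hq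
    set q' := v ^ (a' : ℕ) * F.ev v ^ (b' : ℕ) with hq'
    -- the quotient of `q` and `q'` is centralised by `y` modulo `Z`
    have hd : (q : G)⁻¹ * q' ∈ F.R := by
      refine F.R_eq.2 ⟨mul_mem (inv_mem q.2) q'.2, ?_⟩
      have e1 : ⁅F.y, (q : G)⁆⁻¹ * ⁅F.y, (q' : G)⁆ = (z : G) * (z' : G)⁻¹ := by
        rw [inv_mul_eq_iff_eq_mul, ← mul_assoc, h', mul_inv_cancel_right]
      have e2 : ⁅F.y, (q : G)⁻¹ * q'⁆ =
          (q : G)⁻¹ * (⁅F.y, (q : G)⁆⁻¹ * ⁅F.y, (q' : G)⁆) * q := by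
        simp only [commutatorElement_def]; group
      rw [e2, e1, mul_assoc, F.toData.Z_comm_Q q.2 (mul_mem z.2 (inv_mem z'.2)), ← mul_assoc,
        inv_mul_cancel, one_mul]
      exact mul_mem z.2 (inv_mem z'.2)
    -- so the exponents agree
    let g : Fin 3 × Fin 3 × F.R → F.Q := fun p =>
      v ^ (p.1 : ℕ) * F.ev v ^ (p.2.1 : ℕ) * ⟨p.2.2, F.toData.R_le_Q p.2.2.2⟩
    have hg : Function.Bijective g := by
      rw [Nat.bijective_iff_surjective_and_card]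
      refine ⟨fun u => ?_, ?_⟩
      · obtain ⟨a, b, hab⟩ := F.basis hv u
        exact ⟨⟨a, b, ⟨_, hab⟩⟩, Subtype.ext (by simp [g, mul_assoc])⟩
      · rw [Nat.card_prod, Nat.card_prod, Nat.card_fin, F.toData.card_R, F.Q_card]
    have e3 : g (a, b, ⟨_, hd⟩) = g (a', b', 1) := Subtype.ext (by simp [g, hq, hq', mul_assoc])
    have e4 := hg.1 e3
    simp only [Prod.mk.injEq] at e4
    obtain ⟨rfl, rfl, -⟩ := e4
    obtain rfl : z = z' := Subtype.ext (mul_left_cancel h')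
    rfl
  have hbij : Function.Bijective f := by
    rw [Nat.bijective_iff_injective_and_card]
    exact ⟨hinj, by rw [Nat.card_prod, Nat.card_prod, Nat.card_fin, F.Z_card, F.toData.card_R]⟩
  exact hbij.2

theorem bf_nondeg {v : F.Q} (hv : (v : G) ∉ F.R) :
    F.bf v v ≠ 0 ∨ F.bf v (F.ev v) ≠ 0 := by
  classical
  by_contra hcon
  push Not at hcon
  -- `v` centralises `[y, Q]`
  have hall : ∀ u : F.Q, ⁅(v : G), ⁅F.y, (u : G)⁆⁆ = 1 := by
    intro u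
    obtain ⟨a, b, hab⟩ := F.basis hv u
    have h0 : F.bf v u = 0 := by
      rw [F.bf_congr_right _ v u hab, F.bf_mul_right, F.bf_pow_right, F.bf_pow_right, hcon.1, hcon.2,
        mul_zero, mul_zero, add_zero]
    rw [bf, toAdd_eq_zero, MulEquiv.map_eq_one_iff] at h0
    exact congrArg Subtype.val h0
  refine hv (F.toData.cent_R v.2 fun r hr => ?_)
  obtain ⟨⟨a, b, z⟩, h⟩ := F.commY_surj hv ⟨r, hr⟩
  have hr' : r = ⁅F.y, ((v ^ (a : ℕ) * F.ev v ^ (b : ℕ) : F.Q) : G)⁆ * (z : G) :=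
    (congrArg Subtype.val h).symm
  rw [hr']
  have h1 := commutatorElement_eq_one_iff_mul_comm.1 (hall (v ^ (a : ℕ) * F.ev v ^ (b : ℕ)))
  rw [← mul_assoc, h1, mul_assoc, ← F.toData.Z_comm_Q v.2 z.2, mul_assoc]

theorem fin_cast : ∀ a b : Fin 3, ((a : ℕ) : ZMod 3) = ((b : ℕ) : ZMod 3) → a = b := by decide

theorem fin_units : ∀ a : Fin 3, (((a : ℕ) : ZMod 3) = 1 ∨ ((a : ℕ) : ZMod 3) = -1) →
    a = 1 ∨ a = 2 := by decide

/-- The action on `Q/R` of an element centralising `e` and `y`. -/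
theorem action {g : G} (hg : g ∈ normalizer (F.Z : Set G)) (hy : g * F.y = F.y * g)
    (he : g * F.e = F.e * g) {v : F.Q} (hv : (v : G) ∉ F.R) :
    ∃ a b : Fin 3, ((v ^ (a : ℕ) * F.ev v ^ (b : ℕ) : F.Q) : G)⁻¹ * (g * v * g⁻¹) ∈ F.R ∧
      (g ∈ centralizer (F.Z : Set G) → b = 0 ∧ (a = 1 ∨ a = 2)) ∧
      (g ∉ centralizer (F.Z : Set G) → a = 0 ∧ (b = 1 ∨ b = 2)) := by
  have hy' : g * F.y * g⁻¹ = F.y := by rw [hy, mul_inv_cancel_right]
  obtain ⟨σ, hσ, hbf, hiff⟩ := F.bf_conj hg hy'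
  obtain ⟨a, b, hab⟩ := F.basis hv (F.cq hg v)
  have hcomm : F.cq hg (F.ev v) = F.ev (F.cq hg v) := by
    apply Subtype.ext
    show g * (F.e * (v : G) * F.e⁻¹) * g⁻¹ = F.e * (g * (v : G) * g⁻¹) * F.e⁻¹
    calc g * (F.e * (v : G) * F.e⁻¹) * g⁻¹ = g * F.e * v * (g * F.e)⁻¹ := by group
      _ = _ := by rw [he]; group
  -- the image of `w`
  have hab' : ((F.ev v ^ (a : ℕ) * F.ev (F.ev v) ^ (b : ℕ) : F.Q) : G)⁻¹ * (F.cq hg (F.ev v) : G)
      ∈ F.R := by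
    have := F.conj_R F.e_norm (Or.inr F.e_y_conj) hab
    rw [hcomm]
    have hp : ∀ (q : F.Q) (n : ℕ), F.ev q ^ n = F.ev (q ^ n) := fun q n => Subtype.ext (by
      show (F.e * (q : G) * F.e⁻¹) ^ n = F.e * (q : G) ^ n * F.e⁻¹
      rw [conj_pow])
    rw [hp, hp]
    show (F.e * ((v : G) ^ (a : ℕ)) * F.e⁻¹ * (F.e * ((F.ev v : G) ^ (b : ℕ)) * F.e⁻¹))⁻¹ *
      (F.e * (g * (v : G) * g⁻¹) * F.e⁻¹) ∈ F.R
    convert this using 1
    simp only [cq, Subgroup.coe_mul, SubmonoidClass.coe_pow]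
    group
  set α := F.bf v v with hα
  set γ := F.bf v (F.ev v) with hγ
  have e2 : F.bf (F.ev v) (F.ev v) = -α := F.bf_ev v v
  -- `t` inverts `v` modulo `Z`
  have e4 : ∀ u, F.bf u (F.ev (F.ev v)) = -F.bf u v := fun u => by
    have hz : ((v : G)⁻¹)⁻¹ * (F.ev (F.ev v) : G) ∈ F.R := by
      rw [inv_inv, F.ev_ev]
      have hc := F.toCtx.t_inverts v.2
      have h1 : (v : G) * (F.t * v * F.t) = v * (F.t * v * F.t * v) * (v : G)⁻¹ := by group
      rw [h1, ← F.toData.Z_comm_Q v.2 hc, mul_inv_cancel_right]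
      exact F.Z_le_R' hc
    rw [F.bf_congr_right v⁻¹ u _ hz]
    have := F.bf_mul_right u v v⁻¹
    rw [mul_inv_cancel, F.bf_R_right u 1 (one_mem _)] at this
    linear_combination -this
  have e3 : F.bf (F.ev v) v = γ := by
    have h := F.bf_ev v (F.ev v)
    rw [e4, ← hγ] at h
    exact neg_injective h
  set A : ZMod 3 := ((a : ℕ) : ZMod 3)
  set B : ZMod 3 := ((b : ℕ) : ZMod 3)
  have k1 : (A * A - B * B) * α + 2 * A * B * γ = σ * α := by
    have h := hbf v v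
    rw [F.bf_congr_left _ _ _ hab, F.bf_congr_right _ _ _ hab] at h
    simp only [F.bf_mul_left, F.bf_mul_right, F.bf_pow_left, F.bf_pow_right, e2, e3, ← hα, ← hγ] at h
    linear_combination h
  have k2 : (A * A - B * B) * γ - 2 * A * B * α = σ * γ := by
    have h := hbf v (F.ev v)
    rw [F.bf_congr_left _ _ _ hab, F.bf_congr_right _ _ _ hab'] at h
    simp only [F.bf_mul_left, F.bf_mul_right, F.bf_pow_left, F.bf_pow_right, e4, e2, e3, ← hα,
      ← hγ] at h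
    linear_combination h
  obtain ⟨s1, s2⟩ := form_solve A B α γ σ hσ (F.bf_nondeg hv) k1 k2
  refine ⟨a, b, hab, fun hc => ?_, fun hc => ?_⟩
  · obtain ⟨hA, hB⟩ := s1 (hiff.2 hc)
    exact ⟨fin_cast b 0 (by simpa [B] using hB), fin_units a hA⟩
  · have hσ1 : σ = -1 := hσ.resolve_left fun h => hc (hiff.1 h)
    obtain ⟨hA, hB⟩ := s2 hσ1
    exact ⟨fin_cast a 0 (by simpa [A] using hA), fin_units b hB⟩

end Frame

end CfsgLib.McLThree
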