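import Cfsg.Agent.McLThree.Data

/-!
First consequences of the data: the Sylow 3-subgroup, the involution `t` inverting `Q/Z`, the
fixed points of the elements outside `Q`, and the uniqueness of `J`.
-/

set_option autoImplicit false

namespace CfsgLib.McLThree

open Subgroup
open scoped commutatorElement

universe u

variable {G : Type u} [Group G] [Finite G] (D : Data G)

namespace Data

theorem comm_Z {g : G} (hg : g ∈ centralizer (D.Z : Set G)) {z : G} (hz : z ∈ D.Z) :
    z * g = g * z :=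
  mem_centralizer_iff.1 hg z hz

theorem Z_comm_Q {q z : G} (hq : q ∈ D.Q) (hz : z ∈ D.Z) : z * q = q * z :=
  D.comm_Z (D.L_le (D.Q_le_L hq)) hz

theorem L_norm : D.L ≤ normalizer (D.Z : Set G) := D.L_le.trans (centralizer_le_normalizer _)

theorem S_norm : (D.S : Subgroup G) ≤ normalizer (D.Z : Set G) :=
  D.S_le.trans (centralizer_le_normalizer _)

theorem L_conj_Q {l q : G} (hl : l ∈ D.L) (hq : q ∈ D.Q) : l * q * l⁻¹ ∈ D.Q :=
  D.Q_normal l (D.L_norm hl) q hq

theorem L_norm_Q : D.L ≤ normalizer (D.Q : Set G) := by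
  intro l hl
  refine mem_normalizer_iff.2 fun q => ⟨D.L_conj_Q hl, fun h => ?_⟩
  have := D.L_conj_Q (inv_mem hl) h
  simpa [mul_assoc] using this

theorem S_le_L : (D.S : Subgroup G) ≤ D.L := by
  intro g hg
  obtain ⟨k, hk⟩ := D.S.2 ⟨g, hg⟩
  exact D.L_three g (D.S_norm hg) ⟨k, congrArg Subtype.val hk⟩

theorem card_L : Nat.card D.L = 29160 := by
  have hk : D.fL.ker = D.Q.subgroupOf D.L := by
    ext x; rw [MonoidHom.mem_ker, D.fL_ker, mem_subgroupOf]
  rw [Subgroup.card_eq_card_quotient_mul_card_subgroup D.fL.ker,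
    Nat.card_congr (QuotientGroup.quotientKerEquivOfSurjective D.fL D.fL_surj).toEquiv,
    SL5.card_eq, hk, Nat.card_congr (subgroupOfEquivOfLe D.Q_le_L).toEquiv, D.Q_card]

theorem card_S : Nat.card (D.S : Subgroup G) = 729 := by
  haveI : Fact (Nat.Prime 3) := ⟨Nat.prime_three⟩
  have h1 : Nat.card (D.S : Subgroup G) ∣ 29160 := D.card_L ▸ card_dvd_of_le D.S_le_L
  have h2 : 3 ^ 6 ∣ Nat.card (D.S : Subgroup G) := by
    refine D.S.pow_dvd_card_of_pow_dvd_card ?_
    exact Dvd.dvd.trans (by rw [D.card_L]; norm_num) (card_subgroup_dvd_card D.L)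
  obtain ⟨m, hm⟩ := IsPGroup.iff_card.1 D.S.2
  rw [hm] at h1 h2 ⊢
  have h6 : 6 ≤ m := (Nat.pow_dvd_pow_iff_le_right (by norm_num)).1 h2
  have h7 : m < 7 := by
    by_contra h
    have h' : 3 ^ 7 ∣ 29160 := (pow_dvd_pow 3 (not_lt.1 h)).trans h1
    norm_num at h'
  rw [show m = 6 by omega]; norm_num

theorem Q_pgroup : IsPGroup 3 D.Q := IsPGroup.of_card (n := 5) (by rw [D.Q_card]; norm_num)

theorem Q_le_S : D.Q ≤ D.S := by
  have hn : (D.S : Subgroup G) ≤ normalizer (D.Q : Set G) := D.S_le_L.trans D.L_norm_Q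
  have hp : IsPGroup 3 ↥((D.S : Subgroup G) ⊔ D.Q) := D.S.2.to_sup_of_normal_right' D.Q_pgroup hn
  have := D.S.3 hp le_sup_left
  rw [← this]
  exact le_sup_right

theorem Z_le_S : D.Z ≤ D.S := D.Z_le_Q.trans D.Q_le_S

/-- An abelian subgroup of `Q` has order at most 27. -/
theorem card_abelian_le {A : Subgroup G} (hA : A ≤ D.Q) (hc : ∀ a ∈ A, ∀ b ∈ A, a * b = b * a) :
    Nat.card A ≤ 27 := by
  haveI : Fact (Nat.Prime 3) := ⟨Nat.prime_three⟩
  by_contra hgt
  obtain ⟨m, hm, hAm⟩ := (Nat.dvd_prime_pow Nat.prime_three).1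
    (show Nat.card A ∣ 3 ^ 5 by
      rw [show (3 : ℕ) ^ 5 = Nat.card D.Q by rw [D.Q_card]; norm_num]
      exact card_dvd_of_le hA)
  have hm4 : 4 ≤ m := by
    by_contra h
    have : 3 ^ m ≤ 3 ^ 3 := Nat.pow_le_pow_right (by norm_num) (by omega)
    omega
  have hcen : ∀ q ∈ D.Q, q ∉ A → False := by
    intro q hq hqA
    -- `Q = A⟨q⟩`, and the centralizer of `q` in `A` is central
    have hAn : A ≤ normalizer (D.Q : Set G) := hA.trans le_normalizer
    let f : A →* G :=
      { toFun := fun a => ⁅(a : G), q⁆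
        map_one' := by simp [commutatorElement_def]
        map_mul' := fun a b => by
          have h1 := D.Q_comm a (hA a.2) q hq
          have h2 := D.Q_comm b (hA b.2) q hq
          have e : ⁅((a * b : A) : G), q⁆ = a * ⁅(b : G), q⁆ * (a : G)⁻¹ * ⁅(a : G), q⁆ := by
            simp only [Subgroup.coe_mul, commutatorElement_def]; group
          show ⁅((a * b : A) : G), q⁆ = ⁅(a : G), q⁆ * ⁅(b : G), q⁆
          rw [e, ← D.Z_comm_Q (hA a.2) h2, mul_inv_cancel_right, D.Z_comm_Q (D.Z_le_Q h1) h2] }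
    have hr : f.range ≤ D.Z := by
      rintro _ ⟨a, rfl⟩; exact D.Q_comm a (hA a.2) q hq
    have hker : (f.ker.map A.subtype) ≤ D.Z := by
      rintro _ ⟨a, ha, rfl⟩
      have ha' : ⁅(a : G), q⁆ = 1 := ha
      rw [commutatorElement_eq_one_iff_mul_comm] at ha'
      refine D.Z_center _ (hA a.2) ?_
      have hle : D.Q ⊓ centralizer ({(a : G)} : Set G) = D.Q := by
        refine eq_of_le_of_card_ge inf_le_left ?_
        have hsub : A ⊔ zpowers q ≤ D.Q ⊓ centralizer ({(a : G)} : Set G) :=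
          sup_le (le_inf hA fun b hb => mem_centralizer_singleton_iff.2 (hc b hb a a.2))
            (zpowers_le.2 ⟨hq, mem_centralizer_singleton_iff.2 ha'.symm⟩)
        have hlt : A < A ⊔ zpowers q := lt_of_le_of_ne le_sup_left fun e =>
          hqA (e ▸ mem_sup_right (mem_zpowers q))
        have hd : Nat.card ↥(A ⊔ zpowers q) ∣ 3 ^ 5 := by
          rw [show (3 : ℕ) ^ 5 = Nat.card D.Q by rw [D.Q_card]; norm_num]
          exact card_dvd_of_le (sup_le hA (zpowers_le.2 hq))
        obtain ⟨j, hj, hcj⟩ := (Nat.dvd_prime_pow Nat.prime_three).1 hd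
        have h' := Set.Finite.card_lt_card (Set.toFinite _) (SetLike.coe_ssubset_coe.2 hlt)
        change Nat.card A < Nat.card ↥(A ⊔ zpowers q) at h'
        rw [hAm, hcj] at h'
        have := (Nat.pow_lt_pow_iff_right (by norm_num)).1 h'
        have hj5 : j = 5 := by omega
        calc Nat.card D.Q = Nat.card ↥(A ⊔ zpowers q) := by rw [hcj, hj5, D.Q_card]; norm_num
          _ ≤ _ := card_le_of_le hsub
      intro b hb
      exact (mem_centralizer_singleton_iff.1 ((hle.symm ▸ hb : b ∈ D.Q ⊓ centralizer {(a : G)}).2)).symm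
    have h1 := card_le_of_le hr
    have h2 := card_le_of_le hker
    rw [Subgroup.card_map_of_injective A.subtype_injective] at h2
    have h3 := Subgroup.card_eq_card_quotient_mul_card_subgroup f.ker
    rw [Nat.card_congr (QuotientGroup.quotientKerEquivRange f).toEquiv] at h3
    rw [D.Z_card] at h1 h2
    have := Nat.mul_le_mul h1 h2
    omega
  by_cases h : ∀ q ∈ D.Q, q ∈ A
  · have hQZ : D.Q ≤ D.Z := fun q hq => D.Z_center q hq fun b hb => hc q (h q hq) b (h b hb)
    have := card_le_of_le hQZ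
    rw [D.Q_card, D.Z_card] at this
    omega
  · push Not at h
    obtain ⟨q, hq, hqA⟩ := h
    exact hcen q hq hqA

/-- `R = J ∩ Q`. -/
def R : Subgroup G := D.J ⊓ D.Q

theorem R_le_J : D.R ≤ D.J := inf_le_left
theorem R_le_Q : D.R ≤ D.Q := inf_le_right

theorem card_meet_Q {A : Subgroup G} (hA : A ≤ D.S) :
    Nat.card A ≤ 3 * Nat.card ↥(A ⊓ D.Q) := by
  have := card_meet hA D.Q_le_S (hA.trans (D.S_le_L.trans D.L_norm_Q))
  rw [D.Q_card, D.card_S] at this
  omega

theorem card_R : Nat.card D.R = 27 := by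
  have h1 : Nat.card D.R ≤ 27 := D.card_abelian_le D.R_le_Q fun a ha b hb => D.J_comm a ha.1 b hb.1
  have h2 := D.card_meet_Q D.J_le
  rw [D.J_card] at h2
  change 81 ≤ 3 * Nat.card D.R at h2
  omega

theorem R_comm {a b : G} (ha : a ∈ D.R) (hb : b ∈ D.R) : a * b = b * a :=
  D.J_comm a ha.1 b hb.1

theorem Z_le_R : D.Z ≤ D.R := by
  have hn : D.Z ≤ normalizer (D.R : Set G) := by
    refine le_trans ?_ (centralizer_le_normalizer _)
    exact fun z hz => mem_centralizer_iff.2 fun r hr => (D.Z_comm_Q (D.R_le_Q hr) hz).symm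
  have hcomm : ∀ a ∈ (D.Z : Set G) ∪ D.R, ∀ b ∈ (D.Z : Set G) ∪ D.R, a * b = b * a := by
    rintro a (ha | ha) b (hb | hb)
    · exact D.Z_comm_Q (D.Z_le_Q hb) ha
    · exact D.Z_comm_Q (D.R_le_Q hb) ha
    · exact (D.Z_comm_Q (D.R_le_Q ha) hb).symm
    · exact D.R_comm ha hb
  haveI := Subgroup.isMulCommutative_closure hcomm
  have hle : Nat.card ↥(closure ((D.Z : Set G) ∪ D.R)) ≤ 27 :=
    D.card_abelian_le ((closure_le _).2 (Set.union_subset D.Z_le_Q D.R_le_Q))
      fun a ha b hb => congrArg Subtype.val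
        (IsMulCommutative.is_comm.comm (⟨a, ha⟩ : closure ((D.Z : Set G) ∪ D.R)) ⟨b, hb⟩)
  have e : D.R = closure ((D.Z : Set G) ∪ D.R) :=
    eq_of_le_of_card_ge (fun r hr => subset_closure (Or.inr hr)) (by rw [D.card_R]; exact hle)
  intro z hz
  rw [e]
  exact subset_closure (Or.inl hz)

theorem Z_le_J : D.Z ≤ D.J := D.Z_le_R.trans D.R_le_J

theorem cent_R {q : G} (hq : q ∈ D.Q) (h : ∀ r ∈ D.R, q * r = r * q) : q ∈ D.R := by
  have hcomm : ∀ a ∈ ({q} : Set G) ∪ D.R, ∀ b ∈ ({q} : Set G) ∪ D.R, a * b = b * a := by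
    rintro a (ha | ha) b (hb | hb)
    · rw [Set.mem_singleton_iff.1 ha, Set.mem_singleton_iff.1 hb]
    · rw [Set.mem_singleton_iff.1 ha]; exact h b hb
    · rw [Set.mem_singleton_iff.1 hb]; exact (h a ha).symm
    · exact D.R_comm ha hb
  haveI := Subgroup.isMulCommutative_closure hcomm
  have hle : Nat.card ↥(closure (({q} : Set G) ∪ D.R)) ≤ 27 :=
    D.card_abelian_le ((closure_le _).2 (Set.union_subset (by simpa using hq) D.R_le_Q))
      fun a ha b hb => congrArg Subtype.val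
        (IsMulCommutative.is_comm.comm (⟨a, ha⟩ : closure (({q} : Set G) ∪ D.R)) ⟨b, hb⟩)
  have e : D.R = closure (({q} : Set G) ∪ D.R) :=
    eq_of_le_of_card_ge (fun r hr => subset_closure (Or.inr hr)) (by rw [D.card_R]; exact hle)
  rw [e]
  exact subset_closure (Or.inl rfl)

end Data

end CfsgLib.McLThree
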