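import Cfsg.Agent.McLThree.Act

/-!
An element of `N(Z)` centralising `E` lies in `Z⟨t⟩` or inverts `Z` and squares to `t`.
-/

set_option autoImplicit false

namespace CfsgLib.McLThree

open Subgroup
open scoped commutatorElement

universe u

variable {G : Type u} [Group G] [Finite G]

namespace Frame

variable (F : Frame G)

theorem E_central {ε : G} (hε : ε ∈ F.toCtx.E) (h : ∀ f ∈ F.toCtx.E, ε * f = f * ε) :
    ε = 1 ∨ ε = F.t := by
  have hc : ∀ m : SL5, F.toCtx.gE ⟨ε, hε⟩ * m = m * F.toCtx.gE ⟨ε, hε⟩ := by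
    intro m
    obtain ⟨f, rfl⟩ := F.toCtx.gE_bijective.2 m
    rw [← map_mul, ← map_mul]
    exact congrArg _ (Subtype.ext (h f f.2))
  rcases SL5.central_cases _ (hc SL5.a0) (hc SL5.up) with h1 | h1
  · left
    exact congrArg Subtype.val (F.toCtx.gE_bijective.1 (h1.trans (map_one _).symm))
  · right
    exact congrArg Subtype.val (F.toCtx.gE_bijective.1 (a₂ := ⟨F.t, F.toCtx.t_mem_E⟩)
      (h1.trans (F.t_img.symm.trans (F.toCtx.gE_apply F.toCtx.t_mem_E).symm)))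

theorem t_comm_E {f : G} (hf : f ∈ F.toCtx.E) : F.t * f = f * F.t := (F.toCtx.E_t hf).symm

theorem v_tvt (v : F.Q) : (v : G) * (F.t * v * F.t) ∈ F.R := by
  have hc := F.toCtx.t_inverts v.2
  have e : (v : G) * (F.t * v * F.t) = v * (F.t * v * F.t * v) * (v : G)⁻¹ := by group
  rw [e, ← F.toData.Z_comm_Q v.2 hc, mul_inv_cancel_right]
  exact F.Z_le_R' hc

/-- An element centralising `y` and `Q/R` has ninth power trivial. -/
theorem nine_of_mod {g : G} (hg : g ∈ centralizer (F.Z : Set G)) (hy : g * F.y = F.y * g)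
    (hgt : g * F.t = F.t * g) (hmod : ∀ q : F.Q, (q : G)⁻¹ * (g * q * g⁻¹) ∈ F.R) : g ^ 9 = 1 := by
  have hy' : g * F.y * g⁻¹ = F.y := by rw [hy, mul_inv_cancel_right]
  have hZ : ∀ z ∈ F.Z, g * z * g⁻¹ = z := fun z hz => by
    rw [← F.toData.comm_Z hg hz, mul_inv_cancel_right]
  obtain ⟨v, hv⟩ := F.exists_v
  set w := F.ev v with hw
  have hq : ∀ q : F.Q, (q : G)⁻¹ * (g * q * g⁻¹) ∈ F.R →
      ⁅F.y, g * (q : G) * g⁻¹⁆ = ⁅F.y, (q : G)⁆ := by
    intro q h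
    have e : g * (q : G) * g⁻¹ = q * ((q : G)⁻¹ * (g * q * g⁻¹)) := by group
    rw [e]
    generalize (q : G)⁻¹ * (g * q * g⁻¹) = r at h ⊢
    have e2 : ⁅F.y, (q : G) * r⁆ = ⁅F.y, (q : G)⁆ * (q * ⁅F.y, r⁆ * (q : G)⁻¹) := by
      simp only [commutatorElement_def]; group
    rw [e2, F.comm_R h, mul_one, mul_inv_cancel, mul_one]
  -- so `g` centralises `R`
  have hR : ∀ r ∈ F.R, g * r * g⁻¹ = r := by
    intro r hr
    -- `R` is generated by `Z` and the commutators with `y`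
    let f : Fin 3 × Fin 3 × F.Z → F.R := fun p =>
      ⟨⁅F.y, ((v ^ (p.1 : ℕ) * w ^ (p.2.1 : ℕ) : F.Q) : G)⁆ * p.2.2,
        mul_mem (F.comm_y_mem (Subtype.prop _)) (F.Z_le_R' p.2.2.2)⟩
    suffices hsurj : Function.Surjective f by
      obtain ⟨⟨a, b, z⟩, h⟩ := hsurj ⟨r, hr⟩
      have hr' : r = ⁅F.y, ((v ^ (a : ℕ) * w ^ (b : ℕ) : F.Q) : G)⁆ * (z : G) :=
        (congrArg Subtype.val h).symm
      have hc : g * ⁅F.y, ((v ^ (a : ℕ) * w ^ (b : ℕ) : F.Q) : G)⁆ * g⁻¹ =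
          ⁅F.y, ((v ^ (a : ℕ) * w ^ (b : ℕ) : F.Q) : G)⁆ := by
        conv_rhs => rw [← hq _ (hmod _)]
        conv_rhs => rw [← hy']
        simp only [commutatorElement_def]; group
      rw [hr', ← conj_mul, hc, hZ z z.2]
    exact F.commY_surj hv
  -- and `g ^ 3` centralises `Q`
  have hQ3 : ∀ q ∈ F.Q, g ^ 3 * q = q * g ^ 3 := by
    intro q hq'
    set r := q⁻¹ * (g * q * g⁻¹) with hrdef
    have hr : r ∈ F.R := hmod ⟨q, hq'⟩
    have e1 : g * q * g⁻¹ = q * r := by rw [hrdef]; group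
    have e2 : g ^ 3 * q * (g ^ 3)⁻¹ = q := by
      have h1 : g * (q * r) * g⁻¹ = q * r * r := by rw [← conj_mul, e1, hR r hr]
      calc g ^ 3 * q * (g ^ 3)⁻¹ = g * (g * (g * q * g⁻¹) * g⁻¹) * g⁻¹ := by rw [pow_three']; group
        _ = g * (q * r * r) * g⁻¹ := by rw [e1, h1]
        _ = q * r * r * r := by rw [← conj_mul, h1, hR r hr]
        _ = q * (r * r * r) := by simp only [mul_assoc]
        _ = q := by rw [F.Q_cube r hr.2, mul_one]
    exact mul_inv_eq_iff_eq_mul.1 e2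
  have hmem : g ^ 3 ∈ F.Q := F.cent_Q _ hQ3
  have hZ3 : g ^ 3 ∈ F.Z := F.toCtx.cent_t_Q hmem ((Commute.pow_left hgt 3).eq).symm
  rw [show (9 : ℕ) = 3 * 3 from rfl, pow_mul, pow_three', F.Q_cube _ (F.Z_le_Q hZ3)]

/-- An element centralising `y` and fixing `v` modulo `R` has cube centralising `Q`. -/
theorem nine_of_fix {g : G} (hg : g ∈ centralizer (F.Z : Set G)) (hy : g * F.y = F.y * g)
    (he : g * F.e = F.e * g) (hgt : g * F.t = F.t * g) {v : F.Q} (hv : (v : G) ∉ F.R)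
    (hfix : (v : G)⁻¹ * (g * v * g⁻¹) ∈ F.R) : g ^ 9 = 1 := by
  have hgN : g ∈ normalizer (F.Z : Set G) := centralizer_le_normalizer _ hg
  have hy' : g * F.y * g⁻¹ = F.y := by rw [hy, mul_inv_cancel_right]
  set w := F.ev v with hw
  have hwfix : (w : G)⁻¹ * (g * w * g⁻¹) ∈ F.R := by
    have := F.conj_R F.e_norm (Or.inr F.e_y_conj) hfix
    have e : F.e * ((v : G)⁻¹ * (g * v * g⁻¹)) * F.e⁻¹ = (w : G)⁻¹ * (g * w * g⁻¹) := by
      show _ = (F.e * (v : G) * F.e⁻¹)⁻¹ * (g * (F.e * (v : G) * F.e⁻¹) * g⁻¹)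
      calc F.e * ((v : G)⁻¹ * (g * v * g⁻¹)) * F.e⁻¹
          = F.e * (v : G)⁻¹ * F.e⁻¹ * ((F.e * g) * v * (F.e * g)⁻¹) := by group
        _ = _ := by rw [← he]; group
    rwa [e] at this
  -- modulo `R` the action is trivial
  have hmod : ∀ q : F.Q, (q : G)⁻¹ * (g * q * g⁻¹) ∈ F.R := by
    intro q
    obtain ⟨a, b, hab⟩ := F.basis hv q
    have hcQ : ∀ c ∈ F.R, ∀ p ∈ F.Q, p * c * p⁻¹ ∈ F.R := fun c hc p hp => by
      rw [show p * c * p⁻¹ = ⁅p, c⁆ * c by simp [commutatorElement_def]]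
      exact mul_mem (F.Z_le_R' (F.Q_comm p hp c hc.2)) hc
    let K : Subgroup F.Q :=
      { carrier := {p | (p : G)⁻¹ * (g * p * g⁻¹) ∈ F.R}
        one_mem' := by simp
        mul_mem' := fun {p p'} (hp : _ ∈ F.R) (hp' : _ ∈ F.R) => by
          show ((p : G) * p')⁻¹ * (g * (p * p') * g⁻¹) ∈ F.R
          have e : ((p : G) * p')⁻¹ * (g * (p * p') * g⁻¹) =
              (p' : G)⁻¹ * ((p : G)⁻¹ * (g * p * g⁻¹)) * (p' : G)⁻¹⁻¹ * ((p' : G)⁻¹ * (g * p' * g⁻¹)) := by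
            group
          rw [e]
          exact mul_mem (hcQ _ hp _ (inv_mem p'.2)) hp'
        inv_mem' := fun {p} (hp : _ ∈ F.R) => by
          show ((p : G)⁻¹)⁻¹ * (g * (p : G)⁻¹ * g⁻¹) ∈ F.R
          have e : ((p : G)⁻¹)⁻¹ * (g * (p : G)⁻¹ * g⁻¹) =
              (p : G) * ((p : G)⁻¹ * (g * p * g⁻¹))⁻¹ * (p : G)⁻¹ := by group
          rw [e]
          exact hcQ _ (inv_mem hp) _ p.2 }
    set d := ((v ^ (a : ℕ) * w ^ (b : ℕ) : F.Q) : G)⁻¹ * q with hd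
    have hdK : (⟨d, F.toData.R_le_Q hab⟩ : F.Q) ∈ K := by
      show d⁻¹ * (g * d * g⁻¹) ∈ F.R
      exact mul_mem (inv_mem hab) (F.conj_R hgN (Or.inl hy') hab)
    have e : q = (v ^ (a : ℕ) * w ^ (b : ℕ)) * ⟨d, F.toData.R_le_Q hab⟩ := Subtype.ext (by
      show (q : G) = ((v ^ (a : ℕ) * w ^ (b : ℕ) : F.Q) : G) * d
      rw [hd, mul_inv_cancel_left])
    rw [e]
    exact K.mul_mem (K.mul_mem (K.pow_mem (show v ∈ K from hfix) _) (K.pow_mem (show w ∈ K from hwfix) _)) hdK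
  exact F.nine_of_mod hg hy hgt hmod

/-- `C(E) ∩ C(Z) = Z⟨t⟩`. -/
theorem cent_E_pos {g : G} (hg : g ∈ centralizer (F.Z : Set G))
    (hE : ∀ f ∈ F.toCtx.E, g * f = f * g) : g ∈ F.Z ∨ F.t * g ∈ F.Z := by
  obtain ⟨v, hv⟩ := F.exists_v
  have hgN : g ∈ normalizer (F.Z : Set G) := centralizer_le_normalizer _ hg
  obtain ⟨a, b, hab, h1, -⟩ := F.action hgN (hE _ F.y_E) (hE _ F.e_E) hv
  obtain ⟨hb, ha⟩ := h1 hg
  subst hb
  simp only [Fin.val_zero, pow_zero, mul_one, SubmonoidClass.coe_pow] at hab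
  -- one of `g`, `t g` fixes `v` modulo `R`
  obtain ⟨g', hg'eq, hfix⟩ : ∃ g', (g' = g ∨ g' = F.t * g) ∧ (v : G)⁻¹ * (g' * v * g'⁻¹) ∈ F.R := by
    rcases ha with rfl | rfl
    · exact ⟨g, Or.inl rfl, by simpa using hab⟩
    · refine ⟨F.t * g, Or.inr rfl, ?_⟩
      have h2 : (v : G)⁻¹⁻¹ * (g * v * g⁻¹) ∈ F.R := by
        have hv2 : ((v : G) ^ 2)⁻¹ = (v : G)⁻¹⁻¹ := by
          rw [inv_inv, inv_eq_iff_mul_eq_one, ← pow_succ, pow_three', F.Q_cube v v.2]
        simpa [← hv2] using hab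
      rw [inv_inv] at h2
      set r := (v : G) * (g * v * g⁻¹) with hr
      have hty : F.t * F.y * F.t⁻¹ = F.y := by rw [F.t_comm_E F.y_E, mul_inv_cancel_right]
      have h3 := F.conj_R (centralizer_le_normalizer _ F.toCtx.t_cent) (Or.inl hty) h2
      have e : (v : G)⁻¹ * (F.t * g * v * (F.t * g)⁻¹) =
          (F.t * v * F.t * v)⁻¹ * (F.t * r * F.t⁻¹) := by
        rw [hr]; simp only [mul_inv_rev, F.toCtx.t_inv_eq]
        calc (v : G)⁻¹ * (F.t * g * v * (g⁻¹ * F.t))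
            = (v : G)⁻¹ * F.t * (g * v * g⁻¹) * F.t := by group
          _ = (v : G)⁻¹ * (F.t * ((v : G)⁻¹ * (F.t * F.t))) * (v * (g * v * g⁻¹)) * F.t := by
              rw [F.toCtx.t_sq]; group
          _ = _ := by group
      rw [e]
      exact mul_mem (inv_mem (F.Z_le_R' (F.toCtx.t_inverts v.2))) h3
  have hE' : ∀ f ∈ F.toCtx.E, g' * f = f * g' := by
    intro f hf
    rcases hg'eq with rfl | rfl
    · exact hE f hf
    · exact (Commute.mul_left (F.t_comm_E hf : Commute F.t f) (hE f hf)).eq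
  have hg' : g' ∈ centralizer (F.Z : Set G) := by
    rcases hg'eq with rfl | rfl
    · exact hg
    · exact mul_mem F.toCtx.t_cent hg
  have ht' : g' * F.t = F.t * g' := hE' _ F.toCtx.t_mem_E
  have h9 := F.nine_of_fix hg' (hE' _ F.y_E) (hE' _ F.e_E) ht' hv hfix
  have hL : g' ∈ F.L := F.L_three g' (centralizer_le_normalizer _ hg') ⟨2, by simpa using h9⟩
  obtain ⟨z, hz, ε, hε, he⟩ := F.toCtx.CL_decomp (F.toCtx.mem_CL.2 ⟨hL, ht'⟩)
  have hεE : ∀ f ∈ F.toCtx.E, ε * f = f * ε := by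
    intro f hf
    have e : ε = z⁻¹ * g' := by rw [he, inv_mul_cancel_left]
    rw [e]
    exact (Commute.mul_left (Commute.inv_left (F.toCtx.E_Z hf hz : Commute z f)) (hE' f hf)).eq
  have hg'Z : g' ∈ F.Z := by
    rcases F.E_central hε hεE with h | h
    · rw [he, h, mul_one]; exact hz
    · exfalso
      rw [h] at he
      -- then `g'` would invert `v` modulo `R`
      have hz1 : z * (v : G) * z⁻¹ = v := by rw [F.toData.Z_comm_Q v.2 hz, mul_inv_cancel_right]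
      rw [he] at hfix
      have e2 : (v : G)⁻¹ * (z * F.t * v * (z * F.t)⁻¹) = z * ((v : G)⁻¹ * (F.t * v * F.t)) * z⁻¹ := by
        rw [mul_inv_rev, F.toCtx.t_inv_eq]
        calc (v : G)⁻¹ * (z * F.t * v * (F.t * z⁻¹))
            = ((v : G)⁻¹ * z) * (F.t * v * F.t) * z⁻¹ := by group
          _ = (z * (v : G)⁻¹) * (F.t * v * F.t) * z⁻¹ := by rw [F.toData.Z_comm_Q (inv_mem v.2) hz]
          _ = _ := by group
      rw [e2] at hfix
      set c := (v : G)⁻¹ * (F.t * v * F.t) with hcdef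
      have hcR : c ∈ F.R := by
        have := mul_mem (mul_mem (inv_mem (F.Z_le_R' hz)) hfix) (F.Z_le_R' hz)
        simpa [mul_assoc] using this
      have h2 : (v : G)⁻¹ * (v : G)⁻¹ ∈ F.R := by
        have := mul_mem hcR (inv_mem (F.v_tvt v))
        rwa [show c * ((v : G) * (F.t * v * F.t))⁻¹ = (v : G)⁻¹ * (v : G)⁻¹ by rw [hcdef]; group] at this
      exact hv (by
        have h4 := mul_mem h2 h2
        rwa [show (v : G)⁻¹ * (v : G)⁻¹ * ((v : G)⁻¹ * (v : G)⁻¹) =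
          ((v : G) * v * v)⁻¹ * (v : G)⁻¹ by group, F.Q_cube v v.2, inv_one, one_mul, inv_mem_iff] at h4)
  rcases hg'eq with rfl | rfl
  · exact Or.inl hg'Z
  · exact Or.inr hg'Z

/-- An element centralising `E` and inverting `Z` squares to `t`. -/
theorem cent_E_neg {g : G} (hg : g ∈ normalizer (F.Z : Set G)) (hgc : g ∉ centralizer (F.Z : Set G))
    (hE : ∀ f ∈ F.toCtx.E, g * f = f * g) : g * g = F.t := by
  obtain ⟨v, hv⟩ := F.exists_v
  obtain ⟨a, b, hab, -, h2⟩ := F.action hg (hE _ F.y_E) (hE _ F.e_E) hv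
  obtain ⟨ha, hb⟩ := h2 hgc
  subst ha
  simp only [Fin.val_zero, pow_zero, one_mul] at hab
  have hZinv : ∀ z ∈ F.Z, g * z * g⁻¹ = z⁻¹ := by
    haveI : Fact (Nat.Prime 3) := ⟨Nat.prime_three⟩
    by_contra hcon
    push Not at hcon
    obtain ⟨z, hz, hne⟩ := hcon
    apply hgc
    have hz1 : z ≠ 1 := by rintro rfl; simp at hne
    have hgen : ∀ w ∈ F.Z, ∃ k : ℕ, z ^ k = w := fun w hw => by
      obtain ⟨k, hk⟩ := mem_powers_of_prime_card (G := F.Z) F.Z_card (g := ⟨z, hz⟩) (g' := ⟨w, hw⟩)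
        (fun h => hz1 (congrArg Subtype.val h))
      exact ⟨k, congrArg Subtype.val hk⟩
    obtain ⟨k, hk⟩ := hgen _ (F.normZ_mem hg hz)
    have hz3 : z * z * z = 1 := F.Q_cube z (F.Z_le_Q hz)
    have hzk : z ^ k = z ^ (k % 3) := by
      conv_lhs => rw [← Nat.div_add_mod k 3, pow_add, pow_mul, pow_three', hz3, one_pow, one_mul]
    rw [hzk] at hk
    have : k % 3 < 3 := Nat.mod_lt _ (by norm_num)
    interval_cases hk3 : k % 3
    · exact absurd (by simpa using hk.symm) hz1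
    · refine mem_centralizer_iff.2 fun w hw => ?_
      obtain ⟨j, rfl⟩ := hgen w hw
      have hc : Commute g z := mul_inv_eq_iff_eq_mul.1 (by simpa using hk.symm)
      exact ((hc.pow_right j).eq).symm
    · refine absurd ?_ hne
      rw [← hk, eq_inv_iff_mul_eq_one, sq, hz3]
  have hgg : g * g ∈ centralizer (F.Z : Set G) := mem_centralizer_iff.2 fun z hz => by
    have e : g * g * z * (g * g)⁻¹ = z := by
      calc g * g * z * (g * g)⁻¹ = g * (g * z * g⁻¹) * g⁻¹ := by group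
        _ = g * z⁻¹ * g⁻¹ := by rw [hZinv z hz]
        _ = z := by rw [← conj_inv, hZinv z hz, inv_inv]
    exact (mul_inv_eq_iff_eq_mul.1 e).symm
  have hE2 : ∀ f ∈ F.toCtx.E, g * g * f = f * (g * g) := fun f hf =>
    (Commute.mul_left (hE f hf) (hE f hf)).eq
  rcases F.cent_E_pos hgg hE2 with h | h
  · exfalso
    -- `g²` inverts `v` modulo `R`
    have hy' : g * F.y * g⁻¹ = F.y := by rw [hE _ F.y_E, mul_inv_cancel_right]
    have hgw : g * (F.ev v : G) * g⁻¹ = F.e * (g * v * g⁻¹) * F.e⁻¹ := by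
      show g * (F.e * (v : G) * F.e⁻¹) * g⁻¹ = _
      calc g * (F.e * (v : G) * F.e⁻¹) * g⁻¹ = (g * F.e) * v * (g * F.e)⁻¹ := by group
        _ = _ := by rw [hE _ F.e_E]; group
    set r := ((F.ev v ^ (b : ℕ) : F.Q) : G)⁻¹ * (g * v * g⁻¹) with hr
    have e0 : g * (v : G) * g⁻¹ = (F.ev v : G) ^ (b : ℕ) * r := by
      rw [hr, SubmonoidClass.coe_pow, mul_inv_cancel_left]
    have e1 : g * g * (v : G) * (g * g)⁻¹ =
        (F.e * ((F.ev v : G) ^ (b : ℕ) * r) * F.e⁻¹) ^ (b : ℕ) * (g * r * g⁻¹) := by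
      rw [show g * g * (v : G) * (g * g)⁻¹ = g * (g * v * g⁻¹) * g⁻¹ by group, e0, ← conj_mul,
        ← conj_pow, hgw, e0]
    have e2 : g * g * (v : G) * (g * g)⁻¹ = v := by
      rw [← F.toData.Z_comm_Q v.2 h |>.symm]; group
    -- read it modulo `R`
    have hcQ : ∀ c ∈ F.R, ∀ p ∈ F.Q, p * c * p⁻¹ ∈ F.R := fun c hc p hp => by
      rw [show p * c * p⁻¹ = ⁅p, c⁆ * c by simp [commutatorElement_def]]
      exact mul_mem (F.Z_le_R' (F.Q_comm p hp c hc.2)) hc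
    have hgr : g * r * g⁻¹ ∈ F.R := F.conj_R hg (Or.inl hy') hab
    have her : F.e * r * F.e⁻¹ ∈ F.R := F.conj_R F.e_norm (Or.inr F.e_y_conj) hab
    set u := (F.ev (F.ev v) : G) with hu
    have hu' : u = F.t * (v : G) * F.t := F.ev_ev v
    have e3 : F.e * ((F.ev v : G) ^ (b : ℕ) * r) * F.e⁻¹ = u ^ (b : ℕ) * (F.e * r * F.e⁻¹) := by
      rw [← conj_mul, ← conj_pow]; rfl
    rw [e3, e2] at e1
    have huQ : u ∈ F.Q := (F.ev (F.ev v)).2
    have hvt : (v : G) * u ∈ F.R := by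
      rw [hu']
      exact F.v_tvt v
    -- `v ≡ u ^ (b * b) = u`
    have hb2 : (v : G) * u⁻¹ ∈ F.R := by
      have hu3 := F.Q_cube u huQ
      rcases hb with rfl | rfl
      · simp only [Fin.val_one, pow_one] at e1
        rw [e1, show u * (F.e * r * F.e⁻¹) * (g * r * g⁻¹) * u⁻¹ =
          u * ((F.e * r * F.e⁻¹) * (g * r * g⁻¹)) * u⁻¹ by group]
        exact hcQ _ (mul_mem her hgr) _ huQ
      · have h2v : ((2 : Fin 3) : ℕ) = 2 := rfl
        rw [h2v] at e1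
        rw [e1]
        simp only [sq]
        set c := F.e * r * F.e⁻¹
        have e4 : u * u * c * (u * u * c) * (g * r * g⁻¹) * u⁻¹ =
            (u * u * c * (u * u)⁻¹) * ((u * u * (u * u)) * (c * (g * r * g⁻¹)) * u⁻¹) := by
          simp only [mul_assoc, mul_inv_rev, inv_mul_cancel_left]
        rw [e4]
        refine mul_mem (hcQ _ her _ (mul_mem huQ huQ)) ?_
        rw [show u * u * (u * u) = u * u * u * u by simp only [mul_assoc], hu3, one_mul]
        exact hcQ _ (mul_mem her hgr) _ huQ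
    have hvv : (v : G) * v ∈ F.R := by
      have := mul_mem hb2 (mul_mem (mul_mem (show u * ((v : G) * u) * u⁻¹ ∈ F.R from
        hcQ _ hvt _ huQ) (one_mem _)) (one_mem _))
      simpa [mul_assoc] using this
    exact hv (by
      have h4 := mul_mem hvv hvv
      rwa [show (v : G) * v * ((v : G) * v) = v * v * v * v by simp only [mul_assoc],
        F.Q_cube v v.2, one_mul] at h4)
  · set z := F.t * (g * g) with hz
    have egg : g * g = F.t * z := by rw [hz, ← mul_assoc, F.toCtx.t_sq, one_mul]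
    have hgt : g * F.t = F.t * g := hE _ F.toCtx.t_mem_E
    have e5 : g * z * g⁻¹ = z := by
      rw [hz]
      calc g * (F.t * (g * g)) * g⁻¹ = (g * F.t) * g * (g * g⁻¹) := by group
        _ = (F.t * g) * g := by rw [hgt, mul_inv_cancel, mul_one]
        _ = _ := by group
    rw [hZinv z h] at e5
    have hz1 : z = 1 := by
      have h3 := F.Q_cube z (F.Z_le_Q h)
      have : z * z = 1 := by
        calc z * z = z⁻¹ * z := by rw [e5]
          _ = 1 := inv_mul_cancel _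
      rwa [this, one_mul] at h3
    rw [egg, hz1, mul_one]

end Frame

end CfsgLib.McLThree
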