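import Cfsg.Agent.McLThree.Invol

/-!
The centraliser of `t` in `L` is `Z × E` with `E ≅ SL(2,5)`; `C_S(t) = C_J(t) = Z × ⟨y⟩`.
-/

set_option autoImplicit false
set_option linter.style.haveILetI false

namespace CfsgLib.McLThree

open Subgroup
open scoped commutatorElement
open scoped IsMulCommutative

universe u

variable {G : Type u} [Group G] [Finite G]

namespace Ctx

variable (C : Ctx G)

/-- `D = C_J(t)`. -/
def D : Subgroup G := C.J ⊓ centralizer ({C.t} : Set G)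

theorem mem_D {g : G} : g ∈ C.D ↔ g ∈ C.J ∧ g * C.t = C.t * g := by
  rw [D, mem_inf, mem_centralizer_singleton_iff]

theorem D_le_J : C.D ≤ C.J := inf_le_left

theorem Z_le_D : C.Z ≤ C.D := fun _ hz => C.mem_D.2 ⟨C.toData.Z_le_J hz, C.t_comm_Z hz⟩

/-- `CL = C_L(t)`. -/
def CL : Subgroup G := C.L ⊓ centralizer ({C.t} : Set G)

theorem mem_CL {g : G} : g ∈ C.CL ↔ g ∈ C.L ∧ g * C.t = C.t * g := by
  rw [CL, mem_inf, mem_centralizer_singleton_iff]

theorem CL_Q {g : G} (hg : g ∈ C.CL) (hq : g ∈ C.Q) : g ∈ C.Z :=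
  C.cent_t_Q hq (C.mem_CL.1 hg).2.symm

theorem Z_le_CL : C.Z ≤ C.CL := fun _ hz => C.mem_CL.2 ⟨C.Q_le_L (C.Z_le_Q hz), C.t_comm_Z hz⟩

theorem t_mem_CL : C.t ∈ C.CL := C.mem_CL.2 ⟨C.t_mem, rfl⟩

/-- The map of `C_L(t)` onto `SL(2,5)`. -/
def gL : C.CL →* SL5 := C.fL.comp (inclusion inf_le_left)

theorem gL_apply (x : C.CL) : C.gL x = C.fL ⟨x, (C.mem_CL.1 x.2).1⟩ := rfl

theorem gL_ker (x : C.CL) : C.gL x = 1 ↔ (x : G) ∈ C.Z :=
  ⟨fun h => C.CL_Q x.2 ((C.fL_ker _).1 h), fun h => (C.fL_ker _).2 (C.Z_le_Q h)⟩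

theorem gL_surj : Function.Surjective C.gL := by
  intro v
  obtain ⟨x, hx⟩ := C.fL_surj v
  set p := (x : G)⁻¹ * C.t * x * C.t with hp
  have hpQ : p ∈ C.Q := C.t_central x.2
  have hp1 : (x : G)⁻¹ * C.t * x = p * C.t := by rw [hp, mul_assoc _ C.t C.t, C.t_sq, mul_one]
  have hp3 := C.Q_cube p hpQ
  have hinv : p * C.t * (p * C.t) = 1 := by
    rw [← hp1]
    calc (x : G)⁻¹ * C.t * x * ((x : G)⁻¹ * C.t * x) = (x : G)⁻¹ * (C.t * C.t) * x := by group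
      _ = 1 := by rw [C.t_sq]; group
  have htp : C.t * p = p⁻¹ * C.t := by
    calc C.t * p = p⁻¹ * (p * C.t * (p * C.t)) * C.t⁻¹ := by group
      _ = _ := by rw [hinv, C.t_inv_eq]; group
  have hg : ((x : G) * (p * p)) * C.t = C.t * ((x : G) * (p * p)) := by
    have e : p * p * C.t = (x : G)⁻¹ * C.t * x * (p * p) := by
      rw [hp1, mul_assoc p C.t, ← mul_assoc C.t p, htp, mul_assoc p⁻¹ C.t p, htp]
      calc p * p * C.t = p * p * p * (p⁻¹ * C.t) := by group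
        _ = p⁻¹ * C.t := by rw [hp3, one_mul]
        _ = _ := by group
    calc (x : G) * (p * p) * C.t = x * (p * p * C.t) := by group
      _ = x * ((x : G)⁻¹ * C.t * x * (p * p)) := by rw [e]
      _ = _ := by group
  refine ⟨⟨_, C.mem_CL.2 ⟨mul_mem x.2 (C.Q_le_L (mul_mem hpQ hpQ)), hg⟩⟩, ?_⟩
  rw [gL_apply, ← hx]
  show C.fL (x * ⟨p * p, C.Q_le_L (mul_mem hpQ hpQ)⟩) = C.fL x
  rw [map_mul, (C.fL_ker ⟨p * p, _⟩).2 (mul_mem hpQ hpQ), mul_one]

theorem card_CL : Nat.card C.CL = 360 := by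
  have hk : C.gL.ker = C.Z.subgroupOf C.CL := by
    ext x; rw [MonoidHom.mem_ker, C.gL_ker, mem_subgroupOf]
  rw [Subgroup.card_eq_card_quotient_mul_card_subgroup C.gL.ker,
    Nat.card_congr (QuotientGroup.quotientKerEquivOfSurjective C.gL C.gL_surj).toEquiv,
    SL5.card_eq, hk, Nat.card_congr (subgroupOfEquivOfLe C.Z_le_CL).toEquiv, C.Z_card]

/-- `C_S(t) = C_J(t)`. -/
theorem mem_D_of_S {s : G} (hs : s ∈ (C.S : Subgroup G)) (h : s * C.t = C.t * s) : s ∈ C.D := by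
  obtain ⟨d, hd, hdQ, hdt⟩ := C.exists_fixed
  have hdD : d ∈ C.D := C.mem_D.2 ⟨hd, hdt.symm⟩
  have hW : (C.S : Subgroup G) ⊓ centralizer ({C.t} : Set G) = C.D := by
    refine (eq_of_le_of_card_ge (inf_le_inf_right _ C.J_le) ?_).symm
    have h1 := C.toData.card_meet_Q (A := (C.S : Subgroup G) ⊓ centralizer ({C.t} : Set G)) inf_le_left
    have h2 : Nat.card ↥(((C.S : Subgroup G) ⊓ centralizer ({C.t} : Set G)) ⊓ C.Q) ≤ 3 :=
      (card_le_of_le (show ((C.S : Subgroup G) ⊓ centralizer ({C.t} : Set G)) ⊓ C.Q ≤ C.Z from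
        fun q hq => C.cent_t_Q hq.2 (mem_centralizer_singleton_iff.1 hq.1.2).symm)).trans C.Z_card.le
    have h3 : 9 ≤ Nat.card C.D := by
      have hlt : C.Z < C.D := lt_of_le_of_ne C.Z_le_D fun e => hdQ (C.Z_le_Q (e ▸ hdD))
      have h4 := Set.Finite.card_lt_card (Set.toFinite _) (SetLike.coe_ssubset_coe.2 hlt)
      change Nat.card C.Z < Nat.card C.D at h4
      obtain ⟨n, -, hn⟩ := (Nat.dvd_prime_pow Nat.prime_three).1
        (show Nat.card C.D ∣ 3 ^ 4 by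
          rw [show (3 : ℕ) ^ 4 = Nat.card C.J by rw [C.J_card]; norm_num]
          exact card_dvd_of_le C.D_le_J)
      rw [C.Z_card, hn] at h4
      have : 2 ≤ n := by
        by_contra hlt'
        have : 3 ^ n ≤ 3 ^ 1 := Nat.pow_le_pow_right (by norm_num) (by omega)
        omega
      rw [hn]
      exact le_trans (by norm_num) (Nat.pow_le_pow_right (by norm_num : 0 < 3) this)
    change 9 ≤ Nat.card ↥(C.J ⊓ centralizer ({C.t} : Set G)) at h3
    omega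
  exact hW ▸ ⟨hs, mem_centralizer_singleton_iff.2 h⟩

theorem card_D : Nat.card C.D = 9 := by
  haveI : Fact (Nat.Prime 3) := ⟨Nat.prime_three⟩
  obtain ⟨d, hd, hdQ, hdt⟩ := C.exists_fixed
  have hdD : d ∈ C.D := C.mem_D.2 ⟨hd, hdt.symm⟩
  have h1 := C.toData.card_meet_Q (C.D_le_J.trans C.J_le)
  have h2 : Nat.card ↥(C.D ⊓ C.Q) ≤ 3 :=
    (card_le_of_le (show C.D ⊓ C.Q ≤ C.Z from
      fun q hq => C.cent_t_Q hq.2 (C.mem_D.1 hq.1).2.symm)).trans C.Z_card.le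
  have hlt : C.Z < C.D := lt_of_le_of_ne C.Z_le_D fun e => hdQ (C.Z_le_Q (e ▸ hdD))
  have h4 := Set.Finite.card_lt_card (Set.toFinite _) (SetLike.coe_ssubset_coe.2 hlt)
  change Nat.card C.Z < Nat.card C.D at h4
  obtain ⟨n, -, hn⟩ := (Nat.dvd_prime_pow Nat.prime_three).1
    (show Nat.card C.D ∣ 3 ^ 4 by
      rw [show (3 : ℕ) ^ 4 = Nat.card C.J by rw [C.J_card]; norm_num]
      exact card_dvd_of_le C.D_le_J)
  rw [C.Z_card, hn] at h4
  rw [hn] at h1 ⊢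
  have : n ≤ 4 := by
    by_contra h
    have : 3 ^ 5 ≤ 3 ^ n := Nat.pow_le_pow_right (by norm_num) (by omega)
    omega
  interval_cases n <;> omega

theorem D_le_CL : C.D ≤ C.CL := fun _ hd =>
  C.mem_CL.2 ⟨C.toData.S_le_L (C.J_le (C.D_le_J hd)), (C.mem_D.1 hd).2⟩

/-- `E = C_L(t)'`, isomorphic to `SL(2,5)`. -/
def E : Subgroup G := (commutator C.CL).map C.CL.subtype

theorem E_le : C.E ≤ C.CL := map_subtype_le _

theorem E_L {g : G} (hg : g ∈ C.E) : g ∈ C.L := (C.mem_CL.1 (C.E_le hg)).1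

theorem E_t {g : G} (hg : g ∈ C.E) : g * C.t = C.t * g := (C.mem_CL.1 (C.E_le hg)).2

theorem E_Z {g z : G} (hg : g ∈ C.E) (hz : z ∈ C.Z) : z * g = g * z :=
  C.toData.comm_Z (C.L_le (C.E_L hg)) hz

theorem E_inf_Z {g : G} (hg : g ∈ C.E) (hz : g ∈ C.Z) : g = 1 := by
  obtain ⟨x, hx, rfl⟩ := hg
  set H : Subgroup C.CL := C.D.subgroupOf C.CL with hH
  haveI : IsMulCommutative H := ⟨⟨fun a b => Subtype.ext (Subtype.ext
    (C.J_comm _ (C.D_le_J a.2) _ (C.D_le_J b.2)))⟩⟩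
  let V : C.CL →* H := MonoidHom.transfer (MonoidHom.id H)
  have h1 : V x = 1 := Abelianization.commutator_subset_ker V hx
  have hcard : H.index = 40 := by
    have h := Subgroup.card_mul_index H
    rw [Nat.card_congr (subgroupOfEquivOfLe C.D_le_CL).toEquiv, C.card_D, C.card_CL] at h
    omega
  have hcx : ∀ k : ℕ, ∀ g0 : C.CL, g0⁻¹ * x ^ k * g0 = x ^ k := fun k g0 => by
    apply Subtype.ext
    have hk : ((x : G) ^ k) ∈ C.Z := pow_mem hz k
    simp only [Subgroup.coe_mul, InvMemClass.coe_inv, SubmonoidClass.coe_pow]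
    rw [mul_assoc, C.toData.comm_Z (C.L_le (C.mem_CL.1 g0.2).1) hk, inv_mul_cancel_left]
  have h2 := MonoidHom.transfer_eq_pow (MonoidHom.id H) x fun k g0 _ => hcx k g0
  rw [show MonoidHom.transfer (MonoidHom.id H) x = V x from rfl, h1] at h2
  have h3 := congrArg (fun w : H => ((w : C.CL) : G)) h2
  simp only [MonoidHom.id_apply, OneMemClass.coe_one, SubmonoidClass.coe_pow, hcard] at h3
  have hx3 : (x : G) * x * x = 1 := C.Q_cube _ (C.Z_le_Q hz)
  show (x : G) = 1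
  rw [show (40 : ℕ) = 3 * 13 + 1 from rfl, pow_succ, pow_mul, pow_three', hx3, one_pow, one_mul] at h3
  exact h3.symm

/-- The isomorphism of `E` with `SL(2,5)`. -/
noncomputable def gE : C.E →* SL5 := C.gL.comp (inclusion C.E_le)

theorem gE_apply {g : G} (hg : g ∈ C.E) : C.gE ⟨g, hg⟩ = C.fL ⟨g, C.E_L hg⟩ := rfl

theorem gE_bijective : Function.Bijective C.gE := by
  refine ⟨(injective_iff_map_eq_one C.gE).2 fun x hx => Subtype.ext
    (C.E_inf_Z x.2 ((C.gL_ker _).1 hx)), fun v => ?_⟩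
  have h : (commutator C.CL).map C.gL = ⊤ := by
    rw [map_commutator_eq, MonoidHom.range_eq_top.2 C.gL_surj, ← _root_.commutator_def, SL5.perfect]
  obtain ⟨x, hx, hv⟩ := (h ▸ mem_top v : v ∈ (commutator C.CL).map C.gL)
  exact ⟨⟨x, x, hx, rfl⟩, hv⟩

/-- `E ≅ SL(2,5)`. -/
noncomputable def eE : C.E ≃* SL5 := MulEquiv.ofBijective C.gE C.gE_bijective

theorem CL_decomp {g : G} (hg : g ∈ C.CL) : ∃ z ∈ C.Z, ∃ e ∈ C.E, g = z * e := by
  obtain ⟨e, he⟩ := C.gE_bijective.2 (C.gL ⟨g, hg⟩)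
  have hz : g * (e : G)⁻¹ ∈ C.Z := by
    refine (C.gL_ker (⟨g, hg⟩ * (inclusion C.E_le e)⁻¹)).1 ?_
    rw [map_mul, map_inv, show C.gL (inclusion C.E_le e) = C.gE e from rfl, he, mul_inv_cancel]
  exact ⟨_, hz, e, e.2, by simp⟩

theorem t_mem_E : C.t ∈ C.E := by
  obtain ⟨e, he⟩ := C.gE_bijective.2 (-1)
  have hee : (e : G) * e = 1 := by
    have : e * e = 1 := C.gE_bijective.1 (by rw [map_mul, he, map_one]; exact SL5.neg_one_ne.2)
    exact congrArg Subtype.val this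
  have hz : C.t⁻¹ * (e : G) ∈ C.Z := C.CL_Q (mul_mem (inv_mem C.t_mem_CL) (C.E_le e.2))
    (C.toData.mem_Q_of_eq C.t_mem (C.E_L e.2) (C.t_img.trans he.symm))
  set z := C.t⁻¹ * (e : G) with hzdef
  have e1 : (e : G) = C.t * z := by rw [hzdef]; group
  have hz1 : z = 1 := by
    have h' : z * z = 1 := by
      rw [← hee, e1]
      calc z * z = (C.t * C.t) * (z * z) := by rw [C.t_sq, one_mul]
        _ = C.t * (C.t * z) * z := by group
        _ = C.t * (z * C.t) * z := by rw [C.t_comm_Z hz]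
        _ = _ := by group
    have := C.Q_cube z (C.Z_le_Q hz)
    rwa [h', one_mul] at this
  rw [hz1, mul_one] at e1
  exact e1 ▸ e.2

/-- The element of order three of `E` in `D`, and one of order four inverting it. -/
theorem exists_y : ∃ y e : G, y ∈ C.E ∧ y ∈ C.D ∧ y ∉ C.Q ∧ y * y * y = 1 ∧
    (∀ d ∈ C.D, ∃ z ∈ C.Z, ∃ i : Fin 3, d = z * y ^ (i : ℕ)) ∧
    e ∈ C.E ∧ e * e = C.t ∧ e * y = y⁻¹ * e := by
  obtain ⟨d, hd, hdQ, hdt⟩ := C.exists_fixed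
  have hdD : d ∈ C.D := C.mem_D.2 ⟨hd, hdt.symm⟩
  obtain ⟨z, hz, y, hyE, rfl⟩ := C.CL_decomp (C.D_le_CL hdD)
  have hyD : y ∈ C.D := by
    simpa using mul_mem (inv_mem (C.Z_le_D hz)) hdD
  have hyQ : y ∉ C.Q := fun h => hdQ (mul_mem (C.Z_le_Q hz) h)
  have hy3 := C.J_cube y (C.D_le_J hyD)
  set a := C.gE ⟨y, hyE⟩ with ha
  have ha3 : a * a * a = 1 := by
    rw [ha, ← map_mul, ← map_mul, show (⟨y, hyE⟩ : C.E) * ⟨y, hyE⟩ * ⟨y, hyE⟩ = 1 from
      Subtype.ext hy3, map_one]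
  have ha1 : a ≠ 1 := fun h => hyQ ((C.fL_ker _).1 h)
  obtain ⟨v, hv1, hv2⟩ := SL5.exists_inverting a ha3 ha1
  obtain ⟨e, he⟩ := C.gE_bijective.2 v
  have hY : zpowers y ⊔ C.Z = C.D := by
    refine eq_of_le_of_card_ge (sup_le (zpowers_le.2 hyD) C.Z_le_D) ?_
    have hn : zpowers y ≤ normalizer (C.Z : Set G) :=
      zpowers_le.2 ((C.L_le.trans (centralizer_le_normalizer _)) (C.E_L hyE))
    have hc := CfsgLib.Solvable.card_sup_mul_card_inf hn
    have h1 : zpowers y ⊓ C.Z = ⊥ := (eq_bot_iff_forall _).2 fun w hw =>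
      C.E_inf_Z ((zpowers_le.2 hyE) hw.1) hw.2
    rw [h1, card_bot, mul_one, C.Z_card, Nat.card_zpowers,
      orderOf_eq_prime (p := 3) (by rw [pow_three']; exact hy3) (fun h => hyQ (by rw [h]; exact one_mem _))] at hc
    rw [C.card_D, hc]
  refine ⟨y, e, hyE, hyD, hyQ, hy3, fun d hd => ?_, e.2, ?_, ?_⟩
  · have hn : zpowers y ≤ normalizer (C.Z : Set G) :=
      zpowers_le.2 ((C.L_le.trans (centralizer_le_normalizer _)) (C.E_L hyE))
    rw [← hY] at hd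
    obtain ⟨w, hw, z', hz', rfl⟩ := Set.mem_mul.1
      ((Subgroup.coe_mul_of_left_le_normalizer_right _ _ hn).subset hd)
    obtain ⟨k, hk⟩ := (isOfFinOrder_of_finite y).mem_powers_iff_mem_zpowers.2 hw
    refine ⟨z', hz', ⟨k % 3, Nat.mod_lt _ (by norm_num)⟩, ?_⟩
    have hyk : y ^ k = y ^ (k % 3) := by
      conv_lhs => rw [← Nat.div_add_mod k 3, pow_add, pow_mul, pow_three', hy3, one_pow, one_mul]
    have hwk : w = y ^ k := hk.symm
    rw [hwk, hyk, C.E_Z (pow_mem hyE _) hz']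
  · have h := C.gE_bijective.1 (a₁ := e * e) (a₂ := ⟨C.t, C.t_mem_E⟩) (by
      rw [map_mul, he, hv1, gE_apply, C.t_img])
    exact congrArg Subtype.val h
  · have h := C.gE_bijective.1 (a₁ := e * ⟨y, hyE⟩) (a₂ := ⟨y, hyE⟩⁻¹ * e) (by
      rw [map_mul, map_mul, map_inv, he, ← ha, hv2])
    exact congrArg Subtype.val h

end Ctx

end CfsgLib.McLThree
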