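import Cfsg.Agent.McLThree.SixFacts

/-! Facts about permutations of six letters near the four-group of `pc * pc` and `pg`. -/

set_option autoImplicit false
set_option maxRecDepth 100000
set_option maxHeartbeats 800000

namespace CfsgLib.McLThree.Six

open Equiv

/-- The conjugate of `pc` centralizing `pg`. -/
def pk : Perm (Fin 6) := px * pc * px⁻¹

/-- The four-group. -/
def F4 : List (Perm (Fin 6)) := [1, pc * pc, pg, pc * pc * pg]

/-- Its involutions. -/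
def F4n : List (Perm (Fin 6)) := [pc * pc, pg, pc * pc * pg]

theorem F4_mul : ∀ u ∈ F4, ∀ v ∈ F4, u * v ∈ F4 := by decide +kernel

theorem F4_inv : ∀ u ∈ F4, u⁻¹ = u := by decide +kernel

theorem F4_cases : ∀ u ∈ F4, u ∈ F4n ∨ u = 1 := by decide +kernel

theorem F4n_facts : ∀ u ∈ F4n, u ∈ F4 ∧ u ≠ 1 ∧ u * u = 1 := by decide +kernel

theorem F4_conj_pc : ∀ u ∈ F4, pc * u * pc⁻¹ ∈ F4 := by decide +kernel

theorem pk_conj : pk * (pc * pk * pc⁻¹) * pk⁻¹ = pc ∨ pk * (pc * pk * pc⁻¹) * pk⁻¹ = pc⁻¹ := by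
  decide +kernel

theorem pc_pg_both : pc * pg * pc⁻¹ = pc * pc * pg := by decide +kernel

theorem cent_sq_list : ∀ x : Perm (Fin 6), x * (pc * pc) = pc * pc * x → Perm.sign x = 1 →
    x ∈ F4 ∨ ∃ v ∈ F4, x = pc * v := by decide +kernel

theorem cent_pg_list : ∀ x : Perm (Fin 6), x * pg = pg * x → Perm.sign x = 1 →
    x ∈ F4 ∨ ∃ v ∈ F4, x = pk * v := by decide +kernel

theorem invol_cover : ∀ h : Perm (Fin 6), h * h = 1 → Perm.sign h = 1 → h ∉ F4 →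
    (∃ v ∈ F4n, h * v = v * h) ∨ (∃ u ∈ F4n, h * u * (h * u) * (h * u) * (h * u) * (h * u) = 1 ∧ h * u ≠ 1) ∨
      ∃ u ∈ F4n, ∃ v ∈ F4n, h * u * h ∉ F4 ∧ h * u * h * v = v * (h * u * h) := by
  decide +kernel

theorem orient : ∀ h : Perm (Fin 6), h * (h * h) = 1 → h ≠ 1 → Perm.sign h = 1 →
    h * (pc * pc) * h⁻¹ ∈ F4n → h * pg * h⁻¹ ∈ F4n →
    (h * (pc * pc) * h⁻¹ = pg ∧ h * pg * h⁻¹ = pc * pc * pg) ∨
      (h⁻¹ * (pc * pc) * h = pg ∧ h⁻¹ * pg * h = pc * pc * pg) := by decide +kernel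

theorem pcpg_facts : pg * pg = 1 ∧ pc * pc * pg * (pc * pc * pg) = 1 ∧ pg ≠ pc * pc ∧
    pc * pc * pg ≠ pc * pc := by decide +kernel

end CfsgLib.McLThree.Six
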