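import Cfsg.Agent.McLThree.MSide

/-!
The centralizer of a non-singular element `zz * y` normalizes `J`.
-/

set_option autoImplicit false
set_option maxHeartbeats 400000

namespace CfsgLib.McLThree

open Subgroup

universe u

namespace Six

theorem no_three_list : ∀ x ∈ [1, pc, pc * pc, pc * pc * pc, pg, pc * pg, pc * pc * pg, pc * pc * pc * pg],
    x * (x * x) = 1 → x = 1 := by decide +kernel

theorem no_three_sq {x : Equiv.Perm (Fin 6)} (hs : Equiv.Perm.sign x = 1)
    (h : x * (pc * pc) = pc * pc * x) (h3 : x * (x * x) = 1) : x = 1 := by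
  refine no_three_list x ?_ h3
  have e : ∀ w, x * pg = w → x = w * pg := by
    intro w hw
    rw [← hw, mul_assoc, pg_facts.1, mul_one]
  rcases cent_sq x h hs with (h | h | h | h) | (h | h | h | h)
  · simp [h]
  · simp [h]
  · simp [h]
  · simp [h]
  · simp [e _ h]
  · simp [e _ h]
  · simp [e _ h]
  · simp [e _ h]

theorem no_three_pg {x : Equiv.Perm (Fin 6)} (hs : Equiv.Perm.sign x = 1)
    (h : x * pg = pg * x) (h3 : x * (x * x) = 1) : x = 1 := by
  have := no_three_sq (x := px⁻¹ * x * px) (by simp [hs, signs.2.2.2.2]) ?_ ?_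
  · calc x = px * (px⁻¹ * x * px) * px⁻¹ := by group
      _ = 1 := by rw [this]; group
  · have e : pc * pc = px⁻¹ * pg * px := by rw [← pg_facts.2.2.1]; group
    rw [e]
    calc px⁻¹ * x * px * (px⁻¹ * pg * px) = px⁻¹ * (x * pg) * px := by group
      _ = px⁻¹ * (pg * x) * px := by rw [h]
      _ = _ := by group
  · calc px⁻¹ * x * px * (px⁻¹ * x * px * (px⁻¹ * x * px)) = px⁻¹ * (x * (x * x)) * px := by group
      _ = 1 := by rw [h3]; group

theorem no_three_both {x : Equiv.Perm (Fin 6)} (hs : Equiv.Perm.sign x = 1)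
    (h : x * (pc * pc * pg) = pc * pc * pg * x) (h3 : x * (x * x) = 1) : x = 1 := by
  have := no_three_pg (x := pc⁻¹ * x * pc) (by simp [hs, signs.2.2.1]) ?_ ?_
  · calc x = pc * (pc⁻¹ * x * pc) * pc⁻¹ := by group
      _ = 1 := by rw [this]; group
  · have e : pg = pc⁻¹ * (pc * pc * pg) * pc := by
      have h4 := pc_facts.1
      calc pg = (pc * pc * (pc * pc)) * pg := by rw [h4, one_mul]
        _ = pc * (pc * pc * pc * pg) := by group
        _ = pc * (pg * pc) := by rw [pg_pc]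
        _ = pc⁻¹ * (pc * pc * pg) * pc := by group
    conv_lhs => rw [e]
    conv_rhs => rw [e]
    calc pc⁻¹ * x * pc * (pc⁻¹ * (pc * pc * pg) * pc) = pc⁻¹ * (x * (pc * pc * pg)) * pc := by group
      _ = pc⁻¹ * (pc * pc * pg * x) * pc := by rw [h]
      _ = _ := by group
  · calc pc⁻¹ * x * pc * (pc⁻¹ * x * pc * (pc⁻¹ * x * pc)) = pc⁻¹ * (x * (x * x)) * pc := by group
      _ = 1 := by rw [h3]; group

end Six

variable {G : Type u} [Group G] [Finite G]

namespace Local

variable (P : Local G)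

theorem diag_comm_t : P.zz * P.y * P.t = P.t * (P.zz * P.y) :=
  (Commute.mul_left (P.toCtx.t_comm_Z P.zz_mem) (P.toCtx.mem_D.1 P.y_D).2).eq

theorem diag_mem_J : P.zz * P.y ∈ P.J :=
  mul_mem (P.toData.Z_le_J P.zz_mem) P.toFrame.y_J

theorem g_diag : P.g * (P.zz * P.y) = P.zz * P.y * P.g := by
  have hc : P.zz * P.y = P.y * P.zz := P.toCtx.E_Z P.y_E P.zz_mem
  have := congrArg₂ (· * ·) P.g_z P.g_y
  simp only [conj_mul, ← hc] at this
  exact mul_inv_eq_iff_eq_mul.1 this

theorem t_M : P.t ∈ P.M := P.c_sq ▸ mul_mem P.c_M P.c_M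

theorem t_fimg : (P.f ⟨P.t, P.t_M⟩ : Equiv.Perm (Fin 6)) = Six.pc * Six.pc := by
  have e : P.f ⟨P.t, P.t_M⟩ = P.f ⟨P.c, P.c_M⟩ * P.f ⟨P.c, P.c_M⟩ := by
    rw [← map_mul]; exact congrArg _ (Subtype.ext P.c_sq.symm)
  rw [e, Subgroup.coe_mul, P.c_img]

/-- A normal 3-subgroup of `C(zz y)` containing its centralizer forces `C(zz y) ≤ N(J)`. -/
theorem cent_diag {U : Subgroup G}
    (hUC : U ≤ centralizer ({P.zz * P.y} : Set G))
    (hUn : centralizer ({P.zz * P.y} : Set G) ≤ normalizer (U : Set G))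
    (hp : IsPGroup 3 U) (hc : centralizer (U : Set G) ≤ U) :
    centralizer ({P.zz * P.y} : Set G) ≤ normalizer (P.J : Set G) := by
  haveI : Fact (Nat.Prime 3) := ⟨Nat.prime_three⟩
  have hJC : P.J ≤ centralizer ({P.zz * P.y} : Set G) := fun j hj =>
    mem_centralizer_singleton_iff.2 (P.J_comm j hj _ P.diag_mem_J)
  by_cases hUJ : U ≤ P.J
  · have hJU : P.J ≤ U := fun j hj => hc (mem_centralizer_iff.2 fun u hu => P.J_comm u (hUJ hu) j hj)
    rw [← le_antisymm hUJ hJU]
    exact hUn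
  exfalso
  -- an element of `U` normalising `J`
  have hW : IsPGroup 3 ↥(U ⊔ P.J) :=
    IsPGroup.to_sup_of_normal_left' hp (IsPGroup.of_card (n := 4) (by rw [P.J_card]; norm_num))
      (hJC.trans hUn)
  have hJn : P.J ≤ normalizer (U : Set G) := hJC.trans hUn
  haveI := hW.isNilpotent
  have hlt : P.J.subgroupOf (U ⊔ P.J) < ⊤ := by
    rw [lt_top_iff_ne_top]
    intro h
    apply hUJ
    intro u hu
    have : (⟨u, mem_sup_left hu⟩ : ↥(U ⊔ P.J)) ∈ P.J.subgroupOf (U ⊔ P.J) := h ▸ mem_top _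
    exact mem_subgroupOf.1 this
  obtain ⟨w, hw, hwJ⟩ := SetLike.exists_of_lt
    (Group.normalizerCondition_of_isNilpotent _ hlt)
  obtain ⟨u, hu, j, hj, huj⟩ := Set.mem_mul.1
    ((Subgroup.coe_mul_of_right_le_normalizer_left _ _ hJn).subset w.2)
  have huN : u ∈ normalizer (P.J : Set G) := by
    have hwN : (w : G) ∈ normalizer (P.J : Set G) := by
      rw [mem_normalizer_iff]
      intro a
      constructor
      · intro ha
        have := (mem_normalizer_iff.1 hw ⟨a, mem_sup_right ha⟩).1 (mem_subgroupOf.2 ha)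
        exact mem_subgroupOf.1 this
      · intro ha
        have h2 : a ∈ U ⊔ P.J := by
          have := mul_mem (mul_mem (inv_mem w.2) (mem_sup_right (S := U) ha)) w.2
          simpa [mul_assoc] using this
        have := (mem_normalizer_iff.1 hw ⟨a, h2⟩).2 (mem_subgroupOf.2 ha)
        exact mem_subgroupOf.1 this
    have : u = (w : G) * j⁻¹ := by rw [← huj, mul_inv_cancel_right]
    rw [this]
    exact mul_mem hwN (inv_mem (le_normalizer hj))
  have huJ : u ∉ P.J := fun h => hwJ (mem_subgroupOf.2 (huj ▸ mul_mem h hj))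
  -- its image is normalised by the four-group `⟨t, g⟩`
  have hM : ∀ {v : G}, v ∈ U → v ∈ normalizer (P.J : Set G) → v ∈ P.M := fun {v} hv hvN =>
    P.M_three v hvN (by obtain ⟨k, hk⟩ := hp ⟨v, hv⟩; exact ⟨k, congrArg Subtype.val hk⟩)
  set V : Subgroup P.M := (U ⊓ normalizer (P.J : Set G)).subgroupOf P.M with hV
  set P1 := V.map P.f with hP1
  have hleM : U ⊓ normalizer (P.J : Set G) ≤ P.M := fun v hv => hM (mem_inf.1 hv).1 (mem_inf.1 hv).2
  have hVp : IsPGroup 3 V :=
    (hp.to_le (inf_le_left : U ⊓ normalizer (P.J : Set G) ≤ U)).of_equiv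
      (subgroupOfEquivOfLe hleM).symm
  have hP1p : IsPGroup 3 P1 := hVp.map P.f
  set π : alternatingGroup (Fin 6) := P.f ⟨u, hM hu huN⟩ with hπ
  have hπP : π ∈ P1 := ⟨_, mem_subgroupOf.2 ⟨hu, huN⟩, rfl⟩
  have hπ1 : π ≠ 1 := fun h => huJ ((P.f_ker _).1 h)
  have hcomm : ∀ a ∈ P1, ∀ b ∈ P1, a * b = b * a := by
    obtain ⟨n, hn⟩ := IsPGroup.iff_card.1 hP1p
    have hn2 : n ≤ 2 := by
      have h1 : 3 ^ n ∣ 360 := by
        have := Subgroup.card_subgroup_dvd_card P1
        rwa [hn, nat_card_alternatingGroup, Nat.card_fin, show Nat.factorial 6 / 2 = 360 from rfl] at this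
      by_contra h
      have : 27 ∣ 360 := (pow_dvd_pow 3 (by omega : 3 ≤ n)).trans h1
      omega
    intro a ha b hb
    haveI : IsMulCommutative P1 := by
      interval_cases n
      · exact ⟨⟨fun a b => by
          have : Subsingleton P1 := (Nat.card_eq_one_iff_unique.1 (by simpa using hn)).1
          exact Subsingleton.elim _ _⟩⟩
      · exact (isCyclic_of_prime_card (p := 3) (by simpa using hn)).isMulCommutative
      · exact ⟨⟨(IsPGroup.commutative_of_card_eq_prime_sq hn)⟩⟩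
    exact congrArg Subtype.val (IsMulCommutative.is_comm.comm (⟨a, ha⟩ : P1) ⟨b, hb⟩)
  have hconj : ∀ v : G, ∀ hvM : v ∈ P.M, v ∈ centralizer ({P.zz * P.y} : Set G) →
      ∀ a ∈ P1, P.f ⟨v, hvM⟩ * a * (P.f ⟨v, hvM⟩)⁻¹ ∈ P1 := by
    rintro v hvM hvC _ ⟨w, hw, rfl⟩
    rw [← map_inv, ← map_mul, ← map_mul]
    refine ⟨_, mem_subgroupOf.2 ⟨(mem_normalizer_iff.1 (hUn hvC) _).1 (mem_subgroupOf.1 hw).1, ?_⟩, rfl⟩
    exact (normalizer (P.J : Set G)).mul_mem ((normalizer (P.J : Set G)).mul_mem (P.M_le hvM) (mem_subgroupOf.1 hw).2)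
      ((normalizer (P.J : Set G)).inv_mem (P.M_le hvM))
  set it : alternatingGroup (Fin 6) := P.f ⟨P.t, P.t_M⟩ with hit
  set ig : alternatingGroup (Fin 6) := P.f ⟨P.g, P.g_M⟩ with hig
  have hcube : ∀ a ∈ P1, a * (a * a) = 1 := by
    intro a ha
    obtain ⟨k, hk⟩ := hP1p ⟨a, ha⟩
    have hk' : a ^ 3 ^ k = 1 := congrArg Subtype.val hk
    have h360 : orderOf a ∣ 360 := by
      have := orderOf_dvd_natCard (G := alternatingGroup (Fin 6)) a
      rwa [nat_card_alternatingGroup, Nat.card_fin, show Nat.factorial 6 / 2 = 360 from rfl] at this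
    obtain ⟨i, hik, hi⟩ := (Nat.dvd_prime_pow Nat.prime_three).1 (orderOf_dvd_of_pow_eq_one hk')
    have hi1 : i ≤ 2 := by
      by_contra h
      have : 27 ∣ 360 := (pow_dvd_pow 3 (by omega : 3 ≤ i)).trans (hi ▸ h360)
      omega
    have h9 : a ^ 9 = 1 := orderOf_dvd_iff_pow_eq_one.1 (hi ▸ pow_dvd_pow 3 hi1)
    have hp9 : ∀ x : Equiv.Perm (Fin 6), x ^ 9 = 1 → x * (x * x) = 1 := by
      intro x hx
      by_contra h
      have h9 : orderOf x = 3 ^ 2 := orderOf_eq_prime_pow
        (by rw [pow_one, pow_three]; exact h) (by norm_num; exact hx)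
      obtain ⟨c, hc⟩ := Equiv.Perm.lcm_cycleType x ▸ (dvd_refl (orderOf x))
      have hle : ∀ m ∈ x.cycleType, m ∣ 3 := by
        intro m hm
        have hm9 : m ∣ 3 ^ 2 := h9 ▸ Equiv.Perm.dvd_of_mem_cycleType hm
        have hm6 : m ≤ 6 := le_trans (Equiv.Perm.le_card_support_of_mem_cycleType hm)
          (le_trans (Finset.card_le_univ _) (by simp))
        obtain ⟨j, hj, rfl⟩ := (Nat.dvd_prime_pow Nat.prime_three).1 hm9
        interval_cases j
        · simp
        · simp
        · norm_num at hm6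
      have : orderOf x ∣ 3 := Equiv.Perm.lcm_cycleType x ▸ Multiset.lcm_dvd.2 hle
      rw [h9] at this
      exact absurd (Nat.le_of_dvd (by norm_num) this) (by norm_num)
    exact Subtype.ext (hp9 _ (by rw [← SubmonoidClass.coe_pow, h9]; rfl))
  -- one of the three involutions fixes a non-trivial element
  have key : ∀ a ∈ P1, (a * it = it * a ∨ a * ig = ig * a ∨ a * (it * ig) = it * ig * a) → a = 1 := by
    intro a ha h
    have h3 : (a : Equiv.Perm (Fin 6)) * (a * a) = 1 := congrArg Subtype.val (hcube a ha)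
    have hs := Equiv.Perm.mem_alternatingGroup.1 a.2
    apply Subtype.ext
    rcases h with h | h | h
    · refine Six.no_three_sq hs ?_ h3
      have := congrArg Subtype.val h
      simpa [hit, P.t_fimg] using this
    · refine Six.no_three_pg hs ?_ h3
      have := congrArg Subtype.val h
      simpa [hig, P.g_img] using this
    · refine Six.no_three_both hs ?_ h3
      have := congrArg Subtype.val h
      simpa [hit, hig, P.t_fimg, P.g_img] using this
  have htC : P.t ∈ centralizer ({P.zz * P.y} : Set G) :=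
    mem_centralizer_singleton_iff.2 P.diag_comm_t.symm
  have hgC : P.g ∈ centralizer ({P.zz * P.y} : Set G) := mem_centralizer_singleton_iff.2 P.g_diag
  have hinv : ∀ s : alternatingGroup (Fin 6), s * s = 1 → (∀ a ∈ P1, a * s = s * a → a = 1) →
      (∀ a ∈ P1, s * a * s⁻¹ ∈ P1) → s * π * s⁻¹ = π⁻¹ := by
    intro s hs hfix hn
    have hb := hn π hπP
    have hs' : s⁻¹ = s := inv_eq_of_mul_eq_one_right hs
    refine eq_inv_of_mul_eq_one_right (hfix _ (mul_mem hπP hb) ?_)
    calc π * (s * π * s⁻¹) * s = π * s * π := by group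
      _ = s * (s * π * s⁻¹) * π := by rw [hs', ← mul_assoc, ← mul_assoc, hs, one_mul]
      _ = s * ((s * π * s⁻¹) * π) := by group
      _ = s * (π * (s * π * s⁻¹)) := by rw [hcomm _ hb _ hπP]
  have hit2 : it * it = 1 := by
    apply Subtype.ext
    simp only [Subgroup.coe_mul, hit, P.t_fimg, OneMemClass.coe_one]
    exact Six.pc_facts.1
  have hig2 : ig * ig = 1 := by
    apply Subtype.ext
    simp only [Subgroup.coe_mul, hig, P.g_img, OneMemClass.coe_one]
    exact Six.pg_facts.1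
  have e1 := hinv it hit2 (fun a ha h => key a ha (Or.inl h)) (hconj _ P.t_M htC)
  have e2 := hinv ig hig2 (fun a ha h => key a ha (Or.inr (Or.inl h))) (hconj _ P.g_M hgC)
  apply hπ1
  refine key π hπP (Or.inr (Or.inr ?_))
  have : it * ig * π * (it * ig)⁻¹ = π := by
    calc it * ig * π * (it * ig)⁻¹ = it * (ig * π * ig⁻¹) * it⁻¹ := by group
      _ = (it * π * it⁻¹)⁻¹ := by rw [e2]; group
      _ = π := by rw [e1, inv_inv]
  exact (mul_inv_eq_iff_eq_mul.1 this).symm

end Local

end CfsgLib.McLThree
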