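import Cfsg.Agent.McLThree.MSide
import Cfsg.Agent.McLThree.CentE

/-!
The diagonal element `zz * y` is conjugate in `N(J)` to an element of `R ∖ Z`.
-/

set_option autoImplicit false
set_option maxHeartbeats 400000

namespace CfsgLib.McLThree

open Subgroup
open scoped commutatorElement

universe u

variable {G : Type u} [Group G] [Finite G]

namespace Frame

variable (F : Frame G)

theorem bz_coe (u v : F.Q) : (F.bz u v : G) = ⁅(u : G), ⁅F.y, (v : G)⁆⁆ := rfl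

/-- An element inverted by `t` in `J` lies in `R`. -/
theorem inverted_mem_R {w : G} (hw : w ∈ F.J) (ht : F.t * w * F.t = w⁻¹) : w ∈ F.R := by
  obtain ⟨j, hj, q, hq, e⟩ := F.toCtx.mem_J_Q (F.J_le hw)
  refine ⟨hw, ?_⟩
  -- modulo `Q` the element is its own inverse
  have hL : ∀ {s : G}, s ∈ (F.S : Subgroup G) → s ∈ F.L := fun hs => F.toData.S_le_L hs
  set W : F.L := ⟨w, hL (F.J_le hw)⟩
  set T : F.L := ⟨F.t, F.t_mem⟩
  have h1 : F.fL T * F.fL W * F.fL T = (F.fL W)⁻¹ := by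
    rw [← map_mul, ← map_mul, ← map_inv]
    exact congrArg F.fL (Subtype.ext ht)
  have h3 : F.fL W * F.fL W * F.fL W = 1 := by
    rw [← map_mul, ← map_mul, ← map_one F.fL]
    exact congrArg F.fL (Subtype.ext (F.J_cube w hw))
  have ht1 : F.fL T = -1 := F.t_img
  rw [ht1] at h1
  have hc : (-1 : SL5) * F.fL W * -1 = F.fL W := by
    rw [SL5.neg_one_central, mul_assoc, SL5.neg_one_ne.2, mul_one]
  rw [hc] at h1
  have h2 : F.fL W * F.fL W = 1 := by
    nth_rewrite 2 [h1]; exact mul_inv_cancel _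
  rw [h2, one_mul] at h3
  exact (F.fL_ker W).1 h3

/-- Every non-trivial element of `Z` is the square of some vector for the form. -/
theorem bz_surj {z : G} (hz : z ∈ F.Z) (hz1 : z ≠ 1) : ∃ v : F.Q, (F.bz v v : G) = z := by
  obtain ⟨v, hv⟩ := F.exists_v
  obtain ⟨u, hu⟩ : ∃ u : F.Q, F.bf u u ≠ 0 := by
    by_contra hc
    push Not at hc
    have h1 := hc (v * F.ev v)
    rcases F.bf_nondeg hv with h | h
    · exact h (hc v)
    · rw [F.bf_mul_left, F.bf_mul_right, F.bf_mul_right, hc v, hc (F.ev v)] at h1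
      apply h
      have e3 : F.bf (F.ev v) v = F.bf v (F.ev v) := by
        have hA := F.bf_ev v (F.ev v)
        have hz' : ((v : G)⁻¹)⁻¹ * (F.ev (F.ev v) : G) ∈ F.R := by
          rw [inv_inv, F.ev_ev]; exact F.v_tvt v
        rw [F.bf_congr_right v⁻¹ (F.ev v) _ hz'] at hA
        have hB := F.bf_mul_right (F.ev v) v v⁻¹
        rw [mul_inv_cancel, F.bf_R_right (F.ev v) 1 (one_mem _)] at hB
        linear_combination -hB - hA
      rw [e3] at h1
      have k : ∀ a : ZMod 3, 0 + a + (a + 0) = 0 → a = 0 := by decide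
      exact k _ h1
  set m : ZMod 3 := Multiplicative.toAdd (F.zmodEquiv ⟨z, hz⟩) with hm
  have hm0 : m ≠ 0 := by
    intro h
    rw [hm, toAdd_eq_zero, MulEquiv.map_eq_one_iff] at h
    exact hz1 (congrArg Subtype.val h)
  have k : ∀ a b : ZMod 3, a ≠ 0 → b ≠ 0 → b = a ∨ b = -a := by decide
  have hinj : ∀ w : F.Q, F.bf w w = m → (F.bz w w : G) = z := fun w h =>
    congrArg Subtype.val (F.zmodEquiv.injective (Multiplicative.toAdd.injective h))
  rcases k _ _ hu hm0 with h | h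
  · exact ⟨u, hinj u h.symm⟩
  · exact ⟨F.ev u, hinj _ (by rw [F.bf_ev, ← h])⟩

/-- A vector inverted by `t` with a given square. -/
theorem exists_inverted_vec {z : G} (hz : z ∈ F.Z) (hz1 : z ≠ 1) :
    ∃ q : F.Q, F.t * (q : G) * F.t = (q : G)⁻¹ ∧ (F.bz q q : G) = z := by
  obtain ⟨v, hv⟩ := F.bz_surj hz hz1
  have hti := F.toCtx.t_inv_eq
  set q : F.Q := ⟨(v : G)⁻¹ * (F.t * v * F.t), mul_mem (inv_mem v.2) (F.toCtx.t_Q v.2)⟩ with hq
  refine ⟨q, ?_, ?_⟩
  · show F.t * ((v : G)⁻¹ * (F.t * v * F.t)) * F.t = ((v : G)⁻¹ * (F.t * v * F.t))⁻¹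
    calc F.t * ((v : G)⁻¹ * (F.t * v * F.t)) * F.t
        = F.t * (v : G)⁻¹ * F.t * v * (F.t * F.t) := by group
      _ = F.t⁻¹ * (v : G)⁻¹ * F.t⁻¹ * v := by rw [F.t_sq, mul_one, hti]
      _ = _ := by group
  · have e : (q : G) = (v : G)⁻¹ * (v : G)⁻¹ * ((v : G) * (F.t * v * F.t)) := by
      show (v : G)⁻¹ * (F.t * v * F.t) = _
      group
    have h2 : ((v⁻¹ * v⁻¹ : F.Q) : G)⁻¹ * q ∈ F.R := by
      rw [e, Subgroup.coe_mul, InvMemClass.coe_inv, inv_mul_cancel_left]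
      exact F.v_tvt v
    have hb : F.bf q q = F.bf v v := by
      rw [F.bf_congr_left _ _ _ h2, F.bf_congr_right _ _ _ h2]
      have hl : ∀ w, F.bf v⁻¹ w = -F.bf v w := fun w => by
        have h := F.bf_mul_left v v⁻¹ w
        rw [mul_inv_cancel, F.bf_R_left 1 w (one_mem _)] at h
        linear_combination -h
      have hr : ∀ w, F.bf w v⁻¹ = -F.bf w v := fun w => by
        have h := F.bf_mul_right w v v⁻¹
        rw [mul_inv_cancel, F.bf_R_right w 1 (one_mem _)] at h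
        linear_combination -h
      simp only [F.bf_mul_left, F.bf_mul_right, hl, hr, neg_neg]
      have k : ∀ a : ZMod 3, a + a + (a + a) = a := by decide
      exact k _
    rw [show F.bz q q = F.bz v v from F.zmodEquiv.injective (Multiplicative.toAdd.injective hb)]
    exact hv

end Frame

namespace Local

variable (P : Local G)

/-- The diagonal element is conjugate in `N(J)` to an element of `R ∖ Z`. -/
theorem exists_diag_R : ∃ n ∈ normalizer (P.J : Set G),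
    n * (P.zz * P.y) * n⁻¹ ∈ P.R ∧ n * (P.zz * P.y) * n⁻¹ ∉ P.Z := by
  have hzi : P.zz⁻¹ ∈ P.Z := inv_mem P.zz_mem
  obtain ⟨q, hqt, hqq⟩ := P.toFrame.exists_inverted_vec hzi (inv_ne_one.2 P.zz_ne)
  have hti := P.toCtx.t_inv_eq
  set b := ⁅P.y, (q : G)⁆ with hb
  have hbR : b ∈ P.R := P.toFrame.comm_y_mem q.2
  have hq' : ⁅(q : G), b⁆ = P.zz⁻¹ := by rw [← hqq]; rfl
  -- conjugation of `y` by `q⁻¹`
  set c := (q : G)⁻¹ * P.y * q * P.y⁻¹ with hc
  have hcb : c = (q : G)⁻¹ * b * q := by rw [hc, hb, commutatorElement_def]; group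
  have htc : P.t * c * P.t = b⁻¹ := by
    have hty : P.t * P.y = P.y * P.t := (P.toCtx.mem_D.1 P.y_D).2.symm
    rw [hc, hb, commutatorElement_def]
    have e1 : P.t * ((q : G)⁻¹ * P.y * q * P.y⁻¹) * P.t =
        (P.t * (q : G) * P.t)⁻¹ * P.y * (P.t * q * P.t) * P.y⁻¹ := by
      have hy' : P.t * P.y * P.t = P.y := by rw [hty, mul_assoc, P.t_sq, mul_one]
      have hy'' : P.t * P.y⁻¹ * P.t = P.y⁻¹ := by
        conv_rhs => rw [← hy']
        rw [mul_inv_rev, mul_inv_rev, hti]; group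
      calc P.t * ((q : G)⁻¹ * P.y * q * P.y⁻¹) * P.t
          = (P.t * (q : G)⁻¹ * P.t⁻¹) * (P.t * P.y * P.t⁻¹) * (P.t * q * P.t⁻¹) * (P.t * P.y⁻¹ * P.t) := by group
        _ = _ := by rw [hti, hy', hy'', mul_inv_rev, mul_inv_rev, hti, ← mul_assoc P.t (q : G)⁻¹]
    rw [e1, hqt]; group
  -- split `c`
  set r := c * P.zz with hr
  have hrJ : r ∈ P.J := by
    have hcJ : c ∈ P.J := by
      have h1 : (q : G) ∈ normalizer (P.J : Set G) := P.M_le (P.toFrame.S_le_M (P.toData.Q_le_S q.2))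
      rw [hcb]
      exact (mem_normalizer_iff''.1 h1 b).1 hbR.1
    exact mul_mem hcJ (P.toData.Z_le_J P.zz_mem)
  have hbc : c * b⁻¹ = P.zz := by
    rw [hcb]
    have : (q : G)⁻¹ * b * q * b⁻¹ = (q : G)⁻¹ * (⁅(q : G), b⁆)⁻¹ * q := by
      rw [commutatorElement_def]; group
    rw [this, hq', inv_inv, mul_assoc, P.toData.Z_comm_Q q.2 P.zz_mem, inv_mul_cancel_left]
  have hrt : P.t * r * P.t = r⁻¹ := by
    have hzt : P.t * P.zz * P.t = P.zz := by
      rw [← P.toCtx.t_comm_Z P.zz_mem, mul_assoc, P.t_sq, mul_one]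
    have e : P.t * (c * P.zz) * P.t = (P.t * c * P.t) * (P.t * P.zz * P.t) := by
      calc P.t * (c * P.zz) * P.t = P.t * c * (P.t * P.t) * P.zz * P.t := by rw [P.t_sq]; group
        _ = _ := by group
    rw [hr, e, htc, hzt]
    refine (eq_inv_of_mul_eq_one_left ?_)
    have hz3 : P.zz * P.zz * P.zz = 1 := P.Q_cube _ (P.Z_le_Q P.zz_mem)
    have hcomm : b⁻¹ * P.zz * c = b⁻¹ * c * P.zz := by
      rw [mul_assoc, P.J_comm _ (P.toData.Z_le_J P.zz_mem) c (by
        have := mul_mem hrJ (inv_mem (P.toData.Z_le_J P.zz_mem))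
        rwa [hr, mul_inv_cancel_right] at this), ← mul_assoc]
    have hbJ : b⁻¹ * c = c * b⁻¹ := P.J_comm _ (inv_mem hbR.1) c (by
      have := mul_mem hrJ (inv_mem (P.toData.Z_le_J P.zz_mem))
      rwa [hr, mul_inv_cancel_right] at this)
    calc b⁻¹ * P.zz * (c * P.zz) = b⁻¹ * P.zz * c * P.zz := by group
      _ = c * b⁻¹ * P.zz * P.zz := by rw [hcomm, hbJ]
      _ = 1 := by rw [hbc, hz3]
  have hgJ : P.g ∈ normalizer (P.J : Set G) := P.M_le P.g_M
  have hgrR : P.g * r * P.g⁻¹ ∈ P.R := by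
    refine P.toFrame.inverted_mem_R ((mem_normalizer_iff.1 hgJ r).1 hrJ) ?_
    calc P.t * (P.g * r * P.g⁻¹) * P.t = (P.t * P.g) * r * (P.g⁻¹ * P.t) := by group
      _ = (P.g * P.t) * r * (P.t * P.g⁻¹) := by
        rw [P.g_t, (Commute.inv_left (P.g_t : Commute P.g P.t)).eq]
      _ = P.g * (P.t * r * P.t) * P.g⁻¹ := by group
      _ = _ := by rw [hrt, conj_inv]
  refine ⟨P.g * (q : G)⁻¹, mul_mem hgJ (inv_mem (P.M_le (P.toFrame.S_le_M (P.toData.Q_le_S q.2)))), ?_⟩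
  have e : P.g * (q : G)⁻¹ * (P.zz * P.y) * (P.g * (q : G)⁻¹)⁻¹ = P.g * r * P.g⁻¹ * P.zz := by
    have h1 : (q : G)⁻¹ * P.zz = P.zz * (q : G)⁻¹ := (P.toData.Z_comm_Q (inv_mem q.2) P.zz_mem).symm
    have hcy : r * P.y = P.zz * ((q : G)⁻¹ * P.y * q) := by
      rw [hr, show (q : G)⁻¹ * P.y * q = c * P.y by rw [hc]; group, ← mul_assoc,
        P.J_comm c (by
          have := mul_mem hrJ (inv_mem (P.toData.Z_le_J P.zz_mem))
          rwa [hr, mul_inv_cancel_right] at this) _ (P.toData.Z_le_J P.zz_mem)]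
    calc P.g * (q : G)⁻¹ * (P.zz * P.y) * (P.g * (q : G)⁻¹)⁻¹
        = P.g * (((q : G)⁻¹ * P.zz) * P.y * q) * P.g⁻¹ := by group
      _ = P.g * (P.zz * ((q : G)⁻¹ * P.y * q)) * P.g⁻¹ := by rw [h1]; group
      _ = (P.g * r * P.g⁻¹) * (P.g * P.y * P.g⁻¹) := by rw [← hcy]; group
      _ = _ := by rw [P.g_y]
  rw [e]
  refine ⟨mul_mem hgrR (P.toData.Z_le_R P.zz_mem), fun h => ?_⟩
  have h' : P.g * r * P.g⁻¹ ∈ P.Z := by simpa using mul_mem h (inv_mem P.zz_mem)
  -- an inverted element of `Z` is trivial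
  have hfix : P.t * (P.g * r * P.g⁻¹) * P.t = P.g * r * P.g⁻¹ := by
    rw [← P.toCtx.t_comm_Z h', mul_assoc, P.t_sq, mul_one]
  have hinv : P.t * (P.g * r * P.g⁻¹) * P.t = (P.g * r * P.g⁻¹)⁻¹ := by
    calc P.t * (P.g * r * P.g⁻¹) * P.t = (P.t * P.g) * r * (P.g⁻¹ * P.t) := by group
      _ = (P.g * P.t) * r * (P.t * P.g⁻¹) := by
        rw [P.g_t, (Commute.inv_left (P.g_t : Commute P.g P.t)).eq]
      _ = P.g * (P.t * r * P.t) * P.g⁻¹ := by group
      _ = _ := by rw [hrt, conj_inv]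
  have hr1 : r = 1 := by
    have h3 := P.J_cube _ ((mem_normalizer_iff.1 hgJ r).1 hrJ)
    have hu := hinv.symm.trans hfix
    rw [show P.g * r * P.g⁻¹ * (P.g * r * P.g⁻¹) = 1 by nth_rewrite 1 [← hu]; exact inv_mul_cancel _,
      one_mul] at h3
    exact conj_eq_one_iff.1 h3
  -- then `b` lies in `Z`, so `q ∈ R` and the square is trivial
  have hcZ : c = P.zz⁻¹ := eq_inv_of_mul_eq_one_left hr1
  have hbZ : b ∈ P.Z := by
    have : b = P.zz⁻¹ * P.zz⁻¹ := by
      rw [hcZ] at hbc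
      calc b = (P.zz⁻¹ * b⁻¹)⁻¹ * P.zz⁻¹ := by group
        _ = _ := by rw [hbc]
    rw [this]; exact mul_mem hzi hzi
  have hqR : (q : G) ∈ P.R := P.toFrame.R_eq.2 ⟨q.2, hbZ⟩
  apply inv_ne_one.2 P.zz_ne
  rw [← hqq, P.toFrame.bz_R_right q q hqR, OneMemClass.coe_one]

end Local

end CfsgLib.McLThree
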