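import Cfsg.Agent.McLThree.NormZ
import Cfsg.Agent.McLThree.RSide
import Cfsg.Agent.McLThree.Diag
import Cfsg.Agent.McLThree.CoreAutoPerm
import Mathlib.GroupTheory.SpecificGroups.Alternating.Simple

/-!
The action of the centralizer of `zz * y` in `N(J)` on the four-group `⟨t, g⟩` modulo `J`.
-/

set_option autoImplicit false
set_option maxHeartbeats 800000
set_option maxRecDepth 100000
set_option linter.style.haveILetI false

namespace CfsgLib.McLThree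

open Subgroup Equiv
open CfsgLib.ThreeLocalEight (c3 c5)
open CfsgLib.ThreeLocalSymEight (P35 eZ eZ')
open scoped commutatorElement

universe u

theorem cube_F4 : ∀ u ∈ Six.F4, u * u * u = 1 → u = 1 := by decide +kernel

theorem c3_cent_comm : ∀ p : Perm (Fin 3), p * c3 = c3 * p → ∀ q : Perm (Fin 3), q * c3 = c3 * q →
    p * q * p⁻¹ * q⁻¹ = 1 := by decide +kernel

/-- The centralizer of `c5` as a list. -/
def c5Cent : List (Perm (Fin 5)) :=
  [1, c5, c5 * c5, swap 3 4, c5 * swap 3 4, c5 * c5 * swap 3 4]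

theorem c5Cent_spec : ∀ w : Perm (Fin 5), w * c5 = c5 * w → w ∈ c5Cent := by decide +kernel

theorem c5Cent_comm : ∀ u : Perm (Fin 5), u * c5 = c5⁻¹ * u → ∀ w ∈ c5Cent,
    w * u * w⁻¹ * u⁻¹ ∈ [1, c5, c5 * c5] := by decide +kernel

variable {G : Type u} [Group G] [Finite G]

theorem Frame.e_normJ (F : Frame G) : F.e ∈ normalizer (F.J : Set G) := by
  have hyR : F.y ∉ F.R := fun h => F.y_Q (F.toData.R_le_Q h)
  have hle : F.R ⊔ zpowers F.y ≤ F.J := sup_le F.toData.R_le_J (zpowers_le.2 F.y_J)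
  have hlt : F.R < F.R ⊔ zpowers F.y :=
    lt_of_le_of_ne le_sup_left fun e => hyR (e ▸ mem_sup_right (mem_zpowers _))
  have h1 := Set.Finite.card_lt_card (Set.toFinite _) (SetLike.coe_ssubset_coe.2 hlt)
  change Nat.card F.R < Nat.card ↥(F.R ⊔ zpowers F.y) at h1
  rw [F.toData.card_R] at h1
  have h2 := card_dvd_of_le hle
  rw [F.J_card] at h2
  obtain ⟨n, hn, hn'⟩ := (Nat.dvd_prime_pow Nat.prime_three).1
    (show Nat.card ↥(F.R ⊔ zpowers F.y) ∣ 3 ^ 4 by norm_num; exact h2)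
  rw [hn'] at h1
  have hn4 : n = 4 := by
    by_contra h
    have : 3 ^ n ≤ 3 ^ 3 := Nat.pow_le_pow_right (by norm_num) (by omega)
    omega
  have he : F.R ⊔ zpowers F.y = F.J := eq_of_le_of_card_ge hle (by rw [hn', F.J_card, hn4]; norm_num)
  have hmap : F.J.map (MulAut.conj F.e).toMonoidHom ≤ F.J := by
    rw [← he, map_le_iff_le_comap]
    refine sup_le (fun r hr => ?_) (zpowers_le.2 ?_)
    · exact mem_sup_left (F.conj_R F.e_norm (Or.inr F.e_y_conj) hr)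
    · rw [mem_comap, MulEquiv.coe_toMonoidHom, MulAut.conj_apply, F.e_y_conj]
      exact mem_sup_right (inv_mem (mem_zpowers _))
  have heq := eq_of_le_of_card_ge hmap (card_map_of_injective (MulEquiv.injective _)).ge
  rw [mem_normalizer_iff]
  intro a
  constructor
  · intro ha; exact hmap ⟨a, ha, rfl⟩
  · intro ha
    rw [← heq] at ha
    obtain ⟨b, hb, e⟩ := ha
    have e' : b = a := by simpa using e
    exact e' ▸ hb

namespace Local

variable (P : Local G)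

/-- The image of an element of `M` as a permutation. -/
noncomputable def pf : P.M →* Perm (Fin 6) := (alternatingGroup (Fin 6)).subtype.comp P.f

theorem pf_eq_one (m : P.M) : P.pf m = 1 ↔ (m : G) ∈ P.J := by
  rw [← P.f_ker]
  exact ⟨fun h => Subtype.ext h, fun h => congrArg Subtype.val h⟩

theorem pf_sign (m : P.M) : Perm.sign (P.pf m) = 1 := Perm.mem_alternatingGroup.1 (P.f m).2

theorem pf_J {a : G} (ha : a ∈ P.J) : P.pf ⟨a, P.J_le_M ha⟩ = 1 := (P.pf_eq_one _).2 ha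

theorem pf_c : P.pf ⟨P.c, P.c_M⟩ = Six.pc := P.c_img

theorem pf_g : P.pf ⟨P.g, P.g_M⟩ = Six.pg := P.g_img

theorem pf_t : P.pf ⟨P.t, P.t_M⟩ = Six.pc * Six.pc := P.t_fimg

theorem pf_tg : P.pf ⟨P.t * P.g, mul_mem P.t_M P.g_M⟩ = Six.pc * Six.pc * Six.pg := by
  rw [← P.pf_t, ← P.pf_g, ← map_mul]; rfl

theorem zy_comm : P.zz * P.y = P.y * P.zz := P.toCtx.E_Z P.y_E P.zz_mem

theorem zy_ne : P.zz * P.y ≠ 1 := fun h =>
  P.zz_ne (P.toCtx.E_inf_Z (by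
    rw [eq_inv_of_mul_eq_one_left h]; exact inv_mem P.y_E) P.zz_mem)

theorem zy_inv_ne : (P.zz * P.y)⁻¹ ≠ P.zz * P.y := fun h => P.zy_ne (by
  have h3 := P.J_cube _ P.diag_mem_J
  rw [show P.zz * P.y * (P.zz * P.y) = 1 by nth_rewrite 1 [← h]; exact inv_mul_cancel _, one_mul] at h3
  exact h3)

theorem c_zy : P.c * (P.zz * P.y) * P.c⁻¹ = (P.zz * P.y)⁻¹ := by
  rw [← conj_mul, P.c_z, P.c_y, P.zy_comm, mul_inv_rev]

theorem t_normJ : P.t ∈ normalizer (P.J : Set G) := P.M_le P.t_M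

/-- The images of the elements of `M` centralizing `zz * y`. -/
def InH0 (h : Perm (Fin 6)) : Prop :=
  ∃ m : P.M, (m : G) * (P.zz * P.y) = P.zz * P.y * m ∧ P.pf m = h

theorem InH0.mul {P : Local G} {h k : Perm (Fin 6)} (hh : P.InH0 h) (hk : P.InH0 k) :
    P.InH0 (h * k) := by
  obtain ⟨m, hm, rfl⟩ := hh
  obtain ⟨m', hm', rfl⟩ := hk
  exact ⟨m * m', (Commute.mul_left (hm : Commute _ _) hm').eq, map_mul _ _ _⟩

theorem InH0.inv {P : Local G} {h : Perm (Fin 6)} (hh : P.InH0 h) : P.InH0 h⁻¹ := by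
  obtain ⟨m, hm, rfl⟩ := hh
  exact ⟨m⁻¹, (Commute.inv_left (hm : Commute _ _)).eq, map_inv _ _⟩

theorem InH0.sign {P : Local G} {h : Perm (Fin 6)} (hh : P.InH0 h) : Perm.sign h = 1 := by
  obtain ⟨m, -, rfl⟩ := hh
  exact P.pf_sign m

theorem inH0_F4 {u : Perm (Fin 6)} (hu : u ∈ Six.F4) : P.InH0 u := by
  have ht : P.InH0 (Six.pc * Six.pc) := ⟨⟨P.t, P.t_M⟩, P.diag_comm_t.symm, P.pf_t⟩
  have hg : P.InH0 Six.pg := ⟨⟨P.g, P.g_M⟩, P.g_diag, P.pf_g⟩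
  simp only [Six.F4, List.mem_cons, List.not_mem_nil, or_false] at hu
  rcases hu with rfl | rfl | rfl | rfl
  · exact ⟨1, by simp, map_one _⟩
  · exact ht
  · exact hg
  · exact ht.mul hg

theorem inH0_not_pc : ¬ P.InH0 Six.pc := by
  rintro ⟨m, hm, e⟩
  have hj : (P.c)⁻¹ * (m : G) ∈ P.J := (P.pf_eq_one (⟨P.c, P.c_M⟩⁻¹ * m)).1 (by
    rw [map_mul, map_inv, e, P.pf_c, inv_mul_cancel])
  have hc : Commute P.c (P.zz * P.y) := by
    have h1 : Commute ((P.c)⁻¹ * (m : G)) (P.zz * P.y) := P.J_comm _ hj _ P.diag_mem_J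
    have := (Commute.mul_left (hm : Commute _ _) h1.inv_left)
    simpa using this
  apply P.zy_inv_ne
  rw [← P.c_zy, hc.eq, mul_inv_cancel_right]

theorem inH0_conj_pc {h : Perm (Fin 6)} (hh : P.InH0 h) : P.InH0 (Six.pc * h * Six.pc⁻¹) := by
  obtain ⟨m, hm, rfl⟩ := hh
  refine ⟨⟨P.c, P.c_M⟩ * m * ⟨P.c, P.c_M⟩⁻¹, ?_, by rw [map_mul, map_mul, map_inv, P.pf_c]⟩
  have hx : (P.c * (P.zz * P.y) * P.c⁻¹)⁻¹ = P.zz * P.y := by rw [P.c_zy, inv_inv]
  show Commute (P.c * (m : G) * P.c⁻¹) (P.zz * P.y)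
  rw [← hx]
  exact ((SemiconjBy.conj_iff (a := (m : G)) (x := P.zz * P.y) (y := P.zz * P.y)).2 hm : Commute _ _).inv_right

theorem inH0_conj_pc' {h : Perm (Fin 6)} (hh : P.InH0 h) : P.InH0 (Six.pc⁻¹ * h * Six.pc) := by
  have h3 := P.inH0_conj_pc (P.inH0_conj_pc (P.inH0_conj_pc hh))
  have h4 : ∀ q : Perm (Fin 6), q * q * (q * q) = 1 →
      q * (q * (q * h * q⁻¹) * q⁻¹) * q⁻¹ = q⁻¹ * h * q := by
    intro q hq
    have hqi : q⁻¹ = q * q * q := inv_eq_of_mul_eq_one_right (by rw [← hq]; group)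
    calc q * (q * (q * h * q⁻¹) * q⁻¹) * q⁻¹ = (q * q * q) * h * (q * q * q)⁻¹ := by group
      _ = _ := by rw [← hqi, inv_inv]
  rwa [h4 _ Six.pc_facts.1] at h3

theorem inH0_five {h : Perm (Fin 6)} (hh : P.InH0 h) (h5 : h * h * h * h * h = 1) : h = 1 := by
  classical
  haveI : IsSimpleGroup (alternatingGroup (Fin 6)) := alternatingGroup.isSimpleGroup (by simp)
  obtain ⟨m, hm, rfl⟩ := hh
  by_contra h1
  have hm5 : (m : G) ^ 5 ∈ P.J := by
    refine (P.pf_eq_one (m ^ 5)).1 ?_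
    rw [map_pow, ← h5]; simp [pow_succ]
  have h15 : ((m : G) ^ 81) ^ 5 = 1 := by
    rw [← pow_mul, show 81 * 5 = 5 * (3 * 27) from rfl, pow_mul, pow_mul,
      show ((m : G) ^ 5) ^ 3 = 1 by rw [pow_three']; exact P.J_cube _ hm5, one_pow]
  have hcomm := commute_of_five (K := P.J) (n := 4) (by rw [P.J_card]; norm_num) le_rfl h15
    (fun k hk => (mem_normalizer_iff.1 (pow_mem (P.M_le m.2) 81) k).1 hk) P.diag_mem_J P.zy_ne
    (Commute.pow_left (hm : Commute _ _) 81).eq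
  have hf81 : P.f (m ^ 81) = P.f m := by
    have h5' : P.f m ^ 5 = 1 := by
      refine Subtype.ext ?_
      rw [SubmonoidClass.coe_pow, OneMemClass.coe_one, ← h5]
      simp [pow_succ, pf]
    rw [map_pow, show 81 = 5 * 16 + 1 from rfl, pow_succ, pow_mul, h5', one_pow, one_mul]
  set N := ((centralizer (P.J : Set G)).subgroupOf P.M).map P.f with hN
  haveI hnorm : ((centralizer (P.J : Set G)).subgroupOf P.M).Normal := ⟨fun n hn g => by
    rw [mem_subgroupOf, mem_centralizer_iff] at hn ⊢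
    intro j hj
    have hj' : (g : G)⁻¹ * j * g ∈ P.J := (mem_normalizer_iff''.1 (P.M_le g.2) j).1 hj
    have := hn _ hj'
    calc j * ((g * n * g⁻¹ : P.M) : G) = (g : G) * ((g : G)⁻¹ * j * g * n) * (g : G)⁻¹ := by
          push_cast; group
      _ = (g : G) * ((n : G) * ((g : G)⁻¹ * j * g)) * (g : G)⁻¹ := by rw [this]
      _ = _ := by push_cast; group⟩
  haveI : N.Normal := Subgroup.Normal.map hnorm _ P.f_surj
  rcases Subgroup.Normal.eq_bot_or_eq_top (inferInstance : N.Normal) with hb | ht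
  · apply h1
    have : P.f (m ^ 81) ∈ N := ⟨_, mem_subgroupOf.2 (mem_centralizer_iff.2 fun j hj => by
      rw [SubmonoidClass.coe_pow]; exact (hcomm j hj).symm), rfl⟩
    rw [hb, mem_bot, hf81] at this
    exact congrArg Subtype.val this
  · obtain ⟨w, hw, hwt⟩ : P.f ⟨P.t, P.t_M⟩ ∈ N := ht ▸ mem_top _
    have hj : (w : G)⁻¹ * P.t ∈ P.J := (P.f_ker (w⁻¹ * ⟨P.t, P.t_M⟩)).1 (by
      rw [map_mul, map_inv, hwt, inv_mul_cancel])
    have hle : P.J ≤ P.toCtx.D := fun j hj' => P.toCtx.mem_D.2 ⟨hj', by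
      rw [show P.t = (w : G) * ((w : G)⁻¹ * P.t) by group]
      exact (Commute.mul_right (mem_centralizer_iff.1 (mem_subgroupOf.1 hw) j hj' : Commute j (w : G))
        (P.J_comm j hj' _ hj)).eq⟩
    have := card_le_of_le hle
    rw [P.J_card, P.toCtx.card_D] at this
    omega

theorem inH0_cent {x v : Perm (Fin 6)} (hx : P.InH0 x) (hv : v ∈ Six.F4n) (h : x * v = v * x) :
    x ∈ Six.F4 := by
  have hpg : ∀ {x : Perm (Fin 6)}, P.InH0 x → x * Six.pg = Six.pg * x → x ∈ Six.F4 := by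
    intro x hx h
    rcases Six.cent_pg_list x h hx.sign with h' | ⟨v, hv, rfl⟩
    · exact h'
    · exfalso
      have hk : P.InH0 Six.pk := by
        have := hx.mul (P.inH0_F4 hv)
        rwa [mul_assoc, show v * v = 1 by nth_rewrite 1 [← Six.F4_inv v hv]; exact inv_mul_cancel v,
          mul_one] at this
      have := (hk.mul (P.inH0_conj_pc hk)).mul hk.inv
      rcases Six.pk_conj with e | e <;> rw [e] at this
      · exact P.inH0_not_pc this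
      · exact P.inH0_not_pc (by simpa using this.inv)
  simp only [Six.F4n, List.mem_cons, List.not_mem_nil, or_false] at hv
  rcases hv with rfl | rfl | rfl
  · rcases Six.cent_sq_list x h hx.sign with h' | ⟨v, hv, rfl⟩
    · exact h'
    · exfalso
      have := hx.mul (P.inH0_F4 hv)
      rw [mul_assoc, show v * v = 1 by nth_rewrite 1 [← Six.F4_inv v hv]; exact inv_mul_cancel v,
        mul_one] at this
      exact P.inH0_not_pc this
  · exact hpg hx h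
  · have h' : Six.pc⁻¹ * x * Six.pc ∈ Six.F4 := by
      refine hpg (P.inH0_conj_pc' hx) ?_
      rw [← Six.pc_pg_both] at h
      calc Six.pc⁻¹ * x * Six.pc * Six.pg
          = Six.pc⁻¹ * (x * (Six.pc * Six.pg * Six.pc⁻¹)) * Six.pc := by group
        _ = Six.pc⁻¹ * (Six.pc * Six.pg * Six.pc⁻¹ * x) * Six.pc := by rw [h]
        _ = _ := by group
    have := Six.F4_conj_pc _ h'
    rwa [show Six.pc * (Six.pc⁻¹ * x * Six.pc) * Six.pc⁻¹ = x by group] at this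

theorem inH0_invol {h : Perm (Fin 6)} (hh : P.InH0 h) (h2 : h * h = 1) : h ∈ Six.F4 := by
  by_contra hn
  rcases Six.invol_cover h h2 hh.sign hn with
    ⟨v, hv, e⟩ | ⟨u, hu, h5, hne⟩ | ⟨u, hu, v, hv, hout, e⟩
  · exact hn (P.inH0_cent hh hv e)
  · exact hne (P.inH0_five (hh.mul (P.inH0_F4 (Six.F4n_facts u hu).1)) h5)
  · exact hout (P.inH0_cent ((hh.mul (P.inH0_F4 (Six.F4n_facts u hu).1)).mul hh) hv e)

theorem lift_F4n {v : Perm (Fin 6)} (hv : v ∈ Six.F4n) :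
    ∃ u ∈ [P.t, P.g, P.t * P.g], ∃ hu : u ∈ P.M, P.pf ⟨u, hu⟩ = v := by
  simp only [Six.F4n, List.mem_cons, List.not_mem_nil, or_false] at hv
  rcases hv with rfl | rfl | rfl
  · exact ⟨P.t, by simp, P.t_M, P.pf_t⟩
  · exact ⟨P.g, by simp, P.g_M, P.pf_g⟩
  · exact ⟨P.t * P.g, by simp, mul_mem P.t_M P.g_M, P.pf_tg⟩

theorem pf_list {u : G} (hu : u ∈ [P.t, P.g, P.t * P.g]) :
    ∃ hm : u ∈ P.M, P.pf ⟨u, hm⟩ ∈ Six.F4n ∧ u * u = 1 ∧ u * (P.zz * P.y) = P.zz * P.y * u := by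
  simp only [List.mem_cons, List.not_mem_nil, or_false] at hu
  rcases hu with rfl | rfl | rfl
  · exact ⟨P.t_M, by rw [P.pf_t]; simp [Six.F4n], P.t_sq, P.diag_comm_t.symm⟩
  · exact ⟨P.g_M, by rw [P.pf_g]; simp [Six.F4n], P.g_sq, P.g_diag⟩
  · refine ⟨mul_mem P.t_M P.g_M, by rw [P.pf_tg]; simp [Six.F4n], ?_, ?_⟩
    · calc P.t * P.g * (P.t * P.g) = P.t * (P.g * P.t) * P.g := by group
        _ = P.t * (P.t * P.g) * P.g := by rw [P.g_t]
        _ = (P.t * P.t) * (P.g * P.g) := by group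
        _ = 1 := by rw [P.t_sq, P.g_sq, one_mul]
    · exact (Commute.mul_left (P.diag_comm_t.symm : Commute _ _) P.g_diag).eq

/-- The centralizer of `zz * y` in `N(J)` permutes `t, g, t * g` modulo `J`. -/
theorem conj_invol {n : G} (hn : n ∈ normalizer (P.J : Set G))
    (hc : n * (P.zz * P.y) = P.zz * P.y * n) {u : G} (hu : u ∈ [P.t, P.g, P.t * P.g]) :
    ∃ u' ∈ [P.t, P.g, P.t * P.g], n * u * n⁻¹ * u' ∈ P.J := by
  obtain ⟨hum, huF, hu2, hux⟩ := P.pf_list hu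
  set m : P.M := ⟨n * u * n⁻¹, P.M_normal n hn u hum⟩
  have hm : P.InH0 (P.pf m) := ⟨m, (Commute.mul_left (Commute.mul_left (hc : Commute _ _) hux)
    (Commute.inv_left (hc : Commute _ _))).eq, rfl⟩
  have hm2 : P.pf m * P.pf m = 1 := by
    rw [← map_mul, P.pf_eq_one]
    show n * u * n⁻¹ * (n * u * n⁻¹) ∈ P.J
    rw [conj_mul, hu2, mul_one, mul_inv_cancel]
    exact one_mem _
  rcases Six.F4_cases _ (P.inH0_invol hm hm2) with h | h
  · obtain ⟨u', hu', hm', e⟩ := P.lift_F4n h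
    refine ⟨u', hu', ?_⟩
    exact (P.pf_eq_one (m * ⟨u', hm'⟩)).1 (by rw [map_mul, e, hm2])
  · exfalso
    have hj : n * u * n⁻¹ ∈ P.J := (P.pf_eq_one m).1 h
    exact (Six.F4n_facts _ huF).2.1 ((P.pf_eq_one _).2 ((mem_normalizer_iff.1 hn u).2 hj))

/-- Every element of `R` commutes with an element of `Q` outside `R`. -/
theorem cent_R_out {r : G} (hr : r ∈ P.R) : ∃ q ∈ P.Q, q ∉ P.R ∧ q * r = r * q := by
  have hrQ := P.toData.R_le_Q hr
  let f : P.Q →* G :=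
    { toFun := fun a => ⁅(a : G), r⁆
      map_one' := by simp [commutatorElement_def]
      map_mul' := fun a b => by
        have h1 := P.Q_comm a a.2 r hrQ
        have h2 := P.Q_comm b b.2 r hrQ
        have e : ⁅((a * b : P.Q) : G), r⁆ = a * ⁅(b : G), r⁆ * (a : G)⁻¹ * ⁅(a : G), r⁆ := by
          simp only [Subgroup.coe_mul, commutatorElement_def]; group
        show ⁅((a * b : P.Q) : G), r⁆ = ⁅(a : G), r⁆ * ⁅(b : G), r⁆
        rw [e, ← P.toData.Z_comm_Q a.2 h2, mul_inv_cancel_right,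
          P.toData.Z_comm_Q (P.Z_le_Q h1) h2] }
  by_contra hcon
  push Not at hcon
  have hker : f.ker.map P.Q.subtype ≤ P.R := by
    rintro _ ⟨a, ha, rfl⟩
    by_contra haR
    exact hcon a a.2 haR (commutatorElement_eq_one_iff_mul_comm.1 ha)
  have hr' : f.range ≤ P.Z := by
    rintro _ ⟨a, rfl⟩; exact P.Q_comm a a.2 r hrQ
  have h1 := card_le_of_le hker
  have h2 := card_le_of_le hr'
  rw [Subgroup.card_map_of_injective P.Q.subtype_injective, P.toData.card_R] at h1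
  rw [P.Z_card] at h2
  have h3 := Subgroup.card_eq_card_quotient_mul_card_subgroup f.ker
  rw [Nat.card_congr (QuotientGroup.quotientKerEquivRange f).toEquiv, P.Q_card] at h3
  have := Nat.mul_le_mul h2 h1
  omega

/-- An element of order three permuting `t, g, t * g` cyclically modulo `J`. -/
theorem exists_sigma : ∃ n ∈ normalizer (P.J : Set G), ∃ q : G, q ∈ P.Q ∧ q ∉ P.R ∧
    (n * (P.zz * P.y) * n⁻¹ ∈ P.R ∧ n * (P.zz * P.y) * n⁻¹ ∉ P.Z) ∧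
    q * (n * (P.zz * P.y) * n⁻¹) = n * (P.zz * P.y) * n⁻¹ * q ∧
    n⁻¹ * q * n ∈ P.M ∧ n⁻¹ * q * n * (P.zz * P.y) = P.zz * P.y * (n⁻¹ * q * n) ∧
    n⁻¹ * q * n * (n⁻¹ * q * n) * (n⁻¹ * q * n) = 1 ∧
    n⁻¹ * q * n * P.t * (n⁻¹ * q * n)⁻¹ * P.g ∈ P.J ∧
    n⁻¹ * q * n * P.g * (n⁻¹ * q * n)⁻¹ * (P.t * P.g) ∈ P.J := by
  obtain ⟨n, hn, hrR, hrZ⟩ := P.exists_diag_R
  obtain ⟨q, hq, hqR, hqr⟩ := P.cent_R_out hrR
  have hqJ : q ∈ normalizer (P.J : Set G) := P.M_le (P.toFrame.S_le_M (P.toData.Q_le_S hq))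
  have main : ∀ q, q ∈ P.Q → q ∉ P.R →
      q * (n * (P.zz * P.y) * n⁻¹) = n * (P.zz * P.y) * n⁻¹ * q →
      ∃ hσ : n⁻¹ * q * n ∈ P.M, n⁻¹ * q * n * (P.zz * P.y) = P.zz * P.y * (n⁻¹ * q * n) ∧
        n⁻¹ * q * n * (n⁻¹ * q * n) * (n⁻¹ * q * n) = 1 ∧ P.pf ⟨_, hσ⟩ ≠ 1 := by
    intro q hq hqR hqr
    have hqM : q ∈ P.M := P.toFrame.S_le_M (P.toData.Q_le_S hq)
    refine ⟨by simpa using P.M_normal n⁻¹ (inv_mem hn) q hqM, ?_, ?_, ?_⟩
    · calc n⁻¹ * q * n * (P.zz * P.y) = n⁻¹ * (q * (n * (P.zz * P.y) * n⁻¹)) * n := by group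
        _ = n⁻¹ * (n * (P.zz * P.y) * n⁻¹ * q) * n := by rw [hqr]
        _ = _ := by group
    · calc n⁻¹ * q * n * (n⁻¹ * q * n) * (n⁻¹ * q * n) = n⁻¹ * (q * q * q) * n := by group
        _ = 1 := by rw [P.Q_cube q hq]; group
    · intro h
      have h' := (P.pf_eq_one _).1 h
      apply hqR
      refine ⟨?_, hq⟩
      have := (mem_normalizer_iff.1 hn _).1 h'
      rwa [show n * (n⁻¹ * q * n) * n⁻¹ = q by group] at this
  obtain ⟨hσ, hσc, hσ3, hσ1⟩ := main q hq hqR hqr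
  set σ := n⁻¹ * q * n with hσdef
  have hσJ : σ ∈ normalizer (P.J : Set G) := P.M_le hσ
  have key : ∀ u ∈ [P.t, P.g, P.t * P.g], ∀ hu : u ∈ P.M,
      P.pf ⟨σ, hσ⟩ * P.pf ⟨u, hu⟩ * (P.pf ⟨σ, hσ⟩)⁻¹ ∈ Six.F4n := by
    intro u hu hum
    obtain ⟨u', hu', hJ'⟩ := P.conj_invol hσJ hσc hu
    obtain ⟨hm', huF', hu'2, -⟩ := P.pf_list hu'
    have e := (P.pf_eq_one (⟨σ, hσ⟩ * ⟨u, hum⟩ * ⟨σ, hσ⟩⁻¹ * ⟨u', hm'⟩)).2 hJ'
    rw [map_mul, map_mul, map_mul, map_inv, mul_eq_one_iff_eq_inv] at e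
    rw [e, Six.F4_inv _ (Six.F4n_facts _ huF').1]
    exact huF'
  have k1 := key P.t (by simp) P.t_M
  have k2 := key P.g (by simp) P.g_M
  rw [P.pf_t] at k1
  rw [P.pf_g] at k2
  have h3 : P.pf ⟨σ, hσ⟩ * (P.pf ⟨σ, hσ⟩ * P.pf ⟨σ, hσ⟩) = 1 := by
    rw [← map_mul, ← map_mul, ← map_one P.pf]
    exact congrArg _ (Subtype.ext (by rw [Subgroup.coe_mul, Subgroup.coe_mul, ← mul_assoc, hσ3]; rfl))
  have fin : ∀ q, q ∈ P.Q → q ∉ P.R →
      q * (n * (P.zz * P.y) * n⁻¹) = n * (P.zz * P.y) * n⁻¹ * q → ∀ hσ : n⁻¹ * q * n ∈ P.M,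
      P.pf ⟨_, hσ⟩ * (Six.pc * Six.pc) * (P.pf ⟨_, hσ⟩)⁻¹ = Six.pg →
      P.pf ⟨_, hσ⟩ * Six.pg * (P.pf ⟨_, hσ⟩)⁻¹ = Six.pc * Six.pc * Six.pg →
      ∃ n ∈ normalizer (P.J : Set G), ∃ q : G, q ∈ P.Q ∧ q ∉ P.R ∧
        (n * (P.zz * P.y) * n⁻¹ ∈ P.R ∧ n * (P.zz * P.y) * n⁻¹ ∉ P.Z) ∧
        q * (n * (P.zz * P.y) * n⁻¹) = n * (P.zz * P.y) * n⁻¹ * q ∧
        n⁻¹ * q * n ∈ P.M ∧ n⁻¹ * q * n * (P.zz * P.y) = P.zz * P.y * (n⁻¹ * q * n) ∧
        n⁻¹ * q * n * (n⁻¹ * q * n) * (n⁻¹ * q * n) = 1 ∧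
        n⁻¹ * q * n * P.t * (n⁻¹ * q * n)⁻¹ * P.g ∈ P.J ∧
        n⁻¹ * q * n * P.g * (n⁻¹ * q * n)⁻¹ * (P.t * P.g) ∈ P.J := by
    intro q hq hqR hqr hσ e1 e2
    obtain ⟨-, hc, h3, -⟩ := main q hq hqR hqr
    refine ⟨n, hn, q, hq, hqR, ⟨hrR, hrZ⟩, hqr, hσ, hc, h3, ?_, ?_⟩
    · refine (P.pf_eq_one (⟨_, hσ⟩ * ⟨P.t, P.t_M⟩ * ⟨_, hσ⟩⁻¹ * ⟨P.g, P.g_M⟩)).1 ?_
      rw [map_mul, map_mul, map_mul, map_inv, P.pf_t, P.pf_g, e1, Six.pg_facts.1]
    · refine (P.pf_eq_one (⟨_, hσ⟩ * ⟨P.g, P.g_M⟩ * ⟨_, hσ⟩⁻¹ * ⟨_, mul_mem P.t_M P.g_M⟩)).1 ?_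
      rw [map_mul, map_mul, map_mul, map_inv, P.pf_g, P.pf_tg, e2, Six.pcpg_facts.2.1]
  rcases Six.orient _ h3 hσ1 (P.pf_sign _) k1 k2 with ⟨e1, e2⟩ | ⟨e1, e2⟩
  · exact fin q hq hqR hqr hσ e1 e2
  · have hσi : n⁻¹ * q⁻¹ * n ∈ P.M := by
      rw [show n⁻¹ * q⁻¹ * n = σ⁻¹ by rw [hσdef]; group]; exact inv_mem hσ
    have ei : P.pf ⟨_, hσi⟩ = (P.pf ⟨σ, hσ⟩)⁻¹ := by
      rw [← map_inv]
      exact congrArg _ (Subtype.ext (show n⁻¹ * q⁻¹ * n = σ⁻¹ by rw [hσdef]; group))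
    exact fin q⁻¹ (inv_mem hq) (fun h => hqR (by simpa using inv_mem h))
      (Commute.inv_left (hqr : Commute _ _)).eq hσi
      (by rw [ei, inv_inv]; exact e1) (by rw [ei, inv_inv]; exact e2)

/-- An element fixing `zz` and `y` and commuting with `t` centralizes `c` modulo `J`. -/
theorem rot_t {x : G} (hz : x * P.zz * x⁻¹ = P.zz) (hy : x * P.y * x⁻¹ = P.y)
    (hJ : x ∈ normalizer (P.J : Set G)) (ht : x * P.t = P.t * x) :
    x * P.c * x⁻¹ * P.c⁻¹ ∈ P.J := by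
  classical
  obtain ⟨Φ, hker, hΦz, hΦy, -, -⟩ := P.exists_phi
  have hxZ : x ∈ normalizer (P.Z : Set G) := centralizer_le_normalizer _ (P.cent_Z_of hz)
  set X : P.NH := ⟨x, P.mem_NH.2 ⟨hxZ, ht⟩⟩
  set E' : P.NH := ⟨P.e, P.E_le_NH P.e_E⟩
  set Z' : P.NH := ⟨P.zz, P.zz_NH⟩
  set Y' : P.NH := ⟨P.y, P.y_NH⟩
  -- the commutator of `x` and `e`
  have hXz : X * Z' = Z' * X := Subtype.ext (mul_inv_eq_iff_eq_mul.1 hz)
  have hXy : X * Y' = Y' * X := Subtype.ext (mul_inv_eq_iff_eq_mul.1 hy)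
  have hEz : E' * Z' = Z' * E' := Subtype.ext (P.toData.comm_Z P.toFrame.e_cent P.zz_mem).symm
  have hEy : E' * Y' = Y'⁻¹ * E' := Subtype.ext P.e_y
  have a1 := congrArg (fun q => (Φ q).1) hXz
  have a2 := congrArg (fun q => (Φ q).2) hXy
  have b1 := congrArg (fun q => (Φ q).1) hEz
  have b2 := congrArg (fun q => (Φ q).2) hEy
  simp only [map_mul, map_inv, hΦz, hΦy, eZ, eZ', Prod.fst_mul, Prod.snd_mul,
    Prod.snd_inv] at a1 a2 b1 b2
  have hfst := c3_cent_comm _ a1 _ b1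
  have hsnd := c5Cent_comm _ b2 _ (c5Cent_spec _ a2)
  obtain ⟨i, hi⟩ : ∃ i : ℕ, (Φ X).2 * (Φ E').2 * (Φ X).2⁻¹ * (Φ E').2⁻¹ = c5 ^ i := by
    simp only [List.mem_cons, List.not_mem_nil, or_false] at hsnd
    rcases hsnd with h | h | h
    · exact ⟨0, h⟩
    · exact ⟨1, by rw [h, pow_one]⟩
    · exact ⟨2, by rw [h, sq]⟩
  have hs : x * P.e * x⁻¹ * P.e⁻¹ * (P.y ^ i)⁻¹ ∈ zpowers P.t := by
    refine (hker (X * E' * X⁻¹ * E'⁻¹ * (Y' ^ i)⁻¹)).1 ?_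
    refine Prod.ext ?_ ?_
    · simp only [map_mul, map_inv, map_pow, hΦy, eZ', Prod.fst_mul, Prod.fst_inv, Prod.pow_fst,
        one_pow, inv_one, mul_one, Prod.fst_one]
      exact hfst
    · simp only [map_mul, map_inv, map_pow, hΦy, eZ', Prod.snd_mul, Prod.snd_inv, Prod.pow_snd,
        Prod.snd_one]
      rw [hi, mul_inv_cancel]
  have hs' : x * P.e * x⁻¹ * P.e⁻¹ * (P.y ^ i)⁻¹ = 1 ∨
      x * P.e * x⁻¹ * P.e⁻¹ * (P.y ^ i)⁻¹ = P.t := by
    obtain ⟨k, hk⟩ := mem_zpowers_iff.1 hs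
    rw [← hk]
    rcases Int.even_or_odd' k with ⟨j, rfl | rfl⟩
    · left; rw [zpow_mul, zpow_two, P.t_sq, one_zpow]
    · right; rw [zpow_add, zpow_mul, zpow_two, P.t_sq, one_zpow, one_mul, zpow_one]
  set s := x * P.e * x⁻¹ * P.e⁻¹ with hsdef
  have hyi : P.y ^ i ∈ P.J := pow_mem P.toFrame.y_J i
  obtain ⟨hsM, hsF⟩ : ∃ h : s ∈ P.M, P.pf ⟨s, h⟩ = 1 ∨ P.pf ⟨s, h⟩ = Six.pc * Six.pc := by
    rcases hs' with h | h <;> rw [mul_inv_eq_iff_eq_mul] at h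
    · rw [one_mul] at h
      exact ⟨h ▸ P.J_le_M hyi, Or.inl ((P.pf_eq_one _).2 (by show s ∈ P.J; rw [h]; exact hyi))⟩
    · refine ⟨h ▸ mul_mem P.t_M (P.J_le_M hyi), Or.inr ?_⟩
      rw [← P.pf_t, ← mul_one (P.pf ⟨P.t, P.t_M⟩), ← P.pf_J hyi, ← map_mul]
      exact congrArg _ (Subtype.ext h)
  -- conjugation by `x` and by `e`
  have heJ := P.toFrame.e_normJ
  let cx : P.M →* P.M :=
    { toFun := fun m => ⟨x * m * x⁻¹, P.M_normal x hJ m m.2⟩
      map_one' := Subtype.ext (by simp)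
      map_mul' := fun a b => Subtype.ext (by simp [mul_assoc]) }
  let ce : P.M →* P.M :=
    { toFun := fun m => ⟨P.e * m * P.e⁻¹, P.M_normal P.e heJ m m.2⟩
      map_one' := Subtype.ext (by simp)
      map_mul' := fun a b => Subtype.ext (by simp [mul_assoc]) }
  set T : P.M := ⟨P.t, P.t_M⟩
  set Gm : P.M := ⟨P.g, P.g_M⟩
  set Cm : P.M := ⟨P.c, P.c_M⟩
  set ψ : P.M →* Perm (Fin 6) := P.pf.comp cx
  have hψT : ψ T = Six.pc * Six.pc := by
    rw [← P.pf_t]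
    exact congrArg P.pf (Subtype.ext (show x * P.t * x⁻¹ = P.t by rw [ht, mul_inv_cancel_right]))
  have hCC : Cm * Cm = T := Subtype.ext P.c_sq
  have hψC2 : ψ Cm * ψ Cm = Six.pc * Six.pc := by rw [← map_mul, hCC, hψT]
  -- the image of `g`
  have hxc : x * (P.zz * P.y) = P.zz * P.y * x :=
    mul_inv_eq_iff_eq_mul.1 (by rw [← conj_mul, hz, hy])
  obtain ⟨u', hu', hJ'⟩ := P.conj_invol hJ hxc (u := P.g) (by simp)
  obtain ⟨hm', huF', -, -⟩ := P.pf_list hu'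
  have hψG : ψ Gm = P.pf ⟨u', hm'⟩ := by
    have e : ψ Gm * P.pf ⟨u', hm'⟩ = 1 := by
      show P.pf _ * _ = 1
      rw [← map_mul]
      exact (P.pf_eq_one _).2 hJ'
    rw [mul_eq_one_iff_eq_inv.1 e, Six.F4_inv _ (Six.F4n_facts _ huF').1]
  obtain ⟨zp, hzp, hzz⟩ : ∃ zp : P.M, (zp = 1 ∨ zp = T) ∧ ψ Gm = P.pf zp * Six.pg := by
    rw [hψG]
    simp only [Six.F4n, List.mem_cons, List.not_mem_nil, or_false] at huF'
    rcases huF' with h | h | h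
    · exfalso
      apply Six.pcpg_facts.2.2.1
      rw [← P.pf_g, ← P.pf_t, ← inv_mul_eq_one, ← map_inv, ← map_mul, P.pf_eq_one]
      have h1 : ψ (Gm⁻¹ * T) = 1 := by rw [map_mul, map_inv, hψG, hψT, h, inv_mul_cancel]
      exact (mem_normalizer_iff.1 hJ _).2 ((P.pf_eq_one _).1 h1)
    · exact ⟨1, Or.inl rfl, by rw [h, map_one, one_mul]⟩
    · exact ⟨T, Or.inr rfl, by rw [h, P.pf_t]⟩
  -- the element `e g e⁻¹`
  set K := ce Gm with hK
  have hceT : ce T = T :=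
    Subtype.ext (show P.e * P.t * P.e⁻¹ = P.t by rw [P.toCtx.E_t P.e_E, mul_inv_cancel_right])
  have hKT : P.pf K * (Six.pc * Six.pc) = Six.pc * Six.pc * P.pf K := by
    have h : K * T = T * K := by
      nth_rewrite 1 [← hceT]; nth_rewrite 2 [← hceT]
      rw [hK, ← map_mul, ← map_mul]
      exact congrArg ce (Subtype.ext P.g_t)
    rw [← P.pf_t, ← map_mul, ← map_mul, h]
  have hKz : (K : G) * P.zz * (K : G)⁻¹ = P.y⁻¹ := by
    have hez : P.e⁻¹ * P.zz * P.e = P.zz := by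
      rw [mul_assoc, P.toData.comm_Z P.toFrame.e_cent P.zz_mem, inv_mul_cancel_left]
    show P.e * P.g * P.e⁻¹ * P.zz * (P.e * P.g * P.e⁻¹)⁻¹ = _
    calc P.e * P.g * P.e⁻¹ * P.zz * (P.e * P.g * P.e⁻¹)⁻¹
        = P.e * (P.g * (P.e⁻¹ * P.zz * P.e) * P.g⁻¹) * P.e⁻¹ := by group
      _ = _ := by rw [hez, P.g_z, P.toFrame.e_y_conj]
  have hczn : ∀ k : ℕ, ∀ w : G, P.c * w * P.c⁻¹ = w⁻¹ →
      P.c ^ k * w * (P.c ^ k)⁻¹ = if Even k then w else w⁻¹ := by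
    intro k w hw
    induction k with
    | zero => simp
    | succ k ih =>
      rw [pow_succ', show P.c * P.c ^ k * w * (P.c * P.c ^ k)⁻¹ = P.c * (P.c ^ k * w * (P.c ^ k)⁻¹) * P.c⁻¹
        by group, ih]
      by_cases hk : Even k
      · rw [if_pos hk, if_neg (by simp [Nat.even_add_one, hk]), hw]
      · rw [if_neg hk, if_pos (by simp [Nat.even_add_one, hk]), ← conj_inv, hw, inv_inv]
  have hyZ : P.y ∉ P.Z := fun h => P.y_Q (P.Z_le_Q h)
  have hJfix : ∀ j ∈ P.J, ∀ w ∈ P.J, j * w * j⁻¹ = w := fun j hj w hw => by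
    rw [P.J_comm j hj w hw, mul_inv_cancel_right]
  obtain ⟨d, hd, hKd⟩ : ∃ d : ℕ, (d = 1 ∨ d = 3) ∧ P.pf K = Six.pc ^ d * Six.pg := by
    rcases Six.cent_sq _ hKT (P.pf_sign K) with h | h
    · exfalso
      obtain ⟨k, hk⟩ : ∃ k : ℕ, P.pf K = Six.pc ^ k := by
        rcases h with h | h | h | h
        · exact ⟨0, h⟩
        · exact ⟨1, by rw [h, pow_one]⟩
        · exact ⟨2, by rw [h, sq]⟩
        · exact ⟨3, by rw [h, pow_three']⟩
      have hj : (P.c ^ k)⁻¹ * (K : G) ∈ P.J := (P.pf_eq_one ((Cm ^ k)⁻¹ * K)).1 (by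
        rw [map_mul, map_inv, map_pow, P.pf_c, hk, inv_mul_cancel])
      have e : (K : G) * P.zz * (K : G)⁻¹ = P.c ^ k * P.zz * (P.c ^ k)⁻¹ := by
        calc (K : G) * P.zz * (K : G)⁻¹
            = P.c ^ k * (((P.c ^ k)⁻¹ * K) * P.zz * ((P.c ^ k)⁻¹ * K)⁻¹) * (P.c ^ k)⁻¹ := by group
          _ = _ := by rw [hJfix _ hj _ (P.toData.Z_le_J P.zz_mem)]
      rw [hKz, hczn k _ P.c_z] at e
      apply hyZ
      split_ifs at e
      · rw [← inv_inv P.y, e]; exact inv_mem P.zz_mem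
      · rw [← inv_inv P.y, e, inv_inv]; exact P.zz_mem
    · obtain ⟨k, hk4, hk⟩ : ∃ k : ℕ, k < 4 ∧ P.pf K * Six.pg = Six.pc ^ k := by
        rcases h with h | h | h | h
        · exact ⟨0, by norm_num, h⟩
        · exact ⟨1, by norm_num, by rw [h, pow_one]⟩
        · exact ⟨2, by norm_num, by rw [h, sq]⟩
        · exact ⟨3, by norm_num, by rw [h, pow_three']⟩
      have hk' : P.pf K = Six.pc ^ k * Six.pg := by rw [← hk, mul_assoc, Six.pg_facts.1, mul_one]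
      have hodd : ¬ Even k := by
        intro hev
        have hj : (P.c ^ k * P.g)⁻¹ * (K : G) ∈ P.J := (P.pf_eq_one ((Cm ^ k * Gm)⁻¹ * K)).1 (by
          rw [map_mul, map_inv, map_mul, map_pow, P.pf_c, P.pf_g, hk', inv_mul_cancel])
        have e : (K : G) * P.zz * (K : G)⁻¹ = P.c ^ k * P.y * (P.c ^ k)⁻¹ := by
          calc (K : G) * P.zz * (K : G)⁻¹ = P.c ^ k * (P.g * (((P.c ^ k * P.g)⁻¹ * K) * P.zz *
                ((P.c ^ k * P.g)⁻¹ * K)⁻¹) * P.g⁻¹) * (P.c ^ k)⁻¹ := by group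
            _ = _ := by rw [hJfix _ hj _ (P.toData.Z_le_J P.zz_mem), P.g_z]
        rw [hKz, hczn k _ P.c_y, if_pos hev] at e
        apply P.y_Q
        have h3 := P.y_cube
        rw [show P.y * P.y = 1 by nth_rewrite 1 [← e]; exact inv_mul_cancel _, one_mul] at h3
        rw [h3]; exact one_mem _
      refine ⟨k, ?_, hk'⟩
      interval_cases k
      · exact absurd Even.zero hodd
      · exact Or.inl rfl
      · exact absurd even_two hodd
      · exact Or.inr rfl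
  -- compare
  have hK1 : cx K = ⟨s, hsM⟩ * ce (cx Gm) * ⟨s, hsM⟩⁻¹ := Subtype.ext (by
    show x * (P.e * P.g * P.e⁻¹) * x⁻¹ = s * (P.e * (x * P.g * x⁻¹) * P.e⁻¹) * s⁻¹
    rw [hsdef]; group)
  have hzcomm : ∀ w : P.M, P.pf w * (Six.pc * Six.pc) = Six.pc * Six.pc * P.pf w →
      P.pf zp * P.pf w = P.pf w * P.pf zp := fun w hw => by
    rcases hzp with rfl | rfl
    · rw [map_one, one_mul, mul_one]
    · rw [P.pf_t]; exact hw.symm
  have hce_zp : ce zp = zp := by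
    rcases hzp with rfl | rfl
    · exact map_one ce
    · exact hceT
  have hψK : ψ K = P.pf zp * P.pf K := by
    have hJm : (zp * Gm)⁻¹ * cx Gm ∈ P.J.subgroupOf P.M := mem_subgroupOf.2 ((P.pf_eq_one _).1 (by
      rw [map_mul, map_inv, map_mul, P.pf_g]
      show _ * ψ Gm = 1
      rw [hzz, inv_mul_cancel]))
    have e1 : P.pf (ce (cx Gm)) = P.pf zp * P.pf K := by
      have hj : P.pf (ce ((zp * Gm)⁻¹ * cx Gm)) = 1 := (P.pf_eq_one _).2
        ((mem_normalizer_iff.1 heJ _).1 (mem_subgroupOf.1 hJm))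
      rw [show cx Gm = zp * Gm * ((zp * Gm)⁻¹ * cx Gm) by group, map_mul, map_mul, hj, mul_one,
        map_mul, hce_zp, map_mul]
    show P.pf (cx K) = _
    rw [hK1, map_mul, map_mul, map_inv, e1]
    rcases hsF with h | h <;> rw [h]
    · rw [one_mul, inv_one, mul_one]
    · have hc1 : Commute (Six.pc * Six.pc) (P.pf zp) := by
        have := hzcomm T (by rw [P.pf_t])
        rw [P.pf_t] at this
        exact this.symm
      rw [(Commute.mul_right hc1 hKT.symm).eq, mul_inv_cancel_right]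
  -- the odd power of `c`
  have hKdef : P.pf ((Cm ^ d * Gm)⁻¹ * K) = 1 := by
    rw [map_mul, map_inv, map_mul, map_pow, P.pf_c, P.pf_g, hKd, inv_mul_cancel]
  have hψK2 : ψ K = ψ Cm ^ d * ψ Gm := by
    have hj : ψ ((Cm ^ d * Gm)⁻¹ * K) = 1 :=
      (P.pf_eq_one _).2 ((mem_normalizer_iff.1 hJ _).1 ((P.pf_eq_one _).1 hKdef))
    rw [map_mul, map_inv, inv_mul_eq_one] at hj
    rw [← hj, map_mul, map_pow]
  have hCd : ψ Cm ^ d = Six.pc ^ d := by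
    have e := hψK2.symm.trans hψK
    rw [hzz, hKd] at e
    have hc : Commute (ψ Cm ^ d) (P.pf zp) := by
      rcases hzp with rfl | rfl
      · rw [map_one]; exact Commute.one_right _
      · rw [P.pf_t, ← hψC2]
        exact (Commute.pow_left (Commute.mul_right (Commute.refl _) (Commute.refl _)) d)
    rw [← mul_assoc, hc.eq, mul_assoc] at e
    exact mul_right_cancel (mul_left_cancel e)
  have hfin : ψ Cm = Six.pc := by
    rcases hd with rfl | rfl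
    · simpa using hCd
    · have h4 : ψ Cm * ψ Cm * (ψ Cm * ψ Cm) = 1 := by rw [hψC2]; exact Six.pc_facts.1
      have e : ψ Cm = (ψ Cm ^ 3)⁻¹ :=
        (inv_eq_of_mul_eq_one_left (by rw [pow_three', ← h4]; group)).symm
      have e' : Six.pc = (Six.pc ^ 3)⁻¹ :=
        (inv_eq_of_mul_eq_one_left (by rw [pow_three', ← Six.pc_facts.1]; group)).symm
      rw [e, hCd, ← e']
  refine (P.pf_eq_one (cx Cm * Cm⁻¹)).1 ?_
  rw [map_mul, map_inv, P.pf_c, show P.pf (cx Cm) = Six.pc from hfin, mul_inv_cancel]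

/-- An element of `N(J)` fixing `zz` and `y` centralizes `c` modulo `J`. -/
theorem rot {x : G} (hz : x * P.zz * x⁻¹ = P.zz) (hy : x * P.y * x⁻¹ = P.y)
    (hJ : x ∈ normalizer (P.J : Set G)) : x * P.c * x⁻¹ * P.c⁻¹ ∈ P.J := by
  have hxZ : x ∈ normalizer (P.Z : Set G) := centralizer_le_normalizer _ (P.cent_Z_of hz)
  set v := x * P.t * x⁻¹ with hv
  have hvM : v ∈ P.M := P.M_normal x hJ _ P.t_M
  have hvL : v ∈ P.L := P.L_normal x hxZ _ P.t_mem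
  have hv2 : v * v = 1 := by rw [hv, conj_mul, P.t_sq, mul_one, mul_inv_cancel]
  have himg : P.fL ⟨v, hvL⟩ = -1 := by
    refine (SL5.invol _ ?_).resolve_left fun h => ?_
    · rw [← map_mul, show (⟨v, hvL⟩ : P.L) * ⟨v, hvL⟩ = 1 from Subtype.ext hv2, map_one]
    · have h3 := P.Q_cube _ ((P.fL_ker _).1 h)
      simp only at h3
      rw [hv2, one_mul] at h3
      exact P.toCtx.t_ne_one (conj_eq_one_iff.1 (hv ▸ h3))
  set p := P.t⁻¹ * v with hp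
  have hpQ : p ∈ P.Q := P.toData.mem_Q_of_eq P.t_mem hvL (P.t_img.trans himg.symm)
  have hxc : x * (P.zz * P.y) = P.zz * P.y * x :=
    mul_inv_eq_iff_eq_mul.1 (by rw [← conj_mul, hz, hy])
  obtain ⟨u', hu', hJ'⟩ := P.conj_invol hJ hxc (u := P.t) (by simp)
  obtain ⟨hm', huF', -, -⟩ := P.pf_list hu'
  have hpJ : p ∈ P.J := by
    set Pm : P.M := ⟨p, mul_mem (inv_mem P.t_M) hvM⟩
    refine (P.pf_eq_one Pm).1 (cube_F4 _ ?_ ?_)
    · have e : P.pf ⟨v, hvM⟩ * P.pf ⟨u', hm'⟩ = 1 := by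
        rw [← map_mul]; exact (P.pf_eq_one _).2 hJ'
      rw [show Pm = (⟨P.t, P.t_M⟩ : P.M)⁻¹ * ⟨v, hvM⟩ from rfl, map_mul, map_inv, P.pf_t,
        mul_eq_one_iff_eq_inv.1 e, Six.F4_inv _ (Six.F4n_facts _ huF').1,
        Six.F4_inv (Six.pc * Six.pc) (by simp [Six.F4])]
      exact Six.F4_mul _ (by simp [Six.F4]) _ (Six.F4n_facts _ huF').1
    · rw [← map_mul, ← map_mul, ← map_one P.pf]
      exact congrArg _ (Subtype.ext (P.Q_cube p hpQ))
  have hconj : p * P.t * p⁻¹ = P.t * p :=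
    conj_of_invol P.t_sq (P.Q_cube p hpQ) (by rw [hp, mul_inv_cancel_left]; exact hv2)
  have hpfix : ∀ w ∈ P.J, p⁻¹ * w * p = w := fun w hw => by
    rw [P.J_comm _ (inv_mem hpJ) w hw, inv_mul_cancel_right]
  have key := P.rot_t (x := p⁻¹ * x)
    (by
      calc p⁻¹ * x * P.zz * (p⁻¹ * x)⁻¹ = p⁻¹ * (x * P.zz * x⁻¹) * p := by group
        _ = P.zz := by rw [hz, hpfix _ (P.toData.Z_le_J P.zz_mem)])
    (by
      calc p⁻¹ * x * P.y * (p⁻¹ * x)⁻¹ = p⁻¹ * (x * P.y * x⁻¹) * p := by group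
        _ = P.y := by rw [hy, hpfix _ P.toFrame.y_J])
    (mul_mem (inv_mem (le_normalizer hpJ)) hJ)
    (by
      have e : x * P.t * x⁻¹ = p * P.t * p⁻¹ := by rw [hconj, hp, mul_inv_cancel_left, hv]
      calc p⁻¹ * x * P.t = p⁻¹ * (x * P.t * x⁻¹) * x := by group
        _ = P.t * (p⁻¹ * x) := by rw [e]; group)
  have e : x * P.c * x⁻¹ * P.c⁻¹ =
      p * (p⁻¹ * x * P.c * (p⁻¹ * x)⁻¹ * P.c⁻¹) * (P.c * p⁻¹ * P.c⁻¹) := by group
  rw [e]
  exact mul_mem (mul_mem hpJ key) ((mem_normalizer_iff.1 (P.M_le P.c_M) _).1 (inv_mem hpJ))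

end Local

end CfsgLib.McLThree
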