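import Cfsg.Agent.McLThree.MSide
import Cfsg.Agent.AutAlt.Main
import Cfsg.Agent.ThreeLocalSymEight.Model
import Cfsg.Agent.ThreeLocalEight.Setup

/-!
`N(Z) ∩ C(t)` modulo `⟨t⟩` as a subgroup of `Sym(3) × Sym(5)`.
-/

set_option autoImplicit false
set_option maxHeartbeats 400000
set_option maxRecDepth 100000

namespace CfsgLib.McLThree

open Subgroup Equiv
open CfsgLib.ThreeLocalEight (c3 t3 c5)
open CfsgLib.ThreeLocalSymEight (P35 eZ eZ')

universe u

theorem cent_alt5 : ∀ σ : Perm (Fin 5), σ * (swap 0 1 * swap 1 2) = swap 0 1 * swap 1 2 * σ →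
    σ * (swap 1 2 * swap 2 3) = swap 1 2 * swap 2 3 * σ →
    σ * (swap 2 3 * swap 3 4) = swap 2 3 * swap 3 4 * σ → σ = 1 := by decide +kernel

theorem conjNormal_bijective :
    Function.Bijective (MulAut.conjNormal : Perm (Fin 5) →* MulAut (alternatingGroup (Fin 5))) := by
  constructor
  · refine (injective_iff_map_eq_one _).2 fun σ hσ => ?_
    have h : ∀ a : alternatingGroup (Fin 5), σ * a = a * σ := fun a => by
      have := congrArg Subtype.val (DFunLike.congr_fun hσ a)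
      rw [MulAut.conjNormal_apply] at this
      exact mul_inv_eq_iff_eq_mul.1 this
    exact cent_alt5 σ (h ⟨_, Perm.mem_alternatingGroup.2 (by decide +kernel)⟩)
      (h ⟨_, Perm.mem_alternatingGroup.2 (by decide +kernel)⟩)
      (h ⟨_, Perm.mem_alternatingGroup.2 (by decide +kernel)⟩)
  · exact fun φ => AutAlt.exists_conj (by simp) (by simp) (show (0 : Fin 5) ≠ 1 by decide) φ

/-- `Aut(A₅) ≅ S₅`. -/
noncomputable def autFive : MulAut (alternatingGroup (Fin 5)) ≃* Perm (Fin 5) :=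
  (MulEquiv.ofBijective _ conjNormal_bijective).symm

theorem autFive_spec (φ : MulAut (alternatingGroup (Fin 5))) (a : alternatingGroup (Fin 5)) :
    (φ a : Perm (Fin 5)) = autFive φ * a * (autFive φ)⁻¹ := by
  conv_lhs => rw [← (MulEquiv.ofBijective _ conjNormal_bijective).apply_symm_apply φ]
  exact MulAut.conjNormal_apply _ _

theorem c3_conj : ∀ p : Perm (Fin 3), p * c3 * p⁻¹ = c3 ∨ p * c3 * p⁻¹ = c3⁻¹ := by decide

theorem c3_facts : t3 * (c3 * c3) * t3⁻¹ = c3 ∧ c3 * c3 * c3 = 1 ∧ c3 ≠ 1 := by decide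

theorem sign_of_inverts : ∀ p : Perm (Fin 3), p * c3 = c3⁻¹ * p → Perm.sign p = -1 := by decide

variable {G : Type u} [Group G] [Finite G]

namespace Local

variable (P : Local G)

/-- `N(Z) ∩ C(t)`. -/
def NH : Subgroup G := normalizer (P.Z : Set G) ⊓ centralizer ({P.t} : Set G)

theorem mem_NH {x : G} : x ∈ P.NH ↔ x ∈ normalizer (P.Z : Set G) ∧ x * P.t = P.t * x :=
  ⟨fun h => ⟨h.1, mem_centralizer_singleton_iff.1 h.2⟩,
    fun h => ⟨h.1, mem_centralizer_singleton_iff.2 h.2⟩⟩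

theorem CL_le_NH : P.toCtx.CL ≤ P.NH := fun _ h =>
  P.mem_NH.2 ⟨P.toData.L_norm (P.toCtx.mem_CL.1 h).1, (P.toCtx.mem_CL.1 h).2⟩

theorem E_le_NH : P.toCtx.E ≤ P.NH := P.toCtx.E_le.trans P.CL_le_NH

theorem t_NH : P.t ∈ P.NH := P.E_le_NH P.toCtx.t_mem_E

theorem zz_NH : P.zz ∈ P.NH := P.CL_le_NH (P.toCtx.Z_le_CL P.zz_mem)

theorem y_NH : P.y ∈ P.NH := P.E_le_NH P.y_E

theorem c_NH : P.c ∈ P.NH := by
  refine P.mem_NH.2 ⟨?_, by rw [← P.c_sq, mul_assoc]⟩
  have hZ : zpowers P.zz = P.Z := eq_of_le_of_card_ge (zpowers_le.2 P.zz_mem) (by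
    rw [P.Z_card, Nat.card_zpowers, orderOf_eq_prime (p := 3)
      (by rw [pow_three']; exact P.Q_cube _ (P.Z_le_Q P.zz_mem)) P.zz_ne])
  rw [← hZ]
  refine ThreeLocalEight.mem_normalizer_zpowers_of ?_
  rw [P.c_z]; exact inv_mem (mem_zpowers _)

theorem zpowers_zz : zpowers P.zz = P.Z := eq_of_le_of_card_ge (zpowers_le.2 P.zz_mem) (by
  rw [P.Z_card, Nat.card_zpowers, orderOf_eq_prime (p := 3)
    (by rw [pow_three']; exact P.Q_cube _ (P.Z_le_Q P.zz_mem)) P.zz_ne])

theorem NH_conj_Z {x : G} (hx : x ∈ P.NH) :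
    x * P.zz * x⁻¹ = P.zz ∨ x * P.zz * x⁻¹ = P.zz⁻¹ := by
  have h := P.toFrame.normZ_mem (P.mem_NH.1 hx).1 P.zz_mem
  rw [← P.zpowers_zz] at h
  rcases ThreeLocalEight.zpowers_three (by rw [pow_three']; exact P.Q_cube _ (P.Z_le_Q P.zz_mem)) h
    with e | e | e
  · exact absurd (conj_eq_one_iff.1 e) P.zz_ne
  · exact Or.inl e
  · exact Or.inr e

theorem cent_Z_of {x : G} (h : x * P.zz * x⁻¹ = P.zz) : x ∈ centralizer (P.Z : Set G) := by
  refine mem_centralizer_iff.2 fun w hw => ?_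
  rw [← P.zpowers_zz] at hw
  obtain ⟨k, rfl⟩ := mem_zpowers_iff.1 hw
  exact ((Commute.zpow_right (show Commute x P.zz from mul_inv_eq_iff_eq_mul.1 h) k).symm).eq

theorem sq_t {x : P.toCtx.E} : P.toCtx.gE x = -1 ↔ (x : G) = P.t := by
  have ht : P.toCtx.gE ⟨P.t, P.toCtx.t_mem_E⟩ = -1 := by
    rw [P.toCtx.gE_apply]; exact P.t_img
  rw [← ht, P.toCtx.gE_bijective.1.eq_iff]
  exact ⟨fun h => congrArg Subtype.val h, fun h => Subtype.ext h⟩

/-- An element of `C(t)` inducing the identity on `E/⟨t⟩` centralizes `E`. -/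
theorem cent_E_of_mod {x : G} (hx : x * P.t = P.t * x)
    (h : ∀ f ∈ P.toCtx.E, x * f * x⁻¹ = f ∨ x * f * x⁻¹ = P.t * f) :
    ∀ f ∈ P.toCtx.E, x * f = f * x := by
  have hperf : commutator P.toCtx.E = ⊤ := by
    refine (map_injective (f := P.toCtx.eE.toMonoidHom) P.toCtx.eE.injective) ?_
    rw [commutator_def, map_commutator, map_top_of_surjective P.toCtx.eE.toMonoidHom P.toCtx.eE.surjective,
      ← commutator_def, SL5.perfect]
  intro f hf
  have hcl : (⟨f, hf⟩ : P.toCtx.E) ∈ commutator P.toCtx.E := hperf ▸ mem_top _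
  rw [commutator_eq_closure] at hcl
  suffices x * f * x⁻¹ = f from mul_inv_eq_iff_eq_mul.1 this
  refine closure_induction (p := fun (w : P.toCtx.E) _ => x * (w : G) * x⁻¹ = w) ?_ (by simp) ?_ ?_ hcl
  · rintro _ ⟨a, b, rfl⟩
    have hl : ∀ u w, u ∈ P.toCtx.E → w ∈ P.toCtx.E →
        P.t * u * w * (P.t * u)⁻¹ * w⁻¹ = u * w * u⁻¹ * w⁻¹ ∧
          u * (P.t * w) * u⁻¹ * (P.t * w)⁻¹ = u * w * u⁻¹ * w⁻¹ := by
      intro u w hu hw
      have cu : Commute P.t u := (P.toCtx.E_t hu).symm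
      have cw : Commute P.t w := (P.toCtx.E_t hw).symm
      constructor
      · calc P.t * u * w * (P.t * u)⁻¹ * w⁻¹ = P.t * (u * w * u⁻¹) * P.t⁻¹ * w⁻¹ := by group
          _ = _ := by rw [((cu.mul_right cw).mul_right cu.inv_right).eq, mul_inv_cancel_right]
      · calc u * (P.t * w) * u⁻¹ * (P.t * w)⁻¹ = (u * P.t) * (w * u⁻¹ * w⁻¹) * P.t⁻¹ := by group
          _ = P.t * (u * w * u⁻¹ * w⁻¹) * P.t⁻¹ := by rw [← cu.eq]; group
          _ = _ := by
            rw [(((cu.mul_right cw).mul_right cu.inv_right).mul_right cw.inv_right).eq,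
              mul_inv_cancel_right]
    have htb : P.t * (b : G) ∈ P.toCtx.E := mul_mem P.toCtx.t_mem_E b.2
    simp only [commutatorElement_def, Subgroup.coe_mul, InvMemClass.coe_inv]
    calc x * ((a : G) * b * (a : G)⁻¹ * (b : G)⁻¹) * x⁻¹
        = (x * a * x⁻¹) * (x * b * x⁻¹) * (x * a * x⁻¹)⁻¹ * (x * b * x⁻¹)⁻¹ := by group
      _ = _ := by
        rcases h a a.2 with ea | ea <;> rcases h b b.2 with eb | eb <;> rw [ea, eb]
        · exact (hl _ _ a.2 b.2).2
        · exact (hl _ _ a.2 b.2).1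
        · rw [(hl _ _ a.2 htb).1, (hl _ _ a.2 b.2).2]
  · intro a b _ _ ha hb
    rw [Subgroup.coe_mul, ← conj_mul, ha, hb]
  · intro a _ ha
    rw [InvMemClass.coe_inv, ← conj_inv, ha]

theorem exists_psi : ∃ ψ : P.NH →* Perm (Fin 5),
    (∀ f : P.toCtx.E, Perm.sign (ψ ⟨f, P.E_le_NH f.2⟩) = 1) ∧
    (∀ p : Perm (Fin 5), Perm.sign p = 1 → ∃ f : P.toCtx.E, ψ ⟨f, P.E_le_NH f.2⟩ = p) ∧
    (∀ x : P.NH, ψ x = 1 ↔ ∀ f ∈ P.toCtx.E, (x : G) * f = f * x) ∧
    (∀ f : P.toCtx.E, ψ ⟨f, P.E_le_NH f.2⟩ = 1 ↔ (f : G) = 1 ∨ (f : G) = P.t) := by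
  classical
  obtain ⟨f5, hf5, hk5⟩ := SL5.exists_toAlt
  set π : P.toCtx.E →* alternatingGroup (Fin 5) := f5.comp P.toCtx.gE with hπ
  have hsurj : Function.Surjective π := hf5.comp P.toCtx.gE_bijective.2
  have hker : ∀ f : P.toCtx.E, π f = 1 ↔ (f : G) = 1 ∨ (f : G) = P.t := by
    intro f
    rw [hπ, MonoidHom.comp_apply, hk5, P.sq_t, ← map_one P.toCtx.gE, P.toCtx.gE_bijective.1.eq_iff]
    exact ⟨fun h => h.imp_left (congrArg Subtype.val), fun h => h.imp_left (fun e => Subtype.ext e)⟩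
  let cj : P.NH → (P.toCtx.E →* P.toCtx.E) := fun x =>
    { toFun := fun f => ⟨x * f * (x : G)⁻¹,
        P.toFrame.conj_E (P.mem_NH.1 x.2).1 (P.mem_NH.1 x.2).2 f.2⟩
      map_one' := Subtype.ext (by simp)
      map_mul' := fun a b => Subtype.ext (by simp [mul_assoc]) }
  have hle : ∀ x, π.ker ≤ (π.comp (cj x)).ker := by
    intro x f hf
    rw [MonoidHom.mem_ker] at hf ⊢
    rw [MonoidHom.comp_apply, hker]
    show (x : G) * f * (x : G)⁻¹ = 1 ∨ (x : G) * f * (x : G)⁻¹ = P.t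
    rcases (hker f).1 hf with e | e <;> rw [e]
    · left; group
    · right; rw [(P.mem_NH.1 x.2).2, mul_inv_cancel_right]
  let al : P.NH → (alternatingGroup (Fin 5) →* alternatingGroup (Fin 5)) := fun x =>
    π.liftOfSurjective hsurj ⟨π.comp (cj x), hle x⟩
  have hal : ∀ x f, al x (π f) = π (cj x f) := fun x f =>
    π.liftOfRightInverse_comp_apply _ _ _ f
  have hmul : ∀ x w, al (x * w) = (al x).comp (al w) := by
    intro x w
    ext1 a
    obtain ⟨f, rfl⟩ := hsurj a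
    show al (x * w) (π f) = al x (al w (π f))
    rw [hal, hal, hal]
    congr 1
    apply Subtype.ext
    show ((x : G) * w) * f * ((x : G) * w)⁻¹ = x * (w * f * (w : G)⁻¹) * (x : G)⁻¹
    group
  have hone : al 1 = MonoidHom.id _ := by
    ext1 a
    obtain ⟨f, rfl⟩ := hsurj a
    rw [hal, MonoidHom.id_apply]
    congr 1
    exact Subtype.ext (by simp [cj])
  let au : P.NH →* MulAut (alternatingGroup (Fin 5)) :=
    { toFun := fun x => (al x).toMulEquiv (al x⁻¹) (by rw [← hmul, inv_mul_cancel, hone])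
        (by rw [← hmul, mul_inv_cancel, hone])
      map_one' := MulEquiv.ext fun a => by
        show al 1 a = a
        rw [hone]; rfl
      map_mul' := fun x w => MulEquiv.ext fun a => by
        show al (x * w) a = al x (al w a)
        rw [hmul]; rfl }
  have hau : ∀ x a, au x a = al x a := fun _ _ => rfl
  set ψ : P.NH →* Perm (Fin 5) := autFive.toMonoidHom.comp au with hψdef
  have hψ : ∀ x a, (al x a : Perm (Fin 5)) = ψ x * a * (ψ x)⁻¹ := fun x a => autFive_spec (au x) a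
  have hψE : ∀ f : P.toCtx.E, ψ ⟨f, P.E_le_NH f.2⟩ = (π f : Perm (Fin 5)) := by
    intro f
    show autFive (au _) = _
    rw [← MulEquiv.eq_symm_apply]
    ext1 a
    obtain ⟨a', rfl⟩ := hsurj a
    rw [hau, hal]
    apply Subtype.ext
    show _ = ((MulAut.conjNormal (π f : Perm (Fin 5))) (π a') : Perm (Fin 5))
    rw [MulAut.conjNormal_apply,
      show cj ⟨f, P.E_le_NH f.2⟩ a' = f * a' * f⁻¹ from Subtype.ext rfl, map_mul, map_mul, map_inv,
      Subgroup.coe_mul, Subgroup.coe_mul, InvMemClass.coe_inv]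
  refine ⟨ψ, fun f => ?_, fun p hp => ?_, fun x => ?_, fun f => ?_⟩
  · rw [hψE]; exact Perm.mem_alternatingGroup.1 (π f).2
  · obtain ⟨f, hf⟩ := hsurj ⟨p, Perm.mem_alternatingGroup.2 hp⟩
    exact ⟨f, by rw [hψE, hf]⟩
  · constructor
    · intro hx
      refine P.cent_E_of_mod (P.mem_NH.1 x.2).2 fun f hf => ?_
      have h1 : al x (π ⟨f, hf⟩) = π ⟨f, hf⟩ := Subtype.ext (by rw [hψ, hx]; simp)
      rw [hal, ← mul_inv_eq_one, ← map_inv, ← map_mul, hker] at h1
      change (x : G) * f * (x : G)⁻¹ * f⁻¹ = 1 ∨ (x : G) * f * (x : G)⁻¹ * f⁻¹ = P.t at h1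
      exact h1.imp (fun e => mul_inv_eq_one.1 e) (fun e => mul_inv_eq_iff_eq_mul.1 e)
    · intro hx
      show autFive (au x) = 1
      rw [MulEquiv.map_eq_one_iff]
      ext1 a
      obtain ⟨f, rfl⟩ := hsurj a
      rw [hau, hal]
      show π (cj x f) = π f
      congr 1
      exact Subtype.ext (show (x : G) * f * (x : G)⁻¹ = f by rw [hx f f.2, mul_inv_cancel_right])
  · rw [hψE, OneMemClass.coe_eq_one, hker]

/-- `E` as a subgroup of `N(Z) ∩ C(t)`. -/
def EN : Subgroup P.NH := P.toCtx.E.subgroupOf P.NH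

theorem mem_EN {x : P.NH} : x ∈ P.EN ↔ (x : G) ∈ P.toCtx.E := mem_subgroupOf

theorem EN_normal : P.EN.Normal := ⟨fun f hf x => P.mem_EN.2 (by
  have := P.toFrame.conj_E (P.mem_NH.1 x.2).1 (P.mem_NH.1 x.2).2 (P.mem_EN.1 hf)
  simpa using this)⟩

theorem exists_theta (ψ : P.NH →* Perm (Fin 5))
    (h1 : ∀ f : P.toCtx.E, Perm.sign (ψ ⟨f, P.E_le_NH f.2⟩) = 1)
    (h2 : ∀ p : Perm (Fin 5), Perm.sign p = 1 → ∃ f : P.toCtx.E, ψ ⟨f, P.E_le_NH f.2⟩ = p)
    (h3 : ∀ x : P.NH, ψ x = 1 ↔ ∀ f ∈ P.toCtx.E, (x : G) * f = f * x) :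
    ∃ θ : P.NH →* Perm (Fin 3), (∀ x : P.NH, (x : G) ∈ P.toCtx.E → θ x = 1) ∧
      θ ⟨P.zz, P.zz_NH⟩ = c3 := by
  classical
  haveI := P.EN_normal
  haveI : Fact (Nat.Prime 2) := ⟨Nat.prime_two⟩
  haveI : Fact (Nat.Prime 3) := ⟨Nat.prime_three⟩
  set mk := QuotientGroup.mk' P.EN with hmk
  set z : P.NH := ⟨P.zz, P.zz_NH⟩ with hz
  have hz3 : z ^ 3 = 1 := Subtype.ext (by
    show P.zz ^ 3 = 1
    rw [pow_three']; exact P.Q_cube _ (P.Z_le_Q P.zz_mem))
  have hzo : orderOf (mk z) = 3 := by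
    refine orderOf_eq_prime (by rw [← map_pow, hz3, map_one]) fun h => P.zz_ne ?_
    exact P.toCtx.E_inf_Z (P.mem_EN.1 ((QuotientGroup.eq_one_iff _).1 h)) P.zz_mem
  -- elements of the kernel of the two signs
  have hker : ∀ x : P.NH, (x : G) * P.zz * (x : G)⁻¹ = P.zz → Perm.sign (ψ x) = 1 →
      mk x ∈ zpowers (mk z) := by
    intro x hx hs
    obtain ⟨f, hf⟩ := h2 _ hs
    set f' : P.NH := ⟨f, P.E_le_NH f.2⟩
    have hc := (h3 (x * f'⁻¹)).1 (by rw [map_mul, map_inv, hf, mul_inv_cancel])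
    have hcz : ((x * f'⁻¹ : P.NH) : G) ∈ centralizer (P.Z : Set G) :=
      mul_mem (P.cent_Z_of hx) (inv_mem (P.L_le (P.toCtx.E_L f.2)))
    have hfE : f' ∈ P.EN := P.mem_EN.2 f.2
    have e1 : mk x = mk (x * f'⁻¹) := by
      rw [map_mul, map_inv, show mk f' = 1 from (QuotientGroup.eq_one_iff _).2 hfE, inv_one, mul_one]
    rw [e1]
    rcases P.toFrame.cent_E_pos hcz hc with h | h
    · rw [← P.zpowers_zz] at h
      obtain ⟨k, hk⟩ := mem_zpowers_iff.1 h
      exact mem_zpowers_iff.2 ⟨k, by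
        rw [← map_zpow]; exact congrArg mk (Subtype.ext (by rw [SubgroupClass.coe_zpow]; exact hk))⟩
    · rw [← P.zpowers_zz] at h
      obtain ⟨k, hk⟩ := mem_zpowers_iff.1 h
      refine mem_zpowers_iff.2 ⟨k, ?_⟩
      rw [← map_zpow]
      refine QuotientGroup.eq.2 (P.mem_EN.2 ?_)
      show ((z : G) ^ k)⁻¹ * ((x * f'⁻¹ : P.NH) : G) ∈ P.toCtx.E
      rw [hk, mul_inv_rev, mul_assoc]
      have hu : ((x * f'⁻¹ : P.NH) : G) * P.t = P.t * ((x * f'⁻¹ : P.NH) : G) :=
        (P.mem_NH.1 (x * f'⁻¹).2).2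
      rw [P.toCtx.t_inv_eq, ← hu, ← mul_assoc, inv_mul_cancel, one_mul]
      exact P.toCtx.t_mem_E
  -- the two signs
  let εh : P.NH →* ℤˣ :=
    { toFun := fun x => if (x : G) * P.zz * (x : G)⁻¹ = P.zz then 1 else -1
      map_one' := if_pos (by simp)
      map_mul' := fun x w => by
        have hzi : P.zz⁻¹ ≠ P.zz := fun h => P.zz_ne (by
          have h' := P.Q_cube _ (P.Z_le_Q P.zz_mem)
          rw [show P.zz * P.zz = 1 by nth_rewrite 1 [← h]; exact inv_mul_cancel _, one_mul] at h'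
          exact h')
        have e : ((x * w : P.NH) : G) * P.zz * ((x * w : P.NH) : G)⁻¹ =
            x * ((w : G) * P.zz * (w : G)⁻¹) * (x : G)⁻¹ := by
          simp [mul_assoc]
        show (if _ then (1 : ℤˣ) else -1) = (if _ then (1 : ℤˣ) else -1) * (if _ then (1 : ℤˣ) else -1)
        rcases P.NH_conj_Z x.2 with hx | hx <;> rcases P.NH_conj_Z w.2 with hw | hw
        · rw [e, hw, hx, if_pos rfl, mul_one]
        · rw [e, hw, ← conj_inv, hx, if_neg hzi, if_pos rfl, one_mul]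
        · rw [e, hw, hx, if_neg hzi, if_pos rfl, mul_one]
        · rw [e, hw, ← conj_inv, hx, inv_inv, if_pos rfl, if_neg hzi, Int.units_mul_self] }
  let σh : P.NH →* ℤˣ × ℤˣ := εh.prod (Perm.sign.comp ψ)
  have hEker : P.EN ≤ σh.ker := by
    intro x hx
    have hxE := P.mem_EN.1 hx
    rw [MonoidHom.mem_ker]
    refine Prod.ext ?_ ?_
    · show (if _ then (1 : ℤˣ) else -1) = 1
      rw [if_pos]
      rw [← P.toData.comm_Z (P.L_le (P.toCtx.E_L hxE)) P.zz_mem, mul_inv_cancel_right]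
    · exact h1 ⟨x, hxE⟩
  let σ' := QuotientGroup.lift P.EN σh hEker
  have hk : σ'.ker = zpowers (mk z) := by
    refine le_antisymm (fun q hq => ?_) ((zpowers_le).2 ?_)
    · obtain ⟨x, rfl⟩ := QuotientGroup.mk'_surjective _ q
      have h : σh x = 1 := hq
      refine hker x ?_ (congrArg Prod.snd h)
      by_contra hne
      have h' : (if (x : G) * P.zz * (x : G)⁻¹ = P.zz then (1 : ℤˣ) else -1) = 1 := congrArg Prod.fst h
      rw [if_neg hne] at h'
      exact absurd h' (by decide)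
    · show σh z = 1
      refine Prod.ext ?_ ?_
      · show (if _ then (1 : ℤˣ) else -1) = 1
        rw [if_pos]; simp [hz]
      · show Perm.sign (ψ z) = 1
        rw [(h3 z).2 fun f hf => P.toCtx.E_Z hf P.zz_mem, map_one]
  obtain ⟨T⟩ : Nonempty (Sylow 2 (P.NH ⧸ P.EN)) := inferInstance
  have hcard : Nat.card (P.NH ⧸ P.EN) = Nat.card σ'.range * 3 := by
    rw [Subgroup.card_eq_card_quotient_mul_card_subgroup σ'.ker,
      Nat.card_congr (QuotientGroup.quotientKerEquivRange σ').toEquiv, hk, Nat.card_zpowers, hzo]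
  obtain ⟨k, hk2, hk'⟩ := (Nat.dvd_prime_pow Nat.prime_two).1
    (show Nat.card σ'.range ∣ 2 ^ 2 by
      have := Subgroup.card_subgroup_dvd_card σ'.range
      rwa [Nat.card_prod, Nat.card_eq_fintype_card (α := ℤˣ), Fintype.card_units_int] at this)
  have hT : Nat.card T = 2 ^ k := by
    rw [Sylow.card_eq_multiplicity, hcard, hk']
    congr 1
    rw [Nat.factorization_mul (by positivity) (by norm_num), Finsupp.add_apply,
      Nat.Prime.factorization_pow Nat.prime_two, Finsupp.single_eq_same,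
      Nat.factorization_eq_zero_of_not_dvd (by norm_num : ¬ 2 ∣ 3), add_zero]
  set B := (T : Subgroup (P.NH ⧸ P.EN)).comap mk with hB
  have hBi : B.index = 3 := by
    rw [hB, index_comap_of_surjective _ (QuotientGroup.mk'_surjective _)]
    have := Subgroup.card_mul_index (T : Subgroup (P.NH ⧸ P.EN))
    rw [hT, hcard, hk'] at this
    exact Nat.eq_of_mul_eq_mul_left (by positivity) this
  have hzB : z ∉ B := by
    intro h
    have h3 : 3 ∣ Nat.card T := by
      have := orderOf_dvd_natCard (⟨mk z, h⟩ : T)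
      rwa [← Subgroup.orderOf_coe, hzo] at this
    rw [hT] at h3
    exact absurd (Nat.prime_three.dvd_of_dvd_pow h3) (by norm_num)
  obtain ⟨e⟩ : Nonempty ((P.NH ⧸ B) ≃ Fin 3) :=
    ⟨(Finite.equivFin _).trans (finCongr (by rw [← Subgroup.index_eq_card, hBi]))⟩
  set θ0 : P.NH →* Perm (Fin 3) :=
    (Equiv.permCongrHom e).toMonoidHom.comp (MulAction.toPermHom P.NH (P.NH ⧸ B)) with hθ0
  have hker0 : ∀ x, θ0 x = 1 ↔ x ∈ B.normalCore := by
    intro x
    rw [normalCore_eq_ker, MonoidHom.mem_ker, hθ0, MonoidHom.comp_apply, MulEquiv.coe_toMonoidHom,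
      MulEquiv.map_eq_one_iff]
  have hEB : P.EN ≤ B := fun x hx => by
    show mk x ∈ (T : Subgroup (P.NH ⧸ P.EN))
    rw [show mk x = 1 from (QuotientGroup.eq_one_iff _).2 hx]; exact one_mem _
  have hE0 : ∀ x : P.NH, (x : G) ∈ P.toCtx.E → θ0 x = 1 := fun x hx =>
    (hker0 x).2 (normal_le_normalCore.2 hEB (P.mem_EN.2 hx))
  rcases ThreeLocalEight.three_fst (θ0 z) (by rw [← map_pow, hz3, map_one]) with h | h | h
  · exact absurd (B.normalCore_le ((hker0 z).1 h)) hzB
  · exact ⟨θ0, hE0, h⟩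
  · refine ⟨(MulAut.conj t3).toMonoidHom.comp θ0, fun x hx => by simp [hE0 x hx], ?_⟩
    show t3 * θ0 z * t3⁻¹ = c3
    rw [h]; exact c3_facts.1

/-- The map of `N(Z) ∩ C(t)` into `Sym(3) × Sym(5)`. -/
theorem exists_phi : ∃ Φ : P.NH →* P35,
    (∀ x : P.NH, Φ x = 1 ↔ (x : G) ∈ zpowers P.t) ∧
    Φ ⟨P.zz, P.zz_NH⟩ = eZ ∧ Φ ⟨P.y, P.y_NH⟩ = eZ' ∧
    (∀ p : P35, Perm.sign p.1 * Perm.sign p.2 = 1 → p ∈ Φ.range) ∧
    Perm.sign (Φ ⟨P.c, P.c_NH⟩).2 = -1 := by
  classical
  obtain ⟨ψ, h1, h2, h3, h4⟩ := P.exists_psi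
  obtain ⟨θ, hθE, hθz⟩ := P.exists_theta ψ h1 h2 h3
  set z : P.NH := ⟨P.zz, P.zz_NH⟩
  set y : P.NH := ⟨P.y, P.y_NH⟩
  set c : P.NH := ⟨P.c, P.c_NH⟩
  have hψy1 : ψ y ≠ 1 := fun h => by
    rcases (h4 ⟨P.y, P.y_E⟩).1 h with e | e <;> change P.y = _ at e
    · exact P.y_Q (e ▸ one_mem _)
    · have h' := P.y_cube
      rw [e, P.t_sq, one_mul] at h'
      exact P.toCtx.t_ne_one h'
  have hy3 : y ^ 3 = 1 := Subtype.ext (by show P.y ^ 3 = 1; rw [pow_three']; exact P.y_cube)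
  obtain ⟨p, hps, hp⟩ := ThreeLocalEight.three_conj (ψ y) (by rw [← map_pow, hy3, map_one]) hψy1
  set ψ' := (MulAut.conj p⁻¹).toMonoidHom.comp ψ with hψ'
  have hψ'a : ∀ x, ψ' x = p⁻¹ * ψ x * p := fun x => by simp [hψ']
  have hψc : Perm.sign (ψ' c) = -1 := by
    rcases Int.units_eq_one_or (Perm.sign (ψ' c)) with h | h
    · exfalso
      obtain ⟨f, hf⟩ := h2 (ψ c) (by
        rwa [hψ'a, map_mul, map_mul, map_inv, Int.units_inv_eq_self, mul_comm, ← mul_assoc,
          Int.units_mul_self, one_mul] at h)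
      set f' : P.NH := ⟨f, P.E_le_NH f.2⟩
      set l : P.NH := c * f'⁻¹ with hl
      have hlE := (h3 l).1 (by rw [hl, map_mul, map_inv, hf, mul_inv_cancel])
      have hfz : (f : G) * P.zz * (f : G)⁻¹ = P.zz := by
        rw [← P.toCtx.E_Z f.2 P.zz_mem, mul_inv_cancel_right]
      have hlz : (l : G) * P.zz * (l : G)⁻¹ = P.zz⁻¹ := by
        show P.c * (f : G)⁻¹ * P.zz * (P.c * (f : G)⁻¹)⁻¹ = _
        calc P.c * (f : G)⁻¹ * P.zz * (P.c * (f : G)⁻¹)⁻¹
            = P.c * ((f : G)⁻¹ * P.zz * f) * P.c⁻¹ := by group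
          _ = P.c * P.zz * P.c⁻¹ := by
            nth_rewrite 1 [← hfz]; group
          _ = _ := P.c_z
      have hl2 := P.toFrame.cent_E_neg (P.mem_NH.1 l.2).1 (fun hh => by
        have := mem_centralizer_iff.1 hh _ P.zz_mem
        rw [← this, mul_inv_cancel_right] at hlz
        have h' := P.Q_cube _ (P.Z_le_Q P.zz_mem)
        rw [show P.zz * P.zz = 1 by nth_rewrite 2 [hlz]; exact mul_inv_cancel _, one_mul] at h'
        exact P.zz_ne h') hlE
      have hcf : P.c = (l : G) * f := by simp [hl, c, f']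
      have hff : (f : G) * f = 1 := by
        have e : (l : G) * l * ((f : G) * f) = P.t := by
          rw [← P.c_sq, hcf]
          calc (l : G) * l * ((f : G) * f) = l * ((l : G) * f) * f := by group
            _ = l * ((f : G) * l) * f := by rw [hlE f f.2]
            _ = _ := by group
        rwa [hl2, mul_eq_left] at e
      have hf1 : ψ f' = 1 := by
        refine (h4 f).2 ?_
        rcases SL5.invol (P.toCtx.gE f) (by
          rw [← map_mul, show f * f = 1 from Subtype.ext hff, map_one]) with e | e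
        · left
          rw [← map_one P.toCtx.gE] at e
          exact congrArg Subtype.val (P.toCtx.gE_bijective.1 e)
        · exact Or.inr (P.sq_t.1 e)
      have hcy := (h3 c).1 (by rw [← hf]; exact hf1) P.y P.y_E
      have := P.c_y
      change P.c * P.y = P.y * P.c at hcy
      rw [hcy, mul_inv_cancel_right] at this
      have h' := P.y_cube
      rw [show P.y * P.y = 1 by nth_rewrite 2 [this]; exact mul_inv_cancel _, one_mul] at h'
      exact P.y_Q (h' ▸ one_mem _)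
    · exact h
  refine ⟨θ.prod ψ', fun x => ?_, ?_, ?_, ?_, ?_⟩
  · constructor
    · intro h
      have hθ : θ x = 1 := congrArg Prod.fst h
      have hψ : ψ x = 1 := by
        have : ψ' x = 1 := congrArg Prod.snd h
        rw [hψ'a] at this
        calc ψ x = p * (p⁻¹ * ψ x * p) * p⁻¹ := by group
          _ = 1 := by rw [this]; group
      have hc := (h3 x).1 hψ
      have hxz : (x : G) * P.zz * (x : G)⁻¹ = P.zz := by
        rcases P.NH_conj_Z x.2 with e | e
        · exact e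
        · exfalso
          have := congrArg θ (show x * z * x⁻¹ = z⁻¹ from Subtype.ext e)
          rw [map_mul, map_mul, map_inv, map_inv, hθ, hθz] at this
          exact absurd this (by decide)
      rcases P.toFrame.cent_E_pos (P.cent_Z_of hxz) hc with h' | h'
      · rw [← P.zpowers_zz] at h'
        rcases ThreeLocalEight.zpowers_three (by rw [pow_three']; exact P.Q_cube _ (P.Z_le_Q P.zz_mem)) h'
          with e | e | e
        · rw [e]; exact one_mem _
        · rw [show x = z from Subtype.ext e, hθz] at hθ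
          exact absurd hθ c3_facts.2.2
        · rw [show x = z⁻¹ from Subtype.ext e, map_inv, hθz, inv_eq_one] at hθ
          exact absurd hθ c3_facts.2.2
      · rw [← P.zpowers_zz] at h'
        set tt : P.NH := ⟨P.t, P.t_NH⟩
        have hθt : θ tt = 1 := hθE tt P.toCtx.t_mem_E
        rcases ThreeLocalEight.zpowers_three (by rw [pow_three']; exact P.Q_cube _ (P.Z_le_Q P.zz_mem)) h'
          with e | e | e
        · rw [show (x : G) = P.t⁻¹ from eq_inv_of_mul_eq_one_right e]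
          exact inv_mem (mem_zpowers _)
        · have := congrArg θ (show tt * x = z from Subtype.ext e)
          rw [map_mul, hθt, hθ, hθz, one_mul] at this
          exact absurd this.symm c3_facts.2.2
        · have := congrArg θ (show tt * x = z⁻¹ from Subtype.ext e)
          rw [map_mul, hθt, hθ, map_inv, hθz, one_mul, eq_comm, inv_eq_one] at this
          exact absurd this c3_facts.2.2
    · intro h
      obtain ⟨k, hk⟩ := mem_zpowers_iff.1 h
      have hxE : (x : G) ∈ P.toCtx.E := hk ▸ zpow_mem P.toCtx.t_mem_E k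
      have hψ : ψ x = 1 := (h3 x).2 fun f hf => by
        rw [← hk]; exact (Commute.zpow_left (P.toCtx.E_t hf).symm k).eq
      exact Prod.ext (hθE x hxE) (by show ψ' x = 1; rw [hψ'a, hψ]; group)
  · refine Prod.ext hθz ?_
    show ψ' z = 1
    rw [hψ'a, (h3 z).2 fun f hf => P.toCtx.E_Z hf P.zz_mem]; group
  · refine Prod.ext (hθE y P.y_E) ?_
    show ψ' y = c5
    rw [hψ'a, ← hp]; group
  · have hA : ∀ q : Perm (Fin 5), Perm.sign q = 1 →
        ((1, q) : P35) ∈ (θ.prod ψ').range := by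
      intro q hq
      obtain ⟨f, hf⟩ := h2 (p * q * p⁻¹) (by simp [hq])
      exact ⟨⟨f, P.E_le_NH f.2⟩, Prod.ext (hθE _ f.2) (by show ψ' _ = q; rw [hψ'a, hf]; group)⟩
    have hθc : Perm.sign (θ c) = -1 := by
      refine sign_of_inverts _ (mul_inv_eq_iff_eq_mul.1 ?_)
      rw [← hθz, ← map_inv, ← map_inv, ← map_mul, ← map_mul]
      exact congrArg θ (Subtype.ext P.c_z)
    have hz' : ((c3, 1) : P35) ∈ (θ.prod ψ').range :=
      ⟨z, Prod.ext hθz (by show ψ' z = 1; rw [hψ'a, (h3 z).2 fun f hf => P.toCtx.E_Z hf P.zz_mem]; group)⟩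
    intro q hq
    have heven : ∀ q : P35, Perm.sign q.1 = 1 → Perm.sign q.2 = 1 → q ∈ (θ.prod ψ').range := by
      intro q hq1 hq2
      rw [show q = (q.1, 1) * (1, q.2) from Prod.ext (mul_one _).symm (one_mul _).symm]
      refine mul_mem ?_ (hA _ hq2)
      rcases ThreeLocalEight.three_elts_fst _ hq1 with e | e | e <;> rw [e]
      · exact one_mem _
      · exact hz'
      · rw [show ((c3 * c3, 1) : P35) = (c3, 1) * (c3, 1) from Prod.ext rfl (mul_one _).symm]
        exact mul_mem hz' hz'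
    rcases Int.units_eq_one_or (Perm.sign q.1) with e | e
    · exact heven q e (by rwa [e, one_mul] at hq)
    · have hc : (θ.prod ψ') c ∈ (θ.prod ψ').range := ⟨c, rfl⟩
      have he2 : Perm.sign q.2 = -1 := by
        rcases Int.units_eq_one_or (Perm.sign q.2) with e' | e'
        · rw [e, e'] at hq; exact absurd hq (by decide)
        · exact e'
      have := mul_mem (heven (q * ((θ.prod ψ') c)⁻¹)
        (by show Perm.sign (q.1 * (θ c)⁻¹) = 1; simp [e, hθc])
        (by show Perm.sign (q.2 * (ψ' c)⁻¹) = 1; rw [map_mul, map_inv, he2, hψc]; decide)) hc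
      rwa [inv_mul_cancel_right] at this
  · exact hψc

end Local

end CfsgLib.McLThree
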