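import Cfsg.Agent.McLThree.CoreQ
import Cfsg.Agent.McLThree.NormZ

/-!
Centralizers in `C(Z)` of elements of `D` and of `R` normalize `J`; `J` is self-centralizing.
-/

set_option autoImplicit false
set_option maxHeartbeats 400000

namespace CfsgLib.McLThree

open Subgroup
open scoped commutatorElement

universe u

variable {G : Type u} [Group G] [Finite G]

namespace Local

variable (P : Local G)

/-- The stabiliser in `L` of an element of `R ∖ Z` is a 3-group. -/
theorem centL_pgroup {r : G} (hr : r ∈ P.R) (hrZ : r ∉ P.Z) :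
    IsPGroup 3 ↥(P.L ⊓ centralizer ({r} : Set G)) := by
  classical
  haveI : Fact (Nat.Prime 3) := ⟨Nat.prime_three⟩
  set U := P.L ⊓ centralizer ({r} : Set G)
  have hdvd : Nat.card U ∣ 29160 := P.toData.card_L ▸ card_dvd_of_le inf_le_left
  have hno : ∀ {p : ℕ}, p.Prime → p ∣ Nat.card U → p = 3 := by
    intro p hp hpd
    have h1 : p ∣ 29160 := hpd.trans hdvd
    rw [show 29160 = 2 ^ 3 * 3 ^ 6 * 5 by norm_num] at h1
    haveI := Fact.mk hp
    obtain ⟨u, hu⟩ := exists_prime_orderOf_dvd_card' p hpd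
    have hup : (u : G) ^ p = 1 := by
      rw [← SubmonoidClass.coe_pow, ← hu, pow_orderOf_eq_one, OneMemClass.coe_one]
    have hu1 : (u : G) ≠ 1 := fun h => by
      rw [show u = 1 from Subtype.ext h, orderOf_one] at hu
      exact hp.one_lt.ne hu
    have hur : (u : G) * r = r * u := mem_centralizer_singleton_iff.1 u.2.2
    rcases (Nat.Prime.dvd_mul hp).1 h1 with h | h
    · rcases (Nat.Prime.dvd_mul hp).1 h with h | h
      · -- an involution of `L` is `t` modulo `Q`
        exfalso
        have hp2 := (Nat.prime_dvd_prime_iff_eq hp Nat.prime_two).1 (hp.dvd_of_dvd_pow h)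
        rw [hp2, sq] at hup
        rcases SL5.invol (P.fL ⟨u, u.2.1⟩) (by
          rw [← map_mul, ← map_one P.fL]; exact congrArg P.fL (Subtype.ext hup)) with e | e
        · have h3 := P.Q_cube _ ((P.fL_ker _).1 e)
          change (u : G) * u * u = 1 at h3
          rw [hup, one_mul] at h3
          exact hu1 h3
        · rw [← P.t_img] at e
          have hq : P.t⁻¹ * (u : G) ∈ P.Q := P.toData.mem_Q_of_eq P.t_mem u.2.1 e.symm
          refine hrZ (P.toCtx.t_swap_Z hr.2 ?_)
          set q := P.t⁻¹ * (u : G) with hqdef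
          have hq' : P.t * q * r * (P.t * q)⁻¹ = r := by
            rw [hqdef, mul_inv_cancel_left, hur, mul_inv_cancel_right]
          have hz := P.Q_comm q hq r hr.2
          have e2 : P.t * r * P.t * r⁻¹ = P.t * ⁅q, r⁆⁻¹ * P.t⁻¹ := by
            calc P.t * r * P.t * r⁻¹ = P.t * r * P.t⁻¹ * (P.t * q * r * (P.t * q)⁻¹)⁻¹ := by
                  rw [hq', P.toCtx.t_inv_eq]
              _ = _ := by rw [commutatorElement_def]; group
          rw [e2]
          exact P.toFrame.normZ_mem (P.toData.L_norm P.t_mem) (inv_mem hz)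
      · exact (Nat.prime_dvd_prime_iff_eq hp Nat.prime_three).1 (hp.dvd_of_dvd_pow h)
    · exfalso
      have hp5 := (Nat.prime_dvd_prime_iff_eq hp (by norm_num)).1 h
      rw [hp5] at hup
      set H := P.Q ⊓ centralizer ({r} : Set G) with hH
      have hzH : P.zz ∈ H := ⟨P.Z_le_Q P.zz_mem,
        mem_centralizer_singleton_iff.2 (P.toData.Z_comm_Q hr.2 P.zz_mem)⟩
      have hHn : ∀ k ∈ H, (u : G) * k * (u : G)⁻¹ ∈ H := fun k hk =>
        ⟨P.Q_normal _ (P.toData.L_norm u.2.1) k hk.1, mem_centralizer_singleton_iff.2 (by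
          have h1 := mem_centralizer_singleton_iff.1 hk.2
          have hr' : (u : G) * r * (u : G)⁻¹ = r := by rw [hur, mul_inv_cancel_right]
          nth_rewrite 1 [← hr']
          rw [conj_mul, h1, ← conj_mul, hr'])⟩
      obtain ⟨n, hn, hHn'⟩ := (Nat.dvd_prime_pow Nat.prime_three).1
        (show Nat.card H ∣ 3 ^ 5 by
          rw [show (3 : ℕ) ^ 5 = Nat.card P.Q by rw [P.Q_card]; norm_num]
          exact card_dvd_of_le inf_le_left)
      have hn4 : n ≤ 4 := by
        by_contra hlt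
        have hHQ : H = P.Q := eq_of_le_of_card_ge inf_le_left (by
          rw [hHn', P.Q_card, show n = 5 by omega]; norm_num)
        refine hrZ (P.Z_center r hr.2 fun b hb => ?_)
        exact (mem_centralizer_singleton_iff.1 ((hHQ.symm ▸ hb : b ∈ H).2)).symm
      have hall := commute_of_five hHn' hn4 hup hHn hzH P.zz_ne
        (P.toData.comm_Z (P.L_le u.2.1) P.zz_mem).symm
      exact hu1 (P.eq_one_of_cent (H := H) inf_le_left (fun v hv hvc => ⟨hv,
          mem_centralizer_singleton_iff.2 (hvc r ⟨hr.2, mem_centralizer_singleton_iff.2 rfl⟩)⟩)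
        (P.toData.L_norm u.2.1) (m := 5) (by norm_num) hup hall)
  exact IsPGroup.of_card (n := (Nat.card U).primeFactorsList.length)
    (Nat.eq_prime_pow_of_unique_prime_dvd Nat.card_pos.ne' hno)

theorem J_le_centL {r : G} (hr : r ∈ P.R) : P.J ≤ P.L ⊓ centralizer ({r} : Set G) := fun j hj =>
  ⟨P.toData.S_le_L (P.J_le hj), mem_centralizer_singleton_iff.2 (P.J_comm j hj r hr.1)⟩

theorem L_conj {x l : G} (hx : x ∈ centralizer (P.Z : Set G)) (hl : l ∈ P.L) : x * l * x⁻¹ ∈ P.L :=
  P.L_normal x (centralizer_le_normalizer _ hx) l hl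

/-- An element of `C(Z)` fixing an element of `R ∖ Z` normalises `J`. -/
theorem cent_zr {r x : G} (hr : r ∈ P.R) (hrZ : r ∉ P.Z) (hxz : x * P.zz * x⁻¹ = P.zz)
    (hxr : x * r = r * x) : x ∈ normalizer (P.J : Set G) := by
  refine P.toCtx.J_weak (P.centL_pgroup hr hrZ) (P.J_le_centL hr) fun a ha => ?_
  refine ⟨P.L_conj (P.cent_Z_of hxz) (P.J_le_centL hr ha).1, mem_centralizer_singleton_iff.2 ?_⟩
  have h := mem_centralizer_singleton_iff.1 (P.J_le_centL hr ha).2
  have hr' : x * r * x⁻¹ = r := by rw [hxr, mul_inv_cancel_right]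
  nth_rewrite 1 [← hr']
  rw [conj_mul, h, ← conj_mul, hr']

theorem exists_R : ∃ r ∈ P.R, r ∉ P.Z := by
  by_contra hc
  push Not at hc
  have := card_le_of_le (show P.R ≤ P.Z from hc)
  rw [P.toData.card_R, P.Z_card] at this
  omega

/-- An element fixing `zz` and `y` normalises `J`. -/
theorem cent_zy {x : G} (hxz : x * P.zz * x⁻¹ = P.zz) (hxy : x * P.y * x⁻¹ = P.y) :
    x ∈ normalizer (P.J : Set G) := by
  obtain ⟨r, hr, hrZ⟩ := P.exists_R
  set U := P.L ⊓ centralizer (P.R : Set G)
  have hxc := P.cent_Z_of hxz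
  have hxN : x ∈ normalizer (P.Z : Set G) := centralizer_le_normalizer _ hxc
  have hU : IsPGroup 3 U := (P.centL_pgroup hr hrZ).to_le (inf_le_inf_left _ (centralizer_le (by simpa using hr)))
  have hJU : P.J ≤ U := fun j hj => ⟨(P.J_le_centL hr hj).1, mem_centralizer_iff.2 fun w hw =>
    P.J_comm w hw.1 j hj⟩
  refine P.toCtx.J_weak hU hJU fun a ha => ⟨P.L_conj hxc (hJU ha).1, mem_centralizer_iff.2 fun w hw => ?_⟩
  have hxi : x⁻¹ * P.y * x = P.y := by
    nth_rewrite 1 [← hxy]
    group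
  have hw' : x⁻¹ * w * x ∈ P.R := by
    simpa using P.toFrame.conj_R (inv_mem hxN) (Or.inl (by rw [inv_inv]; exact hxi)) hw
  have hc := P.J_comm _ hw'.1 a ha
  calc w * (x * a * x⁻¹) = x * ((x⁻¹ * w * x) * a) * x⁻¹ := by group
    _ = x * (a * (x⁻¹ * w * x)) * x⁻¹ := by rw [hc]
    _ = _ := by group

/-- `J` is self-centralizing. -/
theorem cent_J {x : G} (hx : ∀ j ∈ P.J, x * j = j * x) : x ∈ P.J := by
  haveI : Fact (Nat.Prime 3) := ⟨Nat.prime_three⟩
  obtain ⟨r, hr, hrZ⟩ := P.exists_R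
  have hxz : x * P.zz * x⁻¹ = P.zz := by
    rw [hx _ (P.toData.Z_le_J P.zz_mem), mul_inv_cancel_right]
  have hxc := P.cent_Z_of hxz
  set A : Subgroup G := centralizer (P.J : Set G) with hA
  have hAp : IsPGroup 3 A := by
    rintro ⟨w, hw⟩
    obtain ⟨a', m', hm', hord'⟩ := Nat.exists_eq_pow_mul_and_not_dvd (orderOf_pos w).ne' 3 (by norm_num)
    refine ⟨a', Subtype.ext (P.eq_one_of_cent (H := P.R) P.toData.R_le_Q
      (fun v hv h => P.toData.cent_R hv h) (u := w ^ 3 ^ a')
      (pow_mem (centralizer_le_normalizer _ ?_) _)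
      (((Nat.Prime.coprime_iff_not_dvd Nat.prime_three).2 hm').symm)
      (by rw [← pow_mul, ← hord', pow_orderOf_eq_one])
      (fun v hv => (Commute.pow_left (Commute.symm (mem_centralizer_iff.1 hw v hv.1)) _).eq))⟩
    exact mem_centralizer_iff.2 fun v hv => mem_centralizer_iff.1 hw v (P.toData.Z_le_J hv)
  have hSn : (P.S : Subgroup G) ≤ normalizer (A : Set G) := by
    intro s hs
    refine mem_normalizer_iff.2 fun w => ?_
    have hsN := P.toCtx.normalizer_S_le (le_normalizer hs)
    simp only [hA, mem_centralizer_iff]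
    constructor
    · intro h j hj
      have h' := h _ ((mem_normalizer_iff''.1 hsN j).1 hj)
      calc j * (s * w * s⁻¹) = s * ((s⁻¹ * j * s) * w) * s⁻¹ := by group
        _ = s * (w * (s⁻¹ * j * s)) * s⁻¹ := by rw [h']
        _ = _ := by group
    · intro h j hj
      have h' := h _ ((mem_normalizer_iff.1 hsN j).1 hj)
      calc j * w = s⁻¹ * ((s * j * s⁻¹) * (s * w * s⁻¹)) * s := by group
        _ = s⁻¹ * ((s * w * s⁻¹) * (s * j * s⁻¹)) * s := by rw [h']
        _ = _ := by group
  have hsup : IsPGroup 3 ↥((P.S : Subgroup G) ⊔ A) := P.S.2.to_sup_of_normal_right' hAp hSn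
  have hAS : A ≤ P.S := by
    have := P.S.3 hsup le_sup_left
    rw [← this]; exact le_sup_right
  exact P.toCtx.cent_R_S (hAS (mem_centralizer_iff.2 fun j hj => (hx j hj).symm)) fun w hw => hx w hw.1

end Local

end CfsgLib.McLThree
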