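import Cfsg.Agent.McLThree.CoreCent
import Cfsg.Agent.McLThree.Diag

/-!
Coordinates on `J/⟨zz y⟩` adapted to the three commuting involutions `t`, `g`, `t g`.
-/

set_option autoImplicit false
set_option maxHeartbeats 400000
set_option maxRecDepth 100000

namespace CfsgLib.McLThree

open Subgroup
/-- The coordinate space. -/
local notation "V" => Fin 3 → ZMod 3

universe u

variable {G : Type u} [Group G] [Finite G]

/-- An element `σ` permuting `t`, `g`, `t g` cyclically and conjugate in `N(J)` into `Q`. -/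
structure Axes (P : Local G) where
  n : G
  q : G
  σ : G
  n_N : n ∈ normalizer (P.J : Set G)
  r_R : n * (P.zz * P.y) * n⁻¹ ∈ P.R
  r_Z : n * (P.zz * P.y) * n⁻¹ ∉ P.Z
  q_Q : q ∈ P.Q
  q_r : q * (n * (P.zz * P.y) * n⁻¹) = n * (P.zz * P.y) * n⁻¹ * q
  σ_eq : σ = n⁻¹ * q * n
  σ_M : σ ∈ P.M
  σ_x : σ * (P.zz * P.y) = P.zz * P.y * σ
  σ_cube : σ * σ * σ = 1
  σ_t : σ * P.t * σ⁻¹ * P.g ∈ P.J
  σ_g : σ * P.g * σ⁻¹ * (P.t * P.g) ∈ P.J

namespace Axes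

variable {P : Local G} (A : Axes P)

/-- The diagonal element. -/
def x0 (_A : Axes P) : G := P.zz * P.y

theorem x0_J : A.x0 ∈ P.J := mul_mem (P.toData.Z_le_J P.zz_mem) P.toFrame.y_J

theorem x0_cube : A.x0 ^ 3 = 1 := by rw [pow_three']; exact P.J_cube _ A.x0_J

/-- Equality modulo the diagonal element. -/
def Cg (a b : G) : Prop := a⁻¹ * b ∈ zpowers A.x0

theorem cg_refl (a : G) : A.Cg a a := by simp [Cg]

theorem cg_symm {a b : G} (h : A.Cg a b) : A.Cg b a := by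
  have := inv_mem h; simpa [Cg] using this

theorem cg_trans {a b c : G} (h1 : A.Cg a b) (h2 : A.Cg b c) : A.Cg a c := by
  have := mul_mem h1 h2
  simpa [Cg, mul_assoc] using this

theorem cg_iff {a b : G} : A.Cg a b ↔ ∃ k : Fin 3, b = a * A.x0 ^ (k : ℕ) := by
  constructor
  · intro h
    rcases ThreeLocalEight.zpowers_three A.x0_cube h with e | e | e
    · exact ⟨0, by rw [Fin.val_zero, pow_zero, mul_one, inv_mul_eq_one.1 e]⟩
    · exact ⟨1, by rw [Fin.val_one, pow_one, ← e]; group⟩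
    · refine ⟨2, ?_⟩
      rw [show A.x0 ^ ((2 : Fin 3) : ℕ) = A.x0⁻¹ from (inv_eq_of_mul_eq_one_right (by
        show A.x0 * A.x0 ^ 2 = 1
        rw [← pow_succ']; exact A.x0_cube)).symm, ← e]
      group
  · rintro ⟨k, rfl⟩
    show a⁻¹ * (a * A.x0 ^ (k : ℕ)) ∈ zpowers A.x0
    rw [inv_mul_cancel_left]; exact pow_mem (mem_zpowers _) _

theorem cg_J {a b : G} (ha : a ∈ P.J) (h : A.Cg a b) : b ∈ P.J := by
  obtain ⟨k, rfl⟩ := A.cg_iff.1 h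
  exact mul_mem ha (pow_mem A.x0_J _)

theorem cg_mul {a b c d : G} (hb : b ∈ P.J) (hc : c ∈ P.J) (h1 : A.Cg a b) (h2 : A.Cg c d) :
    A.Cg (a * c) (b * d) := by
  obtain ⟨k, rfl⟩ := A.cg_iff.1 h1
  obtain ⟨l, rfl⟩ := A.cg_iff.1 h2
  show (a * c)⁻¹ * (a * A.x0 ^ (k : ℕ) * (c * A.x0 ^ (l : ℕ))) ∈ zpowers A.x0
  have e : (a * c)⁻¹ * (a * A.x0 ^ (k : ℕ) * (c * A.x0 ^ (l : ℕ))) =
      c⁻¹ * (A.x0 ^ (k : ℕ) * c) * A.x0 ^ (l : ℕ) := by group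
  rw [e, P.J_comm _ (pow_mem A.x0_J _) c hc, inv_mul_cancel_left]
  exact mul_mem (pow_mem (mem_zpowers _) _) (pow_mem (mem_zpowers _) _)

theorem cg_conj {a b u : G} (hu : u * A.x0 * u⁻¹ ∈ zpowers A.x0) (h : A.Cg a b) :
    A.Cg (u * a * u⁻¹) (u * b * u⁻¹) := by
  obtain ⟨k, hk⟩ := mem_zpowers_iff.1 h
  show (u * a * u⁻¹)⁻¹ * (u * b * u⁻¹) ∈ zpowers A.x0
  have e : (u * a * u⁻¹)⁻¹ * (u * b * u⁻¹) = u * (a⁻¹ * b) * u⁻¹ := by group
  rw [e, ← hk, ← conj_zpow]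
  exact zpow_mem hu k

theorem conj_x0 {u : G} (hu : u * A.x0 = A.x0 * u) : u * A.x0 * u⁻¹ ∈ zpowers A.x0 := by
  rw [hu, mul_inv_cancel_right]; exact mem_zpowers _

/-! The basis. -/

/-- The second basis element. -/
def e2 : G := A.σ * P.zz * A.σ⁻¹

/-- The third basis element. -/
def e3 : G := A.σ * A.e2 * A.σ⁻¹

theorem σ_N : A.σ ∈ normalizer (P.J : Set G) := P.M_le A.σ_M

theorem e2_J : A.e2 ∈ P.J := (mem_normalizer_iff.1 A.σ_N _).1 (P.toData.Z_le_J P.zz_mem)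

theorem e3_J : A.e3 ∈ P.J := (mem_normalizer_iff.1 A.σ_N _).1 A.e2_J

theorem σ_e3 : A.σ * A.e3 * A.σ⁻¹ = P.zz := by
  show A.σ * (A.σ * (A.σ * P.zz * A.σ⁻¹) * A.σ⁻¹) * A.σ⁻¹ = P.zz
  have e : A.σ * (A.σ * (A.σ * P.zz * A.σ⁻¹) * A.σ⁻¹) * A.σ⁻¹ =
      (A.σ * A.σ * A.σ) * P.zz * (A.σ * A.σ * A.σ)⁻¹ := by group
  rw [e, A.σ_cube]; group

/-- The element with given coordinates. -/
def E (v : V) : G := P.zz ^ (v 0).val * A.e2 ^ (v 1).val * A.e3 ^ (v 2).val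

theorem E_J (v : V) : A.E v ∈ P.J :=
  mul_mem (mul_mem (pow_mem (P.toData.Z_le_J P.zz_mem) _) (pow_mem A.e2_J _)) (pow_mem A.e3_J _)

theorem pow_val_add {a : G} (ha : a ∈ P.J) (x y : ZMod 3) :
    a ^ (x + y).val = a ^ x.val * a ^ y.val := by
  rw [← pow_add, ZMod.val_add]
  exact (pow_mod_of_pow_eq_one a (by rw [pow_three']; exact P.J_cube a ha) _).symm
where
  pow_mod_of_pow_eq_one (a : G) (h : a ^ 3 = 1) (m : ℕ) : a ^ m = a ^ (m % 3) := by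
    conv_lhs => rw [← Nat.div_add_mod m 3, pow_add, pow_mul, h, one_pow, one_mul]

theorem E_add (v w : V) : A.E (v + w) = A.E v * A.E w := by
  have hz := P.toData.Z_le_J P.zz_mem
  have c : ∀ {a b : G}, a ∈ P.J → b ∈ P.J → Commute a b := fun ha hb => P.J_comm _ ha _ hb
  simp only [E, Pi.add_apply, pow_val_add hz, pow_val_add A.e2_J, pow_val_add A.e3_J]
  calc P.zz ^ (v 0).val * P.zz ^ (w 0).val * (A.e2 ^ (v 1).val * A.e2 ^ (w 1).val) *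
        (A.e3 ^ (v 2).val * A.e3 ^ (w 2).val)
      = P.zz ^ (v 0).val * A.e2 ^ (v 1).val * P.zz ^ (w 0).val * A.e2 ^ (w 1).val *
        (A.e3 ^ (v 2).val * A.e3 ^ (w 2).val) := by
        rw [show P.zz ^ (v 0).val * P.zz ^ (w 0).val * (A.e2 ^ (v 1).val * A.e2 ^ (w 1).val) =
            P.zz ^ (v 0).val * (P.zz ^ (w 0).val * A.e2 ^ (v 1).val) * A.e2 ^ (w 1).val by group,
          (c (pow_mem hz _) (pow_mem A.e2_J _)).eq]
        group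
    _ = P.zz ^ (v 0).val * A.e2 ^ (v 1).val * ((P.zz ^ (w 0).val * A.e2 ^ (w 1).val) *
        A.e3 ^ (v 2).val) * A.e3 ^ (w 2).val := by group
    _ = _ := by
        rw [(c (mul_mem (pow_mem hz _) (pow_mem A.e2_J _)) (pow_mem A.e3_J _)).eq]
        group

theorem E_zero : A.E 0 = 1 := by simp [E]

theorem E_neg (v : V) : A.E (-v) = (A.E v)⁻¹ :=
  eq_inv_of_mul_eq_one_left (by rw [← A.E_add, neg_add_cancel, A.E_zero])

/-- The unit vectors. -/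
def dl (k : Fin 3) : V := fun i => if i = k then 1 else 0

theorem E_dl : A.E (dl 0) = P.zz ∧ A.E (dl 1) = A.e2 ∧ A.E (dl 2) = A.e3 := by
  have h1 : (1 : ZMod 3).val = 1 := rfl
  have h0 : (0 : ZMod 3).val = 0 := rfl
  simp [E, dl, h1, h0]

theorem vec_span : ∀ v : V, v = (v 0).val • dl 0 + (v 1).val • dl 1 + (v 2).val • dl 2 := by
  decide +kernel

/-- `u` acts on the coordinates as `L`. -/
def Acts (u : G) (L : V → V) : Prop := ∀ v, A.Cg (u * A.E v * u⁻¹) (A.E (L v))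

theorem acts_of_basis {u : G} {L : V → V} (hL : ∀ v w, L (v + w) = L v + L w)
    (h : ∀ k, A.Cg (u * A.E (dl k) * u⁻¹) (A.E (L (dl k)))) : A.Acts u L := by
  have hz : L 0 = 0 := by
    have := hL 0 0
    rw [add_zero] at this
    exact left_eq_add.1 this
  have key : ∀ v w, A.Cg (u * A.E v * u⁻¹) (A.E (L v)) → A.Cg (u * A.E w * u⁻¹) (A.E (L w)) →
      A.Cg (u * A.E (v + w) * u⁻¹) (A.E (L (v + w))) := by
    intro v w hv hw
    rw [hL, A.E_add, A.E_add, ← conj_mul]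
    exact A.cg_mul (A.E_J _) (A.cg_J (A.E_J _) (A.cg_symm hw)) hv hw
  have hn : ∀ k (m : ℕ), A.Cg (u * A.E (m • dl k) * u⁻¹) (A.E (L (m • dl k))) := by
    intro k m
    induction m with
    | zero => simp [hz, A.E_zero, A.cg_refl]
    | succ m ih => rw [succ_nsmul]; exact key _ _ ih (h k)
  intro v
  rw [vec_span v]
  exact key _ _ (key _ _ (hn 0 _) (hn 1 _)) (hn 2 _)

theorem acts_comp {u w : G} {L L' : V → V} (hw : w * A.x0 * w⁻¹ ∈ zpowers A.x0) (hu : A.Acts u L)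
    (hw' : A.Acts w L') : A.Acts (w * u) (L' ∘ L) := fun v => by
  have e : w * u * A.E v * (w * u)⁻¹ = w * (u * A.E v * u⁻¹) * w⁻¹ := by group
  rw [e]
  exact A.cg_trans (A.cg_conj hw (hu v)) (hw' _)

theorem act_congr {m m' : G} (hm' : m' ∈ normalizer (P.J : Set G)) (h : m'⁻¹ * m ∈ P.J) {j : G}
    (hj : j ∈ P.J) : m * j * m⁻¹ = m' * j * m'⁻¹ := by
  have e : m * j * m⁻¹ = m' * (m'⁻¹ * m * j * (m'⁻¹ * m)⁻¹) * m'⁻¹ := by group
  rw [e, P.J_comm _ h j hj, mul_inv_cancel_right]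

theorem img_congr {m m' : P.M}
    (h : (P.f m : Equiv.Perm (Fin 6)) = (P.f m' : Equiv.Perm (Fin 6))) : (m' : G)⁻¹ * m ∈ P.J :=
  (P.f_ker (m'⁻¹ * m)).1 (by rw [map_mul, map_inv, Subtype.ext h, inv_mul_cancel])

/-! The actions of `σ`, `t` and `g`. -/

/-- The cyclic shift. -/
def shift (v : V) : V := ![v 2, v 0, v 1]

/-- The map induced by `t`. -/
def mT (v : V) : V := ![v 0, -v 1, -v 2]

/-- The map induced by `g`. -/
def mG (v : V) : V := ![-v 0, v 1, -v 2]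

theorem maps_add : (∀ v w, shift (v + w) = shift v + shift w) ∧ (∀ v w, mT (v + w) = mT v + mT w) ∧
    (∀ v w, mG (v + w) = mG v + mG w) := by
  refine ⟨fun v w => ?_, fun v w => ?_, fun v w => ?_⟩ <;> ext i <;> fin_cases i <;>
    simp [shift, mT, mG] <;> abel

theorem maps_dl : shift (dl 0) = dl 1 ∧ shift (dl 1) = dl 2 ∧ shift (dl 2) = dl 0 ∧
    mT (dl 0) = dl 0 ∧ mT (dl 1) = -dl 1 ∧ mT (dl 2) = -dl 2 ∧
    mG (dl 0) = -dl 0 ∧ mG (dl 1) = dl 1 ∧ mG (dl 2) = -dl 2 := by decide +kernel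

theorem acts_σ : A.Acts A.σ shift := A.acts_of_basis maps_add.1 fun k => by
  obtain ⟨h1, h2, h3, -⟩ := maps_dl
  fin_cases k
  · show A.Cg (A.σ * A.E (dl 0) * A.σ⁻¹) (A.E (shift (dl 0)))
    rw [h1, A.E_dl.1, A.E_dl.2.1]; exact A.cg_refl _
  · show A.Cg (A.σ * A.E (dl 1) * A.σ⁻¹) (A.E (shift (dl 1)))
    rw [h2, A.E_dl.2.1, A.E_dl.2.2]; exact A.cg_refl _
  · show A.Cg (A.σ * A.E (dl 2) * A.σ⁻¹) (A.E (shift (dl 2)))
    rw [h3, A.E_dl.2.2, A.E_dl.1, A.σ_e3]; exact A.cg_refl _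

theorem σ_conj : ∃ S : Equiv.Perm (Fin 6), (P.f ⟨A.σ, A.σ_M⟩ : Equiv.Perm (Fin 6)) = S ∧
    S⁻¹ * (Six.pc * Six.pc) * S = Six.pc * Six.pc * Six.pg ∧ S⁻¹ * Six.pg * S = Six.pc * Six.pc := by
  refine ⟨_, rfl, ?_⟩
  set S := (P.f ⟨A.σ, A.σ_M⟩ : Equiv.Perm (Fin 6))
  have hM : ∀ {u : G}, u ∈ P.M → A.σ * u * A.σ⁻¹ ∈ P.M := fun hu =>
    mul_mem (mul_mem A.σ_M hu) (inv_mem A.σ_M)
  have h1 := congrArg (fun w : alternatingGroup (Fin 6) => (w : Equiv.Perm (Fin 6)))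
    ((P.f_ker (⟨A.σ, A.σ_M⟩ * ⟨P.t, P.t_M⟩ * ⟨A.σ, A.σ_M⟩⁻¹ * ⟨P.g, P.g_M⟩)).2 A.σ_t)
  have h2 := congrArg (fun w : alternatingGroup (Fin 6) => (w : Equiv.Perm (Fin 6)))
    ((P.f_ker (⟨A.σ, A.σ_M⟩ * ⟨P.g, P.g_M⟩ * ⟨A.σ, A.σ_M⟩⁻¹ * (⟨P.t, P.t_M⟩ * ⟨P.g, P.g_M⟩))).2 A.σ_g)
  simp only [map_mul, map_inv, Subgroup.coe_mul, InvMemClass.coe_inv, OneMemClass.coe_one, P.g_img,
    P.t_fimg] at h1 h2
  change S * _ * S⁻¹ * _ = 1 at h1
  change S * _ * S⁻¹ * _ = 1 at h2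
  set T := Six.pc * Six.pc with hT
  have hG : Six.pg⁻¹ = Six.pg := inv_eq_of_mul_eq_one_right Six.pg_facts.1
  have hTT : T⁻¹ = T := inv_eq_of_mul_eq_one_right Six.pc_facts.1
  have hc : Six.pg * T = T * Six.pg := Six.pg_facts.2.1
  have e1 : S * T * S⁻¹ = Six.pg := by rw [mul_eq_one_iff_eq_inv.1 h1, hG]
  have e2 : S * Six.pg * S⁻¹ = T * Six.pg := by
    rw [mul_eq_one_iff_eq_inv.1 h2, mul_inv_rev, hG, hTT, hc]
  constructor
  · calc S⁻¹ * T * S = S⁻¹ * (Six.pg * (T * Six.pg)) * S := by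
          rw [← hc, ← mul_assoc Six.pg, Six.pg_facts.1, one_mul]
      _ = S⁻¹ * ((S * T * S⁻¹) * (S * Six.pg * S⁻¹)) * S := by rw [e1, e2]
      _ = _ := by group
  · calc S⁻¹ * Six.pg * S = S⁻¹ * (S * T * S⁻¹) * S := by rw [e1]
      _ = _ := by group

/-- The transport of an action along `σ`. -/
theorem conj_σ {u u' : G} (hu : u ∈ P.M) (hu' : u' ∈ P.M) {S : Equiv.Perm (Fin 6)}
    (hS : (P.f ⟨A.σ, A.σ_M⟩ : Equiv.Perm (Fin 6)) = S)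
    (h : S⁻¹ * (P.f ⟨u, hu⟩ : Equiv.Perm (Fin 6)) * S = (P.f ⟨u', hu'⟩ : Equiv.Perm (Fin 6)))
    {a b : G} (ha : a ∈ P.J) (hab : A.Cg (u' * a * u'⁻¹) b) :
    A.Cg (u * (A.σ * a * A.σ⁻¹) * u⁻¹) (A.σ * b * A.σ⁻¹) := by
  have hJ : u'⁻¹ * (A.σ⁻¹ * u * A.σ) ∈ P.J := by
    have := img_congr (m := ⟨A.σ, A.σ_M⟩⁻¹ * ⟨u, hu⟩ * ⟨A.σ, A.σ_M⟩) (m' := ⟨u', hu'⟩) (by
      simp only [map_mul, map_inv, Subgroup.coe_mul, InvMemClass.coe_inv]
      rw [hS]; exact h)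
    simpa using this
  have e : u * (A.σ * a * A.σ⁻¹) * u⁻¹ = A.σ * ((A.σ⁻¹ * u * A.σ) * a * (A.σ⁻¹ * u * A.σ)⁻¹) * A.σ⁻¹ := by
    group
  rw [e, act_congr (P.M_le hu') hJ ha]
  exact A.cg_conj (A.conj_x0 A.σ_x) hab

theorem cg_y : A.Cg P.y P.zz⁻¹ := by
  show P.y⁻¹ * P.zz⁻¹ ∈ zpowers A.x0
  rw [← mul_inv_rev]; exact inv_mem (mem_zpowers _)

theorem t_x : P.t * A.x0 = A.x0 * P.t :=
  (Commute.mul_right (P.toCtx.t_comm_Z P.zz_mem).symm (P.toCtx.mem_D.1 P.y_D).2.symm :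
    Commute P.t (P.zz * P.y)).eq

theorem g_x : P.g * A.x0 = A.x0 * P.g := by
  have hc : P.zz * P.y = P.y * P.zz := P.toCtx.E_Z P.y_E P.zz_mem
  refine mul_inv_eq_iff_eq_mul.1 ?_
  show P.g * (P.zz * P.y) * P.g⁻¹ = P.zz * P.y
  rw [← conj_mul, P.g_z, P.g_y, hc]

theorem tg_zz : A.Cg (P.t * P.g * P.zz * (P.t * P.g)⁻¹) P.zz⁻¹ := by
  have e : P.t * P.g * P.zz * (P.t * P.g)⁻¹ = P.y := by
    rw [show P.t * P.g * P.zz * (P.t * P.g)⁻¹ = P.t * (P.g * P.zz * P.g⁻¹) * P.t⁻¹ by group, P.g_z,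
      ← (P.toCtx.mem_D.1 P.y_D).2, mul_inv_cancel_right]
  rw [e]; exact A.cg_y

theorem t_zz : A.Cg (P.t * P.zz * P.t⁻¹) P.zz := by
  rw [← P.toCtx.t_comm_Z P.zz_mem, mul_inv_cancel_right]; exact A.cg_refl _

theorem g_zz : A.Cg (P.g * P.zz * P.g⁻¹) P.zz⁻¹ := by rw [P.g_z]; exact A.cg_y

theorem tg_img : (P.f ⟨P.t * P.g, mul_mem P.t_M P.g_M⟩ : Equiv.Perm (Fin 6)) =
    Six.pc * Six.pc * Six.pg := by
  rw [show (⟨P.t * P.g, mul_mem P.t_M P.g_M⟩ : P.M) = ⟨P.t, P.t_M⟩ * ⟨P.g, P.g_M⟩ from rfl,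
    map_mul, Subgroup.coe_mul, P.g_img, P.t_fimg]

theorem acts_tg : A.Acts P.t mT ∧ A.Acts P.g mG := by
  obtain ⟨S, hS, hT, hG⟩ := A.σ_conj
  have hz := P.toData.Z_le_J P.zz_mem
  have htg : P.t * P.g ∈ P.M := mul_mem P.t_M P.g_M
  obtain ⟨-, -, -, T0, T1, T2, G0, G1, G2⟩ := maps_dl
  obtain ⟨E0, E1, E2⟩ := A.E_dl
  -- `t` on `e2`, `g` on `e2`
  have t2 : A.Cg (P.t * A.e2 * P.t⁻¹) A.e2⁻¹ := by
    have := A.conj_σ P.t_M htg hS (by rw [P.t_fimg, tg_img (P := P)]; exact hT) hz A.tg_zz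
    rwa [← conj_inv] at this
  have g2 : A.Cg (P.g * A.e2 * P.g⁻¹) A.e2 :=
    A.conj_σ P.g_M P.t_M hS (by rw [P.g_img, P.t_fimg]; exact hG) hz A.t_zz
  -- `t g` on `e2`
  have tg2 : A.Cg (P.t * P.g * A.e2 * (P.t * P.g)⁻¹) A.e2⁻¹ := by
    rw [show P.t * P.g * A.e2 * (P.t * P.g)⁻¹ = P.t * (P.g * A.e2 * P.g⁻¹) * P.t⁻¹ by group]
    exact A.cg_trans (A.cg_conj (A.conj_x0 A.t_x) g2) t2
  -- on `e3`
  have t3 : A.Cg (P.t * A.e3 * P.t⁻¹) A.e3⁻¹ := by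
    have := A.conj_σ P.t_M htg hS (by rw [P.t_fimg, tg_img (P := P)]; exact hT) A.e2_J tg2
    rwa [← conj_inv] at this
  have g3 : A.Cg (P.g * A.e3 * P.g⁻¹) A.e3⁻¹ := by
    have := A.conj_σ P.g_M P.t_M hS (by rw [P.g_img, P.t_fimg]; exact hG) A.e2_J t2
    rwa [← conj_inv] at this
  refine ⟨A.acts_of_basis maps_add.2.1 fun k => ?_, A.acts_of_basis maps_add.2.2 fun k => ?_⟩ <;>
    fin_cases k
  · show A.Cg (P.t * A.E (dl 0) * P.t⁻¹) (A.E (mT (dl 0)))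
    rw [T0, E0]; exact A.t_zz
  · show A.Cg (P.t * A.E (dl 1) * P.t⁻¹) (A.E (mT (dl 1)))
    rw [T1, A.E_neg, E1]; exact t2
  · show A.Cg (P.t * A.E (dl 2) * P.t⁻¹) (A.E (mT (dl 2)))
    rw [T2, A.E_neg, E2]; exact t3
  · show A.Cg (P.g * A.E (dl 0) * P.g⁻¹) (A.E (mG (dl 0)))
    rw [G0, A.E_neg, E0]; exact A.g_zz
  · show A.Cg (P.g * A.E (dl 1) * P.g⁻¹) (A.E (mG (dl 1)))
    rw [G1, E1]; exact g2
  · show A.Cg (P.g * A.E (dl 2) * P.g⁻¹) (A.E (mG (dl 2)))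
    rw [G2, A.E_neg, E2]; exact g3

/-! Uniqueness of coordinates. -/

theorem zz_notMem : P.zz ∉ zpowers A.x0 := by
  intro h
  rcases ThreeLocalEight.zpowers_three A.x0_cube h with e | e | e
  · exact P.zz_ne e
  · exact P.y_Q (by
      rw [show P.y = 1 from mul_eq_left.1 e.symm]
      exact one_mem _)
  · refine P.y_Q ?_
    have : P.y = P.zz⁻¹ * P.zz⁻¹ := by
      rw [show A.x0 = P.zz * P.y from rfl] at e
      calc P.y = P.zz⁻¹ * (P.zz * P.y) := by group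
        _ = P.zz⁻¹ * P.zz⁻¹ := by rw [← inv_inv (P.zz * P.y), ← e]
    rw [this]
    exact P.Q.mul_mem (P.Q.inv_mem (P.Z_le_Q P.zz_mem)) (P.Q.inv_mem (P.Z_le_Q P.zz_mem))

theorem E_eq_zero {v : V} (h : A.Cg 1 (A.E v)) : v = 0 := by
  have h0 : ∀ w : V, A.Cg 1 (A.E w) → w 0 = 0 := by
    intro w hw
    have h1 : A.Cg 1 (A.E (mT w)) := by
      have := A.cg_conj (A.conj_x0 A.t_x) hw
      rw [mul_one, mul_inv_cancel] at this
      exact A.cg_trans this (A.acts_tg.1 w)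
    have h2 := A.cg_mul (A.E_J _) (one_mem _) hw h1
    rw [one_mul, ← A.E_add] at h2
    by_contra hne
    have e : w + mT w = (w 0 + w 0).val • dl 0 := by
      have k : ∀ w : V, w + mT w = (w 0 + w 0).val • dl 0 := by decide +kernel
      exact k w
    have hne' : (w 0 + w 0).val = 1 ∨ (w 0 + w 0).val = 2 := by
      have k : ∀ x : ZMod 3, x ≠ 0 → (x + x).val = 1 ∨ (x + x).val = 2 := by decide
      exact k _ hne
    rw [e] at h2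
    have h3 : A.E ((w 0 + w 0).val • dl 0) ∈ zpowers A.x0 := by simpa [Cg] using h2
    rcases hne' with hv | hv <;> rw [hv] at h3
    · rw [one_nsmul, A.E_dl.1] at h3; exact A.zz_notMem h3
    · rw [two_nsmul, A.E_add, A.E_dl.1] at h3
      refine A.zz_notMem ?_
      have h4 := inv_mem h3
      rwa [inv_eq_of_mul_eq_one_right (P.Q_cube _ (P.Z_le_Q P.zz_mem))] at h4
  have hs : ∀ w : V, A.Cg 1 (A.E w) → A.Cg 1 (A.E (shift w)) := by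
    intro w hw
    have := A.cg_conj (A.conj_x0 A.σ_x) hw
    rw [mul_one, mul_inv_cancel] at this
    exact A.cg_trans this (A.acts_σ w)
  have a := h0 v h
  have b := h0 _ (hs _ h)
  have c := h0 _ (hs _ (hs _ h))
  ext i; fin_cases i
  · exact a
  · exact c
  · exact b

theorem coord_unique {v w : V} (h : A.Cg (A.E v) (A.E w)) : v = w := by
  have h1 := A.cg_mul (A.E_J _) (A.E_J (-v)) h (A.cg_refl (A.E (-v)))
  rw [← A.E_add, ← A.E_add, add_neg_cancel, A.E_zero] at h1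
  exact (eq_of_sub_eq_zero (by rw [sub_eq_add_neg]; exact A.E_eq_zero h1)).symm

theorem exists_coord {j : G} (hj : j ∈ P.J) : ∃ v, A.Cg (A.E v) j := by
  haveI : Fintype P.J := Fintype.ofFinite _
  let F : V × Fin 3 → P.J := fun p => ⟨A.E p.1 * A.x0 ^ (p.2 : ℕ), mul_mem (A.E_J _) (pow_mem A.x0_J _)⟩
  have hinj : Function.Injective F := by
    rintro ⟨v, k⟩ ⟨w, l⟩ h
    have h' : A.E v * A.x0 ^ (k : ℕ) = A.E w * A.x0 ^ (l : ℕ) := congrArg Subtype.val h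
    have hvw : v = w := A.coord_unique (A.cg_trans (A.cg_iff.2 ⟨k, rfl⟩)
      (A.cg_symm (A.cg_iff.2 ⟨l, h'⟩)))
    subst hvw
    have hp := mul_left_cancel h'
    have hord : orderOf A.x0 = 3 := orderOf_eq_prime (hp := ⟨Nat.prime_three⟩) A.x0_cube fun e =>
      A.r_Z (by
        show A.n * A.x0 * A.n⁻¹ ∈ P.Z
        rw [e, mul_one, mul_inv_cancel]; exact one_mem _)
    refine Prod.ext rfl (Fin.ext ?_)
    exact pow_injOn_Iio_orderOf (by rw [Set.mem_Iio, hord]; exact k.2) (by rw [Set.mem_Iio, hord]; exact l.2) hp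
  obtain ⟨⟨v, k⟩, hp⟩ := ((Fintype.bijective_iff_injective_and_card F).2 ⟨hinj, by
    rw [← Nat.card_eq_fintype_card (α := P.J), P.J_card]
    simp [Fintype.card_prod, Fintype.card_pi]⟩).2 ⟨j, hj⟩
  exact ⟨v, A.cg_iff.2 ⟨k, (congrArg Subtype.val hp).symm⟩⟩

theorem acts_unique {u : G} {L L' : V → V} (h : A.Acts u L) (h' : A.Acts u L') : L = L' :=
  funext fun v => A.coord_unique (A.cg_trans (A.cg_symm (h v)) (h' v))

/-- Elements of `C(x₀) ∩ N(J)` acting trivially lie in `J`. -/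
theorem acts_trivial {u : G} (hx : u * A.x0 = A.x0 * u)
    (hz : u * P.zz * u⁻¹ = P.zz) (he2 : u * A.e2 * u⁻¹ = A.e2) (he3 : u * A.e3 * u⁻¹ = A.e3) :
    u ∈ P.J := by
  refine P.cent_J fun j hj => ?_
  obtain ⟨v, hv⟩ := A.exists_coord hj
  obtain ⟨k, rfl⟩ := A.cg_iff.1 hv
  have c : ∀ {a}, u * a * u⁻¹ = a → Commute u a := fun h => mul_inv_eq_iff_eq_mul.1 h
  exact ((((c hz).pow_right _).mul_right ((c he2).pow_right _)).mul_right ((c he3).pow_right _)).mul_right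
    ((Commute.pow_right hx _))

end Axes

end CfsgLib.McLThree
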