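import Cfsg.Agent.McLThree.TwentySevenTwo

/-!
An elementary abelian subgroup of order 27 with automizer the alternating or symmetric group of
degree four acting monomially, and with the centralizers and fusion of its elements of weight one
and three controlled by the normalizer, is normal.
-/

set_option autoImplicit false
set_option maxRecDepth 100000
set_option linter.style.haveILetI false

namespace CfsgLib.McLThree.TwentySeven

open Subgroup Multiplicative
open CfsgLib.AltNine (mh ih)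

universe u

/-- The cyclic shift of a map. -/
def cyc (a : Fin 24) : ZMod 3 :=
  if oct a ![1, 0, 0] 0 ≠ 0 then 0 else if oct a ![1, 0, 0] 1 ≠ 0 then 1 else 2

theorem cyc_mul : ∀ a b, tet a = true → tet b = true → cyc (mh a b) = cyc a + cyc b := by
  decide +kernel

theorem cyc_sign : ∀ a, tet a = true → (cyc a = 0 ↔ isSign a = true) ∧
    (isSign a = true → mh a a = 0) ∧ (isSign a = false → mh a (mh a a) = 0) := by decide +kernel

theorem cyc_zero : cyc 0 = 0 := by decide +kernel

theorem sq_eq_one : ∀ t : Multiplicative (ZMod 3), t * t = 1 → t = 1 := by decide +kernel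

theorem e100_ne : (![1, 0, 0] : V) ≠ 0 := by decide +kernel

theorem sign_pat : ∀ a, isSign a = true → ∃ j, ∀ w, oct a w = pat false j w := by decide +kernel

theorem pat_sign : ∀ j, ∃ a, isSign a = true ∧ ∀ w, oct a w = pat false j w := by decide +kernel

namespace MonoHyp

variable {Y : Type u} [Group Y] [Finite Y]

/-- The octahedral case. -/
theorem normal_of_true (H : MonoHyp true Y) : H.i.range.Normal :=
  normal_octa
    { i := H.i
      inj := H.inj
      cent := fun _ ha => H.cent_all (fun h => ha (toAdd_eq_zero.1 h))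
      self := H.self
      norm := fun n hn => (H.norm n hn).imp fun a h => h.2
      surj := fun a => H.surj a rfl
      closed := fun _ _ h => H.closed h }

variable (H : MonoHyp false Y)

omit [Finite Y] in
theorem tet_ind (n : H.N) : tet (H.ind n) = true := H.ind_inList n

/-- The cyclic shift as a homomorphism. -/
noncomputable def shiftHom : H.N →* Multiplicative (ZMod 3) where
  toFun n := ofAdd (cyc (H.ind n))
  map_one' := by rw [H.ind_one]; rfl
  map_mul' n m := by
    rw [H.ind_mul, cyc_mul _ _ (H.tet_ind m) (H.tet_ind n), ← ofAdd_add, add_comm]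

/-- Elements of order three of the normalizer are fused only with the same shift. -/
theorem shift_fusion (y z : H.N) (hy3 : (y : Y) ^ 3 = 1) (g : Y)
    (h : g * (y : Y) * g⁻¹ = z) : H.shiftHom y = H.shiftHom z := by
  classical
  haveI : Fact (Nat.Prime 3) := ⟨Nat.prime_three⟩
  have back : (z : Y) ∈ H.i.range → (y : Y) ∈ H.i.range := fun hz => by
    obtain ⟨v, hv⟩ := H.exists_el hz
    have he : g⁻¹ * H.el v * g⁻¹⁻¹ = y := by rw [hv, ← h]; group
    rw [← he]
    exact H.closed (he ▸ y.2)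
  by_cases hyA : (y : Y) ∈ H.i.range
  · obtain ⟨v, hv⟩ := H.exists_el hyA
    have hzA : (z : Y) ∈ H.i.range := by
      rw [← h, ← hv]; exact H.closed (by rw [hv, h]; exact z.2)
    show ofAdd (cyc (H.ind y)) = ofAdd (cyc (H.ind z))
    rw [(H.ind_eq_zero y).2 hyA, (H.ind_eq_zero z).2 hzA]
  have hzA : (z : Y) ∉ H.i.range := fun hz => hyA (back hz)
  have hz3 : (z : Y) ^ 3 = 1 := by rw [← h, conj_pow, hy3, mul_one, mul_inv_cancel]
  have hz0 : H.ind z ≠ 0 := fun e => hzA ((H.ind_eq_zero z).1 e)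
  obtain ⟨f, hf0, -, hff, -⟩ :=
    fix_three _ (fun e => hyA ((H.ind_eq_zero y).1 e)) (H.ind_cube y hy3)
  obtain ⟨f', hf'0, -, hff', -⟩ := fix_three _ hz0 (H.ind_cube z hz3)
  set K := centralizer ({(z : Y)} : Set Y) with hK
  have hQ : IsPGroup 3 ((H.N ⊓ K).subgroupOf K) := by
    intro w
    refine ⟨2, Subtype.ext (Subtype.ext ?_)⟩
    push_cast
    obtain ⟨hwN, hwK⟩ := (mem_subgroupOf.1 w.2 : ((w : K) : Y) ∈ H.N ⊓ K)
    set w' : H.N := ⟨_, hwN⟩
    have hc : mh (H.ind z) (H.ind w') = mh (H.ind w') (H.ind z) := by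
      rw [← H.ind_mul, ← H.ind_mul]
      exact congrArg H.ind (Subtype.ext (mem_centralizer_singleton_iff.1 hwK))
    have h3 : H.ind (w' * w' * w') = 0 := by
      rw [H.ind_mul, H.ind_mul]
      have k : ∀ a b, a ≠ 0 → mh a (mh a a) = 0 → mh a b = mh b a → mh b (mh b b) = 0 := by
        decide +kernel
      exact k _ _ hz0 (H.ind_cube z hz3) hc
    have h9 := H.cube_mem ((H.ind_eq_zero _).1 h3)
    rw [← pow_three', Subgroup.coe_pow, ← pow_mul] at h9
    exact h9
  obtain ⟨P, hP⟩ := hQ.exists_le_sylow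
  have hPle : ∀ p : K, p ∈ (P : Subgroup K) → (p : Y) ∈ H.N := by
    by_contra hne
    haveI := P.2.isNilpotent
    have hlt : ((H.N ⊓ K).subgroupOf K).subgroupOf P < ⊤ := by
      rw [lt_top_iff_ne_top]
      intro ht
      refine hne fun p hp => ?_
      exact (mem_subgroupOf.1 (mem_subgroupOf.1
        (ht ▸ mem_top (⟨p, hp⟩ : (P : Subgroup K)))) : (p : Y) ∈ H.N ⊓ K).1
    obtain ⟨w, hw, hwA⟩ := SetLike.exists_of_lt (Group.normalizerCondition_of_isNilpotent _ hlt)
    have hfK : H.el f' ∈ H.N ⊓ K := ⟨H.range_le_N (H.el_mem f'),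
      mem_centralizer_singleton_iff.2 ((H.commute_iff z f').2 hff').symm⟩
    have hm : ((w : K) : Y) * H.el f' * ((w : K) : Y)⁻¹ ∈ H.N :=
      (mem_subgroupOf.1 (mem_subgroupOf.1 ((mem_normalizer_iff.1 hw
        ⟨⟨H.el f', hfK.2⟩, hP (mem_subgroupOf.2 hfK)⟩).1 (mem_subgroupOf.2 (mem_subgroupOf.2 hfK)))) :
          ((w : K) : Y) * H.el f' * ((w : K) : Y)⁻¹ ∈ H.N ⊓ K).1
    obtain ⟨u, hu⟩ := H.exists_el (H.closed hm)
    have hu0 : u ≠ 0 := by
      rintro rfl
      exact H.el_ne hf'0 (conj_eq_one_iff.1 (hu.symm.trans H.el_zero))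
    exact hwA (mem_subgroupOf.2 (mem_subgroupOf.2
      ⟨H.conj_mem_N (H.cent_all hu0) hu.symm, (w : K).2⟩))
  have huK : g * H.el f * g⁻¹ ∈ K := by
    rw [hK, mem_centralizer_singleton_iff, ← h]
    calc g * H.el f * g⁻¹ * (g * (y : Y) * g⁻¹) = g * (H.el f * y) * g⁻¹ := by group
      _ = g * ((y : Y) * H.el f) * g⁻¹ := by rw [((H.commute_iff y f).2 hff)]
      _ = _ := by group
  have hu : IsPGroup 3 (zpowers (⟨_, huK⟩ : K)) := by
    obtain ⟨j, -, hj⟩ := (Nat.dvd_prime_pow Nat.prime_three).1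
      (orderOf_dvd_of_pow_eq_one (show (⟨_, huK⟩ : K) ^ 3 ^ 1 = 1 from Subtype.ext (by
        push_cast
        rw [conj_pow, H.el_cube, mul_one, mul_inv_cancel])))
    exact IsPGroup.of_card (n := j) (by rw [Nat.card_zpowers, hj])
  obtain ⟨R, hR⟩ := hu.exists_le_sylow
  obtain ⟨k, hk⟩ := MulAction.exists_smul_eq K R P
  have hmem : ((k : Y) * g) * H.el f * ((k : Y) * g)⁻¹ ∈ H.N := by
    have hPk : k * ⟨_, huK⟩ * k⁻¹ ∈ (P : Subgroup K) := by
      rw [← hk, Sylow.coe_subgroup_smul]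
      exact ⟨_, hR (mem_zpowers _), rfl⟩
    have := hPle _ hPk
    rw [Subgroup.coe_mul, Subgroup.coe_mul, Subgroup.coe_inv] at this
    rw [show (k : Y) * g * H.el f * ((k : Y) * g)⁻¹ = (k : Y) * (g * H.el f * g⁻¹) * (k : Y)⁻¹ by group]
    exact this
  obtain ⟨u, hu'⟩ := H.exists_el (H.closed hmem)
  have hu0 : u ≠ 0 := by
    rintro rfl
    exact H.el_ne hf0 (conj_eq_one_iff.1 (hu'.symm.trans H.el_zero))
  set n : H.N := ⟨_, H.conj_mem_N (H.cent_all hu0) hu'.symm⟩
  have he : z = n * y * n⁻¹ := Subtype.ext (by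
    show (z : Y) = (k : Y) * g * y * ((k : Y) * g)⁻¹
    rw [show (k : Y) * g * y * ((k : Y) * g)⁻¹ = (k : Y) * (g * y * g⁻¹) * (k : Y)⁻¹ by group, h,
      mem_centralizer_singleton_iff.1 k.2, mul_inv_cancel_right])
  rw [he, map_mul, map_mul, map_inv, mul_comm (H.shiftHom n), mul_inv_cancel_right]

/-- The transfer of the shift at an element of order three. -/
theorem transfer_shift (x : H.N) (hx : (x : Y) ^ 3 = 1) :
    MonoidHom.transfer H.shiftHom (x : Y) = H.shiftHom x ^ H.N.index := by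
  classical
  haveI := H.N.fintypeQuotientOfFiniteIndex
  rw [MonoidHom.transfer_eq_prod_quotient_orbitRel_zpowers_quot, index_eq_sum_minimalPeriod H.N (x : Y),
    ← Finset.prod_pow_eq_pow_sum]
  refine Finset.prod_congr rfl fun q _ => ?_
  rw [← map_pow]
  refine (H.shift_fusion _ _ ?_ (q.out.out)⁻¹ ?_).symm
  · rw [Subgroup.coe_pow, ← pow_mul, mul_comm, pow_mul, hx, one_pow]
  · rw [inv_inv, Subgroup.coe_pow]

/-- The tetrahedral case. -/
theorem normal_of_false : H.i.range.Normal := by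
  classical
  haveI : Fact (Nat.Prime 3) := ⟨Nat.prime_three⟩
  set T := MonoidHom.transfer H.shiftHom with hT
  have hA : ∀ v, T (H.el v) = 1 := fun v => by
    have h := H.transfer_shift ⟨H.el v, H.range_le_N (H.el_mem v)⟩ (H.el_cube v)
    refine h.trans ?_
    show ofAdd (cyc (H.ind _)) ^ _ = 1
    rw [(H.ind_eq_zero _).2 (H.el_mem v), cyc_zero, ofAdd_zero, one_pow]
  obtain ⟨C, hC0, hCs⟩ := H.exists_compl
  have hN : ∀ n : H.N, T (n : Y) = 1 ↔ isSign (H.ind n) = true := by
    intro n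
    obtain ⟨c, hc, hcn⟩ := hCs _ (H.ind_inList n)
    have hn : T (n : Y) = T (c : Y) := by
      have h0 : H.ind (c⁻¹ * n) = 0 := by
        rw [H.ind_mul, H.ind_inv, hcn]; exact (mh_ih _).1
      obtain ⟨v, hv⟩ := H.exists_el ((H.ind_eq_zero _).1 h0)
      rw [show (n : Y) = (c : Y) * H.el v by rw [hv]; simp, map_mul, hA, mul_one]
    obtain ⟨hs0, hs2, hs3⟩ := cyc_sign _ (H.tet_ind n)
    rw [hn]
    by_cases hs : isSign (H.ind n) = true
    · refine iff_of_true ?_ hs
      have hcc : c * c = 1 := hC0 _ (mul_mem hc hc) (by rw [H.ind_mul, hcn]; exact hs2 hs)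
      refine sq_eq_one _ ?_
      rw [← map_mul, ← Subgroup.coe_mul, hcc, Subgroup.coe_one, map_one]
    · refine iff_of_false ?_ hs
      have hc3 : c ^ 3 = 1 := hC0 _ (pow_mem hc 3) (by
        rw [pow_three', H.ind_mul, H.ind_mul, hcn]; exact hs3 (by simpa using hs))
      rw [hT, H.transfer_shift c (by rw [← Subgroup.coe_pow, hc3, Subgroup.coe_one])]
      intro e
      change ofAdd (cyc (H.ind c)) ^ H.N.index = 1 at e
      rw [hcn, ← ofAdd_nsmul, ofAdd_eq_one, nsmul_eq_mul, mul_eq_zero] at e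
      rcases e with e | e
      · exact H.not_dvd_index ((ZMod.natCast_eq_zero_iff _ _).1 e)
      · exact hs (hs0.1 e)
  set Y₀ := T.ker with hY₀
  clear_value T
  let i₀ : Multiplicative V →* Y₀ := H.i.codRestrict Y₀ fun a => hA a.toAdd
  have hr : ∀ a : Y₀, a ∈ i₀.range ↔ (a : Y) ∈ H.i.range := fun a =>
    ⟨fun ⟨x, hx⟩ => ⟨x, congrArg Subtype.val hx⟩, fun ⟨x, hx⟩ => ⟨x, Subtype.ext hx⟩⟩
  have hAY : H.i.range ≤ Y₀ := by rintro _ ⟨x, rfl⟩; exact hA x.toAdd
  have hnorm : ∀ g : Y₀, g ∈ normalizer (i₀.range : Set Y₀) ↔ (g : Y) ∈ H.N := by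
    intro g
    rw [mem_normalizer_iff, mem_normalizer_iff]
    constructor
    · intro hg a
      constructor
      · intro ha
        exact (hr _).1 ((hg ⟨a, hAY ha⟩).1 ((hr _).2 ha))
      · intro ha
        have haY : a ∈ Y₀ := by
          have := mul_mem (mul_mem (inv_mem g.2) (hAY ha)) g.2
          simpa [mul_assoc] using this
        exact (hr _).1 ((hg ⟨a, haY⟩).2 ((hr _).2 ha))
    · intro hg a
      rw [hr, hr, Subgroup.coe_mul, Subgroup.coe_mul, Subgroup.coe_inv]
      exact hg _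
  let K : TwentySeven.Hyp false Y₀ :=
    { i := i₀
      inj := fun a b e => H.inj (congrArg Subtype.val e)
      cent := fun a ha g hg => (hnorm g).2 (H.cent_all (v := a.toAdd)
        (fun h => ha (toAdd_eq_zero.1 h)) (mem_centralizer_singleton_iff.2
          (congrArg Subtype.val (mem_centralizer_singleton_iff.1 hg))))
      self := by
        ext g
        rw [hr, ← H.self, mem_centralizer_iff, mem_centralizer_iff]
        constructor
        · rintro hg _ ⟨x, rfl⟩
          exact congrArg Subtype.val (hg (i₀ x) ⟨x, rfl⟩)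
        · rintro hg _ ⟨x, rfl⟩
          exact Subtype.ext (hg (H.i x) ⟨x, rfl⟩)
      norm := fun g hg => by
        obtain ⟨j, hj⟩ := sign_pat _ ((hN ⟨g, (hnorm g).1 hg⟩).1 g.2)
        exact ⟨j, fun v => Subtype.ext ((H.ind_spec ⟨g, (hnorm g).1 hg⟩ v).trans
          (congrArg H.el (hj v)))⟩
      surj := fun j => by
        obtain ⟨a, ha, haj⟩ := pat_sign j
        obtain ⟨n, hn, hn'⟩ := H.surj a (inList_sign false a ha)
        have hY : n ∈ Y₀ := (hN ⟨n, hn⟩).2 (by rw [H.ind_eq ⟨n, hn⟩ a hn']; exact ha)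
        exact ⟨⟨n, hY⟩, (hnorm _).2 hn, fun v => Subtype.ext ((hn' v).trans
          (congrArg H.el (haj v)))⟩ }
  have hle : Y₀ ≤ H.N := fun g hg =>
    (hnorm ⟨g, hg⟩).1 ((normalizer_eq_top_iff.2 (normal_klein K)).symm ▸ mem_top _)
  rw [← normalizer_eq_top_iff, eq_top_iff]
  intro g _
  have hconj : g * H.el ![1, 0, 0] * g⁻¹ ∈ H.N := hle (by
    rw [hY₀]; exact (MonoidHom.normal_ker T).conj_mem _ (hA _) g)
  obtain ⟨w, hw⟩ := H.exists_el (H.closed hconj)
  have hw0 : w ≠ 0 := by
    rintro rfl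
    exact H.el_ne e100_ne (conj_eq_one_iff.1 (hw.symm.trans H.el_zero))
  exact H.conj_mem_N (H.cent_all hw0) hw.symm

end MonoHyp

/-- The subgroup is normal. -/
theorem normal_mono {d : Bool} {Y : Type u} [Group Y] [Finite Y] (H : MonoHyp d Y) :
    H.i.range.Normal := by
  cases d
  · exact H.normal_of_false
  · exact H.normal_of_true

end CfsgLib.McLThree.TwentySeven
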