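import Cfsg.Agent.McLThree.CoreShape
import Cfsg.Agent.McLThree.TwentySevenMain

/-!
The centralizer of `zz y` normalizes `J`: in the quotient by `⟨zz y⟩` the image of `J` is normal.
-/

set_option autoImplicit false
set_option maxHeartbeats 400000
set_option maxRecDepth 100000

namespace CfsgLib.McLThree

open Subgroup Multiplicative
open TwentySeven (oct tet inList wt MonoHyp normal_mono)

universe u

local notation "V" => Fin 3 → ZMod 3

variable {G : Type u} [Group G] [Finite G]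

namespace Axes

theorem tet_word : ∀ a, tet a = true → ∃ k : Fin 3, ∃ j : Fin 4, ∀ w : V,
    sc j ((shift^[k.val]) w) = oct a w := by decide +kernel

theorem odd_word : ∀ a b, tet a = false → tet b = false → ∃ k : Fin 3, ∃ j : Fin 4, ∀ w : V,
    sc j ((shift^[k.val]) (oct a w)) = oct b w := by decide +kernel

theorem special_word : ∀ v : V, v ≠ 0 → wt v ≠ 2 → ∃ k : Fin 3, ∃ j : Fin 4, ∃ s : Fin 2,
    (sc j ((shift^[k.val]) v) = if s = 0 then dl 0 else -dl 0) ∨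
      (sc j ((shift^[k.val]) v) = fun _ => if s = 0 then 1 else -1) := by decide +kernel

theorem three_word : ∀ p : Fin 3 → Fin 3, ∀ e : Fin 3 → ZMod 3, smDet p e = 1 →
    (∀ i, sm p e (sm p e (sm p e (dl i))) = dl i) → (∃ i, sm p e (dl i) ≠ dl i) →
    ∃ j : Fin 4, ∃ k : Fin 2, ∀ i,
      sc j (sm p e (sc j (dl i))) = (shift^[k.val + 1]) (dl i) := by decide +kernel

variable {P : Local G} (A : Axes P)

/-- `C(x₀)`. -/
abbrev X : Subgroup G := centralizer ({A.x0} : Set G)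

theorem mem_X {u : G} : u ∈ A.X ↔ u * A.x0 = A.x0 * u := mem_centralizer_singleton_iff

theorem J_le_X : P.J ≤ A.X := fun j hj => A.mem_X.2 (P.J_comm j hj _ A.x0_J)

/-- `⟨x₀⟩` inside its centralizer. -/
abbrev K : Subgroup A.X := (zpowers A.x0).subgroupOf A.X

instance K_normal : A.K.Normal := ⟨fun a ha g => by
  rw [mem_subgroupOf] at ha ⊢
  obtain ⟨k, hk⟩ := mem_zpowers_iff.1 ha
  have hc : Commute (g : G) (a : G) := hk ▸ (Commute.zpow_right (A.mem_X.1 g.2) k)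
  show (g : G) * a * (g : G)⁻¹ ∈ zpowers A.x0
  rw [hc.eq, mul_inv_cancel_right]
  exact ha⟩

theorem mk_eq {a b : A.X} : (QuotientGroup.mk a : A.X ⧸ A.K) = QuotientGroup.mk b ↔ A.Cg a b := by
  rw [QuotientGroup.eq, mem_subgroupOf]; rfl

/-- The coordinate map. -/
noncomputable def i : Multiplicative V →* A.X ⧸ A.K :=
  MonoidHom.mk' (fun v => QuotientGroup.mk ⟨A.E v.toAdd, A.J_le_X (A.E_J _)⟩) fun v w => by
    rw [← QuotientGroup.mk_mul]
    exact congrArg _ (Subtype.ext (A.E_add _ _))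

theorem i_apply (v : V) : A.i (ofAdd v) = QuotientGroup.mk ⟨A.E v, A.J_le_X (A.E_J v)⟩ := rfl

theorem i_conj (u : A.X) (v : V) : (QuotientGroup.mk u : A.X ⧸ A.K) * A.i (ofAdd v) * (QuotientGroup.mk u)⁻¹ =
    QuotientGroup.mk (u * ⟨A.E v, A.J_le_X (A.E_J v)⟩ * u⁻¹) := rfl

theorem conj_eq_iff (u : A.X) (v w : V) :
    (QuotientGroup.mk u : A.X ⧸ A.K) * A.i (ofAdd v) * (QuotientGroup.mk u)⁻¹ = A.i (ofAdd w) ↔
      A.Cg ((u : G) * A.E v * (u : G)⁻¹) (A.E w) := by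
  rw [i_conj, i_apply, mk_eq]; rfl

theorem mem_range_iff {u : A.X} : (QuotientGroup.mk u : A.X ⧸ A.K) ∈ A.i.range ↔ (u : G) ∈ P.J := by
  constructor
  · rintro ⟨v, hv⟩
    rw [← ofAdd_toAdd v, i_apply, mk_eq] at hv
    exact A.cg_J (A.E_J _) hv
  · intro h
    obtain ⟨v, hv⟩ := A.exists_coord h
    exact ⟨ofAdd v, by rw [i_apply, mk_eq]; exact hv⟩

theorem mem_norm_iff {u : A.X} :
    (QuotientGroup.mk u : A.X ⧸ A.K) ∈ normalizer (A.i.range : Set (A.X ⧸ A.K)) ↔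
      (u : G) ∈ normalizer (P.J : Set G) := by
  constructor
  · intro h
    refine mem_normalizer_iff.2 fun a => ⟨fun ha => ?_, fun ha => ?_⟩
    · have := (mem_normalizer_iff.1 h _).1 ((A.mem_range_iff (u := ⟨a, A.J_le_X ha⟩)).2 ha)
      exact (A.mem_range_iff (u := u * (⟨a, A.J_le_X ha⟩ : A.X) * u⁻¹)).1 this
    · have haX : a ∈ A.X := by
        have := mul_mem (mul_mem (inv_mem u.2) (A.J_le_X ha)) u.2
        simpa [mul_assoc] using this
      have := (A.mem_range_iff (u := u * ⟨a, haX⟩ * u⁻¹)).2 ha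
      exact (A.mem_range_iff (u := ⟨a, haX⟩)).1 ((mem_normalizer_iff.1 h _).2 this)
  · intro h
    refine mem_normalizer_iff.2 fun a => ?_
    induction a using QuotientGroup.induction_on with
    | _ a =>
      rw [show (QuotientGroup.mk u : A.X ⧸ A.K) * QuotientGroup.mk a * (QuotientGroup.mk u)⁻¹ =
        QuotientGroup.mk (u * a * u⁻¹) from rfl]
      show _ ∈ A.i.range ↔ _ ∈ A.i.range
      rw [A.mem_range_iff, A.mem_range_iff]
      exact mem_normalizer_iff.1 h a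

/-- The elements realising the words. -/
theorem exists_word (k : Fin 3) (j : Fin 4) : ∃ w ∈ normalizer (P.J : Set G),
    w * A.x0 = A.x0 * w ∧ A.Acts w (fun v => sc j ((shift^[k.val]) v)) := by
  obtain ⟨u, huN, hux, huA, -⟩ := A.acts_sc j
  exact ⟨u * A.σ ^ (k : ℕ), mul_mem huN (pow_mem A.σ_N _),
    (Commute.mul_left hux (A.acts_shift k).2).eq,
    A.acts_comp (A.conj_x0 hux) (A.acts_shift k).1 huA⟩

theorem cg_inv {a b : G} (ha : a ∈ P.J) (h : A.Cg a b) : A.Cg a⁻¹ b⁻¹ := by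
  obtain ⟨k, rfl⟩ := A.cg_iff.1 h
  show a⁻¹⁻¹ * (a * A.x0 ^ (k : ℕ))⁻¹ ∈ zpowers A.x0
  rw [inv_inv, mul_inv_rev, ← mul_assoc, P.J_comm a ha _ (inv_mem (pow_mem A.x0_J _)),
    mul_inv_cancel_right]
  exact inv_mem (pow_mem (mem_zpowers _) _)

/-- A coset of weight one or three: its singular element, with a model for its stabiliser. -/
theorem special {v : V} (hv : v ≠ 0) (hw : wt v ≠ 2) : ∃ w ∈ normalizer (P.J : Set G),
    w * A.x0 = A.x0 * w ∧ ∃ z : G, (z = P.zz ∨ z = P.zz⁻¹ ∨ z = A.zs ∨ z = A.zs⁻¹) ∧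
      A.Cg (w * A.E v * w⁻¹) z := by
  obtain ⟨k, j, s, hs⟩ := special_word v hv hw
  obtain ⟨w, hwN, hwx, hwA⟩ := A.exists_word k j
  refine ⟨w, hwN, hwx, ?_⟩
  have h1 : A.Cg (w * A.E v * w⁻¹) (A.E (sc j ((shift^[k.val]) v))) := hwA v
  rcases hs with e | e <;> rw [e] at h1
  · split at h1
    · exact ⟨P.zz, Or.inl rfl, by rwa [A.E_dl.1] at h1⟩
    · exact ⟨P.zz⁻¹, Or.inr (Or.inl rfl), by rwa [A.E_neg, A.E_dl.1] at h1⟩
  · obtain ⟨a, ha, hz⟩ := A.exists_zs
    have ha' : a = 1 ∨ a = -1 := by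
      have k : ∀ a : ZMod 3, a ≠ 0 → a = 1 ∨ a = -1 := by decide
      exact k a ha
    have hneg : A.Cg (A.E fun _ => -a) A.zs⁻¹ := by
      have h2 := A.cg_inv (A.E_J _) hz
      rwa [← A.E_neg] at h2
    have key : ∀ b : ZMod 3, b = 1 ∨ b = -1 → ∃ z, (z = P.zz ∨ z = P.zz⁻¹ ∨ z = A.zs ∨ z = A.zs⁻¹) ∧
        A.Cg (A.E fun _ => b) z := by
      intro b hb
      by_cases hba : b = a
      · exact ⟨_, Or.inr (Or.inr (Or.inl rfl)), hba ▸ hz⟩
      · have : b = -a := by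
          rcases hb with rfl | rfl <;> rcases ha' with rfl | rfl <;> simp_all
        exact ⟨_, Or.inr (Or.inr (Or.inr rfl)), this ▸ hneg⟩
    obtain ⟨z, hz1, hz2⟩ := key (if s = 0 then 1 else -1) (by split <;> simp)
    exact ⟨z, hz1, A.cg_trans h1 hz2⟩

/-- A coset of weight one or three contains a conjugate of `zz`. -/
theorem special_singular {v : V} (hv : v ≠ 0) (hw : wt v ≠ 2) :
    ∃ h : G, A.Cg (A.E v) (h * P.zz * h⁻¹) := by
  obtain ⟨w, -, hwx, z, hz, hcg⟩ := A.special hv hw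
  have hzc : ∃ h : G, h * P.zz * h⁻¹ = z := by
    rcases hz with rfl | rfl | rfl | rfl
    · exact ⟨1, by group⟩
    · exact ⟨P.c, P.c_z⟩
    · exact ⟨A.n⁻¹, by rw [zs, inv_inv]⟩
    · refine ⟨A.n⁻¹ * P.c, ?_⟩
      rw [zs, mul_inv_rev, inv_inv]
      calc A.n⁻¹ * P.c * P.zz * (P.c⁻¹ * A.n) = A.n⁻¹ * (P.c * P.zz * P.c⁻¹) * A.n := by group
        _ = _ := by rw [P.c_z]; group
  obtain ⟨h, rfl⟩ := hzc
  refine ⟨w⁻¹ * h, ?_⟩
  have := A.cg_conj (A.conj_x0 ((Commute.inv_left hwx).eq)) hcg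
  rw [show w⁻¹ * (w * A.E v * w⁻¹) * w⁻¹⁻¹ = A.E v by group] at this
  convert this using 1
  group

/-- Centralizers of cosets of weight one and three normalise `J`. -/
theorem cent_special {u : G} (hu : u * A.x0 = A.x0 * u) {v : V} (hv : v ≠ 0) (hw : wt v ≠ 2)
    (h : A.Cg (u * A.E v * u⁻¹) (A.E v)) : u ∈ normalizer (P.J : Set G) := by
  obtain ⟨w, hwN, hwx, z, hz, hcg⟩ := A.special hv hw
  set u' := w * u * w⁻¹ with hu'
  have hu'x : u' * A.x0 = A.x0 * u' := ((Commute.mul_left (Commute.mul_left hwx hu) (Commute.inv_left hwx))).eq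
  have hfix : A.Cg (u' * z * u'⁻¹) z := by
    have h1 := A.cg_conj (A.conj_x0 hu'x) (A.cg_symm hcg)
    have h2 := A.cg_conj (A.conj_x0 hwx) h
    rw [show u' * (w * A.E v * w⁻¹) * u'⁻¹ = w * (u * A.E v * u⁻¹) * w⁻¹ by rw [hu']; group] at h1
    exact A.cg_trans h1 (A.cg_trans h2 hcg)
  suffices hN : u' ∈ normalizer (P.J : Set G) by
    have := mul_mem (mul_mem (inv_mem hwN) hN) hwN
    rwa [hu', show w⁻¹ * (w * u * w⁻¹) * w = u by group] at this
  have hcgi : ∀ a : G, a ∈ P.J → A.Cg (u' * a⁻¹ * u'⁻¹) a⁻¹ → A.Cg (u' * a * u'⁻¹) a := by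
    intro a ha h'
    obtain ⟨k, hk⟩ := A.cg_iff.1 (A.cg_symm h')
    refine A.cg_symm (A.cg_iff.2 ?_)
    have hm : u' * a * u'⁻¹ = a * (A.x0 ^ (k : ℕ))⁻¹ := by
      rw [show u' * a * u'⁻¹ = (u' * a⁻¹ * u'⁻¹)⁻¹ by group, hk, mul_inv_rev, inv_inv]
      exact (P.J_comm a ha _ (inv_mem (pow_mem A.x0_J _))).symm
    have k3 : ∀ k : Fin 3, ∃ l : Fin 3, ((k : ℕ) + l) % 3 = 0 := by decide
    obtain ⟨l, hl⟩ := k3 k
    refine ⟨l, hm.trans ?_⟩
    congr 1
    refine inv_eq_of_mul_eq_one_right ?_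
    rw [← pow_add, pow_eq_pow_mod _ A.x0_cube, hl, pow_zero]
  have hone : A.Cg (u' * P.zz * u'⁻¹) P.zz → u' ∈ normalizer (P.J : Set G) := fun h' => by
    obtain ⟨h1, h2⟩ := A.fix_first hu'x h'
    exact P.cent_zy h1 h2
  have hthree : A.Cg (u' * A.zs * u'⁻¹) A.zs → u' ∈ normalizer (P.J : Set G) := fun h' => by
    have h1 := A.fix_three hu'x h'
    have hm := P.cent_zr A.r_R A.r_Z (x := A.n * u' * A.n⁻¹) (by
      rw [show A.n * u' * A.n⁻¹ * P.zz * (A.n * u' * A.n⁻¹)⁻¹ =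
        A.n * (u' * A.zs * u'⁻¹) * A.n⁻¹ by rw [zs]; group, h1, zs]
      group) (by
      calc A.n * u' * A.n⁻¹ * (A.n * (P.zz * P.y) * A.n⁻¹) = A.n * (u' * A.x0) * A.n⁻¹ := by
            rw [x0]; group
        _ = A.n * (A.x0 * u') * A.n⁻¹ := by rw [hu'x]
        _ = _ := by rw [x0]; group)
    have := mul_mem (mul_mem (inv_mem A.n_N) hm) A.n_N
    rwa [show A.n⁻¹ * (A.n * u' * A.n⁻¹) * A.n = u' by group] at this
  rcases hz with rfl | rfl | rfl | rfl
  · exact hone hfix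
  · exact hone (hcgi _ (P.toData.Z_le_J P.zz_mem) hfix)
  · exact hthree hfix
  · exact hthree (hcgi _ A.zs_J hfix)

variable (hinv : A.InvolProp) (hrot : A.RotProp)

/-- The elements `n a n⁻¹` with `a` in the hyperplane of coordinate sum zero lie in `Q`. -/
theorem sum_zero {v : V} (h : v 0 + v 1 + v 2 = 0) : A.n * A.E v * A.n⁻¹ ∈ P.Q := by
  have hnJ : ∀ {a}, a ∈ P.J → A.n * a * A.n⁻¹ ∈ P.J := fun ha => (mem_normalizer_iff.1 A.n_N _).1 ha
  have hq : ∀ a ∈ P.J, A.n * (a⁻¹ * (A.σ * a * A.σ⁻¹)) * A.n⁻¹ ∈ P.Q := by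
    intro a ha
    have e : A.n * (a⁻¹ * (A.σ * a * A.σ⁻¹)) * A.n⁻¹ =
        (A.n * a * A.n⁻¹)⁻¹ * A.q * (A.n * a * A.n⁻¹)⁻¹⁻¹ * A.q⁻¹ := by
      rw [A.σ_eq]; group
    rw [e]
    exact mul_mem (P.toData.L_conj_Q (inv_mem (P.toData.S_le_L (P.J_le (hnJ ha)))) A.q_Q) (inv_mem A.q_Q)
  have h1 : A.n * A.E (dl 1 - dl 0) * A.n⁻¹ ∈ P.Q := by
    rw [sub_eq_neg_add, A.E_add, A.E_neg, A.E_dl.1, A.E_dl.2.1]
    exact hq _ (P.toData.Z_le_J P.zz_mem)
  have h2 : A.n * A.E (dl 2 - dl 1) * A.n⁻¹ ∈ P.Q := by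
    rw [sub_eq_neg_add, A.E_add, A.E_neg, A.E_dl.2.1, A.E_dl.2.2]
    exact hq _ A.e2_J
  have hdec : ∀ v : V, v 0 + v 1 + v 2 = 0 →
      v = (-v 0).val • (dl 1 - dl 0) + (v 2).val • (dl 2 - dl 1) := by decide +kernel
  have hmul : ∀ a b : V, A.n * A.E a * A.n⁻¹ ∈ P.Q → A.n * A.E b * A.n⁻¹ ∈ P.Q →
      A.n * A.E (a + b) * A.n⁻¹ ∈ P.Q := by
    intro a b ha hb
    rw [A.E_add, ← conj_mul]; exact mul_mem ha hb
  have hsmul : ∀ (m : ℕ) (a : V), A.n * A.E a * A.n⁻¹ ∈ P.Q → A.n * A.E (m • a) * A.n⁻¹ ∈ P.Q := by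
    intro m a ha
    induction m with
    | zero => simp [A.E_zero]
    | succ m ih => rw [succ_nsmul]; exact hmul _ _ ih ha
  rw [hdec v h]
  exact hmul _ _ (hsmul _ _ h1) (hsmul _ _ h2)

theorem σ_notJ : A.σ ∉ P.J := by
  intro h
  have h1 : A.Acts A.σ id := fun v => by
    show A.Cg (A.σ * A.E v * A.σ⁻¹) (A.E v)
    rw [P.J_comm _ h _ (A.E_J v), mul_inv_cancel_right]; exact A.cg_refl _
  have := congrFun (A.acts_unique A.acts_σ h1) (dl 0)
  rw [maps_dl.1] at this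
  exact absurd this (by decide +kernel)

theorem acts_J {a : G} (ha : a ∈ P.J) : A.Acts a id := fun v => by
  show A.Cg (a * A.E v * a⁻¹) (A.E v)
  rw [P.J_comm _ ha _ (A.E_J v), mul_inv_cancel_right]; exact A.cg_refl _

/-- An element of `J σ` of order three is not a conjugate of `zz`. -/
theorem not_singular_coset {b h : G} (hb : b ∈ P.J) (h3 : b * A.σ * (b * A.σ) * (b * A.σ) = 1)
    (hh : h * P.zz * h⁻¹ = b * A.σ) : False := by
  obtain ⟨v, hv⟩ := A.exists_coord hb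
  have hsum : v 0 + v 1 + v 2 = 0 := by
    have e : b * A.σ * (b * A.σ) * (b * A.σ) =
        b * (A.σ * b * A.σ⁻¹) * (A.σ * A.σ * b * (A.σ * A.σ)⁻¹) * (A.σ * A.σ * A.σ) := by group
    rw [e, A.σ_cube, mul_one] at h3
    have hσ2 : A.σ * A.σ * A.x0 = A.x0 * (A.σ * A.σ) := (Commute.mul_left A.σ_x A.σ_x).eq
    have h1 : A.Cg (A.σ * b * A.σ⁻¹) (A.E (shift v)) :=
      A.cg_trans (A.cg_conj (A.conj_x0 A.σ_x) (A.cg_symm hv)) (A.acts_σ v)
    have h2 : A.Cg (A.σ * A.σ * b * (A.σ * A.σ)⁻¹) (A.E (shift (shift v))) :=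
      A.cg_trans (A.cg_conj (A.conj_x0 hσ2) (A.cg_symm hv))
        (A.acts_comp (A.conj_x0 A.σ_x) A.acts_σ A.acts_σ v)
    have hσb : A.σ * b * A.σ⁻¹ ∈ P.J := (mem_normalizer_iff.1 A.σ_N _).1 hb
    have h3' := A.cg_mul (mul_mem (A.E_J _) (A.E_J _))
      ((mem_normalizer_iff.1 (mul_mem A.σ_N A.σ_N) _).1 hb)
      (A.cg_mul (A.E_J v) hσb (A.cg_symm hv) h1) h2
    rw [h3, ← A.E_add, ← A.E_add] at h3'
    have hz := A.E_eq_zero h3'
    have k : ∀ v : V, v + shift v + shift (shift v) = 0 → v 0 + v 1 + v 2 = 0 := by decide +kernel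
    exact k v hz
  obtain ⟨l, hl⟩ := A.cg_iff.1 hv
  have hQ : A.n * (b * A.σ) * A.n⁻¹ ∈ P.Q := by
    rw [hl]
    have e : A.n * (A.E v * A.x0 ^ (l : ℕ) * A.σ) * A.n⁻¹ =
        (A.n * A.E v * A.n⁻¹) * (A.n * A.x0 * A.n⁻¹) ^ (l : ℕ) * (A.n * A.σ * A.n⁻¹) := by
      rw [conj_pow]; group
    rw [e]
    refine mul_mem (mul_mem (A.sum_zero hsum) (pow_mem A.r_R.2 _)) ?_
    rw [A.σ_eq, show A.n * (A.n⁻¹ * A.q * A.n) * A.n⁻¹ = A.q by group]
    exact A.q_Q
  have hZ := P.Q_singular' hQ (h := A.n * h) (by rw [← hh]; group)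
  have hJ : A.n * (b * A.σ) * A.n⁻¹ ∈ P.J := P.toData.Z_le_J hZ
  have := mul_mem (inv_mem hb) ((mem_normalizer_iff.1 A.n_N _).2 hJ)
  rw [inv_mul_cancel_left] at this
  exact A.σ_notJ this

include hinv hrot in
/-- Elements of order three of `N(J) ∩ C(x₀)` outside `J` are not conjugate to `zz`. -/
theorem no_singular {u h : G} (hN : u ∈ normalizer (P.J : Set G)) (hx : u * A.x0 = A.x0 * u)
    (huJ : u ∉ P.J) (h3 : u * u * u = 1) (hh : h * P.zz * h⁻¹ = u) : False := by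
  obtain ⟨p, e, hdet, hA⟩ := A.acts_signed hinv hrot hN hx
  have hAuu := A.acts_comp (A.conj_x0 hx) (A.acts_comp (A.conj_x0 hx) hA hA) hA
  rw [show u * (u * u) = 1 by rw [← mul_assoc]; exact h3] at hAuu
  have hid := A.acts_unique hAuu (A.acts_J (one_mem _))
  have hne : ∃ i, sm p e (dl i) ≠ dl i := by
    by_contra hc
    push Not at hc
    have hfix : ∀ i, A.Cg (u * A.E (dl i) * u⁻¹) (A.E (dl i)) := fun i => by
      have := hA (dl i)
      rwa [hc i] at this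
    obtain ⟨hz, -⟩ := A.fix_first hx (by simpa [A.E_dl.1] using hfix 0)
    -- the conjugates of `u` by `σ` fix `zz` as well
    have h2 : ∀ w : G, w * A.x0 = A.x0 * w → ∀ a : G, A.Cg (u * (w * P.zz * w⁻¹) * u⁻¹) (w * P.zz * w⁻¹) →
        a = w * P.zz * w⁻¹ → u * a * u⁻¹ = a := by
      rintro w hw a hca rfl
      have hux' : w⁻¹ * u * w * A.x0 = A.x0 * (w⁻¹ * u * w) :=
        (Commute.mul_left (Commute.mul_left (Commute.inv_left hw) hx) hw).eq
      have := A.cg_conj (A.conj_x0 ((Commute.inv_left hw).eq)) hca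
      rw [show w⁻¹ * (u * (w * P.zz * w⁻¹) * u⁻¹) * w⁻¹⁻¹ =
          w⁻¹ * u * w * P.zz * (w⁻¹ * u * w)⁻¹ by group,
        show w⁻¹ * (w * P.zz * w⁻¹) * w⁻¹⁻¹ = P.zz by group] at this
      obtain ⟨h1, -⟩ := A.fix_first hux' this
      calc u * (w * P.zz * w⁻¹) * u⁻¹ = w * (w⁻¹ * u * w * P.zz * (w⁻¹ * u * w)⁻¹) * w⁻¹ := by group
        _ = _ := by rw [h1]
    have e2' : A.e2 = A.σ * P.zz * A.σ⁻¹ := rfl
    have e3' : A.e3 = A.σ * A.σ * P.zz * (A.σ * A.σ)⁻¹ := by rw [e3, e2]; group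
    refine huJ (A.acts_trivial hx hz (h2 A.σ A.σ_x _ ?_ e2') (h2 (A.σ * A.σ) ?_ _ ?_ e3'))
    · rw [← e2', ← A.E_dl.2.1]; exact hfix 1
    · exact (Commute.mul_left A.σ_x A.σ_x).eq
    · rw [← e3', ← A.E_dl.2.2]; exact hfix 2
  obtain ⟨j, k, hjk⟩ := three_word p e hdet (fun i => congrFun hid (dl i)) hne
  obtain ⟨w, hwN, hwx, hwA, hwl⟩ := A.acts_sc j
  have hwi : w⁻¹ = w := by
    simp only [List.mem_cons, List.not_mem_nil, or_false] at hwl
    rcases hwl with rfl | rfl | rfl | rfl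
    · simp
    · exact P.toCtx.t_inv_eq
    · exact inv_eq_of_mul_eq_one_right P.g_sq
    · exact inv_eq_of_mul_eq_one_right tg_sq
  set u' := w * u * w with hu'
  have hu'x : u' * A.x0 = A.x0 * u' := (Commute.mul_left (Commute.mul_left hwx hx) hwx).eq
  have hu'N : u' ∈ normalizer (P.J : Set G) := mul_mem (mul_mem hwN hN) hwN
  have hwu : w * u * A.x0 = A.x0 * (w * u) := (Commute.mul_left hwx hx).eq
  have hu'A := A.acts_comp (A.conj_x0 hwu) hwA (A.acts_comp (A.conj_x0 hwx) hA hwA)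
  set m : ℕ := (k : ℕ) + 1 with hm
  -- `u'` is a power of `σ` up to `J`
  have hc : (A.σ ^ m)⁻¹ * u' ∈ P.J := by
    have hpx := (A.acts_shift m).2
    have hvx : (A.σ ^ m)⁻¹ * u' * A.x0 = A.x0 * ((A.σ ^ m)⁻¹ * u') :=
      (Commute.mul_left (Commute.inv_left hpx) hu'x).eq
    have hfix : ∀ i, A.Cg ((A.σ ^ m)⁻¹ * u' * A.E (dl i) * ((A.σ ^ m)⁻¹ * u')⁻¹) (A.E (dl i)) := by
      intro i
      have h1 := hu'A (dl i)
      simp only [Function.comp_apply] at h1
      rw [hjk i] at h1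
      have h2 := A.cg_trans h1 (A.cg_symm ((A.acts_shift m).1 (dl i)))
      have := A.cg_conj (A.conj_x0 ((Commute.inv_left hpx).eq)) h2
      convert this using 1
      all_goals (try simp only [hu'])
      all_goals group
    obtain ⟨hz, -⟩ := A.fix_first hvx (by simpa [A.E_dl.1] using hfix 0)
    set v' := (A.σ ^ m)⁻¹ * u'
    have h2 : ∀ w : G, w * A.x0 = A.x0 * w → A.Cg (v' * (w * P.zz * w⁻¹) * v'⁻¹) (w * P.zz * w⁻¹) →
        v' * (w * P.zz * w⁻¹) * v'⁻¹ = w * P.zz * w⁻¹ := by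
      intro w hw hca
      have hux' : w⁻¹ * v' * w * A.x0 = A.x0 * (w⁻¹ * v' * w) :=
        (Commute.mul_left (Commute.mul_left (Commute.inv_left hw) hvx) hw).eq
      have := A.cg_conj (A.conj_x0 ((Commute.inv_left hw).eq)) hca
      rw [show w⁻¹ * (v' * (w * P.zz * w⁻¹) * v'⁻¹) * w⁻¹⁻¹ =
          w⁻¹ * v' * w * P.zz * (w⁻¹ * v' * w)⁻¹ by group,
        show w⁻¹ * (w * P.zz * w⁻¹) * w⁻¹⁻¹ = P.zz by group] at this
      obtain ⟨h1, -⟩ := A.fix_first hux' this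
      calc v' * (w * P.zz * w⁻¹) * v'⁻¹ = w * (w⁻¹ * v' * w * P.zz * (w⁻¹ * v' * w)⁻¹) * w⁻¹ := by group
        _ = _ := by rw [h1]
    have e3' : A.σ * A.σ * P.zz * (A.σ * A.σ)⁻¹ = A.e3 := by rw [e3, e2]; group
    refine A.acts_trivial hvx hz (h2 A.σ A.σ_x ?_) ?_
    · show A.Cg (v' * A.e2 * v'⁻¹) A.e2
      rw [← A.E_dl.2.1]; exact hfix 1
    · have := h2 (A.σ * A.σ) (Commute.mul_left A.σ_x A.σ_x).eq (by
        rw [e3', ← A.E_dl.2.2]; exact hfix 2)
      rwa [e3'] at this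
  have hu'3 : u' * u' * u' = 1 := by
    have hww : w * w = 1 := by nth_rewrite 1 [← hwi]; exact inv_mul_cancel w
    calc u' * u' * u' = w * u * (w * w) * u * (w * w) * u * w := by rw [hu']; group
      _ = w * (u * u * u) * w := by rw [hww]; group
      _ = 1 := by rw [h3, mul_one, hww]
  have hu'h : (w * h) * P.zz * (w * h)⁻¹ = u' := by
    rw [hu', ← hh, mul_inv_rev, hwi]; group
  set b := u' * (A.σ ^ m)⁻¹ with hb'
  have hbJ : b ∈ P.J := by
    have h1 := (mem_normalizer_iff.1 (pow_mem A.σ_N m) _).1 hc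
    rwa [mul_inv_cancel_left] at h1
  have hub : u' = b * A.σ ^ m := by rw [hb', inv_mul_cancel_right]
  have hk2 : m = 1 ∨ m = 2 := by omega
  rcases hk2 with hm1 | hm1 <;> rw [hm1] at hub
  · rw [pow_one] at hub
    exact A.not_singular_coset hbJ (hub ▸ hu'3) (hub ▸ hu'h)
  · -- pass to the inverse
    have hσi : A.σ⁻¹ = A.σ ^ 2 := by
      refine inv_eq_of_mul_eq_one_right ?_
      rw [sq, ← mul_assoc, A.σ_cube]
    have hui : u'⁻¹ = (A.σ * b⁻¹ * A.σ⁻¹) * A.σ := by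
      rw [hub, ← hσi, mul_inv_rev, inv_inv, inv_mul_cancel_right]
    have hi3 : u'⁻¹ * u'⁻¹ * u'⁻¹ = 1 := by
      rw [← mul_inv_rev, ← mul_inv_rev, ← mul_assoc, hu'3, inv_one]
    refine A.not_singular_coset ((mem_normalizer_iff.1 A.σ_N _).1 (inv_mem hbJ))
      (hui ▸ hi3) (h := w * h * P.c) ?_
    rw [← hui, ← hu'h]
    calc w * h * P.c * P.zz * (w * h * P.c)⁻¹ = w * h * (P.c * P.zz * P.c⁻¹) * (w * h)⁻¹ := by group
      _ = _ := by rw [P.c_z]; group

include hinv hrot in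
/-- The centralizer of `x₀` normalises `J`. -/
theorem core : centralizer ({P.zz * P.y} : Set G) ≤ normalizer (P.J : Set G) := by
  classical
  haveI : Finite (A.X ⧸ A.K) := Quotient.finite _
  set N := normalizer (A.i.range : Set (A.X ⧸ A.K)) with hN
  -- the induced maps
  have hmap : ∀ u : A.X, (u : G) ∈ normalizer (P.J : Set G) → ∃ a : Fin 24, A.Acts u (oct a) := by
    intro u hu
    obtain ⟨p, e, hd, hA⟩ := A.acts_signed hinv hrot hu (A.mem_X.1 u.2)
    obtain ⟨a, ha⟩ := TwentySeven.signed_oct p e hd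
    exact ⟨a, by rw [show oct a = sm p e from funext ha]; exact hA⟩
  have hword : ∀ k j, ∃ w : A.X, (w : G) ∈ normalizer (P.J : Set G) ∧
      A.Acts w (fun v => sc j ((shift^[(k : Fin 3).val]) v)) := fun k j => by
    obtain ⟨w, h1, h2, h3⟩ := A.exists_word k j
    exact ⟨⟨w, A.mem_X.2 h2⟩, h1, h3⟩
  let d : Bool := decide (∃ u : A.X, (u : G) ∈ normalizer (P.J : Set G) ∧
    ∃ a : Fin 24, tet a = false ∧ A.Acts u (oct a))
  let H : MonoHyp d (A.X ⧸ A.K) :=
    { i := A.i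
      inj := by
        intro v w h
        rw [← ofAdd_toAdd v, ← ofAdd_toAdd w, i_apply, i_apply, mk_eq] at h
        exact toAdd.injective (A.coord_unique h)
      self := by
        apply le_antisymm
        · intro q hq
          obtain ⟨u, rfl⟩ := QuotientGroup.mk_surjective q
          rw [A.mem_range_iff]
          have hfix : ∀ v, A.Cg ((u : G) * A.E v * (u : G)⁻¹) (A.E v) := fun v =>
            (A.conj_eq_iff u v v).1 (by
              rw [← mem_centralizer_iff.1 hq _ ⟨_, rfl⟩, mul_inv_cancel_right])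
          have hux := A.mem_X.1 u.2
          obtain ⟨hz, -⟩ := A.fix_first hux (by simpa [A.E_dl.1] using hfix (dl 0))
          have h2 : ∀ w : G, w * A.x0 = A.x0 * w →
              A.Cg ((u : G) * (w * P.zz * w⁻¹) * (u : G)⁻¹) (w * P.zz * w⁻¹) →
              (u : G) * (w * P.zz * w⁻¹) * (u : G)⁻¹ = w * P.zz * w⁻¹ := by
            intro w hw hca
            have hux' : w⁻¹ * u * w * A.x0 = A.x0 * (w⁻¹ * u * w) :=
              (Commute.mul_left (Commute.mul_left (Commute.inv_left hw) hux) hw).eq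
            have := A.cg_conj (A.conj_x0 ((Commute.inv_left hw).eq)) hca
            rw [show w⁻¹ * ((u : G) * (w * P.zz * w⁻¹) * (u : G)⁻¹) * w⁻¹⁻¹ =
                w⁻¹ * u * w * P.zz * (w⁻¹ * (u : G) * w)⁻¹ by group,
              show w⁻¹ * (w * P.zz * w⁻¹) * w⁻¹⁻¹ = P.zz by group] at this
            obtain ⟨h1, -⟩ := A.fix_first hux' this
            calc (u : G) * (w * P.zz * w⁻¹) * (u : G)⁻¹
                = w * (w⁻¹ * u * w * P.zz * (w⁻¹ * (u : G) * w)⁻¹) * w⁻¹ := by group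
              _ = _ := by rw [h1]
          have e3' : A.σ * A.σ * P.zz * (A.σ * A.σ)⁻¹ = A.e3 := by rw [e3, e2]; group
          refine A.acts_trivial hux hz (h2 A.σ A.σ_x ?_) ?_
          · show A.Cg ((u : G) * A.e2 * (u : G)⁻¹) A.e2
            rw [← A.E_dl.2.1]; exact hfix (dl 1)
          · have := h2 (A.σ * A.σ) (Commute.mul_left A.σ_x A.σ_x).eq (by
              rw [e3', ← A.E_dl.2.2]; exact hfix (dl 2))
            rwa [e3'] at this
        · rintro _ ⟨v, rfl⟩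
          refine mem_centralizer_iff.2 ?_
          rintro _ ⟨w, rfl⟩
          rw [← map_mul, mul_comm, map_mul]
      norm := by
        intro q hq
        obtain ⟨u, rfl⟩ := QuotientGroup.mk_surjective q
        obtain ⟨a, ha⟩ := hmap u (A.mem_norm_iff.1 hq)
        refine ⟨a, ?_, fun v => (A.conj_eq_iff u v _).2 (ha v)⟩
        cases hd : d with
        | true => rfl
        | false =>
          show (false || tet a) = true
          rw [Bool.false_or]
          by_contra hne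
          have hd' := of_decide_eq_false hd
          exact hd' ⟨u, A.mem_norm_iff.1 hq, a, Bool.eq_false_iff.2 hne, ha⟩
      surj := by
        intro a ha
        by_cases ht : tet a = true
        · obtain ⟨k, j, hkj⟩ := tet_word a ht
          obtain ⟨w, hwN, hwA⟩ := hword k j
          exact ⟨_, A.mem_norm_iff.2 hwN, fun v => (A.conj_eq_iff w v _).2 (by rw [← hkj v]; exact hwA v)⟩
        · have hd' : d = true := by
            cases hd : d with
            | true => rfl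
            | false =>
              exfalso
              simp [inList, hd, ht] at ha
          obtain ⟨u, huN, b, hb, hbA⟩ := of_decide_eq_true hd'
          obtain ⟨k, j, hkj⟩ := odd_word b a hb (Bool.eq_false_iff.2 ht)
          obtain ⟨w, hwN, hwA⟩ := hword k j
          refine ⟨QuotientGroup.mk (w * u), A.mem_norm_iff.2 (mul_mem hwN huN),
            fun v => (A.conj_eq_iff (w * u) v _).2 ?_⟩
          rw [← hkj v]
          exact A.acts_comp (A.conj_x0 (A.mem_X.1 w.2)) hbA hwA v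
      cent := by
        intro v hv hw q hq
        obtain ⟨u, rfl⟩ := QuotientGroup.mk_surjective q
        refine A.mem_norm_iff.2 (A.cent_special (A.mem_X.1 u.2) hv hw ((A.conj_eq_iff u v v).1 ?_))
        rw [mem_centralizer_singleton_iff.1 hq, mul_inv_cancel_right]
      nofuse := by
        intro q hq hqr hq3 v hv hw gq hgq
        obtain ⟨u, rfl⟩ := QuotientGroup.mk_surjective q
        obtain ⟨g, rfl⟩ := QuotientGroup.mk_surjective gq
        have h1 : A.Cg ((g : G) * u * (g : G)⁻¹) (A.E v) := by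
          have h' : (QuotientGroup.mk (g * u * g⁻¹) : A.X ⧸ A.K) = A.i (ofAdd v) := hgq
          rw [i_apply, mk_eq] at h'
          exact h'
        obtain ⟨h, hh⟩ := A.special_singular hv hw
        have h2 := A.cg_conj (A.conj_x0 ((Commute.inv_left (A.mem_X.1 g.2)).eq)) (A.cg_trans h1 hh)
        rw [show (g : G)⁻¹ * ((g : G) * u * (g : G)⁻¹) * (g : G)⁻¹⁻¹ = u by group,
          show (g : G)⁻¹ * (h * P.zz * h⁻¹) * (g : G)⁻¹⁻¹ = (g : G)⁻¹ * h * P.zz * ((g : G)⁻¹ * h)⁻¹ by group] at h2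
        obtain ⟨l, hl⟩ := A.cg_iff.1 h2
        have huN := A.mem_norm_iff.1 hq
        refine A.no_singular hinv hrot (u := (u : G) * A.x0 ^ (l : ℕ))
          (mul_mem huN (le_normalizer (pow_mem A.x0_J _)))
          (Commute.mul_left (A.mem_X.1 u.2) (Commute.pow_left (Commute.refl _) _)).eq
          (fun hm => hqr (A.mem_range_iff.2 ?_)) ?_ hl
        · have := mul_mem hm (inv_mem (pow_mem A.x0_J (l : ℕ)))
          rwa [mul_inv_cancel_right] at this
        · rw [← hl, conj_mul, conj_mul, P.Q_cube _ (P.Z_le_Q P.zz_mem), mul_one, mul_inv_cancel] }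
  have hnorm : A.i.range.Normal := normal_mono H
  intro g hg
  have hgX : g ∈ A.X := hg
  refine (A.mem_norm_iff (u := ⟨g, hgX⟩)).1 ?_
  rw [normalizer_eq_top_iff.2 hnorm]
  exact mem_top _

end Axes

end CfsgLib.McLThree
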