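import Cfsg.Agent.McLThree.Fusion

/-!
Consequences of the action of `L` on `Q/Z`: conjugates of `Z` in `Q`, and centralizers of elements
of `R` in `C(Z)` normalizing `J`.
-/

set_option autoImplicit false
set_option maxHeartbeats 400000

namespace CfsgLib.McLThree

open Subgroup
open scoped commutatorElement

universe u

theorem SL5.power_cases : ∀ s : SL5, s = 1 ∨ s * s * s = 1 ∨ s * s * s * s * s = 1 ∨
    ∃ k : Fin 6, s ^ (k : ℕ) = -1 := by
  decide +kernel

variable {G : Type u} [Group G] [Finite G]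

namespace Local

variable (P : Local G)

/-- A `3'`-element centralising a self-centralising subgroup of `Q` is trivial. -/
theorem eq_one_of_cent {H : Subgroup G} (hHQ : H ≤ P.Q)
    (hC : ∀ v ∈ P.Q, (∀ h ∈ H, v * h = h * v) → v ∈ H) {u : G} (hu : u ∈ normalizer (P.Z : Set G))
    {m : ℕ} (hm : Nat.Coprime m 3) (hum : u ^ m = 1) (hc : ∀ h ∈ H, u * h = h * u) : u = 1 := by
  have key : ∀ q ∈ P.Q, u * q = q * u := by
    intro q hq
    set r := q⁻¹ * (u * q * u⁻¹) with hr
    have hrQ : r ∈ P.Q := mul_mem (inv_mem hq) (P.Q_normal u hu q hq)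
    have hrH : r ∈ H := by
      refine hC r hrQ fun h hh => ?_
      -- `[q, h]` lies in `Z` and is fixed by `u`
      have hqh : ⁅q, h⁆ ∈ P.Z := P.Q_comm q hq h (hHQ hh)
      have e1 : (u * q * u⁻¹) * h * (u * q * u⁻¹)⁻¹ = u * (q * h * q⁻¹) * u⁻¹ := by
        have hh' : u * h * u⁻¹ = h := by rw [hc h hh, mul_inv_cancel_right]
        nth_rewrite 1 [← hh']
        group
      have e2 : u * (q * h * q⁻¹) * u⁻¹ = q * h * q⁻¹ := by
        have hq' : q * h * q⁻¹ = ⁅q, h⁆ * h := by rw [commutatorElement_def]; group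
        rw [hq']
        -- `Z ≤ H` as `Z` centralises `H`
        have hzH : ⁅q, h⁆ ∈ H := hC _ (P.Z_le_Q hqh) fun w hw => P.toData.Z_comm_Q (hHQ hw) hqh
        rw [hc _ (mul_mem hzH hh), mul_inv_cancel_right]
      have e3 := e1.trans e2
      rw [hr]
      calc q⁻¹ * (u * q * u⁻¹) * h
          = q⁻¹ * ((u * q * u⁻¹) * h * (u * q * u⁻¹)⁻¹) * (u * q * u⁻¹) := by group
        _ = q⁻¹ * (q * h * q⁻¹) * (u * q * u⁻¹) := by rw [e3]
        _ = _ := by group
    have hpow : ∀ k : ℕ, u ^ k * q * (u ^ k)⁻¹ = q * r ^ k := by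
      intro k
      induction k with
      | zero => simp
      | succ n ih =>
        calc u ^ (n + 1) * q * (u ^ (n + 1))⁻¹ = u * (u ^ n * q * (u ^ n)⁻¹) * u⁻¹ := by
              rw [pow_succ']; group
          _ = (u * q * u⁻¹) * (u * r ^ n * u⁻¹) := by rw [ih]; group
          _ = q * r * r ^ n := by
            rw [show u * r ^ n * u⁻¹ = r ^ n by
              rw [hc _ (pow_mem hrH n), mul_inv_cancel_right], hr]
            group
          _ = _ := by rw [mul_assoc, ← pow_succ']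
    have h1 := hpow m
    rw [hum, one_mul, inv_one, mul_one, eq_comm, mul_eq_left] at h1
    have h3 : r ^ 3 = 1 := by rw [pow_three']; exact P.Q_cube r hrQ
    have hr1 : r = 1 := by
      rw [← pow_one r, ← hm.gcd_eq_one]
      exact pow_gcd_eq_one.2 ⟨h1, h3⟩
    rw [hr, inv_mul_eq_one] at hr1
    exact mul_inv_eq_iff_eq_mul.1 hr1.symm
  have huQ := P.cent_Q u key
  have h3 : u ^ 3 = 1 := by rw [pow_three']; exact P.Q_cube u huQ
  rw [← pow_one u, ← hm.gcd_eq_one]
  exact pow_gcd_eq_one.2 ⟨hum, h3⟩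

/-- A conjugate of `zz` in `Q` lies in `Z`. -/
theorem Q_singular' {a h : G} (ha : a ∈ P.Q) (hh : h * P.zz * h⁻¹ = a) : a ∈ P.Z := by
  classical
  by_contra haZ
  have hZn : (P.Z.subgroupOf P.Q).Normal := ⟨fun z hz q => by
    rw [mem_subgroupOf] at hz ⊢
    show (q : G) * z * (q : G)⁻¹ ∈ P.Z
    rw [← P.toData.Z_comm_Q q.2 hz, mul_inv_cancel_right]; exact hz⟩
  -- two cosets of `Q` move `a` to the same element modulo `Z`
  obtain ⟨v, hvL, hvQ, hva⟩ : ∃ v ∈ P.L, v ∉ P.Q ∧ a⁻¹ * (v * a * v⁻¹) ∈ P.Z := by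
    choose lift hlift using P.fL_surj
    let φ : SL5 → P.Q ⧸ P.Z.subgroupOf P.Q := fun s =>
      QuotientGroup.mk ⟨(lift s : G) * a * (lift s : G)⁻¹, P.toData.L_conj_Q (lift s).2 ha⟩
    haveI : Finite (P.Q ⧸ P.Z.subgroupOf P.Q) := Quotient.finite _
    have hcard : Nat.card (P.Q ⧸ P.Z.subgroupOf P.Q) = 81 := by
      have := Subgroup.card_eq_card_quotient_mul_card_subgroup (P.Z.subgroupOf P.Q)
      rw [Nat.card_congr (subgroupOfEquivOfLe P.Z_le_Q).toEquiv, P.Z_card, P.Q_card] at this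
      omega
    have hni : ¬ Function.Injective φ := fun h => by
      have := Nat.card_le_card_of_injective φ h
      rw [hcard, SL5.card_eq] at this
      omega
    simp only [Function.Injective, not_forall] at hni
    obtain ⟨s, s', hs, hne⟩ := hni
    refine ⟨(lift s : G)⁻¹ * lift s', mul_mem (inv_mem (lift s).2) (lift s').2, fun hq => hne ?_, ?_⟩
    · have := (P.fL_ker ((lift s)⁻¹ * lift s')).2 hq
      rw [map_mul, map_inv, hlift, hlift, inv_mul_eq_one] at this
      exact this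
    · have hz := mem_subgroupOf.1 (QuotientGroup.eq.1 hs)
      simp only [Subgroup.coe_mul, InvMemClass.coe_inv] at hz
      have hl := (lift s).2
      have := P.toFrame.normZ_mem (P.toData.L_norm (inv_mem hl)) hz
      rw [inv_inv] at this
      convert this using 1
      group
  -- the stabiliser of `a` modulo `Z`
  let W : Subgroup P.L :=
    { carrier := {w | a⁻¹ * ((w : G) * a * (w : G)⁻¹) ∈ P.Z}
      one_mem' := by simp
      mul_mem' := fun {u w} hu hw => by
        show a⁻¹ * (((u * w : P.L) : G) * a * ((u * w : P.L) : G)⁻¹) ∈ P.Z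
        have e : a⁻¹ * (((u * w : P.L) : G) * a * ((u * w : P.L) : G)⁻¹) =
            a⁻¹ * ((u : G) * a * (u : G)⁻¹) * ((u : G) * (a⁻¹ * ((w : G) * a * (w : G)⁻¹)) * (u : G)⁻¹) := by
          rw [Subgroup.coe_mul]; group
        rw [e]
        exact mul_mem hu (P.toFrame.normZ_mem (P.toData.L_norm u.2) hw)
      inv_mem' := fun {u} hu => by
        show a⁻¹ * (((u⁻¹ : P.L) : G) * a * ((u⁻¹ : P.L) : G)⁻¹) ∈ P.Z
        rw [InvMemClass.coe_inv]
        have hz := P.toFrame.normZ_mem (P.toData.L_norm (inv_mem u.2)) hu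
        set z' := (u : G)⁻¹ * (a⁻¹ * ((u : G) * a * (u : G)⁻¹)) * ((u : G)⁻¹)⁻¹ with hz'
        have e : a⁻¹ * ((u : G)⁻¹ * a * ((u : G)⁻¹)⁻¹) = z'⁻¹ := by
          have h1 : (u : G)⁻¹ * a * ((u : G)⁻¹)⁻¹ * z' = a := by rw [hz']; group
          rw [eq_mul_inv_of_mul_eq h1, inv_mul_cancel_left]
        rw [e]; exact inv_mem hz }
  have hQW : ∀ w : P.L, (w : G) ∈ P.Q → w ∈ W := by
    intro w hw
    have := P.Q_comm a⁻¹ (inv_mem ha) w hw
    show a⁻¹ * ((w : G) * a * (w : G)⁻¹) ∈ P.Z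
    convert this using 1
    rw [commutatorElement_def, inv_inv]
    group
  set w : P.L := ⟨v, hvL⟩ with hw
  have hwW : w ∈ W := hva
  have hsat : ∀ {u u' : P.L}, u ∈ W → P.fL u = P.fL u' → u' ∈ W := by
    intro u u' hu he
    have := mul_mem hu (hQW (u⁻¹ * u') ((P.fL_ker _).1 (by rw [map_mul, map_inv, he, inv_mul_cancel])))
    rwa [mul_inv_cancel_left] at this
  rcases SL5.power_cases (P.fL w) with e | e | e | ⟨k, e⟩
  · exact hvQ ((P.fL_ker w).1 e)
  · -- order three: conjugate to `y`, so `a` is conjugate into `R`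
    have hy3 : P.fL ⟨P.y, P.toData.S_le_L P.toFrame.y_S⟩ *
        P.fL ⟨P.y, P.toData.S_le_L P.toFrame.y_S⟩ * P.fL ⟨P.y, P.toData.S_le_L P.toFrame.y_S⟩ = 1 := by
      rw [← map_mul, ← map_mul, ← map_one P.fL]
      exact congrArg P.fL (Subtype.ext P.y_cube)
    obtain ⟨s₁, hs₁⟩ := SL5.cube_conj _ e (fun h => hvQ ((P.fL_ker w).1 h))
    obtain ⟨s₂, hs₂⟩ := SL5.cube_conj _ hy3 (fun h => P.y_Q ((P.fL_ker _).1 h))
    obtain ⟨l, hl⟩ := P.fL_surj (s₂⁻¹ * s₁)
    set yy : P.L := ⟨P.y, P.toData.S_le_L P.toFrame.y_S⟩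
    have hW : l⁻¹ * yy * l ∈ W := hsat hwW (by
      rw [map_mul, map_mul, map_inv, hl, mul_inv_rev, inv_inv]
      calc P.fL w = s₁⁻¹ * (s₁ * P.fL w) := (inv_mul_cancel_left _ _).symm
        _ = s₁⁻¹ * (SL5.a0 * s₁) := by rw [hs₁]
        _ = s₁⁻¹ * (SL5.a0 * s₂ * s₂⁻¹) * s₁ := by group
        _ = _ := by rw [← hs₂]; group)
    set b := (l : G) * a * (l : G)⁻¹ with hb
    have hbQ : b ∈ P.Q := P.toData.L_conj_Q l.2 ha
    have hbR : b ∈ P.R := by
      refine P.toFrame.R_eq.2 ⟨hbQ, ?_⟩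
      have h1 : a⁻¹ * (((l : G)⁻¹ * P.y * l) * a * ((l : G)⁻¹ * P.y * l)⁻¹) ∈ P.Z := hW
      have h2 := P.toFrame.normZ_mem (P.toData.L_norm l.2) h1
      have e2 : (l : G) * (a⁻¹ * (((l : G)⁻¹ * P.y * l) * a * ((l : G)⁻¹ * P.y * l)⁻¹)) * (l : G)⁻¹ =
          b⁻¹ * (P.y * b * P.y⁻¹) := by rw [hb]; group
      rw [e2] at h2
      have e3 : ⁅P.y, b⁆ = b * (b⁻¹ * (P.y * b * P.y⁻¹)) * b⁻¹ := by rw [commutatorElement_def]; group
      rw [e3, ← P.toData.Z_comm_Q hbQ h2, mul_inv_cancel_right]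
      exact h2
    have hbZ := P.singular_Q hbR.1 hbQ (h := (l : G) * h) (by rw [hb, ← hh]; group)
    have := P.toFrame.normZ_mem (P.toData.L_norm (inv_mem l.2)) hbZ
    rw [hb] at this
    exact haZ (by simpa [mul_assoc] using this)
  · -- order five
    set u : P.L := w ^ 81 with hu
    have he5 : P.fL w ^ 5 = 1 := by simpa [pow_succ, mul_assoc] using e
    have hu5 : (u : G) ^ 5 = 1 := by
      have h1 : (w ^ 5 : P.L).1 ∈ P.Q := (P.fL_ker _).1 (by rw [map_pow, he5])
      have h2 := P.Q_cube _ h1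
      rw [← pow_three', SubmonoidClass.coe_pow, ← pow_mul] at h2
      rw [hu, SubmonoidClass.coe_pow, ← pow_mul,
        show 81 * 5 = (5 * 3) * 27 from rfl, pow_mul, h2, one_pow]
    have hfu : P.fL u = P.fL w := by
      rw [hu, map_pow, show 81 = 5 * 16 + 1 from rfl, pow_succ, pow_mul, he5, one_pow, one_mul]
    have huW : u ∈ W := pow_mem hwW 81
    have huN : (u : G) ∈ normalizer (P.Z : Set G) := P.toData.L_norm u.2
    have huz : ∀ z ∈ P.Z, (u : G) * z = z * u := fun z hz => (P.toData.comm_Z (P.L_le u.2) hz).symm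
    -- the subgroup `⟨a⟩Z`
    have hK : ∀ k ∈ closure (insert a (P.Z : Set G)), (u : G) * k * (u : G)⁻¹ ∈ closure (insert a (P.Z : Set G)) := by
      intro k hk
      induction hk using closure_induction with
      | mem x hx =>
        rcases hx with rfl | hx
        · have := mul_mem (subset_closure (Set.mem_insert x (P.Z : Set G)))
            (subset_closure (Set.mem_insert_of_mem x (show x⁻¹ * ((u : G) * x * (u : G)⁻¹) ∈ P.Z from huW)))
          rwa [mul_inv_cancel_left] at this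
        · rw [huz x hx, mul_inv_cancel_right]; exact subset_closure (Set.mem_insert_of_mem _ hx)
      | one => simp
      | mul x y _ _ hx hy => rw [← conj_mul]; exact mul_mem hx hy
      | inv x _ hx => rw [← conj_inv]; exact inv_mem hx
    set K := closure (insert a (P.Z : Set G)) with hKdef
    have hKQ : K ≤ P.Q := (closure_le _).2 (Set.insert_subset ha fun z hz => P.Z_le_Q hz)
    have hKc : ∀ p ∈ K, ∀ q ∈ K, p * q = q * p := by
      have hc : ∀ p ∈ insert a (P.Z : Set G), ∀ q ∈ insert a (P.Z : Set G), p * q = q * p := by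
        rintro p (rfl | hp) q (rfl | hq)
        · rfl
        · exact (P.toData.Z_comm_Q ha hq).symm
        · exact P.toData.Z_comm_Q ha hp
        · exact P.toData.Z_comm_Q (P.Z_le_Q hq) hp
      haveI := Subgroup.isMulCommutative_closure hc
      exact fun p hp q hq => congrArg Subtype.val
        (IsMulCommutative.is_comm.comm (⟨p, hp⟩ : K) ⟨q, hq⟩)
    haveI : Fact (Nat.Prime 3) := ⟨Nat.prime_three⟩
    obtain ⟨n, hn, hKn⟩ := (Nat.dvd_prime_pow Nat.prime_three).1
      (show Nat.card K ∣ 3 ^ 5 by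
        rw [show (3 : ℕ) ^ 5 = Nat.card P.Q by rw [P.Q_card]; norm_num]
        exact card_dvd_of_le hKQ)
    have hn4 : n ≤ 4 := by
      have h27 := P.toData.card_abelian_le hKQ hKc
      by_contra hlt
      have : 3 ^ 5 ≤ 3 ^ n := Nat.pow_le_pow_right (by norm_num) (by omega)
      omega
    have hzK : P.zz ∈ K := subset_closure (Set.mem_insert_of_mem _ P.zz_mem)
    have hua : (u : G) * a = a * u :=
      commute_of_five hKn hn4 hu5 hK hzK P.zz_ne (huz _ P.zz_mem) a (subset_closure (Set.mem_insert _ _))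
    set H := P.Q ⊓ centralizer ({a} : Set G) with hH
    have hHn : ∀ k ∈ H, (u : G) * k * (u : G)⁻¹ ∈ H := fun k hk => ⟨P.Q_normal _ huN k hk.1,
      mem_centralizer_singleton_iff.2 (by
        have h1 := mem_centralizer_singleton_iff.1 hk.2
        have ha' : (u : G) * a * (u : G)⁻¹ = a := by rw [hua, mul_inv_cancel_right]
        nth_rewrite 1 [← ha']
        rw [conj_mul, h1, ← conj_mul, ha'])⟩
    obtain ⟨n', hn', hHn'⟩ := (Nat.dvd_prime_pow Nat.prime_three).1
      (show Nat.card H ∣ 3 ^ 5 by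
        rw [show (3 : ℕ) ^ 5 = Nat.card P.Q by rw [P.Q_card]; norm_num]
        exact card_dvd_of_le inf_le_left)
    have hn'4 : n' ≤ 4 := by
      by_contra hlt
      have hHQ : H = P.Q := eq_of_le_of_card_ge inf_le_left (by
        rw [hHn', P.Q_card, show n' = 5 by omega]; norm_num)
      refine haZ (P.Z_center a ha fun b hb => ?_)
      exact (mem_centralizer_singleton_iff.1 ((hHQ.symm ▸ hb : b ∈ H).2)).symm
    have hzH : P.zz ∈ H := ⟨P.Z_le_Q P.zz_mem,
      mem_centralizer_singleton_iff.2 (P.toData.Z_comm_Q ha P.zz_mem)⟩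
    have hall := commute_of_five hHn' hn'4 hu5 hHn hzH P.zz_ne (huz _ P.zz_mem)
    have hu1 := P.eq_one_of_cent (H := H) inf_le_left (fun v hv hvc => ⟨hv,
        mem_centralizer_singleton_iff.2 (hvc a ⟨ha, mem_centralizer_singleton_iff.2 rfl⟩)⟩)
      huN (m := 5) (by norm_num) hu5 hall
    refine hvQ ((P.fL_ker w).1 ?_)
    rw [← hfu, show u = 1 from Subtype.ext hu1, map_one]
  · -- some power is `-1` modulo `Q`, so `t` fixes `a` modulo `Z`
    have ht : (⟨P.t, P.t_mem⟩ : P.L) ∈ W := hsat (pow_mem hwW (k : ℕ)) (by rw [map_pow, e, P.t_img])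
    have h1 : a⁻¹ * (P.t * a * P.t⁻¹) ∈ P.Z := ht
    refine haZ (P.toCtx.t_swap_Z ha ?_)
    have e2 : P.t * a * P.t * a⁻¹ = a * (a⁻¹ * (P.t * a * P.t⁻¹)) * a⁻¹ := by
      rw [P.toCtx.t_inv_eq]; group
    rw [e2, ← P.toData.Z_comm_Q ha h1, mul_inv_cancel_right]
    exact h1

end Local

end CfsgLib.McLThree
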