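import Cfsg.Agent.McLThree.CoreCoord

/-!
The automorphisms induced on `J/⟨zz y⟩` by `C(zz y) ∩ N(J)` are rotations, and the singular
elements of the cosets of weight one and three.
-/

set_option autoImplicit false
set_option maxHeartbeats 400000
set_option maxRecDepth 100000

namespace CfsgLib.McLThree

open Subgroup

universe u

local notation "V" => Fin 3 → ZMod 3

variable {G : Type u} [Group G] [Finite G]

namespace Axes

/-- A signed coordinate permutation. -/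
def sm (p : Fin 3 → Fin 3) (e : Fin 3 → ZMod 3) (w : V) : V := fun k => e k * w (p k)

/-- Its determinant. -/
def smDet (p : Fin 3 → Fin 3) (e : Fin 3 → ZMod 3) : ZMod 3 :=
  -(((p 1).val : ZMod 3) - (p 0).val) * (((p 2).val : ZMod 3) - (p 0).val) *
    (((p 2).val : ZMod 3) - (p 1).val) * (e 0 * e 1 * e 2)

/-- The map induced by `t g`. -/
def mTG (v : V) : V := ![-v 0, -v 1, v 2]

/-- The four sign changes. -/
def sc (j : Fin 4) : V → V :=
  match j with
  | 0 => id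
  | 1 => mT
  | 2 => mG
  | 3 => mTG

/-- The maps induced by an element inverting the diagonal. -/
def mC (ε : ZMod 3) (v : V) : V := ![-v 0, -ε * v 2, ε * v 1]

theorem mTG_eq : mTG = mT ∘ mG := by
  funext v i; fin_cases i <;> simp [mTG, mT, mG]

theorem on_axis : ∀ j : Fin 4, j ≠ 0 → ∀ v : V, sc j v = v → v ≠ 0 →
    ∃ k, v = dl k ∨ v = -dl k := by decide +kernel

theorem axis_fix : ∀ k : Fin 3, ∃ j : Fin 4, j ≠ 0 ∧ sc j (dl k) = dl k := by decide +kernel

theorem to_first : ∀ p : Fin 3 → Fin 3, ∀ e : Fin 3 → ZMod 3, Function.Injective p → (∀ k, e k ≠ 0) →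
    ∃ k : Fin 3, ∃ j : Fin 4,
      sc j ((shift^[k.val]) (sm p e (dl 0))) = dl 0 ∧
      ((∀ ε : ZMod 3, ε ≠ 0 → ∀ i, sc j ((shift^[k.val]) (sm p e (mC ε (dl i)))) =
        mC ε (sc j ((shift^[k.val]) (sm p e (dl i))))) → smDet p e = 1) := by
  unfold Function.Injective
  decide +kernel

theorem units_eps : ∀ ε ε' : ZMod 3, ε ≠ 0 → ε' ≠ 0 → ε' = ε ∨ ε' = -ε := by decide

theorem dl_ne : ∀ k : Fin 3, dl k ≠ 0 := by decide +kernel

theorem sm_of_axes : ∀ (M : Fin 3 → Fin 3) (e : Fin 3 → ZMod 3), Function.Injective M →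
    (∀ k, e k ≠ 0) → ∃ p : Fin 3 → Fin 3, Function.Injective p ∧
      (∀ k, e (p k) ≠ 0) ∧ ∀ k i, sm p (fun l => e (p l)) (dl k) i = e k * dl (M k) i := by
  unfold Function.Injective
  decide +kernel

variable {P : Local G} (A : Axes P)

/-- Conjugation of `t`, `g`, `t g` by elements of `C(x₀) ∩ N(J)`. -/
def InvolProp (_A : Axes P) : Prop := ∀ n ∈ normalizer (P.J : Set G),
  n * (P.zz * P.y) = P.zz * P.y * n → ∀ u ∈ [P.t, P.g, P.t * P.g],
    ∃ u' ∈ [P.t, P.g, P.t * P.g], n * u * n⁻¹ * u' ∈ P.J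

/-- Elements fixing `zz` and `y` centralise `c` modulo `J`. -/
def RotProp (_A : Axes P) : Prop := ∀ x : G, x * P.zz * x⁻¹ = P.zz → x * P.y * x⁻¹ = P.y →
  x ∈ normalizer (P.J : Set G) → x * P.c * x⁻¹ * P.c⁻¹ ∈ P.J

theorem tg_N : P.t ∈ normalizer (P.J : Set G) ∧ P.g ∈ normalizer (P.J : Set G) ∧
    P.t * P.g ∈ normalizer (P.J : Set G) :=
  ⟨P.M_le P.t_M, P.M_le P.g_M, P.M_le (mul_mem P.t_M P.g_M)⟩

theorem tg_sq : P.t * P.g * (P.t * P.g) = 1 := by
  rw [show P.t * P.g * (P.t * P.g) = P.t * (P.g * P.t) * P.g by group, P.g_t, ← mul_assoc,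
    P.t_sq, one_mul, P.g_sq]

theorem zz_mem_D : P.zz ∈ P.toCtx.D := P.toCtx.Z_le_D P.zz_mem

/-- The sign changes are realised. -/
theorem acts_sc (j : Fin 4) : ∃ u ∈ normalizer (P.J : Set G),
    u * A.x0 = A.x0 * u ∧ A.Acts u (sc j) ∧ u ∈ [1, P.t, P.g, P.t * P.g] := by
  fin_cases j
  · refine ⟨1, one_mem _, by simp, fun v => ?_, by simp⟩
    show A.Cg (1 * A.E v * 1⁻¹) (A.E v)
    simp [A.cg_refl]
  · exact ⟨P.t, tg_N.1, A.t_x, A.acts_tg.1, by simp⟩
  · exact ⟨P.g, tg_N.2.1, A.g_x, A.acts_tg.2, by simp⟩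
  · refine ⟨P.t * P.g, tg_N.2.2, ((Commute.mul_left A.t_x A.g_x).eq), ?_, by simp⟩
    show A.Acts _ mTG
    rw [mTG_eq]
    exact A.acts_comp (A.conj_x0 A.t_x) A.acts_tg.2 A.acts_tg.1

theorem acts_shift (k : ℕ) : A.Acts (A.σ ^ k) (shift^[k]) ∧ A.σ ^ k * A.x0 = A.x0 * A.σ ^ k := by
  refine ⟨?_, (Commute.pow_left A.σ_x k).eq⟩
  induction k with
  | zero => intro v; simp [A.cg_refl]
  | succ k ih =>
    rw [pow_succ', Function.iterate_succ']
    exact A.acts_comp (A.conj_x0 A.σ_x) ih A.acts_σ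

/-- An element of `C(x₀)` fixing `zz` modulo `x₀` fixes `zz` and `y`. -/
theorem fix_first {u : G} (hu : u * A.x0 = A.x0 * u) (h : A.Cg (u * P.zz * u⁻¹) P.zz) :
    u * P.zz * u⁻¹ = P.zz ∧ u * P.y * u⁻¹ = P.y := by
  have hx : u * A.x0 * u⁻¹ = A.x0 := by rw [hu, mul_inv_cancel_right]
  have hc : Commute P.zz P.y := P.toFrame.D_comm (zz_mem_D (P := P)) P.y_D
  have hz : u * P.zz * u⁻¹ = P.zz := by
    obtain ⟨k, hk⟩ := A.cg_iff.1 (A.cg_symm h)
    -- no coset element other than `zz` can be both singular and a translate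
    have hbad : ∀ w : G, w * P.zz * w⁻¹ = P.zz * A.x0 → False := by
      intro w hw
      have hD : P.zz * A.x0 ∈ P.toCtx.D :=
        mul_mem (zz_mem_D (P := P)) (mul_mem (zz_mem_D (P := P)) P.y_D)
      rcases P.singular_D hD hw with e | e
      · refine P.y_Q (P.Z_le_Q ?_)
        have := mul_mem (inv_mem P.zz_mem) (mul_mem (inv_mem P.zz_mem) e)
        simpa [x0, mul_assoc] using this
      · obtain ⟨i, hi⟩ := mem_zpowers_iff.1 e
        have h2 : P.zz * P.zz = P.y ^ i * P.y⁻¹ := by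
          rw [hi]; show P.zz * P.zz = P.zz * (P.zz * P.y) * P.y⁻¹; group
        rw [← zpow_sub_one] at h2
        have h4 : P.zz * P.zz ∈ P.Z ⊓ zpowers P.y :=
          ⟨mul_mem P.zz_mem P.zz_mem, h2 ▸ zpow_mem (mem_zpowers _) _⟩
        rcases P.y_pow_cases h4.2 with e2 | e2 | e2
        · have := P.Q_cube _ (P.Z_le_Q P.zz_mem)
          rw [e2, one_mul] at this
          exact P.zz_ne this
        · exact P.y_Q (e2 ▸ P.Z_le_Q h4.1)
        · exact P.y_Q ((inv_mem_iff (H := P.Q)).1 (e2 ▸ P.Z_le_Q h4.1))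
    have hk3 : (k : ℕ) = 0 ∨ (k : ℕ) = 1 ∨ (k : ℕ) = 2 := by omega
    rcases hk3 with e | e | e <;> rw [e] at hk
    · simpa using hk
    · rw [pow_one] at hk; exact (hbad u hk).elim
    · refine (hbad (u * u) ?_).elim
      calc u * u * P.zz * (u * u)⁻¹ = u * (u * P.zz * u⁻¹) * u⁻¹ := by group
        _ = P.zz * A.x0 ^ 2 * A.x0 ^ 2 := by
          rw [hk, ← conj_mul, hk, ← conj_pow, hx]
        _ = P.zz * (A.x0 ^ 3 * A.x0) := by rw [mul_assoc, ← pow_add, ← pow_succ]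
        _ = _ := by rw [A.x0_cube, one_mul]
  refine ⟨hz, ?_⟩
  have := hx
  rw [show A.x0 = P.zz * P.y from rfl, ← conj_mul, hz] at this
  exact mul_left_cancel this

/-- The singular representative of the weight three coset. -/
def zs : G := A.n⁻¹ * P.zz * A.n

theorem zs_J : A.zs ∈ P.J := by
  have := (mem_normalizer_iff''.1 A.n_N P.zz).1 (P.toData.Z_le_J P.zz_mem)
  exact this

/-- An element of `C(x₀)` fixing the weight three coset fixes its singular element. -/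
theorem fix_three {u : G} (hu : u * A.x0 = A.x0 * u) (h : A.Cg (u * A.zs * u⁻¹) A.zs) :
    u * A.zs * u⁻¹ = A.zs := by
  obtain ⟨k, hk⟩ := A.cg_iff.1 (A.cg_symm h)
  set r := A.n * A.x0 * A.n⁻¹ with hr
  have hbad : ∀ i : ℕ, i = 1 ∨ i = 2 → ∀ w : G, w * A.zs * w⁻¹ = A.zs * A.x0 ^ i → False := by
    intro i hi w hw
    have hsing : A.n * w * A.n⁻¹ * P.zz * (A.n * w * A.n⁻¹)⁻¹ = P.zz * r ^ i := by
      calc A.n * w * A.n⁻¹ * P.zz * (A.n * w * A.n⁻¹)⁻¹ = A.n * (w * A.zs * w⁻¹) * A.n⁻¹ := by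
            rw [zs]; group
        _ = A.n * (A.zs * A.x0 ^ i) * A.n⁻¹ := by rw [hw]
        _ = _ := by rw [← conj_mul, hr, conj_pow, zs]; group
    have hrR : r ∈ P.R := A.r_R
    have hm : P.zz * r ^ i ∈ P.R := mul_mem (P.toData.Z_le_R P.zz_mem) (pow_mem hrR _)
    have hZ := P.singular_Q hm.1 hm.2 hsing
    have hri : r ^ i ∈ P.Z := by simpa using mul_mem (inv_mem P.zz_mem) hZ
    rcases hi with rfl | rfl
    · rw [pow_one] at hri; exact A.r_Z hri
    · have h3 := P.Q_cube r hrR.2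
      refine A.r_Z ?_
      show r ∈ P.Z
      rw [sq] at hri
      rw [show r = (r * r)⁻¹ from (inv_eq_of_mul_eq_one_right h3).symm]
      exact inv_mem hri
  have hk3 : (k : ℕ) = 0 ∨ (k : ℕ) = 1 ∨ (k : ℕ) = 2 := by omega
  rcases hk3 with e | e | e <;> rw [e] at hk
  · simpa using hk
  · exact (hbad 1 (Or.inl rfl) u hk).elim
  · exact (hbad 2 (Or.inr rfl) u hk).elim

theorem exists_zs : ∃ a : ZMod 3, a ≠ 0 ∧ A.Cg (A.E fun _ => a) A.zs := by
  obtain ⟨v, hv⟩ := A.exists_coord A.zs_J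
  have hσ : A.σ * A.zs * A.σ⁻¹ = A.zs := by
    have h := P.toData.Z_comm_Q A.q_Q P.zz_mem
    calc A.σ * A.zs * A.σ⁻¹ = A.n⁻¹ * (A.q * P.zz * A.q⁻¹) * A.n := by rw [A.σ_eq, zs]; group
      _ = _ := by rw [← h, mul_inv_cancel_right]; rfl
  have h1 : A.Cg (A.E (shift v)) (A.E v) := by
    have h2 := A.cg_conj (A.conj_x0 A.σ_x) hv
    rw [hσ] at h2
    exact A.cg_trans (A.cg_symm (A.acts_σ v)) (A.cg_trans h2 (A.cg_symm hv))
  have hs := A.coord_unique h1
  have hc : ∀ v : V, shift v = v → v = fun _ => v 0 := by decide +kernel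
  rw [hc v hs] at hv
  refine ⟨v 0, fun h0 => ?_, hv⟩
  rw [h0, show (fun _ => (0 : ZMod 3)) = (0 : V) from rfl, A.E_zero] at hv
  -- the singular element is not a power of the diagonal element
  obtain ⟨k, hk⟩ := A.cg_iff.1 hv
  rw [one_mul] at hk
  have hzR : P.zz = (A.n * A.x0 * A.n⁻¹) ^ (k : ℕ) := by
    rw [conj_pow, ← hk, zs]; group
  have hk3 : (k : ℕ) = 0 ∨ (k : ℕ) = 1 ∨ (k : ℕ) = 2 := by omega
  rcases hk3 with e | e | e <;> rw [e] at hzR
  · exact P.zz_ne (by simpa using hzR)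
  · rw [pow_one] at hzR
    exact A.r_Z (by show A.n * A.x0 * A.n⁻¹ ∈ P.Z; rw [← hzR]; exact P.zz_mem)
  · refine A.r_Z ?_
    show A.n * A.x0 * A.n⁻¹ ∈ P.Z
    have h3 := P.Q_cube _ A.r_R.2
    change A.n * A.x0 * A.n⁻¹ * (A.n * A.x0 * A.n⁻¹) * (A.n * A.x0 * A.n⁻¹) = 1 at h3
    rw [← sq, ← hzR] at h3
    rw [eq_inv_of_mul_eq_one_right h3]
    exact inv_mem P.zz_mem

/-- The map induced by `c`. -/
theorem acts_c : ∃ ε : ZMod 3, ε ≠ 0 ∧ A.Acts P.c (mC ε) := by
  have hcx : P.c * A.x0 * P.c⁻¹ = A.x0⁻¹ := by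
    show P.c * (P.zz * P.y) * P.c⁻¹ = (P.zz * P.y)⁻¹
    rw [← conj_mul, P.c_z, P.c_y, mul_inv_rev]
    exact (show Commute P.zz P.y from P.toFrame.D_comm (zz_mem_D (P := P)) P.y_D).inv_inv.eq
  have hcz : P.c * A.x0 * P.c⁻¹ ∈ zpowers A.x0 := by rw [hcx]; exact inv_mem (mem_zpowers _)
  have hcN : P.c ∈ normalizer (P.J : Set G) := P.M_le P.c_M
  obtain ⟨v, hv⟩ := A.exists_coord ((mem_normalizer_iff.1 hcN _).1 A.e2_J)
  -- `t g` fixes the image
  have hfix : mTG v = v := by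
    refine A.coord_unique ?_
    have hgv : A.Cg (P.g * A.e2 * P.g⁻¹) A.e2 := by
      have := A.acts_tg.2 (dl 1)
      rwa [maps_dl.2.2.2.2.2.2.2.1, A.E_dl.2.1] at this
    have hM : P.c * P.g * P.c⁻¹ ∈ P.M := mul_mem (mul_mem P.c_M P.g_M) (inv_mem P.c_M)
    have hmod : (P.c * P.g * P.c⁻¹)⁻¹ * (P.t * P.g) ∈ P.J := by
      have := img_congr (m := ⟨P.t * P.g, mul_mem P.t_M P.g_M⟩)
        (m' := ⟨P.c, P.c_M⟩ * ⟨P.g, P.g_M⟩ * ⟨P.c, P.c_M⟩⁻¹) (by
          simp only [map_mul, map_inv, Subgroup.coe_mul, InvMemClass.coe_inv, P.c_img, P.g_img,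
            tg_img (P := P)]
          decide +kernel)
      exact this
    have h1 := A.cg_conj hcz hgv
    rw [show P.c * (P.g * A.e2 * P.g⁻¹) * P.c⁻¹ =
        (P.c * P.g * P.c⁻¹) * (P.c * A.e2 * P.c⁻¹) * (P.c * P.g * P.c⁻¹)⁻¹ by group,
      ← act_congr (P.M_le hM) hmod ((mem_normalizer_iff.1 hcN _).1 A.e2_J)] at h1
    have h2 := A.cg_conj (A.conj_x0 (u := P.t * P.g) ((Commute.mul_left A.t_x A.g_x).eq)) hv
    have h3 : A.Cg (P.t * P.g * A.E v * (P.t * P.g)⁻¹) (A.E (mTG v)) := by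
      rw [mTG_eq]; exact A.acts_comp (A.conj_x0 A.t_x) A.acts_tg.2 A.acts_tg.1 v
    exact A.cg_trans (A.cg_symm h3) (A.cg_trans h2 (A.cg_trans h1 (A.cg_symm hv)))
  have hv0 : v ≠ 0 := fun h => by
    rw [h, A.E_zero] at hv
    have h1 := A.cg_conj (u := P.c⁻¹) (by
      rw [inv_inv]
      have : P.c⁻¹ * A.x0 * P.c = A.x0⁻¹ := by
        calc P.c⁻¹ * A.x0 * P.c = P.c⁻¹ * (P.c * A.x0 * P.c⁻¹)⁻¹ * P.c := by rw [hcx, inv_inv]
          _ = _ := by group
      rw [this]; exact inv_mem (mem_zpowers _)) hv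
    have e : P.c⁻¹ * (P.c * A.e2 * P.c⁻¹) * P.c⁻¹⁻¹ = A.E (dl 1) := by rw [A.E_dl.2.1]; group
    rw [e, mul_one, mul_inv_cancel] at h1
    exact absurd (A.E_eq_zero h1) (by decide +kernel)
  have hshape : ∀ v : V, mTG v = v → v ≠ 0 → ∃ ε : ZMod 3, ε ≠ 0 ∧ v = ![0, 0, ε] := by decide +kernel
  obtain ⟨ε, hε, rfl⟩ := hshape v hfix hv0
  refine ⟨ε, hε, A.acts_of_basis (fun a b => ?_) fun k => ?_⟩
  · funext i; fin_cases i <;> simp [mC] <;> ring
  have hm : mC ε (dl 0) = -dl 0 ∧ mC ε (dl 1) = ![0, 0, ε] ∧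
      mC ε ![0, 0, ε] = -dl 1 ∧ mC ε (dl 2) = (ε.val) • mC ε ![0, 0, ε] := by
    clear hv hfix hv0
    revert ε
    decide +kernel
  have h1 : A.Cg (P.c * A.E ![0, 0, ε] * P.c⁻¹) (A.E (-dl 1)) := by
    have h2 := A.cg_conj hcz hv
    have e : P.c * (P.c * A.e2 * P.c⁻¹) * P.c⁻¹ = P.t * A.e2 * P.t⁻¹ := by rw [← P.c_sq]; group
    rw [e] at h2
    have h3 := A.acts_tg.1 (dl 1)
    rw [maps_dl.2.2.2.2.1, A.E_dl.2.1] at h3
    exact A.cg_trans h2 h3
  fin_cases k
  · show A.Cg (P.c * A.E (dl 0) * P.c⁻¹) (A.E (mC ε (dl 0)))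
    rw [hm.1, A.E_neg, A.E_dl.1, P.c_z]; exact A.cg_refl _
  · show A.Cg (P.c * A.E (dl 1) * P.c⁻¹) (A.E (mC ε (dl 1)))
    rw [hm.2.1, A.E_dl.2.1]; exact A.cg_symm hv
  · show A.Cg (P.c * A.E (dl 2) * P.c⁻¹) (A.E (mC ε (dl 2)))
    have hd : dl 2 = ε.val • (![0, 0, ε] : V) := by
      have : ∀ ε : ZMod 3, ε ≠ 0 → dl 2 = ε.val • (![0, 0, ε] : V) := by decide +kernel
      exact this ε hε
    have hpow : ∀ (m : ℕ) (w : V), A.E (m • w) = A.E w ^ m := by
      intro m w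
      induction m with
      | zero => simp [A.E_zero]
      | succ m ih => rw [succ_nsmul, A.E_add, ih, pow_succ]
    rw [hm.2.2.2, hm.2.2.1]
    conv => arg 2; rw [hd]
    rw [hpow, hpow, ← conj_pow]
    generalize ε.val = m
    induction m with
    | zero => simp [A.cg_refl]
    | succ m ih =>
      rw [pow_succ, pow_succ]
      exact A.cg_mul (pow_mem (A.E_J _) _) ((mem_normalizer_iff.1 hcN _).1 (A.E_J _)) ih h1

variable (hinv : A.InvolProp) (hrot : A.RotProp)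

include hinv hrot in
/-- Elements of `C(x₀) ∩ N(J)` act as rotations. -/
theorem acts_signed {u : G} (hN : u ∈ normalizer (P.J : Set G)) (hx : u * A.x0 = A.x0 * u) :
    ∃ p : Fin 3 → Fin 3, ∃ e : Fin 3 → ZMod 3, smDet p e = 1 ∧ A.Acts u (sm p e) := by
  choose L hL using fun v => A.exists_coord ((mem_normalizer_iff.1 hN (A.E v)).1 (A.E_J v))
  have hact : A.Acts u L := fun v => A.cg_symm (hL v)
  have hadd : ∀ v w, L (v + w) = L v + L w := fun v w => A.coord_unique (by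
    rw [A.E_add (L v) (L w)]
    refine A.cg_trans (hL _) ?_
    rw [A.E_add, ← conj_mul]
    exact A.cg_mul (A.E_J _) ((mem_normalizer_iff.1 hN _).1 (A.E_J _)) (hact v) (hact w))
  have hui : u⁻¹ * A.x0 * u⁻¹⁻¹ ∈ zpowers A.x0 := A.conj_x0 ((Commute.inv_left hx).eq)
  have hinj : Function.Injective L := by
    intro v w h
    refine A.coord_unique ?_
    have h' := A.cg_conj hui (A.cg_trans (hact v) (by rw [h]; exact hL w))
    simpa [mul_assoc] using h'
  have hL0 : L 0 = 0 := by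
    have := hadd 0 0
    rw [add_zero] at this
    exact left_eq_add.1 this
  -- the axes are permuted
  have haxis : ∀ k, ∃ i, L (dl k) = dl i ∨ L (dl k) = -dl i := by
    intro k
    obtain ⟨j, hj0, hj⟩ := axis_fix k
    obtain ⟨w, hwN, hwx, hwA, hwl⟩ := A.acts_sc j
    have hwl' : w ∈ [P.t, P.g, P.t * P.g] := by
      rcases List.mem_cons.1 hwl with rfl | h
      · exfalso
        have := A.acts_unique hwA (L := sc j) (L' := id) (fun v => by simp [A.cg_refl])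
        have k1 : ∀ j : Fin 4, sc j ![1, 1, 1] = ![1, 1, 1] → j = 0 := by decide +kernel
        exact hj0 (k1 j (by rw [this]; rfl))
      · exact h
    obtain ⟨w', hw'l, hw'⟩ := hinv u hN hx w hwl'
    obtain ⟨j', hj'0, hw'A⟩ : ∃ j' : Fin 4, j' ≠ 0 ∧ A.Acts w' (sc j') := by
      rcases List.mem_cons.1 hw'l with rfl | h
      · exact ⟨1, by decide, A.acts_tg.1⟩
      rcases List.mem_cons.1 h with rfl | h
      · exact ⟨2, by decide, A.acts_tg.2⟩
      · rw [List.mem_singleton.1 h]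
        refine ⟨3, by decide, ?_⟩
        show A.Acts _ mTG
        rw [mTG_eq]
        exact A.acts_comp (A.conj_x0 A.t_x) A.acts_tg.2 A.acts_tg.1
    have hw'J : (w'⁻¹)⁻¹ * (u * w * u⁻¹) ∈ P.J ∧ w' * w' = 1 ∧ w' ∈ normalizer (P.J : Set G) := by
      have hsq : w' * w' = 1 ∧ w' ∈ normalizer (P.J : Set G) := by
        rcases List.mem_cons.1 hw'l with rfl | h
        · exact ⟨P.t_sq, tg_N.1⟩
        rcases List.mem_cons.1 h with rfl | h
        · exact ⟨P.g_sq, tg_N.2.1⟩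
        · rw [List.mem_singleton.1 h]; exact ⟨tg_sq, tg_N.2.2⟩
      refine ⟨?_, hsq⟩
      rw [inv_inv]
      have := (mem_normalizer_iff.1 hsq.2 _).1 hw'
      rwa [show w' * (u * w * u⁻¹ * w') * w'⁻¹ = w' * (u * w * u⁻¹) by group] at this
    have hwi : w'⁻¹ = w' := inv_eq_of_mul_eq_one_right hw'J.2.1
    -- both sides act in the same way
    have e2 : A.Cg (u * w * A.E (dl k) * (u * w)⁻¹) (A.E (sc j' (L (dl k)))) := by
      have hin := (mem_normalizer_iff.1 hN _).1 (A.E_J (dl k))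
      have e : u * w * A.E (dl k) * (u * w)⁻¹ =
          (u * w * u⁻¹) * (u * A.E (dl k) * u⁻¹) * (u * w * u⁻¹)⁻¹ := by group
      rw [e, act_congr hw'J.2.2 (by simpa [hwi] using hw'J.1) hin]
      exact A.cg_trans (A.cg_conj (A.conj_x0 (u := w') (by
        rcases List.mem_cons.1 hw'l with rfl | h
        · exact A.t_x
        rcases List.mem_cons.1 h with rfl | h
        · exact A.g_x
        · rw [List.mem_singleton.1 h]; exact (Commute.mul_left A.t_x A.g_x).eq)) (hact _)) (hw'A _)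
    have e1 : A.Cg (u * w * A.E (dl k) * (u * w)⁻¹) (A.E (L (dl k))) := by
      have := A.acts_comp (A.conj_x0 hx) hwA hact (dl k)
      rwa [Function.comp_apply, hj] at this
    have hfix : sc j' (L (dl k)) = L (dl k) := A.coord_unique (A.cg_trans (A.cg_symm e2) e1)
    refine on_axis j' hj'0 _ hfix fun h0 => ?_
    have := hinj (h0.trans hL0.symm)
    exact dl_ne k this
  choose M hM using haxis
  have hMinj : Function.Injective M := by
    intro a b hab
    have hd : ∀ a b : Fin 3, (dl a = dl b → a = b) ∧ (dl a = -dl b → a = b) := by decide +kernel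
    have hneg : ∀ v, L (-v) = -L v := fun v => eq_neg_of_add_eq_zero_left (by rw [← hadd, neg_add_cancel, hL0])
    rcases hM a with ha | ha <;> rcases hM b with hb | hb <;> rw [hab] at ha
    · exact (hd a b).1 (hinj (ha.trans hb.symm))
    · exact (hd a b).2 (hinj (by rw [hneg, hb, neg_neg, ha]))
    · exact (hd a b).2 (hinj (by rw [hneg, hb, ha]))
    · exact (hd a b).1 (hinj (ha.trans hb.symm))
  let ep : Fin 3 → ZMod 3 := fun k => if L (dl k) = dl (M k) then 1 else -1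
  have hep : ∀ k, ep k ≠ 0 := fun k => by
    show (if _ then (1 : ZMod 3) else -1) ≠ 0
    split <;> decide
  obtain ⟨p, hp, hpe, hpsm⟩ := sm_of_axes M ep hMinj hep
  set e : Fin 3 → ZMod 3 := fun l => ep (p l) with he
  have hLs : A.Acts u (sm p e) := by
    refine A.acts_of_basis (fun v w => by funext i; simp [sm]; ring) fun k => ?_
    have : sm p e (dl k) = L (dl k) := by
      funext i
      rw [hpsm k i]
      show (if L (dl k) = dl (M k) then (1 : ZMod 3) else -1) * _ = _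
      split
      · next h => rw [h, one_mul]
      · next h => rw [(hM k).resolve_left h]; simp
    rw [this]; exact hact _
  refine ⟨p, e, ?_, hLs⟩
  obtain ⟨k, j, h0, hdet⟩ := to_first p e hp hpe
  obtain ⟨w, hwN, hwx, hwA, -⟩ := A.acts_sc j
  set x := w * (A.σ ^ (k : ℕ) * u) with hxdef
  have hxA : A.Acts x (sc j ∘ (shift^[(k : ℕ)] ∘ sm p e)) :=
    A.acts_comp (A.conj_x0 hwx) (A.acts_comp (A.conj_x0 (A.acts_shift k).2) hLs (A.acts_shift k).1) hwA
  have hxx : x * A.x0 = A.x0 * x :=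
    (Commute.mul_left hwx (Commute.mul_left (A.acts_shift k).2 hx)).eq
  have hxN : x ∈ normalizer (P.J : Set G) := mul_mem hwN (mul_mem (pow_mem A.σ_N _) hN)
  obtain ⟨hxz, hxy⟩ := A.fix_first hxx (by
    have := hxA (dl 0)
    rwa [Function.comp_apply, Function.comp_apply, h0, A.E_dl.1] at this)
  refine hdet fun ε hε i => ?_
  obtain ⟨ε', hε', hc⟩ := A.acts_c
  have hJ := hrot x hxz hxy hxN
  set W : V → V := sc j ∘ (shift^[(k : ℕ)] ∘ sm p e) with hW
  have hcom : ∀ v, W (mC ε' v) = mC ε' (W v) := by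
    intro v
    refine A.coord_unique ?_
    have hcx0 : P.c * A.x0 * P.c⁻¹ ∈ zpowers A.x0 := by
      show P.c * (P.zz * P.y) * P.c⁻¹ ∈ zpowers (P.zz * P.y)
      rw [← conj_mul, P.c_z, P.c_y, (show Commute P.zz P.y from P.toFrame.D_comm (zz_mem_D (P := P)) P.y_D).inv_inv.eq,
        ← mul_inv_rev]
      exact inv_mem (mem_zpowers _)
    have a1 := A.acts_comp (A.conj_x0 hxx) hc hxA v
    have a2 := A.acts_comp hcx0 hxA hc v
    have hcN : P.c ∈ normalizer (P.J : Set G) := P.M_le P.c_M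
    have e3 : x * P.c * A.E v * (x * P.c)⁻¹ = P.c * x * A.E v * (P.c * x)⁻¹ := by
      refine act_congr (mul_mem hcN hxN) ?_ (A.E_J v)
      have := (mem_normalizer_iff''.1 (mul_mem hcN hxN) _).1 hJ
      convert this using 1
      group
    rw [e3] at a1
    exact A.cg_trans (A.cg_symm a1) a2
  rcases units_eps ε' ε hε' hε with rfl | rfl
  · exact hcom (dl i)
  · -- the other sign, via `t`
    have hz' : ∀ v, W (-v) = -W v := by
      intro v
      refine eq_neg_of_add_eq_zero_left ?_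
      refine A.coord_unique ?_
      rw [A.E_add, A.E_zero]
      refine A.cg_trans (A.cg_mul ((mem_normalizer_iff.1 hxN _).1 (A.E_J _)) (A.E_J _) (A.cg_symm (hxA (-v))) (A.cg_symm (hxA v))) ?_
      rw [conj_mul, ← A.E_add, neg_add_cancel, A.E_zero, mul_one, mul_inv_cancel]
      exact A.cg_refl _
    have h2 : ∀ v, mC (-ε') v = mC ε' (mC ε' (mC ε' v)) := by
      have k : ∀ ε : ZMod 3, ε ≠ 0 → ∀ v : V, mC (-ε) v = mC ε (mC ε (mC ε v)) := by decide +kernel
      exact k ε' hε'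
    show W (mC (-ε') (dl i)) = mC (-ε') (W (dl i))
    rw [h2, h2, hcom, hcom, hcom]

end Axes

end CfsgLib.McLThree
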