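import Mathlib
import Cfsg.Agent.Solvable.Basics

/-! Small general tools for the 3-local analysis of the McLaughlin group. -/

set_option autoImplicit false

namespace CfsgLib.McLThree

open Subgroup

variable {G : Type*} [Group G]

theorem three_pow_mod_five : ∀ n m : ℕ, n ≤ 4 → 1 ≤ m → m ≤ n → 3 ^ n ≡ 3 ^ m [MOD 5] → m = n := by
  intro n m hn hm hmn
  interval_cases n <;> interval_cases m <;> decide

/-- An element of fifth power `1` centralises a 3-group of order at most 81 which it normalises,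
if it fixes a non-trivial element. -/
theorem commute_of_five [Finite G] {K : Subgroup G} {n : ℕ} (hK : Nat.card K = 3 ^ n) (hn : n ≤ 4)
    {u : G} (hu : u ^ 5 = 1) (hnorm : ∀ k ∈ K, u * k * u⁻¹ ∈ K) {z : G} (hzK : z ∈ K) (hz : z ≠ 1)
    (hzu : u * z = z * u) : ∀ k ∈ K, u * k = k * u := by
  by_cases h1 : u = 1
  · intro k _; simp [h1]
  haveI : Fact (Nat.Prime 5) := ⟨by norm_num⟩
  let U := zpowers u
  have hUn : ∀ x ∈ U, ∀ k ∈ K, x * k * x⁻¹ ∈ K := by
    intro x hx k hk
    obtain ⟨i, rfl⟩ := mem_zpowers_iff.1 hx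
    obtain ⟨j, hj⟩ : ∃ j : ℕ, u ^ i = u ^ j := by
      obtain ⟨j, hj⟩ := (isOfFinOrder_of_finite u).mem_powers_iff_mem_zpowers.2
        (mem_zpowers_iff.2 ⟨i, rfl⟩)
      exact ⟨j, hj.symm⟩
    rw [hj]
    clear hj hx
    induction j generalizing k with
    | zero => simpa using hk
    | succ j ih =>
      have := hnorm _ (ih k hk)
      rw [pow_succ', mul_inv_rev]
      simpa [mul_assoc] using this
  letI : MulAction U K :=
    { smul := fun x k => ⟨x * k * (x : G)⁻¹, hUn x x.2 k k.2⟩
      one_smul := fun k => Subtype.ext (show (1 : G) * k * (1 : G)⁻¹ = k by simp)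
      mul_smul := fun x y k => Subtype.ext
        (show (x * y : G) * k * ((x * y : G))⁻¹ = x * (y * k * (y : G)⁻¹) * (x : G)⁻¹ by group) }
  have hU : IsPGroup 5 U := IsPGroup.of_card (n := 1) (by
    rw [Nat.card_zpowers, pow_one, orderOf_eq_prime hu h1])
  have hmod := hU.card_modEq_card_fixedPoints K
  let F : Subgroup G := K ⊓ centralizer ({u} : Set G)
  have hF : Nat.card (MulAction.fixedPoints U K) = Nat.card F := by
    refine Nat.card_congr
      { toFun := fun k => ⟨k.1.1, k.1.2, mem_centralizer_singleton_iff.2 ?_⟩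
        invFun := fun k => ⟨⟨k.1, k.2.1⟩, fun x => Subtype.ext ?_⟩
        left_inv := fun k => Subtype.ext (Subtype.ext rfl)
        right_inv := fun k => Subtype.ext rfl }
    · have h := congrArg Subtype.val (k.2 ⟨u, mem_zpowers u⟩)
      change u * k.1.1 * u⁻¹ = k.1.1 at h
      exact (mul_inv_eq_iff_eq_mul.1 h).symm
    · have hc : Commute u (k.1 : G) := (mem_centralizer_singleton_iff.1 k.2.2).symm
      obtain ⟨i, hi⟩ := mem_zpowers_iff.1 x.2
      show (x : G) * k.1 * (x : G)⁻¹ = k.1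
      rw [← hi, (hc.zpow_left i).eq, mul_inv_cancel_right]
  rw [hF, hK] at hmod
  have hdvd : Nat.card F ∣ 3 ^ n := hK ▸ card_dvd_of_le inf_le_left
  obtain ⟨m, hm, hFm⟩ := (Nat.dvd_prime_pow Nat.prime_three).1 hdvd
  have hm1 : 1 ≤ m := by
    by_contra hlt
    have : F = ⊥ := eq_bot_of_card_eq F (by rw [hFm, show m = 0 by omega]; rfl)
    exact hz ((mem_bot).1 (this ▸ (⟨hzK, mem_centralizer_singleton_iff.2 hzu.symm⟩ : z ∈ F)))
  rw [hFm] at hmod
  have hmn := three_pow_mod_five n m hn hm1 hm hmod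
  have hFK : F = K := eq_of_le_of_card_ge inf_le_left (by rw [hK, hFm, hmn])
  intro k hk
  exact (mem_centralizer_singleton_iff.1 ((hFK ▸ hk : k ∈ F).2)).symm

/-- A subgroup is determined by its intersection with a subgroup and its image. -/
theorem card_meet [Finite G] {A B U : Subgroup G} (hA : A ≤ U) (hB : B ≤ U)
    (hn : A ≤ normalizer (B : Set G)) :
    Nat.card A * Nat.card B ≤ Nat.card U * Nat.card ↥(A ⊓ B) := by
  rw [← CfsgLib.Solvable.card_sup_mul_card_inf hn]
  exact Nat.mul_le_mul_right _ (card_le_of_le (sup_le hA hB))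

end CfsgLib.McLThree
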