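import Cfsg.Agent.McLThree.SLFive
import Cfsg.Agent.McLThree.Tools

/-!
The common 3-local data `3^{1+4}:2A5`, `3^4:A6` of the recognitions of the McLaughlin group.
-/

set_option autoImplicit false

namespace CfsgLib.McLThree

open Subgroup
open scoped commutatorElement

universe u

/-- The common data: `L/Q ≅ SL(2,5)` in the normalizer of `Z`, `M/J ≅ A₆` in that of `J`. -/
structure Data (G : Type u) [Group G] [Finite G] where
  S : Sylow 3 G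
  Z : Subgroup G
  J : Subgroup G
  Q : Subgroup G
  M : Subgroup G
  L : Subgroup G
  J_le : J ≤ S
  J_comm : ∀ a ∈ J, ∀ b ∈ J, a * b = b * a
  J_cube : ∀ a ∈ J, a * a * a = 1
  J_card : Nat.card J = 81
  M_le : M ≤ normalizer (J : Set G)
  M_normal : ∀ g ∈ normalizer (J : Set G), ∀ m ∈ M, g * m * g⁻¹ ∈ M
  M_three : ∀ g ∈ normalizer (J : Set G), (∃ k : ℕ, g ^ 3 ^ k = 1) → g ∈ M
  J_le_M : J ≤ M
  fM : M →* alternatingGroup (Fin 6)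
  fM_surj : Function.Surjective fM
  fM_ker : ∀ x : M, fM x = 1 ↔ (x : G) ∈ J
  L_le : L ≤ centralizer (Z : Set G)
  L_normal : ∀ g ∈ normalizer (Z : Set G), ∀ l ∈ L, g * l * g⁻¹ ∈ L
  L_three : ∀ g ∈ normalizer (Z : Set G), (∃ k : ℕ, g ^ 3 ^ k = 1) → g ∈ L
  Q_le_L : Q ≤ L
  Q_normal : ∀ g ∈ normalizer (Z : Set G), ∀ q ∈ Q, g * q * g⁻¹ ∈ Q
  Q_card : Nat.card Q = 243
  Q_cube : ∀ q ∈ Q, q * q * q = 1
  Q_comm : ∀ a ∈ Q, ∀ b ∈ Q, ⁅a, b⁆ ∈ Z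
  fL : L →* SL5
  fL_surj : Function.Surjective fL
  fL_ker : ∀ x : L, fL x = 1 ↔ (x : G) ∈ Q
  Z_card : Nat.card Z = 3
  Z_le_Q : Z ≤ Q
  Z_center : ∀ q ∈ Q, (∀ b ∈ Q, q * b = b * q) → q ∈ Z
  S_le : (S : Subgroup G) ≤ centralizer (Z : Set G)
  cent_Q : ∀ g : G, (∀ q ∈ Q, g * q = q * g) → g ∈ Q

end CfsgLib.McLThree
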