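import Cfsg.Agent.McLThree.EightData
import Cfsg.Agent.ThreeLocalEight.Finish
import Cfsg.Agent.ThreeLocalSymEight.ExcFinal
import Cfsg.Agent.ThreeLocalSymEight.Eight

/-!
# The abstract 3-local data give `A₈` or `S₈`
-/

set_option autoImplicit false
set_option maxRecDepth 100000
set_option linter.style.haveILetI false
set_option linter.unusedSectionVars false

namespace CfsgLib.McLThree

open Subgroup Equiv Equiv.Perm
open CfsgLib.ThreeLocalSymEight (P35 eZ eZ' eT dd D82)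
open CfsgLib.ThreeLocalEight (c3 c5 LK)

universe u

theorem pow_fin_three {G : Type*} [Group G] {x : G} (h : x * x * x = 1) {w : G} (hw : w ∈ zpowers x) :
    ∃ i : Fin 3, w = x ^ i.val := by
  obtain ⟨k, rfl⟩ := mem_zpowers_iff.1 hw
  refine ⟨⟨(k % 3).toNat, by omega⟩, ?_⟩
  rw [← zpow_natCast, Int.toNat_of_nonneg (Int.emod_nonneg _ (by norm_num))]
  conv_lhs => rw [← Int.emod_add_mul_ediv k 3, zpow_add, zpow_mul,
    show x ^ (3 : ℤ) = 1 by rw [show (3 : ℤ) = ((3 : ℕ) : ℤ) from rfl, zpow_natCast, pow_succ, pow_two, h],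
    one_zpow, mul_one]

theorem axis_norm : ∀ p : Perm (Fin 5), (∃ j : Fin 3, p * c5 * p⁻¹ = c5 ^ j.val) ↔
    (p * c5 * p⁻¹ = c5 ∨ p * c5 * p⁻¹ = c5⁻¹) := by decide +kernel

theorem fst_cent : ∀ s : Perm (Fin 3), s * c3 = c3 * s → ∃ i : Fin 3, s = c3 ^ i.val := by decide

theorem centralizer_alt_five : ∀ p : Perm (Fin 5),
    (∀ q : Perm (Fin 5), sign q = 1 → p * q = q * p) → p = 1 := by decide +kernel

theorem cent_three_alt : ∀ a : alternatingGroup (Fin 5), a * a * a = 1 → a ≠ 1 →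
    Fintype.card {q : alternatingGroup (Fin 5) // q * a = a * q} = 3 := by decide +kernel

theorem count_z : Fintype.card {p : P35 // p * eZ = eZ * p} = 360 ∧
    Fintype.card {p : P35 // sign p.1 * sign p.2 = 1 ∧ p * eZ = eZ * p} = 180 := by decide +kernel

theorem count_D : Fintype.card {p : P35 // p * eZ = eZ * p ∧ p * eZ' = eZ' * p} = 18 ∧
    Fintype.card {p : P35 // sign p.1 * sign p.2 = 1 ∧ p * eZ = eZ * p ∧ p * eZ' = eZ' * p} = 9 := by
  decide +kernel

theorem count_K : Fintype.card {p : P35 // p.2 * c5 * p.2⁻¹ = c5 ∨ p.2 * c5 * p.2⁻¹ = c5⁻¹} = 72 ∧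
    Fintype.card {p : P35 // sign p.1 * sign p.2 = 1 ∧ (p.2 * c5 * p.2⁻¹ = c5 ∨ p.2 * c5 * p.2⁻¹ = c5⁻¹)} = 36 := by
  decide +kernel

/-- A quotient of normalizer by centralizer depends only on the subgroup. -/
theorem nc_congr {G : Type*} [Group G] {H : Type*} [Group H] {A B : Subgroup G} (h : A = B)
    [((centralizer (A : Set G)).subgroupOf (normalizer (A : Set G))).Normal]
    [((centralizer (B : Set G)).subgroupOf (normalizer (B : Set G))).Normal]
    (e : normalizer (A : Set G) ⧸ (centralizer (A : Set G)).subgroupOf (normalizer (A : Set G)) ≃* H) :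
    Nonempty (normalizer (B : Set G) ⧸ (centralizer (B : Set G)).subgroupOf (normalizer (B : Set G)) ≃* H) := by
  subst h; exact ⟨e⟩

/-- A homomorphism out of the dihedral group of order eight. -/
theorem dihedral_hom {G : Type*} [Group G] {r s : G} (hr : r ^ 4 = 1) (hs : s ^ 2 = 1)
    (hsr : s * r * s⁻¹ = r⁻¹) :
    ∃ ψ : DihedralGroup 4 →* G, ψ (DihedralGroup.r 1) = r ∧ ψ (DihedralGroup.sr 0) = s := by
  have hss : s * s = 1 := by rw [← pow_two, hs]
  have hp : ∀ i j : ZMod 4, r ^ (i + j).val = r ^ i.val * r ^ j.val := fun i j => by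
    rw [← pow_add, ZMod.val_add]; exact (pow_eq_pow_mod _ hr).symm
  have hsub : ∀ i j : ZMod 4, r ^ (j - i).val = (r ^ i.val)⁻¹ * r ^ j.val := fun i j => by
    rw [eq_inv_mul_iff_mul_eq, ← hp, add_sub_cancel]
  have hcomm : ∀ k : ℕ, r ^ k * s = s * (r ^ k)⁻¹ := fun k => by
    have h : s * r ^ k * s⁻¹ = (r ^ k)⁻¹ := by rw [← conj_pow, hsr, inv_pow]
    have hsi : s⁻¹ = s := inv_eq_of_mul_eq_one_right hss
    rw [hsi] at h
    calc r ^ k * s = s * (s * r ^ k * s) := by rw [← mul_assoc, ← mul_assoc, hss, one_mul]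
      _ = s * (r ^ k)⁻¹ := by rw [h]
  let f : DihedralGroup 4 → G := fun x => match x with
    | .r i => r ^ i.val
    | .sr i => s * r ^ i.val
  have hmul : ∀ x y, f (x * y) = f x * f y := by
    rintro (i | i) (j | j)
    · show r ^ (i + j).val = _
      exact hp i j
    · show s * r ^ (j - i).val = r ^ i.val * (s * r ^ j.val)
      rw [← mul_assoc, hcomm, hsub, mul_assoc]
    · show s * r ^ (i + j).val = s * r ^ i.val * r ^ j.val
      rw [hp, mul_assoc]
    · show r ^ (j - i).val = s * r ^ i.val * (s * r ^ j.val)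
      rw [hsub, ← mul_assoc, mul_assoc s, hcomm, ← mul_assoc, hss, one_mul]
  exact ⟨MonoidHom.mk' f hmul, pow_one r, (congrArg (s * ·) (pow_zero r)).trans (mul_one s)⟩

namespace EightData

variable {X : Type u} [Group X] (E : EightData X)

/-- The subgroup generated by `z` and `y`. -/
def D : Subgroup X := closure ({E.z, E.y} : Set X)

/-- The normalizer of `⟨z⟩`. -/
abbrev Nz : Subgroup X := normalizer (zpowers E.z : Set X)

theorem z_mem : E.z ∈ E.Nz := le_normalizer (mem_zpowers _)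

theorem y_mem : E.y ∈ E.Nz := by
  have h : Commute E.z E.y := E.zy_comm
  rw [mem_normalizer_iff]
  intro w
  constructor
  · intro hw
    obtain ⟨k, rfl⟩ := mem_zpowers_iff.1 hw
    rw [(h.symm.zpow_right k).eq, mul_inv_cancel_right]; exact zpow_mem (mem_zpowers _) k
  · intro hw
    obtain ⟨k, hk⟩ := mem_zpowers_iff.1 hw
    refine mem_zpowers_iff.2 ⟨k, ?_⟩
    calc E.z ^ k = E.y⁻¹ * (E.z ^ k * E.y) := by rw [(h.zpow_left k).eq, inv_mul_cancel_left]
      _ = w := by rw [hk]; group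

/-- The element with coordinates `i, j`. -/
def el (i j : Fin 3) : X := E.z ^ i.val * E.y ^ j.val

theorem el_mem_Nz (i j : Fin 3) : E.el i j ∈ E.Nz := mul_mem (pow_mem E.z_mem _) (pow_mem E.y_mem _)

theorem φ_el (i j : Fin 3) (h : E.el i j ∈ E.Nz) : E.φ ⟨E.el i j, h⟩ = dd i j := by
  have e : (⟨E.el i j, h⟩ : E.Nz) = ⟨E.z, E.z_mem⟩ ^ i.val * ⟨E.y, E.y_mem⟩ ^ j.val := rfl
  rw [e, map_mul, map_pow, map_pow, E.φ_z, E.φ_y]
  simp [dd, eZ, eZ', Prod.pow_def]

theorem el_inj {i j i' j' : Fin 3} (h : E.el i j = E.el i' j') : i = i' ∧ j = j' := by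
  refine ThreeLocalSymEight.dd_inj _ _ _ _ ?_
  rw [← E.φ_el i j (E.el_mem_Nz i j), ← E.φ_el i' j' (E.el_mem_Nz i' j')]
  exact congrArg E.φ (Subtype.ext h)

theorem el_mul (i j i' j' : Fin 3) : E.el i j * E.el i' j' = E.el (i + i') (j + j') := by
  have h : (⟨_, E.el_mem_Nz i j⟩ * ⟨_, E.el_mem_Nz i' j'⟩ : E.Nz) = ⟨_, E.el_mem_Nz (i + i') (j + j')⟩ :=
    E.φ_inj (by rw [map_mul, E.φ_el, E.φ_el, E.φ_el, ThreeLocalSymEight.dd_mul])
  exact congrArg Subtype.val h

theorem el_zero : E.el 0 0 = 1 := by simp [el]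

theorem el_one_zero : E.el 1 0 = E.z := by simp [el]

theorem el_zero_one : E.el 0 1 = E.y := by simp [el]

theorem el_mem (i j : Fin 3) : E.el i j ∈ E.D :=
  mul_mem (pow_mem (subset_closure (by simp)) _) (pow_mem (subset_closure (by simp)) _)

theorem mem_D {x : X} : x ∈ E.D ↔ ∃ i j, x = E.el i j := by
  refine ⟨fun h => ?_, fun ⟨i, j, h⟩ => h ▸ E.el_mem i j⟩
  induction h using closure_induction with
  | mem w hw =>
    rcases hw with rfl | rfl
    · exact ⟨1, 0, E.el_one_zero.symm⟩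
    · exact ⟨0, 1, E.el_zero_one.symm⟩
  | one => exact ⟨0, 0, E.el_zero.symm⟩
  | mul a b _ _ ha hb =>
    obtain ⟨i, j, rfl⟩ := ha
    obtain ⟨i', j', rfl⟩ := hb
    exact ⟨_, _, E.el_mul i j i' j'⟩
  | inv a _ ha =>
    obtain ⟨i, j, rfl⟩ := ha
    exact ⟨-i, -j, inv_eq_of_mul_eq_one_right (by rw [E.el_mul, add_neg_cancel, add_neg_cancel, E.el_zero])⟩

theorem D_le : E.D ≤ E.Nz := fun x hx => by
  obtain ⟨i, j, rfl⟩ := E.mem_D.1 hx; exact E.el_mem_Nz i j

theorem D_comm {a b : X} (ha : a ∈ E.D) (hb : b ∈ E.D) : a * b = b * a := by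
  obtain ⟨i, j, rfl⟩ := E.mem_D.1 ha
  obtain ⟨i', j', rfl⟩ := E.mem_D.1 hb
  rw [E.el_mul, E.el_mul, add_comm i, add_comm j]

theorem D_cube {a : X} (ha : a ∈ E.D) : a ^ 3 = 1 := by
  obtain ⟨i, j, rfl⟩ := E.mem_D.1 ha
  have k : ∀ i : Fin 3, i + i + i = 0 := by decide
  rw [pow_succ, pow_two, E.el_mul, E.el_mul, k, k, E.el_zero]

theorem D_card : Nat.card E.D = 9 := by
  rw [Nat.card_congr (Equiv.ofBijective (fun q : Fin 3 × Fin 3 => (⟨E.el q.1 q.2, E.el_mem _ _⟩ : E.D))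
    ⟨fun q r h => Prod.ext (E.el_inj (congrArg Subtype.val h :)).1 (E.el_inj (congrArg Subtype.val h :)).2,
      fun ⟨x, hx⟩ => by
        obtain ⟨i, j, rfl⟩ := E.mem_D.1 hx
        exact ⟨(i, j), rfl⟩⟩).symm, Nat.card_prod, Nat.card_fin]

theorem z_mem_D : E.z ∈ E.D := subset_closure (by simp)

theorem y_mem_D : E.y ∈ E.D := subset_closure (by simp)

theorem zpowers_z {w : X} (h : w ∈ zpowers E.z) : ∃ i, w = E.el i 0 := by
  obtain ⟨i, rfl⟩ := pow_fin_three E.z_cube h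
  exact ⟨i, by simp [el]⟩

theorem zpowers_y {w : X} (h : w ∈ zpowers E.y) : ∃ j, w = E.el 0 j := by
  obtain ⟨i, rfl⟩ := pow_fin_three E.y_cube h
  exact ⟨i, by simp [el]⟩

variable [Finite X]

theorem mem_Nz_of {x : X} (h : x * E.z * x⁻¹ ∈ zpowers E.z) : x ∈ E.Nz :=
  ThreeLocalEight.mem_normalizer_zpowers_of h

theorem cent_z_le : centralizer ({E.z} : Set X) ≤ E.Nz := fun x hx => E.mem_Nz_of (by
  rw [mem_centralizer_singleton_iff.1 hx, mul_inv_cancel_right]; exact mem_zpowers _)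

theorem mem_cent_D {x : X} :
    x ∈ centralizer (E.D : Set X) ↔ x * E.z = E.z * x ∧ x * E.y = E.y * x := by
  rw [mem_centralizer_iff]
  refine ⟨fun h => ⟨(h _ E.z_mem_D).symm, (h _ E.y_mem_D).symm⟩, fun ⟨h1, h2⟩ w hw => ?_⟩
  obtain ⟨i, j, rfl⟩ := E.mem_D.1 hw
  have c1 : Commute x E.z := h1
  have c2 : Commute x E.y := h2
  exact ((c1.pow_right i.val).mul_right (c2.pow_right j.val)).symm.eq

theorem mem_norm_D {x : X} (h1 : x * E.z * x⁻¹ ∈ E.D) (h2 : x * E.y * x⁻¹ ∈ E.D) :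
    x ∈ normalizer (E.D : Set X) := by
  have hle : E.D.map (MulAut.conj x).toMonoidHom ≤ E.D := by
    rw [D, MonoidHom.map_closure, closure_le]
    rintro _ ⟨w, hw, rfl⟩
    rcases hw with rfl | rfl
    · exact h1
    · exact h2
  have he := eq_of_le_of_card_ge hle (card_map_of_injective (MulEquiv.injective _)).ge
  rw [mem_normalizer_iff]
  intro w
  conv_rhs => rw [← he]
  refine ⟨fun hw => ⟨w, hw, rfl⟩, fun ⟨v, hv, e⟩ => ?_⟩
  exact (show v = w by simpa using e) ▸ hv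

theorem norm_D_conj {x : X} (hx : x ∈ normalizer (E.D : Set X)) {w : X} (hw : w ∈ E.D) :
    x * w * x⁻¹ ∈ E.D := (mem_normalizer_iff.1 hx w).1 hw

theorem axis {x : X} (hx : x ∈ normalizer (E.D : Set X)) :
    x * E.z * x⁻¹ ∈ zpowers E.z ∨ x * E.z * x⁻¹ ∈ zpowers E.y :=
  E.no_diag x (E.norm_D_conj hx E.z_mem_D)

theorem g_norm : E.g ∈ normalizer (E.D : Set X) :=
  E.mem_norm_D (by rw [E.g_z]; exact E.y_mem_D) (by rw [E.g_y]; exact E.z_mem_D)

theorem g_conj (b : X) : b * E.g * E.z * (b * E.g)⁻¹ = b * E.y * b⁻¹ := by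
  rw [← E.g_z]; group

theorem axis_xor {b : X} (hb : b ∈ normalizer (E.D : Set X)) :
    (b * E.y * b⁻¹ ∈ zpowers E.z ↔ b * E.z * b⁻¹ ∉ zpowers E.z) ∧
      (b * E.z * b⁻¹ ∈ zpowers E.z → b * E.y * b⁻¹ ∈ zpowers E.y) ∧
      (b * E.z * b⁻¹ ∉ zpowers E.z → b * E.z * b⁻¹ ∈ zpowers E.y) := by
  have hbg : b * E.g ∈ normalizer (E.D : Set X) := mul_mem hb E.g_norm
  have hy := E.axis hbg
  rw [E.g_conj] at hy
  have key : ∀ w : X, (b * E.z * b⁻¹ ∈ zpowers w → b * E.y * b⁻¹ ∈ zpowers w → w ∈ E.D →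
      (∀ v ∈ zpowers w, ∃ k : Fin 3, v = w ^ k.val) → False) := by
    intro w h1 h2 hw hpw
    have hle : E.D.map (MulAut.conj b).toMonoidHom ≤ zpowers w := by
      rw [D, MonoidHom.map_closure, closure_le]
      rintro _ ⟨v, hv, rfl⟩
      rcases hv with rfl | rfl
      · exact h1
      · exact h2
    have hc := card_le_of_le hle
    rw [card_map_of_injective (MulEquiv.injective _), E.D_card, Nat.card_zpowers] at hc
    have := Nat.le_of_dvd (by norm_num) (orderOf_dvd_of_pow_eq_one (E.D_cube hw))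
    omega
  refine ⟨⟨fun h2 h1 => key _ h1 h2 E.z_mem_D (fun v hv => pow_fin_three E.z_cube hv), fun h1 => ?_⟩, ?_, ?_⟩
  · rcases hy with h | h
    · exact h
    · exact absurd ((E.axis hb).resolve_left h1) (fun h' => key _ h' h E.y_mem_D fun v hv => pow_fin_three E.y_cube hv)
  · intro h1
    exact hy.resolve_left (fun h2 => key _ h1 h2 E.z_mem_D fun v hv => pow_fin_three E.z_cube hv)
  · exact fun h1 => (E.axis hb).resolve_left h1

/-- Counting inside the normalizer of `⟨z⟩`. -/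
theorem card_sub (S : Subgroup X) (hS : S ≤ E.Nz) (Q : P35 → Prop)
    (h : ∀ x : E.Nz, (x : X) ∈ S ↔ Q (E.φ x)) :
    Nat.card S = Nat.card {p : P35 // p ∈ E.φ.range ∧ Q p} := by
  refine Nat.card_congr (Equiv.ofBijective
    (fun s : S => (⟨E.φ ⟨s, hS s.2⟩, ⟨_, rfl⟩, (h _).1 s.2⟩ : {p : P35 // p ∈ E.φ.range ∧ Q p})) ⟨?_, ?_⟩)
  · intro s t e
    exact Subtype.ext (congrArg Subtype.val (E.φ_inj (congrArg Subtype.val e :)) :)
  · rintro ⟨p, ⟨x, rfl⟩, hQ⟩
    exact ⟨⟨x, (h x).2 hQ⟩, rfl⟩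

theorem comm_iff (x : E.Nz) {w : X} (hw : w ∈ E.Nz) :
    (x : X) * w = w * x ↔ E.φ x * E.φ ⟨w, hw⟩ = E.φ ⟨w, hw⟩ * E.φ x := by
  rw [← map_mul, ← map_mul, E.φ_inj.eq_iff]
  exact ⟨fun e => Subtype.ext e, fun e => congrArg Subtype.val e⟩

theorem card_cent_z : Nat.card (centralizer ({E.z} : Set X)) =
    Nat.card {p : P35 // p ∈ E.φ.range ∧ p * eZ = eZ * p} :=
  E.card_sub _ E.cent_z_le _ fun x => by
    rw [mem_centralizer_singleton_iff, E.comm_iff x E.z_mem, E.φ_z]

theorem card_cent_D : Nat.card (centralizer (E.D : Set X)) =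
    Nat.card {p : P35 // p ∈ E.φ.range ∧ p * eZ = eZ * p ∧ p * eZ' = eZ' * p} :=
  E.card_sub _ (fun x hx => E.cent_z_le (mem_centralizer_singleton_iff.2 (E.mem_cent_D.1 hx).1)) _
    fun x => by rw [E.mem_cent_D, E.comm_iff x E.z_mem, E.comm_iff x E.y_mem, E.φ_z, E.φ_y]

theorem norm_iff (x : E.Nz) : (x : X) ∈ normalizer (E.D : Set X) ↔
    ((E.φ x).2 * c5 * (E.φ x).2⁻¹ = c5 ∨ (E.φ x).2 * c5 * (E.φ x).2⁻¹ = c5⁻¹) := by
  rw [← axis_norm]
  constructor
  · intro h
    obtain ⟨i, j, e⟩ := E.mem_D.1 (E.norm_D_conj h E.y_mem_D)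
    refine ⟨j, ?_⟩
    have e' : x * ⟨E.y, E.y_mem⟩ * x⁻¹ = (⟨_, E.el_mem_Nz i j⟩ : E.Nz) := Subtype.ext e
    have := congrArg (fun w => (E.φ w).2) e'
    simpa [E.φ_y, E.φ_el, eZ', dd] using this
  · rintro ⟨j, e⟩
    refine E.mem_norm_D ?_ ?_
    · exact (zpowers_le.2 E.z_mem_D) ((mem_normalizer_iff.1 x.2 _).1 (mem_zpowers _))
    · have e' : x * ⟨E.y, E.y_mem⟩ * x⁻¹ = (⟨_, E.el_mem_Nz 0 j⟩ : E.Nz) := E.φ_inj (by
        rw [map_mul, map_mul, map_inv, E.φ_y, E.φ_el]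
        exact Prod.ext (by simp [eZ', dd]) (by simpa [eZ', dd] using e))
      rw [show (x : X) * E.y * (x : X)⁻¹ = E.el 0 j from congrArg Subtype.val e']
      exact E.el_mem _ _

theorem card_inter : Nat.card ↥(E.Nz ⊓ normalizer (E.D : Set X)) =
    Nat.card {p : P35 // p ∈ E.φ.range ∧ (p.2 * c5 * p.2⁻¹ = c5 ∨ p.2 * c5 * p.2⁻¹ = c5⁻¹)} :=
  E.card_sub _ inf_le_left _ fun x => by
    rw [mem_inf, and_iff_right x.2, E.norm_iff]

theorem card_norm_D : Nat.card (normalizer (E.D : Set X)) =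
    2 * Nat.card ↥(E.Nz ⊓ normalizer (E.D : Set X)) := by
  set ND := normalizer (E.D : Set X)
  have hi : (E.Nz ⊓ ND).relIndex ND = 2 := by
    rw [relIndex, index_eq_two_iff]
    refine ⟨⟨E.g, E.g_norm⟩, fun ⟨b, hb⟩ => ?_⟩
    rw [mem_subgroupOf, mem_subgroupOf, mem_inf, mem_inf]
    have hz : ∀ w : X, w ∈ E.Nz ↔ w * E.z * w⁻¹ ∈ zpowers E.z := fun w =>
      ⟨fun hw => (mem_normalizer_iff.1 hw _).1 (mem_zpowers _), E.mem_Nz_of⟩
    show Xor (b * E.g ∈ E.Nz ∧ b * E.g ∈ ND) (b ∈ E.Nz ∧ b ∈ ND)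
    rw [and_iff_left hb, and_iff_left (mul_mem hb E.g_norm), hz, hz, E.g_conj]
    have := (E.axis_xor hb).1
    rw [xor_iff_iff_not]; exact this
  rw [← card_mul_index ((E.Nz ⊓ ND).subgroupOf ND), ← relIndex, hi,
    Nat.card_congr (subgroupOfEquivOfLe inf_le_right).toEquiv, mul_comm]

theorem cent_D_le_zy : centralizer (E.D : Set X) ≤ centralizer ({E.z * E.y} : Set X) := fun _ hx =>
  mem_centralizer_singleton_iff.2 ((E.mem_cent_D.1 hx).1 |> fun h1 =>
    ((h1 : Commute _ E.z).mul_right (E.mem_cent_D.1 hx).2).eq)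

theorem cent_zy_norm {x : X} (hx : x ∈ centralizer ({E.z * E.y} : Set X)) :
    x ∈ normalizer (E.D : Set X) :=
  have h := E.cent_diag x (mem_centralizer_singleton_iff.1 hx)
  E.mem_norm_D h.1 h.2

theorem card_cent_zy : Nat.card (centralizer ({E.z * E.y} : Set X)) =
    2 * Nat.card (centralizer (E.D : Set X)) := by
  set C := centralizer ({E.z * E.y} : Set X)
  set CD := centralizer (E.D : Set X)
  have hg : E.g ∈ C := by
    rw [mem_centralizer_singleton_iff, ← mul_inv_eq_iff_eq_mul,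
      show E.g * (E.z * E.y) * E.g⁻¹ = E.g * E.z * E.g⁻¹ * (E.g * E.y * E.g⁻¹) by group, E.g_z, E.g_y,
      E.zy_comm]
  have hiff : ∀ b ∈ C, b ∈ CD ↔ b * E.z * b⁻¹ ∈ zpowers E.z := by
    intro b hb
    constructor
    · intro h; rw [(E.mem_cent_D.1 h).1, mul_inv_cancel_right]; exact mem_zpowers _
    · intro h
      obtain ⟨i, hi⟩ := E.zpowers_z h
      obtain ⟨j, hj⟩ := E.zpowers_y ((E.axis_xor (E.cent_zy_norm hb)).2.1 h)
      have e : E.el i j = E.el 1 1 := by
        calc E.el i j = E.el i 0 * E.el 0 j := by rw [E.el_mul, add_zero, zero_add]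
          _ = b * (E.z * E.y) * b⁻¹ := by rw [← hi, ← hj]; group
          _ = E.z * E.y := by rw [mem_centralizer_singleton_iff.1 hb, mul_inv_cancel_right]
          _ = E.el 1 1 := by simp [el]
      obtain ⟨rfl, rfl⟩ := E.el_inj e
      rw [E.el_one_zero] at hi
      rw [E.el_zero_one] at hj
      exact E.mem_cent_D.2 ⟨mul_inv_eq_iff_eq_mul.1 hi, mul_inv_eq_iff_eq_mul.1 hj⟩
  have hi : CD.relIndex C = 2 := by
    rw [relIndex, index_eq_two_iff]
    refine ⟨⟨E.g, hg⟩, fun ⟨b, hb⟩ => ?_⟩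
    rw [mem_subgroupOf, mem_subgroupOf]
    show Xor (b * E.g ∈ CD) (b ∈ CD)
    rw [hiff _ (mul_mem hb hg), hiff _ hb, E.g_conj, xor_iff_iff_not]
    exact (E.axis_xor (E.cent_zy_norm hb)).1
  rw [← card_mul_index (CD.subgroupOf C), ← relIndex, hi,
    Nat.card_congr (subgroupOfEquivOfLe E.cent_D_le_zy).toEquiv, mul_comm]

theorem gen_zy : closure ({E.z * E.y, E.z} : Set X) = E.D := by
  refine le_antisymm ((closure_le _).2 ?_) ((closure_le _).2 ?_)
  · rintro w (rfl | rfl)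
    · exact mul_mem E.z_mem_D E.y_mem_D
    · exact E.z_mem_D
  · rintro w (rfl | rfl)
    · exact subset_closure (by simp)
    · have h : E.z⁻¹ * (E.z * E.y) ∈ closure ({E.z * E.y, E.z} : Set X) :=
        mul_mem (inv_mem (subset_closure (by simp))) (subset_closure (by simp))
      rwa [inv_mul_cancel_left] at h

theorem zy_normal : (E.D.subgroupOf (centralizer ({E.z * E.y} : Set X))).Normal := by
  refine ⟨fun n hn w => ?_⟩
  rw [mem_subgroupOf] at hn ⊢
  exact E.norm_D_conj (E.cent_zy_norm w.2) hn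

/-- The case in which the normalizer of `⟨z⟩` has index two in `Sym(3) × Sym(5)`. -/
theorem alt_case (h : ∀ p ∈ E.φ.range, sign p.1 * sign p.2 = 1) :
    Nonempty (X ≃* alternatingGroup (Fin 8)) := by
  classical
  haveI : Fintype X := Fintype.ofFinite X
  haveI : Fact (Nat.Prime 3) := ⟨Nat.prime_three⟩
  obtain ⟨P, hP⟩ := (IsPGroup.of_card (p := 3) (n := 2) (show Nat.card E.D = 3 ^ 2 by rw [E.D_card]; norm_num)).exists_le_sylow
  have hDP : E.D = P := eq_of_le_of_card_ge hP (by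
    rw [E.D_card]; exact Nat.le_of_dvd (by norm_num) (E.sylow _ P.2))
  have hr : ∀ p : P35, p ∈ E.φ.range ↔ sign p.1 * sign p.2 = 1 := fun p => ⟨h p, E.φ_big p⟩
  have hcnt : ∀ Q : P35 → Prop, Nat.card {p : P35 // p ∈ E.φ.range ∧ Q p} =
      Nat.card {p : P35 // sign p.1 * sign p.2 = 1 ∧ Q p} := fun Q =>
    Nat.card_congr (Equiv.subtypeEquivRight fun p => by rw [hr])
  have hcD : Nat.card (centralizer (E.D : Set X)) = 9 := by
    rw [E.card_cent_D, hcnt, Nat.card_eq_fintype_card, count_D.2]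
  have hC : centralizer (E.D : Set X) = E.D :=
    (eq_of_le_of_card_ge (fun x hx => mem_centralizer_iff.2 fun w hw => E.D_comm hw hx)
      (by rw [hcD, E.D_card])).symm
  have hND : Nat.card (normalizer (E.D : Set X)) = 72 := by
    rw [E.card_norm_D, E.card_inter, hcnt, Nat.card_eq_fintype_card, count_K.2]
  have hN8 : Nat.card (normalizer (E.D : Set X) ⧸ E.D.subgroupOf (normalizer (E.D : Set X))) = 8 := by
    have := card_eq_card_quotient_mul_card_subgroup (E.D.subgroupOf (normalizer (E.D : Set X)))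
    rw [hND, Nat.card_congr (subgroupOfEquivOfLe le_normalizer).toEquiv, E.D_card] at this
    omega
  have hy18 : Nat.card (centralizer ({E.z * E.y} : Set X)) = 18 := by rw [E.card_cent_zy, hcD]
  have hz180 : Nat.card (centralizer ({E.z} : Set X)) = 180 := by
    rw [E.card_cent_z, hcnt, Nat.card_eq_fintype_card, count_z.2]
  let eL : E.Nz ≃* LK := MulEquiv.ofBijective (E.φ.codRestrict LK fun x => h _ ⟨x, rfl⟩)
    ⟨fun a b e => E.φ_inj (congrArg Subtype.val e :), fun p => by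
      obtain ⟨x, hx⟩ := (hr p.1).2 p.2
      exact ⟨x, Subtype.ext hx⟩⟩
  obtain ⟨C⟩ := ThreeLocalEight.exists_ctx P E.D hDP (E.z * E.y) E.z E.gen_zy
    ⟨⟨fun a b => Subtype.ext (E.D_comm a.2 b.2)⟩⟩ E.D_card (fun a ha => E.D_cube ha) hC hN8 E.zy_normal
    hy18 hz180 eL
  obtain ⟨φ, hinj, hall, hg⟩ := C.exists_hom
  let F : ThreeLocalEight.Emb X := ⟨C, φ, hinj, hall, hg⟩
  exact ⟨(MulEquiv.ofBijective φ ⟨hinj, MonoidHom.range_eq_top.1 F.range_eq_top⟩).symm⟩

/-- No normal subgroup `A₅ × A₅` has `z` in its first factor and contains `c`. -/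
theorem side_false {N : Subgroup X} (hc : E.c ∈ N) (hz : E.z ∈ N)
    (e : N ≃* alternatingGroup (Fin 5) × alternatingGroup (Fin 5)) (he : (e ⟨E.z, hz⟩).2 = 1) : False := by
  set a := (e ⟨E.z, hz⟩).1
  have hez : e ⟨E.z, hz⟩ = (a, 1) := Prod.ext rfl he
  let ι : alternatingGroup (Fin 5) →* X :=
    N.subtype.comp (e.symm.toMonoidHom.comp (MonoidHom.inr _ _))
  have hι : ∀ q, ι q ∈ centralizer ({E.z} : Set X) := fun q => by
    rw [mem_centralizer_singleton_iff]
    refine congrArg Subtype.val (show e.symm ((1 : alternatingGroup (Fin 5)), q) * ⟨E.z, hz⟩ =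
      ⟨E.z, hz⟩ * e.symm ((1 : alternatingGroup (Fin 5)), q) from e.injective ?_)
    simp [hez]
  let j : alternatingGroup (Fin 5) →* E.Nz := ι.codRestrict E.Nz fun q => E.cent_z_le (hι q)
  let f : alternatingGroup (Fin 5) →* Perm (Fin 5) := (MonoidHom.snd _ _).comp (E.φ.comp j)
  haveI := alternatingGroup.isSimpleGroup (α := Fin 5) (by simp)
  have hsgn : ∀ q, sign (f q) = 1 := by
    intro q
    rcases IsSimpleGroup.eq_bot_or_eq_top_of_normal (sign.comp f).ker inferInstance with h | h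
    · exfalso
      have := Nat.card_le_card_of_injective _ ((MonoidHom.ker_eq_bot_iff _).1 h)
      rw [nat_card_alternatingGroup] at this
      simp [Nat.factorial] at this
    · exact MonoidHom.mem_ker.1 (h ▸ mem_top q : q ∈ (sign.comp f).ker)
  have hinj : Function.Injective f := by
    rw [injective_iff_map_eq_one]
    intro q hq
    have hc3 : (E.φ (j q)).1 * c3 = c3 * (E.φ (j q)).1 := by
      have := (E.comm_iff (j q) E.z_mem).1 (mem_centralizer_singleton_iff.1 (hι q))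
      rw [E.φ_z] at this
      exact congrArg Prod.fst this
    obtain ⟨i, hi⟩ := fst_cent _ hc3
    have hj : j q = ⟨_, E.el_mem_Nz i 0⟩ := E.φ_inj (by
      rw [E.φ_el]; exact Prod.ext hi (by simpa [dd, f] using hq))
    have h' : e.symm ((1 : alternatingGroup (Fin 5)), q) = ⟨E.z, hz⟩ ^ i.val :=
      Subtype.ext ((congrArg Subtype.val hj).trans (by simp [el]))
    have h'' := congrArg e h'
    rw [e.apply_symm_apply, map_pow, hez] at h''
    simpa using congrArg Prod.snd h''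
  let f' : alternatingGroup (Fin 5) →* alternatingGroup (Fin 5) :=
    f.codRestrict _ fun q => mem_alternatingGroup.2 (hsgn q)
  have hsurj : Function.Surjective f' := Finite.surjective_of_injective fun a b h => hinj (congrArg Subtype.val h)
  set q := (e ⟨E.c, hc⟩).2
  have hcN : E.c ∈ E.Nz := E.mem_Nz_of (by rw [E.c_z]; exact inv_mem (mem_zpowers _))
  have key : ∀ w, (E.φ ⟨E.c, hcN⟩).2 * f w * (E.φ ⟨E.c, hcN⟩).2⁻¹ = f q * f w * (f q)⁻¹ := by
    intro w
    have h : (⟨E.c, hcN⟩ : E.Nz) * j w * ⟨E.c, hcN⟩⁻¹ = j (q * w * q⁻¹) := by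
      refine Subtype.ext ?_
      show E.c * ι w * E.c⁻¹ = ι (q * w * q⁻¹)
      refine congrArg Subtype.val (show ⟨E.c, hc⟩ * e.symm ((1 : alternatingGroup (Fin 5)), w) * ⟨E.c, hc⟩⁻¹ =
        e.symm ((1 : alternatingGroup (Fin 5)), q * w * q⁻¹) from e.injective ?_)
      rw [map_mul, map_mul, map_inv, e.apply_symm_apply, e.apply_symm_apply]
      refine Prod.ext ?_ rfl
      simp
    have := congrArg (fun v => (E.φ v).2) h
    simp only [map_mul, map_inv, Prod.snd_mul, Prod.snd_inv] at this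
    exact this
  have h1 : (f q)⁻¹ * (E.φ ⟨E.c, hcN⟩).2 = 1 := by
    refine centralizer_alt_five _ fun p hp => ?_
    obtain ⟨w, hw⟩ := hsurj ⟨p, mem_alternatingGroup.2 hp⟩
    have hw' : f w = p := congrArg Subtype.val hw
    have h := key w
    rw [hw'] at h
    calc (f q)⁻¹ * (E.φ ⟨E.c, hcN⟩).2 * p
        = (f q)⁻¹ * ((E.φ ⟨E.c, hcN⟩).2 * p * (E.φ ⟨E.c, hcN⟩).2⁻¹) * (E.φ ⟨E.c, hcN⟩).2 := by group
      _ = p * ((f q)⁻¹ * (E.φ ⟨E.c, hcN⟩).2) := by rw [h]; group
  have h2 := E.c_odd hcN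
  rw [← inv_mul_eq_one.1 h1, hsgn] at h2
  exact absurd h2 (by decide)

/-- The exceptional configuration with `A₅ × A₅` does not occur. -/
theorem exc_false (hz360 : Nat.card (centralizer ({E.z} : Set X)) = 360) {N : Subgroup X}
    (e : N ≃* alternatingGroup (Fin 5) × alternatingGroup (Fin 5)) (hN : N.Normal) (hi : N.index = 4)
    (hsq : ∀ x : X, x ^ 2 ∈ N) : False := by
  classical
  have h3 : ∀ x : X, x * x * x = 1 → x ∈ N := fun x hx => by
    have : (x * x) ^ 2 = x := by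
      rw [pow_two, show x * x * (x * x) = x * x * x * x by group, hx, one_mul]
    exact this ▸ hsq _
  have hz : E.z ∈ N := h3 _ E.z_cube
  have hc : E.c ∈ N := by
    obtain ⟨i, j, hij⟩ := E.ge_sq
    have h : E.g * E.e * (E.g * E.e) ∈ N := by rw [← pow_two]; exact hsq _
    rw [hij] at h
    have h' := mul_mem h (inv_mem (mul_mem (pow_mem hz i.val) (pow_mem (h3 _ E.y_cube) j.val)))
    rwa [mul_inv_cancel_right] at h'
  by_cases hb : (e ⟨E.z, hz⟩).2 = 1
  · exact E.side_false hc hz e hb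
  by_cases ha : (e ⟨E.z, hz⟩).1 = 1
  · exact E.side_false hc hz (e.trans MulEquiv.prodComm) ha
  set a := (e ⟨E.z, hz⟩).1
  set b := (e ⟨E.z, hz⟩).2
  have h9 : Nat.card ↥(centralizer ({E.z} : Set X) ⊓ N) ≤ 9 := by
    let F : ↥(centralizer ({E.z} : Set X) ⊓ N) →
        {q : alternatingGroup (Fin 5) // q * a = a * q} × {q : alternatingGroup (Fin 5) // q * b = b * q} :=
      fun w =>
        have h : e ⟨w, w.2.2⟩ * e ⟨E.z, hz⟩ = e ⟨E.z, hz⟩ * e ⟨w, w.2.2⟩ := by
          rw [← map_mul, ← map_mul]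
          exact congrArg e (Subtype.ext (mem_centralizer_singleton_iff.1 w.2.1))
        (⟨(e ⟨w, w.2.2⟩).1, congrArg Prod.fst h⟩, ⟨(e ⟨w, w.2.2⟩).2, congrArg Prod.snd h⟩)
    have hF : Function.Injective F := fun v w h => by
      have h1 := congrArg (fun p => (p.1.1, p.2.1)) h
      have h2 : (⟨(v : X), v.2.2⟩ : N) = ⟨w, w.2.2⟩ := e.injective h1
      exact Subtype.ext (congrArg Subtype.val h2 :)
    have hzN : (⟨E.z, hz⟩ : N) * ⟨E.z, hz⟩ * ⟨E.z, hz⟩ = 1 := Subtype.ext E.z_cube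
    have h := congrArg e hzN
    rw [map_mul, map_mul, map_one] at h
    have ca : Nat.card {q : alternatingGroup (Fin 5) // q * a = a * q} = 3 := by
      rw [Nat.card_eq_fintype_card]; exact cent_three_alt a (congrArg Prod.fst h) ha
    have cb : Nat.card {q : alternatingGroup (Fin 5) // q * b = b * q} = 3 := by
      rw [Nat.card_eq_fintype_card]; exact cent_three_alt b (congrArg Prod.snd h) hb
    have := Nat.card_le_card_of_injective F hF
    rwa [Nat.card_prod, ca, cb] at this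
  have hd : N.relIndex (centralizer ({E.z} : Set X)) ∣ 4 := hi ▸ relIndex_dvd_index_of_normal N _
  have h := card_mul_index ((N : Subgroup X).subgroupOf (centralizer ({E.z} : Set X)))
  rw [← relIndex, hz360, ← card_map_of_injective (centralizer ({E.z} : Set X)).subtype_injective,
    subgroupOf_map_subtype, inf_comm] at h
  have := Nat.le_of_dvd (by norm_num) hd
  nlinarith

/-- The case in which the normalizer of `⟨z⟩` is all of `Sym(3) × Sym(5)`. -/
theorem sym_case (h : E.φ.range = ⊤) : Nonempty (X ≃* Perm (Fin 8)) := by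
  classical
  haveI : Fintype X := Fintype.ofFinite X
  haveI : Fact (Nat.Prime 3) := ⟨Nat.prime_three⟩
  obtain ⟨P, hP⟩ := (IsPGroup.of_card (p := 3) (n := 2) (show Nat.card E.D = 3 ^ 2 by rw [E.D_card]; norm_num)).exists_le_sylow
  have hDP : E.D = P := eq_of_le_of_card_ge hP (by
    rw [E.D_card]; exact Nat.le_of_dvd (by norm_num) (E.sylow _ P.2))
  have hcnt : ∀ Q : P35 → Prop, Nat.card {p : P35 // p ∈ E.φ.range ∧ Q p} = Nat.card {p : P35 // Q p} :=
    fun Q => Nat.card_congr (Equiv.subtypeEquivRight fun p => by simp [h])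
  set ND := normalizer (E.D : Set X) with hNDdef
  set CD := centralizer (E.D : Set X) with hCDdef
  have hcD : Nat.card CD = 18 := by rw [E.card_cent_D, hcnt, Nat.card_eq_fintype_card, count_D.1]
  have hND : Nat.card ND = 144 := by
    rw [E.card_norm_D, E.card_inter, hcnt, Nat.card_eq_fintype_card, count_K.1]
  have hy36 : Nat.card (centralizer ({E.z * E.y} : Set X)) = 36 := by rw [E.card_cent_zy, hcD]
  have hz360 : Nat.card (centralizer ({E.z} : Set X)) = 360 := by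
    rw [E.card_cent_z, hcnt, Nat.card_eq_fintype_card, count_z.1]
  let eL : E.Nz ≃* P35 := MulEquiv.ofBijective E.φ ⟨E.φ_inj, MonoidHom.range_eq_top.1 h⟩
  have hCN : CD ≤ ND := centralizer_le_normalizer _
  haveI hcn : (CD.subgroupOf ND).Normal := by
    refine ⟨fun n hn w => ?_⟩
    rw [mem_subgroupOf, mem_centralizer_iff] at hn ⊢
    intro d hd
    have hd' : (w : X)⁻¹ * d * (w : X) ∈ E.D := by
      have := E.norm_D_conj (inv_mem w.2) hd; rwa [inv_inv] at this
    have := hn _ hd'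
    show d * ((w : X) * n * (w : X)⁻¹) = (w : X) * n * (w : X)⁻¹ * d
    calc d * ((w : X) * n * (w : X)⁻¹) = (w : X) * ((w : X)⁻¹ * d * w * n) * (w : X)⁻¹ := by group
      _ = _ := by rw [this]; group
  haveI hDn : (E.D.subgroupOf ND).Normal := normal_in_normalizer
  have he : E.e ∈ ND := E.mem_norm_D (by rw [E.e_z]; exact E.z_mem_D) (by rw [E.e_y]; exact inv_mem E.y_mem_D)
  set q1 := QuotientGroup.mk' (E.D.subgroupOf ND) with hq1
  set G1 := q1 ⟨E.g, E.g_norm⟩ with hG1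
  set E1 := q1 ⟨E.e, he⟩ with hE1
  have hg1 : G1 * G1 = 1 := by
    rw [hG1, ← map_mul, show (⟨E.g, E.g_norm⟩ : ND) * ⟨E.g, E.g_norm⟩ = 1 from Subtype.ext E.g_sq, map_one]
  have he1 : E1 * E1 = 1 := by
    rw [hE1, ← map_mul, show (⟨E.e, he⟩ : ND) * ⟨E.e, he⟩ = 1 from Subtype.ext E.e_sq, map_one]
  have hge : (G1 * E1) ^ 4 = 1 := by
    obtain ⟨i, j, hij⟩ := E.ge_sq
    have hc : E.c ∈ ND := E.mem_norm_D (by rw [E.c_z]; exact inv_mem E.z_mem_D)
      (by rw [E.c_y]; exact inv_mem E.y_mem_D)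
    have h2 : (G1 * E1) ^ 2 = q1 ⟨E.c, hc⟩ := by
      rw [hG1, hE1, ← map_mul, ← map_pow]
      refine QuotientGroup.eq.2 (mem_subgroupOf.2 ?_)
      show (((E.g * E.e) ^ 2)⁻¹ * E.c) ∈ E.D
      rw [pow_two, hij, show E.z ^ (i : ℕ) * E.y ^ (j : ℕ) = E.el i j from rfl, mul_inv_rev,
        inv_mul_cancel_right]
      exact inv_mem (E.el_mem i j)
    rw [show (4 : ℕ) = 2 * 2 from rfl, pow_mul, h2, ← map_pow,
      show (⟨E.c, hc⟩ : ND) ^ 2 = 1 from Subtype.ext (by rw [SubmonoidClass.coe_pow, pow_two]; exact E.c_sq),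
      map_one]
  obtain ⟨ψ, hψr, hψs⟩ : ∃ ψ : DihedralGroup 4 →* ND ⧸ E.D.subgroupOf ND,
      ψ (DihedralGroup.r 1) = G1 * E1 ∧ ψ (DihedralGroup.sr 0) = G1 := by
    have hs2 : G1 ^ 2 = 1 := by rw [pow_two, hg1]
    have hsr : G1 * (G1 * E1) * G1⁻¹ = (G1 * E1)⁻¹ := by
      rw [mul_inv_rev, inv_eq_of_mul_eq_one_right he1, inv_eq_of_mul_eq_one_right hg1, ← mul_assoc, hg1, one_mul]
    exact dihedral_hom hge hs2 hsr
  -- the action on `D`
  let κ : ND ⧸ E.D.subgroupOf ND →* ND ⧸ CD.subgroupOf ND :=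
    QuotientGroup.map _ _ (MonoidHom.id ND) (fun x hx => by
      rw [mem_comap, MonoidHom.id_apply, mem_subgroupOf, mem_centralizer_iff]
      exact fun w hw => E.D_comm hw (mem_subgroupOf.1 hx))
  have hinj : Function.Injective (κ.comp ψ) := by
    rw [injective_iff_map_eq_one]
    intro d hd
    have act : ∀ (x : ND), κ (q1 x) = 1 → (x : X) * E.z * (x : X)⁻¹ = E.z ∧ (x : X) * E.y * (x : X)⁻¹ = E.y := by
      intro x hx
      have := E.mem_cent_D.1 (mem_subgroupOf.1 ((QuotientGroup.eq_one_iff x).1 hx))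
      exact ⟨by rw [this.1, mul_inv_cancel_right], by rw [this.2, mul_inv_cancel_right]⟩
    set gg : ND := ⟨E.g, E.g_norm⟩
    set ee : ND := ⟨E.e, he⟩
    have hψ : ∀ (i : Fin 4), ψ (DihedralGroup.r (i.val : ZMod 4)) = q1 ((gg * ee) ^ i.val) ∧
        ψ (DihedralGroup.sr (i.val : ZMod 4)) = q1 (gg * (gg * ee) ^ i.val) := fun i => by
      rw [← DihedralGroup.r_one_pow, map_pow, hψr, map_pow, map_mul q1 gg ee]
      refine ⟨rfl, ?_⟩
      rw [show DihedralGroup.sr (i.val : ZMod 4) = DihedralGroup.sr 0 * DihedralGroup.r 1 ^ i.val by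
        rw [DihedralGroup.r_one_pow, DihedralGroup.sr_mul_r, zero_add], map_mul, map_pow, hψr, hψs, map_mul,
        map_pow, map_mul q1 gg ee]
    have cj : ∀ (a b w : X), a * b * w * (a * b)⁻¹ = a * (b * w * b⁻¹) * a⁻¹ := fun a b w => by group
    have ci : ∀ (a w : X), a * w⁻¹ * a⁻¹ = (a * w * a⁻¹)⁻¹ := fun a w => by group
    have rz : ((gg * ee : ND) : X) * E.z * ((gg * ee : ND) : X)⁻¹ = E.y := by
      show E.g * E.e * E.z * (E.g * E.e)⁻¹ = E.y
      rw [cj, E.e_z, E.g_z]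
    have ry : ((gg * ee : ND) : X) * E.y * ((gg * ee : ND) : X)⁻¹ = E.z⁻¹ := by
      show E.g * E.e * E.y * (E.g * E.e)⁻¹ = E.z⁻¹
      rw [cj, E.e_y, ci, E.g_y]
    have nz : ∀ i j i' j' : Fin 3, E.el i j = E.el i' j' → i = i' ∧ j = j' := fun _ _ _ _ h => E.el_inj h
    have ezi : E.el 2 0 = E.z⁻¹ := by
      refine eq_inv_of_mul_eq_one_left ?_
      simp [el, pow_succ, E.z_cube]
    have eyi : E.el 0 2 = E.y⁻¹ := by
      refine eq_inv_of_mul_eq_one_left ?_
      simp [el, pow_succ, E.y_cube]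
    rcases d with k | k
    · obtain ⟨i, rfl⟩ : ∃ i : Fin 4, k = (i.val : ZMod 4) := ⟨k, (ZMod.natCast_zmod_val k).symm⟩
      rw [MonoidHom.comp_apply, (hψ i).1] at hd
      obtain ⟨h1, -⟩ := act _ hd
      fin_cases i
      · rfl
      · rw [pow_one, rz, ← E.el_zero_one, ← E.el_one_zero] at h1
        exact absurd (nz _ _ _ _ h1).1 (by decide)
      · rw [pow_two, Subgroup.coe_mul, cj, rz, ry, ← ezi, ← E.el_one_zero] at h1
        exact absurd (nz _ _ _ _ h1).1 (by decide)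
      · rw [pow_succ, pow_two, Subgroup.coe_mul, Subgroup.coe_mul, cj, cj, rz, ry, ci, rz, ← eyi, ← E.el_one_zero] at h1
        exact absurd (nz _ _ _ _ h1).1 (by decide)
    · obtain ⟨i, rfl⟩ : ∃ i : Fin 4, k = (i.val : ZMod 4) := ⟨k, (ZMod.natCast_zmod_val k).symm⟩
      rw [MonoidHom.comp_apply, (hψ i).2] at hd
      obtain ⟨h1, h2⟩ := act _ hd
      fin_cases i
      · rw [pow_zero, mul_one, show (gg : X) = E.g from rfl, E.g_z, ← E.el_zero_one, ← E.el_one_zero] at h1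
        exact absurd (nz _ _ _ _ h1).1 (by decide)
      · rw [pow_one, Subgroup.coe_mul, cj, ry, show (gg : X) = E.g from rfl, ci, E.g_z, ← eyi, ← E.el_zero_one] at h2
        exact absurd (nz _ _ _ _ h2).2 (by decide)
      · rw [pow_two, Subgroup.coe_mul, Subgroup.coe_mul, cj, cj, rz, ry, show (gg : X) = E.g from rfl, ci, E.g_z, ← eyi,
          ← E.el_one_zero] at h1
        exact absurd (nz _ _ _ _ h1).1 (by decide)
      · rw [pow_succ, pow_two, Subgroup.coe_mul, Subgroup.coe_mul, Subgroup.coe_mul, cj, cj, cj, rz, ry, ci, rz,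
          show (gg : X) = E.g from rfl, ci, E.g_y, ← ezi, ← E.el_one_zero] at h1
        exact absurd (nz _ _ _ _ h1).1 (by decide)
  have hq8 : Nat.card (ND ⧸ CD.subgroupOf ND) = 8 := by
    have := card_eq_card_quotient_mul_card_subgroup (CD.subgroupOf ND)
    rw [hND, Nat.card_congr (subgroupOfEquivOfLe hCN).toEquiv, hcD] at this
    omega
  have hbij : Function.Bijective (κ.comp ψ) :=
    hinj.bijective_of_nat_card_le (by rw [hq8, DihedralGroup.nat_card])
  let eNC : ND ⧸ CD.subgroupOf ND ≃* DihedralGroup 4 := (MulEquiv.ofBijective _ hbij).symm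
  obtain ⟨⟨t, htN⟩, ht⟩ : eT ∈ E.φ.range := h ▸ mem_top eT
  have htD : t ∈ CD := by
    rw [hCDdef, E.mem_cent_D, E.comm_iff ⟨t, htN⟩ E.z_mem, E.comm_iff ⟨t, htN⟩ E.y_mem, ht, E.φ_z, E.φ_y]
    decide +kernel
  have htnD : t ∉ E.D := by
    intro hd
    obtain ⟨i, j, hij⟩ := E.mem_D.1 hd
    have : eT = dd i j := by
      rw [← ht, ← E.φ_el i j (E.el_mem_Nz i j)]
      exact congrArg E.φ (Subtype.ext hij)
    exact absurd this ((show ∀ i j, eT ≠ dd i j by decide +kernel) i j)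
  set T1 := q1 ⟨t, hCN htD⟩ with hT1
  have htt : T1 * T1 = 1 := by
    rw [hT1, ← map_mul]
    refine (QuotientGroup.eq_one_iff _).2 ?_
    have : (⟨t, htN⟩ : E.Nz) * ⟨t, htN⟩ = 1 := E.φ_inj (by rw [map_mul, ht, map_one]; decide +kernel)
    rw [mem_subgroupOf, Subgroup.coe_mul, show t * t = (1 : X) from congrArg Subtype.val this]
    exact one_mem _
  have hTker : κ T1 = 1 := (QuotientGroup.eq_one_iff _).2 (mem_subgroupOf.2 htD)
  have hT1ne : T1 ≠ 1 := fun e => htnD (mem_subgroupOf.1 ((QuotientGroup.eq_one_iff _).1 e))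
  have hTc : ∀ w, Commute T1 w := by
    intro w
    obtain ⟨v, rfl⟩ := QuotientGroup.mk'_surjective _ w
    -- the image of the centralizer has order two
    have hk : ∀ u, κ u = 1 → u = 1 ∨ u = T1 := by
      have hcard : Nat.card κ.ker = 2 := by
        have hs : Function.Surjective κ := fun u => by
          obtain ⟨d, hd⟩ := hbij.2 u; exact ⟨ψ d, hd⟩
        have := card_mul_index κ.ker
        rw [index_ker, MonoidHom.range_eq_top.2 hs, card_top, hq8] at this
        have h16 : Nat.card (ND ⧸ E.D.subgroupOf ND) = 16 := by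
          have := card_eq_card_quotient_mul_card_subgroup (E.D.subgroupOf ND)
          rw [hND, Nat.card_congr (subgroupOfEquivOfLe le_normalizer).toEquiv, E.D_card] at this
          omega
        omega
      intro u hu
      obtain ⟨w, hw⟩ := (Nat.card_eq_two_iff' (1 : κ.ker)).1 hcard
      by_cases hu1 : u = 1
      · exact Or.inl hu1
      refine Or.inr (congrArg Subtype.val ((hw.2 ⟨u, hu⟩ fun e => hu1 (congrArg Subtype.val e)).trans
        (hw.2 ⟨T1, hTker⟩ fun e => hT1ne (congrArg Subtype.val e)).symm))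
    rcases hk (q1 v * T1 * (q1 v)⁻¹) (by rw [map_mul, map_mul, map_inv, hTker, mul_one, mul_inv_cancel]) with e | e
    · exact absurd (conj_eq_one_iff.1 e) hT1ne
    · exact (mul_inv_eq_iff_eq_mul.1 e).symm
  let τ : Multiplicative (ZMod 2) →* ND ⧸ E.D.subgroupOf ND :=
    { toFun := fun k => T1 ^ k.toAdd.val
      map_one' := pow_zero _
      map_mul' := fun a b => by
        rw [← pow_add, toAdd_mul, ZMod.val_add]
        exact (pow_eq_pow_mod _ (by rw [pow_two, htt])).symm }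
  let Ψ : D82 →* ND ⧸ E.D.subgroupOf ND := MonoidHom.noncommCoprod ψ τ (fun d k => ((hTc (ψ d)).pow_left _).symm)
  have hΨ : Function.Bijective Ψ := by
    refine Function.Injective.bijective_of_nat_card_le ?_ ?_
    · rw [injective_iff_map_eq_one]
      rintro ⟨d, k⟩ hdk
      have hk := congrArg κ hdk
      rw [MonoidHom.noncommCoprod_apply, map_mul, map_one] at hk
      have hτ : κ (τ k) = 1 := by
        show κ (T1 ^ _) = 1
        rw [map_pow, hTker, one_pow]
      rw [hτ, mul_one] at hk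
      obtain rfl := (injective_iff_map_eq_one _).1 hinj d hk
      rw [MonoidHom.noncommCoprod_apply, map_one, one_mul] at hdk
      obtain ⟨k, rfl⟩ : ∃ x, Multiplicative.ofAdd x = k := ⟨k.toAdd, rfl⟩
      fin_cases k
      · rfl
      · exact absurd ((pow_one T1).symm.trans hdk) hT1ne
    · rw [Nat.card_prod, DihedralGroup.nat_card, Nat.card_congr Multiplicative.toAdd, Nat.card_zmod]
      have := card_eq_card_quotient_mul_card_subgroup (E.D.subgroupOf ND)
      rw [hND, Nat.card_congr (subgroupOfEquivOfLe le_normalizer).toEquiv, E.D_card] at this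
      omega
  obtain ⟨C, hC'⟩ := ThreeLocalSymEight.exists_ctx P E.D hDP (E.z * E.y) E.z E.gen_zy
    ⟨⟨fun a b => Subtype.ext (E.D_comm a.2 b.2)⟩⟩ E.D_card (fun a ha => E.D_cube ha) hcD
    (MulEquiv.ofBijective Ψ hΨ).symm eNC E.zy_normal hy36 hz360 eL
  have hDC : E.D = C.D := by
    refine eq_of_le_of_card_ge (fun x hx => ?_) (by rw [C.card_D, E.D_card])
    obtain ⟨a, b, rfl⟩ := hC' x hx
    exact C.dd_mem a b
  haveI : ((centralizer (C.D : Set X)).subgroupOf (normalizer (C.D : Set X))).Normal := by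
    rw [← hDC]; exact hcn
  obtain ⟨eNC'⟩ : Nonempty (normalizer (C.D : Set X) ⧸ (centralizer (C.D : Set X)).subgroupOf
      (normalizer (C.D : Set X)) ≃* DihedralGroup 4) := by
    exact nc_congr hDC eNC
  rcases C.tau_cases eNC' with hN | ⟨e, hCT⟩
  · obtain ⟨N, hNn, -, ⟨e⟩, -, hi, hsq⟩ := C.exceptional hN
    exact (E.exc_false hz360 e hNn hi hsq).elim
  · obtain ⟨C', hβ, htw, hf⟩ := C.good_of_six e
    refine C'.equiv_eight htw hf ?_
    rw [show C'.CT = C.CT by simp only [ThreeLocalSymEight.Ctx.CT, hβ]]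
    exact hCT

/-- The data give `A₈` or `S₈`. -/
theorem result {X : Type*} [Group X] [Finite X] (E : EightData X) :
    Nonempty (X ≃* alternatingGroup (Fin 8)) ∨ Nonempty (X ≃* Perm (Fin 8)) := by
  by_cases h : ∀ p ∈ E.φ.range, sign p.1 * sign p.2 = 1
  · exact Or.inl (E.alt_case h)
  · refine Or.inr (E.sym_case (eq_top_iff.2 fun p _ => ?_))
    push Not at h
    obtain ⟨p0, hp0, hne⟩ := h
    by_cases hp : sign p.1 * sign p.2 = 1
    · exact E.φ_big p hp
    · have h1 := (Int.units_eq_one_or _).resolve_left hne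
      have h2 := (Int.units_eq_one_or _).resolve_left hp
      have hq : p0⁻¹ * p ∈ E.φ.range := E.φ_big _ (by
        rw [Prod.fst_mul, Prod.snd_mul, map_mul, map_mul, Prod.fst_inv, Prod.snd_inv, map_inv, map_inv,
          mul_mul_mul_comm, ← mul_inv, h1, h2]
        decide)
      simpa using mul_mem hp0 hq

end EightData

end CfsgLib.McLThree
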