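import Cfsg.Agent.ThreeLocalSymEight.Model

/-!
The abstract 3-local data of `C(t)/⟨t⟩` in the recognitions of the McLaughlin group.
-/

set_option autoImplicit false

namespace CfsgLib.McLThree

open Subgroup
open CfsgLib.ThreeLocalSymEight (P35 eZ eZ')

universe u

/-- The local data leading to `A₈` or `S₈`. -/
structure EightData (X : Type u) [Group X] where
  z : X
  y : X
  g : X
  e : X
  c : X
  z_cube : z * z * z = 1
  y_cube : y * y * y = 1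
  zy_comm : z * y = y * z
  φ : normalizer (zpowers z : Set X) →* P35
  φ_inj : Function.Injective φ
  φ_z : ∀ h : z ∈ normalizer (zpowers z : Set X), φ ⟨z, h⟩ = eZ
  φ_y : ∀ h : y ∈ normalizer (zpowers z : Set X), φ ⟨y, h⟩ = eZ'
  φ_big : ∀ p : P35, Equiv.Perm.sign p.1 * Equiv.Perm.sign p.2 = 1 → p ∈ φ.range
  g_sq : g * g = 1
  g_z : g * z * g⁻¹ = y
  g_y : g * y * g⁻¹ = z
  e_sq : e * e = 1
  e_z : e * z * e⁻¹ = z
  e_y : e * y * e⁻¹ = y⁻¹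
  c_sq : c * c = 1
  c_z : c * z * c⁻¹ = z⁻¹
  c_y : c * y * c⁻¹ = y⁻¹
  c_odd : ∀ h : c ∈ normalizer (zpowers z : Set X), Equiv.Perm.sign (φ ⟨c, h⟩).2 = -1
  ge_sq : ∃ i j : Fin 3, g * e * (g * e) = c * (z ^ (i : ℕ) * y ^ (j : ℕ))
  sylow : ∀ R : Subgroup X, IsPGroup 3 R → Nat.card R ∣ 9
  cent_diag : ∀ x : X, x * (z * y) = z * y * x →
    x * z * x⁻¹ ∈ closure ({z, y} : Set X) ∧ x * y * x⁻¹ ∈ closure ({z, y} : Set X)
  no_diag : ∀ x : X, x * z * x⁻¹ ∈ closure ({z, y} : Set X) →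
    x * z * x⁻¹ ∈ zpowers z ∨ x * z * x⁻¹ ∈ zpowers y

end CfsgLib.McLThree
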