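import Mathlib

/-! Permutations of eight letters inverting or exchanging two disjoint three-cycles. -/

set_option autoImplicit false
set_option maxRecDepth 100000
set_option maxHeartbeats 400000

namespace CfsgLib.McLThree.S8

open Equiv Equiv.Perm

/-- The first cycle. -/
def pA : Perm (Fin 8) := swap 0 1 * swap 1 2
/-- The second cycle. -/
def pB : Perm (Fin 8) := swap 3 4 * swap 4 5
/-- The transposition of the other two letters. -/
def pT : Perm (Fin 8) := swap 6 7
/-- An even permutation inverting both cycles. -/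
def pC : Perm (Fin 8) := swap 1 2 * swap 4 5
/-- A permutation exchanging the cycles. -/
def pG : Perm (Fin 8) := swap 0 3 * (swap 1 4 * swap 2 5)
/-- A product of three transpositions. -/
def pU : Perm (Fin 8) := swap 6 7 * (swap 1 2 * swap 4 5)
/-- It carries `pU` to `pG`. -/
def pS : Perm (Fin 8) := swap 0 6 * swap 6 2 * swap 2 3 * swap 3 7 * swap 7 5 * swap 5 4 * swap 4 1

/-- An element of order three commuting with one of order five is a three-cycle. -/
theorem threeCycle_of_five {p q : Perm (Fin 8)} (hp : p ^ 3 = 1) (hp1 : p ≠ 1) (hq : q ^ 5 = 1)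
    (hq1 : q ≠ 1) (h : p * q = q * p) : p.IsThreeCycle := by
  haveI : Fact (Nat.Prime 3) := ⟨Nat.prime_three⟩
  haveI : Fact (Nat.Prime 5) := ⟨by norm_num⟩
  have ho : orderOf p = 3 := orderOf_eq_prime hp hp1
  have hall : ∀ m ∈ p.cycleType, m = 3 := by
    intro m hm
    have h2 := Equiv.Perm.two_le_of_mem_cycleType hm
    have hd := ho ▸ Equiv.Perm.dvd_of_mem_cycleType hm
    rcases (Nat.dvd_prime Nat.prime_three).1 hd with e | e
    · omega
    · exact e
  have hrep := Multiset.eq_replicate_card.2 hall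
  set n := Multiset.card p.cycleType with hn
  have hs : 3 * n ≤ 8 := by
    have h1 := p.sum_cycleType
    have h2 : p.support.card ≤ 8 := le_trans (Finset.card_le_univ _) (by simp)
    rw [hrep, Multiset.sum_replicate, smul_eq_mul] at h1
    omega
  have hn0 : n ≠ 0 := fun e => hp1 (cycleType_eq_zero.1 (by rw [hrep, e]; rfl))
  have hn2 : n ≠ 2 := by
    intro e
    have hqc : q ∈ Subgroup.centralizer ({p} : Set (Perm (Fin 8))) :=
      Subgroup.mem_centralizer_singleton_iff.2 h.symm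
    have hd : orderOf (⟨q, hqc⟩ : Subgroup.centralizer ({p} : Set (Perm (Fin 8)))) ∣
        Nat.card (Subgroup.centralizer ({p} : Set (Perm (Fin 8)))) := orderOf_dvd_natCard _
    rw [← Subgroup.orderOf_coe, orderOf_eq_prime hq hq1, Equiv.Perm.nat_card_centralizer, hrep, e,
      Fintype.card_fin] at hd
    exact absurd hd (by decide)
  have : n = 1 := by omega
  rw [this] at hrep
  exact hrep

/-- A permutation carrying `a, b, c` to `3, 4, 5`. -/
def sM (a b c : Fin 8) : Perm (Fin 8) :=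
  swap (swap (swap a 3 b) 4 (swap a 3 c)) 5 * swap (swap a 3 b) 4 * swap a 3

theorem sM_spec : ∀ a b c : Fin 8, 3 ≤ a → 3 ≤ b → 3 ≤ c → (a ≠ b ∧ b ≠ c ∧ a ≠ c) →
    (sM a b c 0 = 0 ∧ sM a b c 1 = 1 ∧ sM a b c 2 = 2) ∧ sM a b c a = 3 ∧ sM a b c b = 4 ∧
      sM a b c c = 5 := by decide +kernel

theorem moved_A : ∀ i : Fin 8, pA i ≠ i ↔ (i = 0 ∨ i = 1 ∨ i = 2) := by decide +kernel

theorem moved_B : ∀ i : Fin 8, pB i ≠ i ↔ (i = 3 ∨ i = 4 ∨ i = 5) := by decide +kernel

theorem moved_of_comm {w p : Perm (Fin 8)} (h : w * p = p * w) {i : Fin 8} :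
    p (w i) ≠ w i ↔ p i ≠ i := by
  have e : p (w i) = w (p i) := (congrArg (fun f : Perm (Fin 8) => f i) h).symm
  rw [e, ne_eq, w.injective.eq_iff]

theorem comm_values {w : Perm (Fin 8)} (h : w * pA = pA * w) :
    w 1 = pA (w 0) ∧ w 2 = pA (pA (w 0)) := by
  have e : ∀ i, w (pA i) = pA (w i) := fun i => congrArg (fun f : Perm (Fin 8) => f i) h
  have h1 : w 1 = pA (w 0) := by rw [← e]; rfl
  exact ⟨h1, by rw [← h1, ← e]; rfl⟩

theorem comm_values' {w : Perm (Fin 8)} (h : w * pB = pB * w) :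
    w 4 = pB (w 3) ∧ w 5 = pB (pB (w 3)) := by
  have e : ∀ i, w (pB i) = pB (w i) := fun i => congrArg (fun f : Perm (Fin 8) => f i) h
  have h1 : w 4 = pB (w 3) := by rw [← e]; rfl
  exact ⟨h1, by rw [← h1, ← e]; rfl⟩

theorem model : ∀ x y z : Fin 8, (x = 0 ∨ x = 1 ∨ x = 2) → (y = 3 ∨ y = 4 ∨ y = 5) → (z = 6 ∨ z = 7) →
    ∃ i j : Fin 3, ∃ k : Fin 2,
      (pA ^ i.val * pB ^ j.val * pT ^ k.val) 0 = x ∧ (pA ^ i.val * pB ^ j.val * pT ^ k.val) 3 = y ∧
      (pA ^ i.val * pB ^ j.val * pT ^ k.val) 6 = z := by decide +kernel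

theorem model_values : ∀ i j : Fin 3, ∀ k : Fin 2, let v := pA ^ i.val * pB ^ j.val * pT ^ k.val
    v 1 = pA (v 0) ∧ v 2 = pA (pA (v 0)) ∧ v 4 = pB (v 3) ∧ v 5 = pB (pB (v 3)) ∧
      v 7 = swap 6 7 (v 6) := by decide +kernel

/-- The centralizer of the two cycles. -/
theorem cent_AB {w : Perm (Fin 8)} (hA : w * pA = pA * w) (hB : w * pB = pB * w) :
    ∃ i j : Fin 3, ∃ k : Fin 2, w = pA ^ i.val * pB ^ j.val * pT ^ k.val := by
  have hx := (moved_A (w 0)).1 ((moved_of_comm hA).2 ((moved_A 0).2 (Or.inl rfl)))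
  have hy := (moved_B (w 3)).1 ((moved_of_comm hB).2 ((moved_B 3).2 (Or.inl rfl)))
  have h67 : ∀ i : Fin 8, pA i = i → pB i = i → (i = 6 ∨ i = 7) := by decide +kernel
  have hfix : ∀ i : Fin 8, pA i = i → pB i = i → (w i = 6 ∨ w i = 7) := by
    intro i h1 h2
    refine h67 _ ?_ ?_
    · by_contra h; exact (moved_of_comm hA).1 h h1
    · by_contra h; exact (moved_of_comm hB).1 h h2
  have hz := hfix 6 (by decide +kernel) (by decide +kernel)
  have hz7 := hfix 7 (by decide +kernel) (by decide +kernel)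
  obtain ⟨i, j, k, e0, e3, e6⟩ := model (w 0) (w 3) (w 6) hx hy hz
  obtain ⟨v1, v2, v4, v5, v7⟩ := model_values i j k
  refine ⟨i, j, k, Equiv.ext fun s => ?_⟩
  obtain ⟨a1, a2⟩ := comm_values hA
  obtain ⟨b1, b2⟩ := comm_values' hB
  fin_cases s
  · exact e0.symm
  · exact a1.trans ((congrArg pA e0.symm).trans v1.symm)
  · exact a2.trans ((congrArg (fun q => pA (pA q)) e0.symm).trans v2.symm)
  · exact e3.symm
  · exact b1.trans ((congrArg pB e3.symm).trans v4.symm)
  · exact b2.trans ((congrArg (fun q => pB (pB q)) e3.symm).trans v5.symm)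
  · exact e6.symm
  · show w 7 = _
    refine Eq.trans ?_ v7.symm
    rw [e6]
    have hne : w 7 ≠ w 6 := fun h => absurd (w.injective h) (by decide)
    rcases hz with h | h <;> rcases hz7 with h' | h' <;> rw [h, h'] at hne ⊢
    · exact absurd rfl hne
    · decide
    · decide
    · exact absurd rfl hne

/-- Two commuting three-cycles, neither a power of the other, are disjoint. -/
theorem normalise {p q : Perm (Fin 8)} (hp : p.IsThreeCycle) (hq : q.IsThreeCycle) (h : p * q = q * p)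
    (h1 : q ≠ p) (h2 : q ≠ p * p) : ∃ σ : Perm (Fin 8), σ * p * σ⁻¹ = pA ∧ σ * q * σ⁻¹ = pB := by
  have hA3 : pA.cycleType = {3} := by decide +kernel
  obtain ⟨σ1, hσ1⟩ := isConj_iff.1 (isConj_iff_cycleType_eq.2 (hp.cycleType.trans hA3.symm))
  set w := σ1 * q * σ1⁻¹ with hw
  have hwA : w * pA = pA * w := by rw [← hσ1, hw, conj_mul, conj_mul, h]
  have hw3 : w.IsThreeCycle := by
    show w.cycleType = {3}
    rw [hw, cycleType_conj]; exact hq.cycleType
  have hcard := hw3.card_support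
  -- `w` fixes the first cycle
  have h0 : w 0 = 0 := by
    have hx := (moved_A (w 0)).1 ((moved_of_comm hwA).2 ((moved_A 0).2 (Or.inl rfl)))
    obtain ⟨a1, a2⟩ := comm_values hwA
    by_contra hne
    have hs : ∀ i : Fin 8, i = 0 ∨ i = 1 ∨ i = 2 → i ∈ w.support := by
      intro i hi
      rw [mem_support]
      rcases hx with e | e | e
      · exact absurd e hne
      all_goals rcases hi with rfl | rfl | rfl
      all_goals first
        | exact hne
        | (rw [a1, e]; decide +kernel)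
        | (rw [a2, e]; decide +kernel)
    have hsupp : w.support = {0, 1, 2} := (Finset.eq_of_subset_of_card_le
      (fun i hi => hs i (by simpa using hi)) (by rw [hcard]; decide)).symm
    have hrest : ∀ i : Fin 8, ¬ (i = 0 ∨ i = 1 ∨ i = 2) → w i = i := fun i hi => by
      by_contra hc
      have : i ∈ w.support := mem_support.2 hc
      rw [hsupp] at this
      simp at this
      exact hi this
    rcases hx with e | e | e
    · exact hne e
    · refine h1 ?_
      have hwe : w = pA := by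
        ext i
        fin_cases i
        all_goals first
          | (show (w 0).val = (pA 0).val; rw [e]; decide +kernel)
          | (show (w 1).val = (pA 1).val; rw [a1, e])
          | (show (w 2).val = (pA 2).val; rw [a2, e]; decide +kernel)
          | (rw [hrest _ (by decide)]; decide +kernel)
      rw [hw, ← hσ1] at hwe
      exact mul_left_cancel (mul_right_cancel hwe)
    · refine h2 ?_
      have hwe : w = pA * pA := by
        ext i
        fin_cases i
        all_goals first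
          | (show (w 0).val = ((pA * pA) 0).val; rw [e]; decide +kernel)
          | (show (w 1).val = ((pA * pA) 1).val; rw [a1, e]; decide +kernel)
          | (show (w 2).val = ((pA * pA) 2).val; rw [a2, e]; decide +kernel)
          | (rw [hrest _ (by decide)]; decide +kernel)
      rw [hw, ← hσ1, conj_mul] at hwe
      exact mul_left_cancel (mul_right_cancel hwe)
  obtain ⟨a1, a2⟩ := comm_values hwA
  rw [h0] at a1 a2
  obtain ⟨a, ha⟩ : ∃ a, a ∈ w.support := Finset.card_pos.1 (by rw [hcard]; norm_num)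
  rw [mem_support] at ha
  have hw33 : w * (w * w) = 1 := by
    have := pow_orderOf_eq_one w
    rwa [hw3.orderOf, pow_three] at this
  set b := w a with hb
  set c := w b with hc
  have hwc : w c = a := congrArg (fun f : Perm (Fin 8) => f a) hw33
  have hab : a ≠ b := fun e => ha e.symm
  have hbc : b ≠ c := fun e => hab (w.injective e)
  have hac : a ≠ c := fun e => hab (by rw [← e] at hwc; exact hwc.symm)
  have hsupp : w.support = {a, b, c} := (Finset.eq_of_subset_of_card_le (by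
    intro i hi
    simp only [Finset.mem_insert, Finset.mem_singleton] at hi
    rw [mem_support]
    rcases hi with rfl | rfl | rfl
    · exact ha
    · exact fun e => hbc e.symm
    · rw [hwc]; exact hac) (by rw [hcard]; simp [hab, hbc, hac])).symm
  have hweq : w = swap a b * swap b c := by
    ext i
    congr 1
    by_cases hi : i ∈ w.support
    · rw [hsupp] at hi
      simp only [Finset.mem_insert, Finset.mem_singleton] at hi
      rcases hi with e | e | e <;> rw [e]
      · show w a = swap a b (swap b c a)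
        rw [swap_apply_of_ne_of_ne hab hac, swap_apply_left]
      · show w b = swap a b (swap b c b)
        rw [swap_apply_left, swap_apply_of_ne_of_ne hac.symm hbc.symm]
      · show w c = swap a b (swap b c c)
        rw [swap_apply_right, swap_apply_right, hwc]
    · rw [notMem_support.1 hi]
      rw [hsupp] at hi
      simp only [Finset.mem_insert, Finset.mem_singleton, not_or] at hi
      rw [mul_apply, swap_apply_of_ne_of_ne hi.2.1 hi.2.2, swap_apply_of_ne_of_ne hi.1 hi.2.1]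
  have hlow : ∀ i, i ∈ w.support → ¬ (i = 0 ∨ i = 1 ∨ i = 2) := by
    intro i hi hc'
    rw [mem_support] at hi
    rcases hc' with rfl | rfl | rfl
    · exact hi h0
    · exact hi a1
    · exact hi a2
  have h3le : ∀ i : Fin 8, i ∈ w.support → 3 ≤ i := fun i hi => by
    have h012 : ∀ j : Fin 8, ¬ 3 ≤ j → (j = 0 ∨ j = 1 ∨ j = 2) := by decide
    exact not_not.1 fun hn => hlow i hi (h012 i hn)
  obtain ⟨⟨f0, f1, f2⟩, fa, fb, fc⟩ := sM_spec a b c (h3le a (hsupp ▸ by simp))
    (h3le b (hsupp ▸ by simp)) (h3le c (hsupp ▸ by simp)) ⟨hab, hbc, hac⟩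
  refine ⟨sM a b c * σ1, ?_, ?_⟩
  · rw [mul_inv_rev, show ∀ s : Perm (Fin 8), s * σ1 * p * (σ1⁻¹ * s⁻¹) = s * (σ1 * p * σ1⁻¹) * s⁻¹ from
      fun s => by group, hσ1, pA, ← conj_mul, ← swap_apply_apply, ← swap_apply_apply, f0, f1, f2]
  · rw [mul_inv_rev, show ∀ s : Perm (Fin 8), s * σ1 * q * (σ1⁻¹ * s⁻¹) = s * (σ1 * q * σ1⁻¹) * s⁻¹ from
      fun s => by group, ← hw, hweq, ← conj_mul, ← swap_apply_apply, ← swap_apply_apply, fa, fb, fc]
    rfl

theorem inverter_cases : ∀ i j : Fin 3, ∀ k : Fin 2,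
    Perm.sign (pA ^ i.val * pB ^ j.val * pT ^ k.val * pC) = 1 →
    ∃ m n : Fin 3, (pA ^ m.val * pB ^ n.val) * (pA ^ i.val * pB ^ j.val * pT ^ k.val * pC) *
      (pA ^ m.val * pB ^ n.val)⁻¹ = pC := by decide +kernel

theorem AB_fix : ∀ m n : Fin 3, (pA ^ m.val * pB ^ n.val) * pA * (pA ^ m.val * pB ^ n.val)⁻¹ = pA ∧
    (pA ^ m.val * pB ^ n.val) * pB * (pA ^ m.val * pB ^ n.val)⁻¹ = pB := by decide +kernel

theorem facts : pC * pA * pC⁻¹ = pA⁻¹ ∧ pC * pB * pC⁻¹ = pB⁻¹ ∧ pC * pC = 1 ∧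
    pG * pA * pG⁻¹ = pB ∧ pG * pB * pG⁻¹ = pA ∧ pG * pG = 1 ∧
    Perm.sign pT = -1 ∧ pT * pA = pA * pT ∧ pT * pB = pB * pT ∧
    pA * pA * pA = 1 ∧ pB * pB * pB = 1 ∧ Perm.sign pA = 1 ∧ Perm.sign pB = 1 := by decide +kernel

theorem swapper_cases : ∀ i j : Fin 3, ∀ k : Fin 2,
    (pA ^ i.val * pB ^ j.val * pT ^ k.val * pG) * (pA ^ i.val * pB ^ j.val * pT ^ k.val * pG) = 1 →
    Perm.sign (pA ^ i.val * pB ^ j.val * pT ^ k.val * pG) = -1 →
    ∃ m : Fin 3, (pA ^ m.val * pS) * pU * (pA ^ m.val * pS)⁻¹ =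
      pA ^ i.val * pB ^ j.val * pT ^ k.val * pG := by decide +kernel

/-- An even permutation inverting both cycles is conjugate to `pC` fixing both. -/
theorem inverter {x : Perm (Fin 8)} (hA : x * pA * x⁻¹ = pA⁻¹) (hB : x * pB * x⁻¹ = pB⁻¹)
    (hs : Perm.sign x = 1) : ∃ σ : Perm (Fin 8), σ * pA * σ⁻¹ = pA ∧ σ * pB * σ⁻¹ = pB ∧
      σ * x * σ⁻¹ = pC := by
  obtain ⟨i, j, k, h⟩ := cent_AB (w := x * pC⁻¹)
    (mul_inv_eq_iff_eq_mul.1 (by
      rw [mul_inv_rev, inv_inv, show x * pC⁻¹ * pA * (pC * x⁻¹) = x * (pC⁻¹ * pA * pC) * x⁻¹ by group,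
        show pC⁻¹ * pA * pC = pA⁻¹ by decide +kernel, ← conj_inv, hA, inv_inv]))
    (mul_inv_eq_iff_eq_mul.1 (by
      rw [mul_inv_rev, inv_inv, show x * pC⁻¹ * pB * (pC * x⁻¹) = x * (pC⁻¹ * pB * pC) * x⁻¹ by group,
        show pC⁻¹ * pB * pC = pB⁻¹ by decide +kernel, ← conj_inv, hB, inv_inv]))
  rw [mul_inv_eq_iff_eq_mul] at h
  subst h
  obtain ⟨m, n, hmn⟩ := inverter_cases i j k hs
  exact ⟨_, (AB_fix m n).1, (AB_fix m n).2, hmn⟩

/-- An odd involution exchanging the cycles is conjugate to `pU`. -/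
theorem swapper {x : Perm (Fin 8)} (hA : x * pA * x⁻¹ = pB) (hB : x * pB * x⁻¹ = pA)
    (h2 : x * x = 1) (hs : Perm.sign x = -1) : ∃ σ : Perm (Fin 8), σ * pU * σ⁻¹ = x := by
  obtain ⟨i, j, k, h⟩ := cent_AB (w := x * pG⁻¹)
    (mul_inv_eq_iff_eq_mul.1 (by
      rw [mul_inv_rev, inv_inv, show x * pG⁻¹ * pA * (pG * x⁻¹) = x * (pG⁻¹ * pA * pG) * x⁻¹ by group,
        show pG⁻¹ * pA * pG = pB by decide +kernel, hB]))
    (mul_inv_eq_iff_eq_mul.1 (by
      rw [mul_inv_rev, inv_inv, show x * pG⁻¹ * pB * (pG * x⁻¹) = x * (pG⁻¹ * pB * pG) * x⁻¹ by group,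
        show pG⁻¹ * pB * pG = pA by decide +kernel, hA]))
  rw [mul_inv_eq_iff_eq_mul] at h
  subst h
  obtain ⟨m, hm⟩ := swapper_cases i j k h2 hs
  exact ⟨_, hm⟩

/-- Conjugations used to compare lifts. -/
theorem conjugators :
    (swap (4 : Fin 8) 6 * swap 5 7) * pC * (swap (4 : Fin 8) 6 * swap 5 7)⁻¹ = swap 1 2 * pT ∧
    (swap (1 : Fin 8) 6 * swap 2 7) * pC * (swap (1 : Fin 8) 6 * swap 2 7)⁻¹ = swap 4 5 * pT ∧
    (swap (1 : Fin 8) 6 * swap 2 7) * pT * (swap (1 : Fin 8) 6 * swap 2 7)⁻¹ = swap 1 2 ∧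
    (swap (4 : Fin 8) 6 * swap 5 7) * pT * (swap (4 : Fin 8) 6 * swap 5 7)⁻¹ = swap 4 5 ∧
    pT * pC = pU := by decide +kernel

end CfsgLib.McLThree.S8
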