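import Cfsg.Agent.McLUniq.HFacts
import Cfsg.Agent.McLUniq.General
import Cfsg.Agent.Invol.ThompsonTransfer
import Cfsg.Agent.AltLift.Main
import Cfsg.Agent.ThompsonWielandt.AltFacts
import Cfsg.Agent.S2073

/-!
# The end of the 3-local characterization of McLaughlin's group

From an involution centralizer `2.A8` or `(2.A8).2` to the group, given the characterization of
the group by its involution centralizer.
-/

set_option autoImplicit false
set_option linter.style.haveILetI false

namespace CfsgLib.McLThree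

open Subgroup

universe u

/-- The characterization of McLaughlin's group by an involution centralizer `2.A8`. -/
def CentStatement : Prop :=
  ∀ (G : Type u) [Group G] [Finite G] (t : G), orderOf t = 2 →
    Cfsg.IsNonsplitDoubleCover (centralizer ({t} : Set G)) (alternatingGroup (Fin 8)) →
    centralizer ({t} : Set G) ⊔ Cfsg.oddCore G = ⊤ ∨ Nonempty (G ≃* Cfsg.Spor.McL)

/-- A central extension of `A8` by an involution with a square root is a non-split double cover. -/
theorem isNonsplit_of_sq {C : Type*} [Group C] (f : C →* alternatingGroup (Fin 8))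
    (hf : Function.Surjective f) {z : C} (hz : orderOf z = 2) (hzc : ∀ x, x * z = z * x)
    (hker : f.ker = zpowers z) {q : C} (hq : q * q = z) :
    Cfsg.IsNonsplitDoubleCover C (alternatingGroup (Fin 8)) := by
  have hcen : center C = zpowers z := by
    apply le_antisymm
    · rw [← hker]
      intro x hx
      rw [MonoidHom.mem_ker, ← Subgroup.mem_bot, ← AltLift.center_alternating_eq_bot (d := 8) (by norm_num),
        mem_center_iff]
      intro y
      obtain ⟨y, rfl⟩ := hf y
      rw [← map_mul, ← map_mul, (mem_center_iff.1 hx y)]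
    · exact zpowers_le.2 (mem_center_iff.2 hzc)
  refine ⟨by rw [hcen, Nat.card_zpowers, hz],
    ⟨(QuotientGroup.quotientMulEquivOfEq (hcen.trans hker.symm)).trans
      (QuotientGroup.quotientKerEquivOfSurjective f hf)⟩, fun L hL => ?_⟩
  have hzC : z ∈ center C := mem_center_iff.2 hzc
  obtain ⟨⟨⟨a, ha⟩, ⟨l, hl⟩⟩, hal⟩ := hL.2 q
  have hal' : a * l = q := hal
  have ha2 : a * a = 1 := by
    have h2 : ∀ k : ℤ, z ^ k * z ^ k = 1 := fun k => by
      rw [← zpow_add, ← two_mul, zpow_mul, show z ^ (2 : ℤ) = 1 from by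
        rw [show (2 : ℤ) = ((2 : ℕ) : ℤ) from rfl, zpow_natCast, ← hz, pow_orderOf_eq_one], one_zpow]
    obtain ⟨k, rfl⟩ := mem_zpowers_iff.1 (hcen ▸ ha)
    exact h2 k
  have hac : l * a = a * l := mem_center_iff.1 ha l
  have hzl : z ∈ L := by
    have e : z = l * l := by
      rw [← hq, ← hal', mul_assoc, ← mul_assoc l a l, hac, ← mul_assoc, ← mul_assoc, ha2, one_mul]
    exact e ▸ mul_mem hl hl
  have h1 : z = 1 := by
    have := hL.disjoint.le_bot ⟨hzC, hzl⟩
    simpa using this
  rw [h1, orderOf_one] at hz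
  exact absurd hz (by norm_num)

/-- An involution fusing inside its centralizer rules out `G = C(t) O(G)`. -/
theorem sup_oddCore_ne_top {G : Type*} [Group G] [Finite G] {t : G} (ht : orderOf t = 2)
    (hfus : ∃ g : G, g * t * g⁻¹ ∈ centralizer ({t} : Set G) ∧ g * t * g⁻¹ ≠ t) :
    centralizer ({t} : Set G) ⊔ Cfsg.oddCore G ≠ ⊤ := by
  intro htop
  obtain ⟨g, hgC, hne⟩ := hfus
  have htt : t * t = 1 := by rw [← sq, ← ht, pow_orderOf_eq_one]
  have hg : g ∈ centralizer ({t} : Set G) ⊔ Cfsg.oddCore G := htop ▸ mem_top g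
  haveI hn : (Cfsg.oddCore G).Normal := inferInstance
  obtain ⟨c, hc, o, ho, rfl⟩ := mem_sup_of_normal_right.1 hg
  have hct : c * t = t * c := mem_centralizer_singleton_iff.1 hc
  set y := o * t * o⁻¹ with hy
  have hyC : y * t = t * y := by
    have h : c * y * c⁻¹ * t = t * (c * y * c⁻¹) := by
      have e : c * y * c⁻¹ = c * o * t * (c * o)⁻¹ := by rw [hy]; group
      rw [e]; exact mem_centralizer_singleton_iff.1 hgC
    have hci : c⁻¹ * t = t * c⁻¹ := by rw [inv_mul_eq_iff_eq_mul, ← mul_assoc, hct, mul_inv_cancel_right]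
    calc y * t = c⁻¹ * (c * y * c⁻¹ * t) * c := by simp only [mul_assoc, ← hct]; group
      _ = c⁻¹ * (t * (c * y * c⁻¹)) * c := by rw [h]
      _ = (c⁻¹ * t) * c * y := by group
      _ = t * y := by rw [hci, inv_mul_cancel_right]
  have hm : y * t ∈ Cfsg.oddCore G := by
    have e : y * t = o * (t * o⁻¹ * t⁻¹) := by
      rw [hy, show t⁻¹ = t from inv_eq_of_mul_eq_one_right htt]; group
    rw [e]
    exact mul_mem ho (hn.conj_mem _ (inv_mem ho) t)
  have hyy : y * y = 1 := by rw [hy]; calc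
      o * t * o⁻¹ * (o * t * o⁻¹) = o * (t * t) * o⁻¹ := by group
      _ = 1 := by rw [htt, mul_one, mul_inv_cancel]
  have hsq : (y * t) ^ 2 = 1 := by
    rw [sq, mul_assoc, ← mul_assoc t, ← hyC, mul_assoc y t t, htt, mul_one, hyy]
  have ho2 : orderOf (y * t) ∣ 2 := orderOf_dvd_of_pow_eq_one hsq
  have hodd : Odd (orderOf (y * t)) :=
    Odd.of_dvd_nat (DGroup.odd_oddCore G) (by
      rw [← Subgroup.orderOf_mk (y * t) hm]; exact orderOf_dvd_natCard _)
  have h1 : orderOf (y * t) = 1 := by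
    rcases (Nat.dvd_prime Nat.prime_two).1 ho2 with h | h
    · exact h
    · rw [h] at hodd; exact absurd hodd (by decide)
  have hyt : y = t := by
    rw [orderOf_eq_one_iff] at h1
    rw [eq_inv_of_mul_eq_one_left h1, inv_eq_of_mul_eq_one_right htt]
  refine hne ?_
  calc c * o * t * (c * o)⁻¹ = c * y * c⁻¹ := by rw [hy]; group
    _ = t := by rw [hyt, hct, mul_inv_cancel_right]

/-- The case `C(t)/⟨t⟩ ≅ A8`. -/
theorem mcl_of_alt (hU : CentStatement.{u}) {G : Type u} [Group G] [Finite G] {t : G} (ht : orderOf t = 2)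
    (f : centralizer ({t} : Set G) →* alternatingGroup (Fin 8)) (hf : Function.Surjective f)
    (hker : ∀ x, f x = 1 ↔ (x : G) ∈ zpowers t)
    (hq : ∃ q ∈ centralizer ({t} : Set G), q * q = t)
    (hfus : ∃ g : G, g * t * g⁻¹ ∈ centralizer ({t} : Set G) ∧ g * t * g⁻¹ ≠ t) :
    Nonempty (G ≃* Cfsg.Spor.McL) := by
  obtain ⟨q, hqC, hqq⟩ := hq
  set z : centralizer ({t} : Set G) := ⟨t, mem_centralizer_singleton_iff.2 rfl⟩ with hz
  have hcov := isNonsplit_of_sq f hf (z := z) (by rw [← Subgroup.orderOf_coe]; exact ht)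
    (fun x => Subtype.ext (mem_centralizer_singleton_iff.1 x.2)) (by
      ext x
      rw [MonoidHom.mem_ker, hker, mem_zpowers_iff, mem_zpowers_iff]
      constructor
      · rintro ⟨k, hk⟩; exact ⟨k, Subtype.ext (by rw [SubgroupClass.coe_zpow]; exact hk)⟩
      · rintro ⟨k, rfl⟩; exact ⟨k, by rw [SubgroupClass.coe_zpow]⟩)
    (q := ⟨q, hqC⟩) (Subtype.ext hqq)
  exact (hU G t ht hcov).resolve_left (sup_oddCore_ne_top ht hfus)

/-- An odd permutation of eight letters squaring to one does not centralise a 2-group of order 128. -/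
theorem sign_eq_one_of_centralizer {π : Equiv.Perm (Fin 8)} (h : π * π = 1)
    (hd : 128 ∣ Nat.card (centralizer ({π} : Set (Equiv.Perm (Fin 8))))) :
    Equiv.Perm.sign π = 1 ∧ (π = 1 ∨ π.support.card = 8) := by
  rcases eq_or_ne π 1 with rfl | h1
  · exact ⟨map_one _, Or.inl rfl⟩
  obtain ⟨n, hct, hs⟩ := McLUniq.cycleType_invol h h1
  have hle : π.support.card ≤ 8 := le_trans (Finset.card_le_univ _) (by simp)
  rw [Equiv.Perm.nat_card_centralizer, hct, Fintype.card_fin] at hd
  rw [Equiv.Perm.sign_of_cycleType, hct, Multiset.sum_replicate, Multiset.card_replicate]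
  have hn : n < 4 := by omega
  interval_cases n
  · exact absurd hd (by decide)
  · exact absurd hd (by decide)
  · exact absurd hd (by decide)
  · exact ⟨by decide, Or.inr hs⟩

/-- The case `C(t)/⟨t⟩ ≅ S8`. -/
theorem aut_mcl_of_sym (hU : CentStatement.{u}) {G : Type u} [Group G] [Finite G] {t : G}
    (ht : orderOf t = 2)
    (f : centralizer ({t} : Set G) →* Equiv.Perm (Fin 8)) (hf : Function.Surjective f)
    (hker : ∀ x, f x = 1 ↔ (x : G) ∈ zpowers t)
    (hq : ∃ q : centralizer ({t} : Set G), (q : G) * q = t ∧ Equiv.Perm.sign (f q) = 1)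
    (hι : ∃ ι : centralizer ({t} : Set G), (ι : G) * ι = 1 ∧ Equiv.Perm.sign (f ι) = -1 ∧
      ∀ g : G, g * ι * g⁻¹ ≠ t)
    (hfus : ∃ x : centralizer ({t} : Set G), (x : G) ≠ t ∧ Equiv.Perm.sign (f x) = 1 ∧
      ∃ g : G, g * t * g⁻¹ = x) :
    Nonempty (G ≃* Cfsg.Spor.McL) ∨ Nonempty (G ≃* MulAut Cfsg.Spor.McL) := by
  classical
  obtain ⟨q, hqq, hqs⟩ := hq
  obtain ⟨ι, hιι, hιs, hιt⟩ := hι
  obtain ⟨x, hxt, hxs, gx, hgx⟩ := hfus
  have htt : t * t = 1 := by rw [← sq, ← ht, pow_orderOf_eq_one]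
  have ht1 : t ≠ 1 := fun e => by rw [e, orderOf_one] at ht; exact absurd ht (by norm_num)
  let C := centralizer ({t} : Set G)
  set z : C := ⟨t, mem_centralizer_singleton_iff.2 rfl⟩ with hz
  have hzc : ∀ a : C, a * z = z * a := fun a => Subtype.ext (mem_centralizer_singleton_iff.1 a.2)
  have hpow : ∀ a : C, f a = 1 → a = 1 ∨ a = z := fun a ha => by
    obtain ⟨k, hk⟩ := mem_zpowers_iff.1 ((hker a).1 ha)
    rcases Int.even_or_odd k with ⟨m, rfl⟩ | ⟨m, rfl⟩
    · left; apply Subtype.ext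
      rw [← hk, ← two_mul, zpow_mul, zpow_two, htt, one_zpow]; rfl
    · right; apply Subtype.ext
      rw [← hk, zpow_add, zpow_mul, zpow_two, htt, one_zpow, one_mul, zpow_one]
  have hfz : f z = 1 := (hker z).2 (mem_zpowers t)
  set H0 : Subgroup C := (Equiv.Perm.sign.comp f).ker with hH0
  have hmem0 : ∀ a : C, a ∈ H0 ↔ Equiv.Perm.sign (f a) = 1 := fun a => MonoidHom.mem_ker
  let f0 : H0 →* alternatingGroup (Fin 8) :=
    (f.comp H0.subtype).codRestrict _ (fun a => Equiv.Perm.mem_alternatingGroup.2 ((hmem0 _).1 a.2))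
  have hf0 : Function.Surjective f0 := fun π => by
    obtain ⟨a, ha⟩ := hf π.1
    refine ⟨⟨a, (hmem0 a).2 (by rw [ha]; exact Equiv.Perm.mem_alternatingGroup.1 π.2)⟩, Subtype.ext ha⟩
  set z0 : H0 := ⟨z, (hmem0 z).2 (by rw [hfz, map_one])⟩ with hz0
  have hz0c : ∀ a : H0, a * z0 = z0 * a := fun a => Subtype.ext (hzc a.1)
  have hzo : orderOf z = 2 := by rw [← Subgroup.orderOf_coe]; exact ht
  have hz0o : orderOf z0 = 2 := by rw [← Subgroup.orderOf_coe]; exact hzo
  set q0 : H0 := ⟨q, (hmem0 q).2 hqs⟩ with hq0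
  have hq0q : q0 * q0 = z0 := Subtype.ext (Subtype.ext hqq)
  have hker0 : ∀ a : H0, f0 a = 1 → a = 1 ∨ a = z0 := fun a ha => by
    rcases hpow a.1 (congrArg Subtype.val ha) with e | e
    · exact Or.inl (Subtype.ext e)
    · exact Or.inr (Subtype.ext e)
  have hf0z : f0 z0 = 1 := Subtype.ext hfz
  -- the involutions of `H0`
  set D := centralizer ({z0} : Set H0) with hD
  set z1 : D := ⟨z0, mem_centralizer_singleton_iff.2 rfl⟩ with hz1
  have hmemD : ∀ a : H0, a ∈ D := fun a => mem_centralizer_singleton_iff.2 (hz0c a)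
  have hcovD : Cfsg.IsNonsplitDoubleCover D (alternatingGroup (Fin 8)) := by
    refine isNonsplit_of_sq (f0.comp D.subtype) (fun π => ?_) (z := z1)
      (by rw [← Subgroup.orderOf_coe]; exact hz0o) (fun a => Subtype.ext (hz0c a.1)) ?_
      (q := ⟨q0, hmemD q0⟩) (Subtype.ext hq0q)
    · obtain ⟨a, ha⟩ := hf0 π; exact ⟨⟨a, hmemD a⟩, ha⟩
    · refine le_antisymm (fun a ha => ?_) (zpowers_le.2 hf0z)
      rcases hker0 a.1 ha with e | e
      · rw [show a = 1 from Subtype.ext e]; exact one_mem _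
      · rw [show a = z1 from Subtype.ext e]; exact mem_zpowers z1
  obtain ⟨Φ⟩ := McLUniq.exists_phi hz0o hcovD
  have hconj : ∀ a : H0, a * a = 1 → a ≠ 1 → a ≠ z0 → ∃ h : H0, h * a * h⁻¹ = Φ.s := fun a h2 h1 hne => by
    obtain ⟨h, -, e⟩ := Φ.invol_conj (hmemD a) h2 h1 hne
    exact ⟨h, e⟩
  have hflip : ∀ a : H0, a * a = 1 → a ≠ 1 → a ≠ z0 → ∃ y : H0, y * a * y⁻¹ = a * z0 := fun a h2 h1 hne => by
    obtain ⟨h, e⟩ := hconj a h2 h1 hne
    have e' := Φ.F_congr ((McLUniq.Phi.stW_W6.append McLUniq.Phi.sW_W6).append McLUniq.Phi.tW_W6)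
      (McLUniq.Phi.sW_W6.append McLUniq.Phi.stW_W6) McLUniq.Phi.gen_facts.2.2.1
    rw [McLUniq.Phi.F_append, McLUniq.Phi.F_append, McLUniq.Phi.F_append, Φ.F_t] at e'
    set w := Φ.F McLUniq.stW with hw
    have ew : w * Φ.s * w⁻¹ = Φ.s * z0 := by
      have h' : w * Φ.s * z0 = Φ.s * w := e'
      have hzz : z0 * z0 = 1 := by rw [← sq, ← hz0o, pow_orderOf_eq_one]
      calc w * Φ.s * w⁻¹ = w * Φ.s * (z0 * z0) * w⁻¹ := by rw [hzz, mul_one]
        _ = w * Φ.s * z0 * (z0 * w⁻¹) := by group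
        _ = Φ.s * w * (w⁻¹ * z0) := by rw [h', ← hz0c w⁻¹]
        _ = Φ.s * z0 := by group
    refine ⟨h⁻¹ * w * h, ?_⟩
    calc h⁻¹ * w * h * a * (h⁻¹ * w * h)⁻¹ = h⁻¹ * (w * (h * a * h⁻¹) * w⁻¹) * h := by group
      _ = h⁻¹ * (h * a * h⁻¹ * z0) * h := by rw [e, ew]
      _ = a * (h⁻¹ * z0 * h) := by group
      _ = a * z0 := by rw [mul_assoc h⁻¹, ← hz0c h, inv_mul_cancel_left]
  set x0 : H0 := ⟨x, (hmem0 x).2 hxs⟩ with hx0
  have hx2 : (x : G) * x = 1 := by
    rw [← hgx, show gx * t * gx⁻¹ * (gx * t * gx⁻¹) = gx * (t * t) * gx⁻¹ by group, htt, mul_one, mul_inv_cancel]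
  have hx1 : (x : G) ≠ 1 := fun e => ht1 (by
    rw [e, mul_inv_eq_one] at hgx
    exact mul_left_cancel (hgx.trans (mul_one gx).symm))
  have hall : ∀ a : H0, a * a = 1 → a ≠ 1 → ∃ g : G, g * t * g⁻¹ = ((a : C) : G) := fun a h2 h1 => by
    by_cases hne : a = z0
    · exact ⟨1, by rw [hne, one_mul, inv_one, mul_one]⟩
    obtain ⟨h, e⟩ := hconj a h2 h1 hne
    obtain ⟨h', e'⟩ := hconj x0 (Subtype.ext (Subtype.ext hx2))
      (fun e => hx1 (congrArg (fun b : H0 => ((b : C) : G)) e))
      (fun e => hxt (congrArg (fun b : H0 => ((b : C) : G)) e))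
    set k : G := ((h : C) : G)⁻¹ * ((h' : C) : G) with hk
    have ee : ((h' : C) : G) * x * ((h' : C) : G)⁻¹ = ((h : C) : G) * ((a : C) : G) * ((h : C) : G)⁻¹ :=
      congrArg (fun b : H0 => ((b : C) : G)) (e'.trans e.symm)
    refine ⟨k * gx, ?_⟩
    calc k * gx * t * (k * gx)⁻¹ = k * (gx * t * gx⁻¹) * k⁻¹ := by group
      _ = ((h : C) : G)⁻¹ * (((h' : C) : G) * x * ((h' : C) : G)⁻¹) * ((h : C) : G) := by rw [hgx, hk]; group
      _ = _ := by rw [ee]; group
  -- a Sylow subgroup of `C` has odd index in `G`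
  have hkerf : f.ker = zpowers z := by
    refine le_antisymm (fun a ha => ?_) (zpowers_le.2 hfz)
    rcases hpow a ha with e | e
    · rw [e]; exact one_mem _
    · rw [e]; exact mem_zpowers z
  have hS8 : Nat.card (Equiv.Perm (Fin 8)) = 40320 := by rw [Nat.card_perm, Nat.card_fin]; rfl
  have hCcard : Nat.card C = 80640 := by
    rw [← card_mul_index f.ker, index_ker, MonoidHom.range_eq_top.2 hf, card_top, hS8, hkerf,
      Nat.card_zpowers, hzo]
  haveI : Fact (Nat.Prime 2) := ⟨Nat.prime_two⟩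
  obtain ⟨P⟩ : Nonempty (Sylow 2 C) := inferInstance
  have hPo : Odd (P : Subgroup C).index := Nat.odd_iff.2 (Nat.two_dvd_ne_zero.1 P.not_dvd_index)
  have h256 : 256 ∣ Nat.card (P : Subgroup C) := by
    have h : 256 ∣ Nat.card (P : Subgroup C) * (P : Subgroup C).index := by
      rw [card_mul_index, hCcard]; norm_num
    exact (Nat.Coprime.pow_left 8 (Nat.coprime_two_left.2 hPo)).dvd_of_dvd_mul_right h
  have hzP : z ∈ (P : Subgroup C) := by
    haveI : (zpowers z).Normal := by rw [← hkerf]; infer_instance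
    have hp : IsPGroup 2 (zpowers z) := IsPGroup.of_card (n := 1) (by rw [Nat.card_zpowers, hzo, pow_one])
    have := P.3 (P.2.to_sup_of_normal_right hp) le_sup_left
    exact this ▸ mem_sup_right (mem_zpowers z)
  have hcentral : ∀ c : C, c * c = 1 → c ≠ 1 → (∀ p ∈ (P : Subgroup C), p * c = c * p) → c = z := by
    intro c hc2 hc1 hcp
    set ψ := f.comp (P : Subgroup C).subtype with hψ
    have hd : 128 ∣ Nat.card (centralizer ({f c} : Set (Equiv.Perm (Fin 8)))) := by
      have hle : ψ.range ≤ centralizer ({f c} : Set (Equiv.Perm (Fin 8))) := by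
        rintro _ ⟨p, rfl⟩
        rw [mem_centralizer_singleton_iff]
        show f p * f c = f c * f p
        rw [← map_mul, ← map_mul, hcp p p.2]
      have hk : Nat.card ψ.ker ∣ 2 := by
        let j : ψ.ker →* f.ker :=
          ((P : Subgroup C).subtype.comp ψ.ker.subtype).codRestrict f.ker (fun a => MonoidHom.mem_ker.2 a.2)
        have hj : Function.Injective j := fun a b e =>
          Subtype.ext (Subtype.ext (congrArg (fun w : f.ker => (w : C)) e))
        have := Subgroup.card_dvd_of_injective j hj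
        rwa [hkerf, Nat.card_zpowers, hzo] at this
      refine dvd_trans ?_ (Subgroup.card_dvd_of_le hle)
      rw [← index_ker]
      rw [← card_mul_index ψ.ker] at h256
      rcases (Nat.dvd_prime Nat.prime_two).1 hk with h | h <;> rw [h] at h256 <;> omega
    obtain ⟨hs, hsupp⟩ := sign_eq_one_of_centralizer (by rw [← map_mul, hc2, map_one]) hd
    by_contra hne
    obtain ⟨y, hy⟩ := hflip ⟨c, (hmem0 c).2 hs⟩ (Subtype.ext hc2)
      (fun e => hc1 (congrArg Subtype.val e)) (fun e => hne (congrArg Subtype.val e))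
    have hy' : (y : C) * c * (y : C)⁻¹ = c * z := congrArg Subtype.val hy
    set K := centralizer ({c} : Set C) with hK
    have hzc' : ∀ b : C, b ∈ K ↔ b * (c * z) = c * z * b := fun b => by
      rw [mem_centralizer_singleton_iff]
      constructor
      · intro e; rw [← mul_assoc, e, mul_assoc, hzc b, ← mul_assoc]
      · intro e
        rw [← mul_assoc, mul_assoc c z b, ← hzc b, ← mul_assoc] at e
        exact mul_right_cancel e
    have hyN : (y : C) ∈ normalizer (K : Set C) := by
      rw [mem_normalizer_iff]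
      intro b
      constructor
      · intro hb
        rw [hzc', ← hy']
        have e := mem_centralizer_singleton_iff.1 hb
        calc (y : C) * b * (y : C)⁻¹ * ((y : C) * c * (y : C)⁻¹) = (y : C) * (b * c) * (y : C)⁻¹ := by group
          _ = _ := by rw [e]; group
      · intro hb
        have e := (hzc' _).1 hb
        rw [← hy'] at e
        rw [mem_centralizer_singleton_iff]
        calc b * c = (y : C)⁻¹ * ((y : C) * b * (y : C)⁻¹ * ((y : C) * c * (y : C)⁻¹)) * (y : C) := by group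
          _ = c * b := by rw [e]; group
    have hynK : (y : C) ∉ K := fun h => by
      rw [mem_centralizer_singleton_iff.1 h, mul_inv_cancel_right] at hy'
      exact ht1 (congrArg Subtype.val (left_eq_mul.1 hy'))
    have hy2 : (y : C) * y ∈ K := by
      rw [mem_centralizer_singleton_iff, ← mul_inv_eq_iff_eq_mul]
      calc (y : C) * y * c * ((y : C) * y)⁻¹ = (y : C) * ((y : C) * c * (y : C)⁻¹) * (y : C)⁻¹ := by group
        _ = (y : C) * (c * z) * (y : C)⁻¹ := by rw [hy']
        _ = (y : C) * c * (y : C)⁻¹ * ((y : C) * z * (y : C)⁻¹) := by group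
        _ = c * z * z := by rw [hy', hzc (y : C), mul_inv_cancel_right]
        _ = c := by rw [mul_assoc, show z * z = 1 from Subtype.ext htt, mul_one]
    set N := normalizer (K : Set C) with hN
    have hKN : K ≤ N := le_normalizer
    haveI : (K.subgroupOf N).Normal := normal_in_normalizer
    have ho : orderOf (QuotientGroup.mk' (K.subgroupOf N) ⟨y, hyN⟩) = 2 := by
      refine orderOf_eq_prime ?_ ?_
      · rw [← map_pow]; exact (QuotientGroup.eq_one_iff _).2 (by rw [mem_subgroupOf, sq]; exact hy2)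
      · exact fun e => hynK (mem_subgroupOf.1 ((QuotientGroup.eq_one_iff (N := K.subgroupOf N) _).1 e))
    have h2K : 2 ∣ K.index := by
      refine dvd_trans ?_ (relIndex_dvd_index_of_le hKN)
      rw [relIndex, index_eq_card, ← ho]
      exact orderOf_dvd_natCard _
    have hPK : (P : Subgroup C) ≤ K := fun p hp => mem_centralizer_singleton_iff.2 (hcp p hp)
    exact (Nat.not_even_iff_odd.2 hPo) (even_iff_two_dvd.2 (h2K.trans (index_dvd_of_le hPK)))
  set P' := (P : Subgroup C).map C.subtype with hP'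
  have hP'o : Odd P'.index := by
    obtain ⟨R, hR⟩ := IsPGroup.exists_le_sylow (P.2.map C.subtype)
    haveI : Nontrivial R := by
      refine Subgroup.nontrivial_iff_exists_ne_one _ |>.2 ⟨t, hR ⟨z, hzP, rfl⟩, ht1⟩
    haveI := R.2.center_nontrivial
    obtain ⟨n, hn1⟩ := IsPGroup.iff_card.1 (R.2.to_subgroup (center R))
    obtain ⟨⟨c, hcZ⟩, hc⟩ := exists_prime_orderOf_dvd_card' 2 (G := center R) (by
      have : 1 < Nat.card (center R) := Finite.one_lt_card
      rw [hn1] at this ⊢
      exact dvd_pow_self 2 (fun e => by rw [e, pow_zero] at this; exact lt_irrefl 1 this))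
    have hc' : orderOf ((c : R) : G) = 2 := by
      rw [Subgroup.orderOf_coe]; exact (Subgroup.orderOf_coe (⟨c, hcZ⟩ : center R)).trans hc
    have hcR : ∀ r ∈ (R : Subgroup G), r * (c : G) = (c : G) * r := fun r hr =>
      congrArg Subtype.val (mem_center_iff.1 hcZ ⟨r, hr⟩)
    have hcC : (c : G) ∈ C := mem_centralizer_singleton_iff.2 (hcR t (hR ⟨z, hzP, rfl⟩)).symm
    have hcz := hcentral ⟨c, hcC⟩
      (Subtype.ext (show (c : G) * c = 1 from (sq _).symm.trans ((congrArg (fun k => (c : G) ^ k) hc'.symm).trans (pow_orderOf_eq_one _))))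
      (fun e => by
        have e' : (c : G) = 1 := congrArg Subtype.val e
        rw [e', orderOf_one] at hc'; exact absurd hc' (by norm_num))
      (fun p hp => Subtype.ext (hcR p (hR ⟨p, hp, rfl⟩)))
    have hct : (c : G) = t := congrArg Subtype.val hcz
    have hRC : (R : Subgroup G) ≤ C := fun r hr => mem_centralizer_singleton_iff.2 (by rw [← hct]; exact hcR r hr)
    have hRP : (R : Subgroup G) = P' := by
      have h1 : (R : Subgroup G).subgroupOf C = P :=
        P.3 (R.2.comap_of_injective C.subtype C.subtype_injective) (fun p hp => mem_subgroupOf.2 (hR ⟨p, hp, rfl⟩))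
      rw [hP', ← h1, subgroupOf_map_subtype, inf_of_le_left hRC]
    rw [← hRP]
    exact Nat.odd_iff.2 (Nat.two_dvd_ne_zero.1 R.not_dvd_index)
  -- transfer
  have hι0 : ι ∉ H0 := fun h => by
    rw [hmem0, hιs] at h; exact absurd h (by decide)
  have hH0i : H0.index = 2 := by
    rw [hH0, index_ker]
    have : (Equiv.Perm.sign.comp f).range = ⊤ :=
      MonoidHom.range_eq_top.2 ((Equiv.Perm.sign_surjective (Fin 8)).comp hf)
    rw [this, card_top]; simp
  have hrel : (((P : Subgroup C) ⊓ H0).map C.subtype).relIndex P' = 2 := by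
    rw [hP', relIndex_map_map_of_injective _ _ C.subtype_injective, inf_relIndex_left]
    have hdv : H0.relIndex (P : Subgroup C) ∣ 2 :=
      (relIndex_dvd_index_of_normal H0 (P : Subgroup C)).trans (dvd_of_eq hH0i)
    refine ((Nat.dvd_prime Nat.prime_two).1 hdv).resolve_left ?_
    intro h
    have := index_dvd_of_le (relIndex_eq_one.1 h)
    rw [hH0i] at this
    exact (Nat.not_even_iff_odd.2 hPo) (even_iff_two_dvd.2 this)
  obtain ⟨M, hM, hMi, hιM⟩ := (ThompsonTransfer.thompson_transfer P' _ hP'o hrel hιι).resolve_right (by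
    rintro ⟨g, a, ⟨-, ha⟩, hga⟩
    replace hga : (a : G) = g * ι * g⁻¹ := hga
    have h2 : a * a = 1 := Subtype.ext (show (a : G) * a = 1 by
      rw [hga, show g * (ι : G) * g⁻¹ * (g * ι * g⁻¹) = g * ((ι : G) * ι) * g⁻¹ by group, hιι, mul_one,
        mul_inv_cancel])
    have h1 : a ≠ 1 := fun e => hι0 (by
      rw [e, Subgroup.coe_one, eq_comm, conj_eq_one_iff] at hga
      rw [show ι = 1 from Subtype.ext hga]; exact one_mem _)
    obtain ⟨k, hk⟩ := hall ⟨a, ha⟩ (Subtype.ext h2) (fun e => h1 (congrArg Subtype.val e))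
    refine hιt (k⁻¹ * g) ?_
    calc k⁻¹ * g * ι * (k⁻¹ * g)⁻¹ = k⁻¹ * (g * ι * g⁻¹) * k := by group
      _ = t := by rw [← hga, ← hk]; group)
  haveI := hM
  have htM : t ∈ M := hqq ▸ mul_self_mem_of_index_two hMi (q : G)
  have hH0M : ∀ a : H0, ((a : C) : G) ∈ M := by
    set N0 := M.comap (C.subtype.comp H0.subtype) with hN0
    haveI : (N0.map f0).Normal := Subgroup.Normal.map inferInstance f0 hf0
    have hd : (N0.map f0).index ∣ 2 := by
      refine (index_map_dvd N0 hf0).trans ?_
      rw [hN0, index_comap, ← hMi]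
      exact relIndex_dvd_index_of_normal M _
    haveI := alternatingGroup.isSimpleGroup (α := Fin 8) (by simp)
    have htop : N0.map f0 = ⊤ := by
      refine (IsSimpleGroup.eq_bot_or_eq_top_of_normal _ inferInstance).resolve_left fun h => ?_
      rw [h, index_bot, McLUniq.card_alt8] at hd
      exact absurd (Nat.le_of_dvd two_pos hd) (by norm_num)
    intro a
    obtain ⟨b, hb, e⟩ := (htop ▸ mem_top (f0 a) : f0 a ∈ N0.map f0)
    have hba : f0 (b⁻¹ * a) = 1 := by rw [map_mul, map_inv, e, inv_mul_cancel]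
    have hb' : ((b : C) : G) ∈ M := hb
    rcases hker0 _ hba with h | h
    · rwa [← show b = a from inv_mul_eq_one.1 h]
    · rw [show a = b * z0 from by rw [← h, mul_inv_cancel_left]]
      exact mul_mem hb' htM
  have hM0 : ∀ a : C, (a : G) ∈ M → a ∈ H0 := fun a ha => by
    by_contra hn
    have hι' : ι⁻¹ * a ∈ H0 := by
      rw [hmem0] at hn ⊢
      rw [map_mul, map_mul, map_inv, map_inv, hιs, (Int.units_eq_one_or _).resolve_left hn]
      decide
    have h := hH0M ⟨_, hι'⟩
    refine hιM ?_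
    have e : (ι : G) = a * ((ι : G)⁻¹ * a)⁻¹ := by group
    rw [e]; exact mul_mem ha (inv_mem h)
  set tM : M := ⟨t, htM⟩ with htMdef
  have htMo : orderOf tM = 2 := by rw [← Subgroup.orderOf_coe]; exact ht
  let j : centralizer ({tM} : Set M) →* H0 :=
    { toFun := fun a => ⟨⟨((a : M) : G), mem_centralizer_singleton_iff.2
        (congrArg Subtype.val (mem_centralizer_singleton_iff.1 a.2))⟩, hM0 _ (a : M).2⟩
      map_one' := rfl
      map_mul' := fun _ _ => rfl }
  have hj : ∀ b : H0, ∃ a, j a = b := fun b =>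
    ⟨⟨⟨((b : C) : G), hH0M b⟩, mem_centralizer_singleton_iff.2
      (Subtype.ext (mem_centralizer_singleton_iff.1 (b : C).2))⟩, rfl⟩
  have hfusM : ∃ g : M, g * tM * g⁻¹ ∈ centralizer ({tM} : Set M) ∧ g * tM * g⁻¹ ≠ tM := by
    have key : ∀ g : M, (g : G) * t * (g : G)⁻¹ = x → g * tM * g⁻¹ ∈ centralizer ({tM} : Set M) ∧ g * tM * g⁻¹ ≠ tM :=
      fun g hg => ⟨mem_centralizer_singleton_iff.2 (Subtype.ext (show (g : G) * t * (g : G)⁻¹ * t =
        t * ((g : G) * t * (g : G)⁻¹) by rw [hg]; exact mem_centralizer_singleton_iff.1 x.2)),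
        fun e => hxt (hg.symm.trans (congrArg Subtype.val e))⟩
    by_cases hgM : gx ∈ M
    · exact ⟨⟨gx, hgM⟩, key _ hgx⟩
    · have hm : gx * ι ∈ M := (mul_mem_iff_of_index_two hMi).2 (iff_of_false hgM hιM)
      refine ⟨⟨gx * ι, hm⟩, key _ ?_⟩
      show gx * ι * t * (gx * ι)⁻¹ = x
      rw [mul_assoc gx, mem_centralizer_singleton_iff.1 ι.2, ← hgx]; group
  obtain ⟨e⟩ := mcl_of_alt hU htMo (f0.comp j)
    (fun π => by obtain ⟨b, hb⟩ := hf0 π; obtain ⟨a, rfl⟩ := hj b; exact ⟨a, hb⟩)
    (fun a => by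
      constructor
      · intro h
        rcases hker0 _ h with h' | h'
        · have : (a : M) = 1 := Subtype.ext (congrArg (fun b : H0 => ((b : C) : G)) h')
          rw [this]; exact one_mem _
        · have : (a : M) = tM := Subtype.ext (congrArg (fun b : H0 => ((b : C) : G)) h')
          rw [this]; exact mem_zpowers tM
      · intro h
        obtain ⟨k, hk⟩ := mem_zpowers_iff.1 h
        refine Subtype.ext ((hker (j a : C)).2 (mem_zpowers_iff.2 ⟨k, ?_⟩))
        show t ^ k = ((a : M) : G)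
        rw [← hk, SubgroupClass.coe_zpow])
    ⟨⟨(q : G), hH0M q0⟩, mem_centralizer_singleton_iff.2
      (Subtype.ext (mem_centralizer_singleton_iff.1 q.2)), Subtype.ext hqq⟩ hfusM
  -- the automorphism group
  right
  obtain ⟨g0, -, hg0⟩ := hfusM
  have hcent : ∀ c : G, (∀ m ∈ M, m * c = c * m) → c = 1 := by
    intro c hc
    have hcC : c ∈ C := mem_centralizer_singleton_iff.2 (hc t htM).symm
    have hfc : f ⟨c, hcC⟩ ∈ centralizer (alternatingGroup (Fin 8) : Set (Equiv.Perm (Fin 8))) := by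
      intro π hπ
      obtain ⟨b, hb⟩ := hf0 ⟨π, hπ⟩
      rw [← show f (b : C) = π from congrArg Subtype.val hb, ← map_mul, ← map_mul]
      exact congrArg f (Subtype.ext (hc _ (hH0M b)))
    rw [ThompsonWielandt.centralizer_alternating (by simp), mem_bot] at hfc
    rcases hpow _ hfc with h | h
    · exact congrArg Subtype.val h
    · exfalso
      have hct : c = t := congrArg Subtype.val h
      refine hg0 (Subtype.ext ?_)
      show (g0 : G) * t * (g0 : G)⁻¹ = t
      rw [← hct, hc g0 g0.2, mul_inv_cancel_right]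
  let ψ : G →* MulAut M := MulAut.conjNormal
  have hψ : Function.Injective ψ := by
    rw [injective_iff_map_eq_one]
    intro c hc
    refine hcent c fun m hm => ?_
    have h : c * m * c⁻¹ = m := by
      have := congrArg Subtype.val (DFunLike.congr_fun hc (⟨m, hm⟩ : M))
      simpa [ψ] using this
    exact (mul_inv_eq_iff_eq_mul.1 h).symm
  have hinn : Nat.card (Cfsg.Inn M) = Nat.card M := by
    refine (Nat.card_congr (MonoidHom.ofInjective (f := MulAut.conj (G := M)) ?_).toEquiv).symm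
    rw [injective_iff_map_eq_one]
    intro a ha
    refine Subtype.ext (hcent a fun m hm => ?_)
    have h : a * (⟨m, hm⟩ : M) * a⁻¹ = ⟨m, hm⟩ := DFunLike.congr_fun ha (⟨m, hm⟩ : M)
    exact (congrArg Subtype.val (mul_inv_eq_iff_eq_mul.1 h)).symm
  have hout : Nat.card (Cfsg.Out M) = 2 := (OutConway.card_out_congr e).trans Cfsg.Agent.S2073.result
  have hG : Nat.card (MulAut M) = Nat.card G := by
    rw [card_eq_card_quotient_mul_card_subgroup (Cfsg.Inn M), hout, hinn, ← card_mul_index M, hMi, mul_comm]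
  exact ⟨(MulEquiv.ofBijective ψ (hψ.bijective_of_nat_card_le hG.le)).trans (MulAut.congr e)⟩

end CfsgLib.McLThree
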