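import Cfsg.Agent.McLThree.ToEight
import Cfsg.Agent.McLThree.Diag
import Cfsg.Agent.McLThree.Eight
import Cfsg.Agent.McLThree.EightPerm
import Cfsg.Agent.McLThree.Finish

/-!
The group is McLaughlin's or its automorphism group, given the local configuration.
-/

set_option autoImplicit false
set_option maxHeartbeats 400000

namespace CfsgLib.McLThree

open Subgroup

universe u

variable {G : Type u} [Group G] [Finite G]

namespace Local

variable (P : Local G)

theorem Ht_conj_D {w : G} (hw : w * P.t = P.t * w) (h3 : w * w * w = 1) :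
    ∃ k : G, k * P.t = P.t * k ∧ k * w * k⁻¹ ∈ P.toCtx.D := by
  haveI : Fact (Nat.Prime 3) := ⟨Nat.prime_three⟩
  have hD : IsPGroup 3 (P.toCtx.D.subgroupOf P.Ht) :=
    (IsPGroup.of_card (n := 2) (by rw [P.toCtx.card_D]; norm_num)).of_equiv
      (subgroupOfEquivOfLe P.D_le_Ht).symm
  obtain ⟨T, hT⟩ := hD.exists_le_sylow
  have hTeq : P.toCtx.D.subgroupOf P.Ht = (T : Subgroup P.Ht) := eq_of_le_of_card_ge hT (by
    rw [Nat.card_congr (subgroupOfEquivOfLe P.D_le_Ht).toEquiv, P.toCtx.card_D]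
    exact Nat.le_of_dvd (by norm_num) (P.sylow_Ht T.2))
  set w' : P.Ht := ⟨w, P.mem_Ht.2 hw⟩ with hw'
  have hwp : IsPGroup 3 (zpowers w') := by
    have hc : (w' : P.Ht) ^ 3 = 1 := Subtype.ext (by show w ^ 3 = 1; rw [pow_three']; exact h3)
    obtain ⟨j, -, hj⟩ := (Nat.dvd_prime_pow Nat.prime_three).1
      (show orderOf w' ∣ 3 ^ 1 by rw [pow_one]; exact orderOf_dvd_of_pow_eq_one hc)
    exact IsPGroup.of_card (n := j) (by rw [Nat.card_zpowers, hj])
  obtain ⟨T', hT'⟩ := hwp.exists_le_sylow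
  obtain ⟨k, hk⟩ := MulAction.exists_smul_eq P.Ht T' T
  refine ⟨k, P.mem_Ht.1 k.2, ?_⟩
  have : k * w' * k⁻¹ ∈ (T : Subgroup P.Ht) := by
    rw [← hk]
    exact (Subgroup.mem_smul_pointwise_iff_exists _ _ _).2 ⟨w', hT' (mem_zpowers _), rfl⟩
  rw [← hTeq, mem_subgroupOf] at this
  exact this

/-- An involution of `C(t)` centralising `Z` and conjugate to `t` lies in `L`. -/
theorem mem_CL_of_conj {u h : G} (hu : u * P.t = P.t * u) (huz : u * P.zz = P.zz * u)
    (hh : h * P.t * h⁻¹ = u) : u ∈ P.toCtx.CL := by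
  have hw : h⁻¹ * P.zz * h * P.t = P.t * (h⁻¹ * P.zz * h) := by
    rw [← hh] at huz
    calc h⁻¹ * P.zz * h * P.t = h⁻¹ * (P.zz * (h * P.t * h⁻¹)) * h := by group
      _ = h⁻¹ * (h * P.t * h⁻¹ * P.zz) * h := by rw [huz]
      _ = P.t * (h⁻¹ * P.zz * h) := by group
  obtain ⟨k, hk, hkD⟩ := P.Ht_conj_D hw (by
    have := conj_cube (x := h⁻¹) P.zz P.zz_cube
    simpa [mul_assoc] using this)
  set n := h * k⁻¹ with hn
  have hnt : n * P.t * n⁻¹ = u := by
    rw [← hh, hn, show h * k⁻¹ * P.t * (h * k⁻¹)⁻¹ = h * (k⁻¹ * (P.t * k)) * h⁻¹ by group, ← hk,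
      inv_mul_cancel_left]
  have hnD : n⁻¹ * P.zz * n ∈ P.toCtx.D := by
    rw [hn, show (h * k⁻¹)⁻¹ * P.zz * (h * k⁻¹) = k * (h⁻¹ * P.zz * h) * k⁻¹ by group]
    exact hkD
  have key : ∀ m : G, m * P.t * m⁻¹ = u → m⁻¹ * P.zz * m ∈ P.Z → u ∈ P.toCtx.CL := by
    intro m hm hmz
    have hN : m⁻¹ ∈ normalizer (P.Z : Set G) := by
      rw [← P.zpowers_zz]
      refine ThreeLocalEight.mem_normalizer_zpowers_of ?_
      rw [inv_inv, P.zpowers_zz]; exact hmz
    refine P.toCtx.mem_CL.2 ⟨?_, hu⟩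
    rw [← hm]
    exact P.L_normal m (inv_mem_iff.1 hN) _ P.t_mem
  rcases P.singular_D hnD (h := n⁻¹) (by rw [inv_inv]) with e | e
  · exact key n hnt e
  · refine key (n * P.g) ?_ ?_
    · rw [← hnt, show n * P.g * P.t * (n * P.g)⁻¹ = n * (P.g * P.t * P.g⁻¹) * n⁻¹ by group, P.g_t,
        mul_inv_cancel_right]
    · obtain ⟨i, hi⟩ := mem_zpowers_iff.1 e
      rw [show (n * P.g)⁻¹ * P.zz * (n * P.g) = P.g⁻¹ * (n⁻¹ * P.zz * n) * P.g by group, ← hi]
      have hy : P.g⁻¹ * P.y * P.g = P.zz := by rw [← P.g_z]; group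
      have := conj_zpow (a := P.g⁻¹) (b := P.y) (i := i)
      rw [inv_inv, hy] at this
      rw [← this, ← P.zpowers_zz]
      exact zpow_mem (mem_zpowers _) i

variable (hx0 : centralizer ({P.zz * P.y} : Set G) ≤ normalizer (P.J : Set G))

include hx0 in
/-- The centralizer of a non-singular element of `D` normalises `J`. -/
theorem cent_nonsingular {b : G} (hb : b ∈ P.toCtx.D) (hbz : b ∉ P.Z) (hby : b ∉ zpowers P.y) :
    centralizer ({b} : Set G) ≤ normalizer (P.J : Set G) := by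
  have hconj : ∀ a x : G, x ∈ normalizer (P.J : Set G) →
      centralizer ({a} : Set G) ≤ normalizer (P.J : Set G) →
      centralizer ({x * a * x⁻¹} : Set G) ≤ normalizer (P.J : Set G) := by
    intro a x hx h w hw
    have hw' := mem_centralizer_singleton_iff.1 hw
    have h1 : x⁻¹ * w * x ∈ centralizer ({a} : Set G) := mem_centralizer_singleton_iff.2 (by
      calc x⁻¹ * w * x * a = x⁻¹ * (w * (x * a * x⁻¹)) * x := by group
        _ = x⁻¹ * (x * a * x⁻¹ * w) * x := by rw [hw']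
        _ = _ := by group)
    have := mul_mem (mul_mem hx (h h1)) (inv_mem hx)
    simpa [mul_assoc] using this
  have hinv : ∀ a : G, centralizer ({a} : Set G) ≤ normalizer (P.J : Set G) →
      centralizer ({a⁻¹} : Set G) ≤ normalizer (P.J : Set G) := fun a h => by
    rw [ThreeLocalEight.centralizer_inv_singleton]; exact h
  have he : P.e ∈ normalizer (P.J : Set G) := P.toCtx.normalizer_S_le P.e_normS
  have h1 : P.e * (P.zz * P.y) * P.e⁻¹ = P.zz * P.y⁻¹ := by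
    rw [← conj_mul, P.e_z, P.toFrame.e_y_conj]
  have hcy : Commute P.zz P.y := P.toFrame.D_comm P.zz_D P.y_D
  obtain ⟨w, hw, j, rfl⟩ := P.D_gen b hb
  rw [← P.zpowers_zz] at hw
  have hj : (j : ℕ) = 0 ∨ (j : ℕ) = 1 ∨ (j : ℕ) = 2 := by omega
  have hy2 : P.y ^ 2 = P.y⁻¹ := (inv_eq_of_mul_eq_one_right (by rw [sq, ← mul_assoc, P.y_cube])).symm
  rcases ThreeLocalEight.zpowers_three (by rw [pow_three']; exact P.zz_cube) hw with e | e | e <;>
    rcases hj with ej | ej | ej <;> simp only [e, ej, pow_zero, pow_one, hy2, mul_one, one_mul] at hbz hby ⊢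
  · exact absurd (one_mem _) hbz
  · exact absurd (mem_zpowers _) hby
  · exact absurd (inv_mem (mem_zpowers _)) hby
  · exact absurd P.zz_mem hbz
  · exact hx0
  · rw [← h1]; exact hconj _ _ he hx0
  · exact absurd (inv_mem P.zz_mem) hbz
  · rw [show P.zz⁻¹ * P.y = (P.e * (P.zz * P.y) * P.e⁻¹)⁻¹ by
      rw [h1, mul_inv_rev, inv_inv, (Commute.inv_left hcy).eq]]
    exact hinv _ (hconj _ _ he hx0)
  · rw [show P.zz⁻¹ * P.y⁻¹ = (P.zz * P.y)⁻¹ by rw [mul_inv_rev, (hcy.inv_inv).eq]]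
    exact hinv _ hx0

include hx0 in
/-- An involution conjugate to `t` fixing a non-singular element of `J` lies in `M`. -/
theorem mem_M_of_conj {u h a : G} (ha : a ∈ P.J) (ha1 : a ≠ 1)
    (hns : ∀ x : G, x * P.zz * x⁻¹ ≠ a) (hns' : ∀ x : G, x * P.zz * x⁻¹ ≠ a⁻¹)
    (hua : u * a = a * u) (hh : h * P.t * h⁻¹ = u) : u ∈ P.M := by
  have hw : h⁻¹ * a * h * P.t = P.t * (h⁻¹ * a * h) := by
    rw [← hh] at hua
    calc h⁻¹ * a * h * P.t = h⁻¹ * (a * (h * P.t * h⁻¹)) * h := by group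
      _ = h⁻¹ * (h * P.t * h⁻¹ * a) * h := by rw [hua]
      _ = P.t * (h⁻¹ * a * h) := by group
  obtain ⟨k, hk, hkD⟩ := P.Ht_conj_D hw (by
    have := conj_cube (x := h⁻¹) a (P.J_cube a ha)
    simpa [mul_assoc] using this)
  set n := h * k⁻¹ with hn
  have hnt : n * P.t * n⁻¹ = u := by
    rw [← hh, hn, show h * k⁻¹ * P.t * (h * k⁻¹)⁻¹ = h * (k⁻¹ * (P.t * k)) * h⁻¹ by group, ← hk,
      inv_mul_cancel_left]
  set b := n⁻¹ * a * n with hb
  have hbD : b ∈ P.toCtx.D := by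
    rw [hb, hn, show (h * k⁻¹)⁻¹ * a * (h * k⁻¹) = k * (h⁻¹ * a * h) * k⁻¹ by group]
    exact hkD
  have hsing : ∀ v : G, v * P.zz * v⁻¹ = b → False := fun v hv => hns (n * v) (by
    rw [show n * v * P.zz * (n * v)⁻¹ = n * (v * P.zz * v⁻¹) * n⁻¹ by group, hv, hb]; group)
  have hsing' : ∀ v : G, v * P.zz * v⁻¹ = b⁻¹ → False := fun v hv => hns' (n * v) (by
    rw [show n * v * P.zz * (n * v)⁻¹ = n * (v * P.zz * v⁻¹) * n⁻¹ by group, hv, hb]; group)
  have hb1 : b ≠ 1 := fun e => ha1 (by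
    calc a = n * (n⁻¹ * a * n) * n⁻¹ := by group
      _ = 1 := by rw [← hb, e]; group)
  have hbz : b ∉ P.Z := by
    intro hm
    rw [← P.zpowers_zz] at hm
    rcases ThreeLocalEight.zpowers_three (by rw [pow_three']; exact P.zz_cube) hm with e | e | e
    · exact hb1 e
    · exact hsing 1 (by rw [e]; group)
    · exact hsing' 1 (by rw [e]; group)
  have hby : b ∉ zpowers P.y := by
    intro hm
    rcases P.y_pow_cases hm with e | e | e
    · exact hb1 e
    · exact hsing P.g (by rw [e, P.g_z])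
    · exact hsing' P.g (by rw [e, inv_inv, P.g_z])
  obtain ⟨m, hm, hmb⟩ := P.toCtx.fusion_J (h := n⁻¹) ha (P.toCtx.D_le_J hbD) (by rw [hb, inv_inv])
  have hmn : m * n ∈ centralizer ({b} : Set G) := mem_centralizer_singleton_iff.2
    (mul_inv_eq_iff_eq_mul.1 (by
      rw [show m * n * b * (m * n)⁻¹ = m * (n * b * n⁻¹) * m⁻¹ by group,
        show n * b * n⁻¹ = a by rw [hb]; group, hmb]))
  have hnJ : n ∈ normalizer (P.J : Set G) := by
    have := mul_mem (inv_mem hm) (P.cent_nonsingular hx0 hbD hbz hby hmn)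
    rwa [inv_mul_cancel_left] at this
  rw [← hnt]
  exact P.M_normal n hnJ _ (P.c_sq ▸ mul_mem P.c_M P.c_M)

/-- An element of `R` moved off `Z` and inverted by `t`. -/
theorem exists_inverted : ∃ r ∈ P.R, r ∉ P.Z ∧ P.t * r * P.t = r⁻¹ := by
  obtain ⟨v, hvR, hvZ⟩ : ∃ v ∈ P.R, v ∉ P.Z := by
    by_contra hc
    push Not at hc
    have := card_le_of_le (show P.R ≤ P.Z from hc)
    rw [P.toData.card_R, P.Z_card] at this
    omega
  have hw : P.t * v * P.t ∈ P.R := ⟨P.toCtx.t_J hvR.1, P.toCtx.t_Q hvR.2⟩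
  refine ⟨v⁻¹ * (P.t * v * P.t), mul_mem (inv_mem hvR) hw, fun hz => ?_, ?_⟩
  · refine hvZ (P.toCtx.t_swap_Z hvR.2 ?_)
    have e : P.t * v * P.t * v⁻¹ = v * (v⁻¹ * (P.t * v * P.t)) * v⁻¹ := by group
    rw [e, ← P.toData.Z_comm_Q hvR.2 hz, mul_inv_cancel_right]
    exact hz
  · have ht := P.t_sq
    rw [mul_inv_rev, inv_inv,
      show P.t * (v⁻¹ * (P.t * v * P.t)) * P.t = P.t * v⁻¹ * P.t * v * (P.t * P.t) by group, ht, mul_one]
    have hti := P.toCtx.t_inv_eq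
    calc P.t * v⁻¹ * P.t * v = (P.t * v * P.t)⁻¹ * v := by rw [mul_inv_rev, mul_inv_rev, hti]; group
      _ = _ := rfl

theorem facts_c : P.c * P.t = P.t * P.c := by rw [← P.c_sq, mul_assoc]

include hx0 in
/-- One of the two lifts of an odd inverter of `D` is not conjugate to `t`. -/
theorem exists_not_conj {d : G} (hdt : d * P.t = P.t * d) (hdz : d * P.zz = P.zz * d)
    (hdy : d * P.y = P.y * d) (hdd : d * d = P.t) (hdc : d * P.c = P.c * d) (hdM : d ∉ P.M) :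
    ∃ v : G, (v = d * P.c ∨ v = d * P.c * P.t) ∧ ∀ x : G, x * P.t * x⁻¹ ≠ v := by
  obtain ⟨r, hr, hrZ, hrt⟩ := P.exists_inverted
  have hu1 : d * P.c * (d * P.c) = 1 := by
    calc d * P.c * (d * P.c) = d * (P.c * d) * P.c := by group
      _ = d * (d * P.c) * P.c := by rw [hdc]
      _ = (d * d) * (P.c * P.c) := by group
      _ = 1 := by rw [hdd, P.c_sq, P.t_sq]
  set u := d * P.c with hu
  have huz : u * P.zz * u⁻¹ = P.zz⁻¹ := by
    rw [hu, show d * P.c * P.zz * (d * P.c)⁻¹ = d * (P.c * P.zz * P.c⁻¹) * d⁻¹ by group,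
      P.c_z, (Commute.inv_right (hdz : Commute d P.zz)).eq, mul_inv_cancel_right]
  have huy : u * P.y * u⁻¹ = P.y⁻¹ := by
    rw [hu, show d * P.c * P.y * (d * P.c)⁻¹ = d * (P.c * P.y * P.c⁻¹) * d⁻¹ by group,
      P.c_y, (Commute.inv_right (hdy : Commute d P.y)).eq, mul_inv_cancel_right]
  have huN : u ∈ normalizer (P.Z : Set G) := by
    rw [← P.zpowers_zz]
    refine ThreeLocalEight.mem_normalizer_zpowers_of ?_
    rw [huz]; exact inv_mem (mem_zpowers _)
  have hconjR : u * r * u⁻¹ ∈ P.R := P.toFrame.conj_R huN (Or.inr huy) hr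
  have htM : P.t ∈ P.M := P.c_sq ▸ mul_mem P.c_M P.c_M
  have hgood : ∀ v : G, v * P.zz * v⁻¹ = P.zz⁻¹ → (v = u ∨ v = u * P.t) →
      (∃ a ∈ P.R, a ≠ 1 ∧ v * a = a * v) → ∀ x : G, x * P.t * x⁻¹ ≠ v := by
    rintro v hvz hvu ⟨a, haR, ha1, hav⟩ x hx
    have haZ : a ∉ P.Z := by
      intro h
      rw [← P.zpowers_zz] at h
      obtain ⟨i, rfl⟩ := mem_zpowers_iff.1 h
      have h1 : v * P.zz ^ i * v⁻¹ = P.zz⁻¹ ^ i := by rw [← conj_zpow, hvz]
      rw [hav, mul_inv_cancel_right, inv_zpow] at h1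
      exact inv_ne (by
        rw [← (Commute.refl P.zz).mul_zpow, ← ((Commute.refl P.zz).mul_left
          (Commute.refl P.zz)).mul_zpow, P.zz_cube, one_zpow]) ha1 h1.symm
    have hns : ∀ w : G, w * P.zz * w⁻¹ ≠ a := fun w hw => haZ (P.singular_Q haR.1 haR.2 hw)
    have hns' : ∀ w : G, w * P.zz * w⁻¹ ≠ a⁻¹ := fun w hw =>
      haZ (inv_mem_iff.1 (P.singular_Q (inv_mem haR.1) (inv_mem haR.2) hw))
    have hvM := P.mem_M_of_conj hx0 haR.1 ha1 hns hns' hav hx
    refine hdM ?_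
    rcases hvu with e1 | e1 <;> rw [e1, hu] at hvM
    · simpa using mul_mem hvM (inv_mem P.c_M)
    · simpa using mul_mem (mul_mem hvM (inv_mem htM)) (inv_mem P.c_M)
  by_cases hfix : u * r * u⁻¹ = r⁻¹
  · refine ⟨u * P.t, Or.inr rfl, hgood (u * P.t) ?_ (Or.inr rfl) ⟨r, hr, fun h => hrZ (h ▸ one_mem _), ?_⟩⟩
    · rw [show u * P.t * P.zz * (u * P.t)⁻¹ = u * (P.t * P.zz * P.t⁻¹) * u⁻¹ by group,
        ← P.toCtx.t_comm_Z P.zz_mem, mul_inv_cancel_right, huz]
    · refine mul_inv_eq_iff_eq_mul.1 ?_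
      rw [show u * P.t * r * (u * P.t)⁻¹ = u * (P.t * r * P.t⁻¹) * u⁻¹ by group,
        P.toCtx.t_inv_eq, hrt, ← conj_inv, hfix, inv_inv]
  · refine ⟨u, Or.inl rfl, hgood u huz (Or.inl rfl)
      ⟨r * (u * r * u⁻¹), mul_mem hr hconjR, fun h => hfix (eq_inv_of_mul_eq_one_right h), ?_⟩⟩
    refine mul_inv_eq_iff_eq_mul.1 ?_
    have e2 : u * (u * r * u⁻¹) * u⁻¹ = r := by
      rw [show u * (u * r * u⁻¹) * u⁻¹ = (u * u) * r * (u * u)⁻¹ by group, hu1]
      group
    rw [← conj_mul, e2]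
    exact P.J_comm _ hconjR.1 _ hr.1

include hx0 in
/-- The recognition from the local configuration. -/
theorem conclusion (hU : CentStatement.{u}) :
    Nonempty (G ≃* Cfsg.Spor.McL) ∨ Nonempty (G ≃* MulAut Cfsg.Spor.McL) := by
  classical
  have hdiag : ∀ x : G, x * P.t = P.t * x → x * (P.zz * P.y) = P.zz * P.y * x →
      x * P.zz * x⁻¹ ∈ P.toCtx.D ∧ x * P.y * x⁻¹ ∈ P.toCtx.D := by
    intro x hxt hx
    have hN := hx0 (mem_centralizer_singleton_iff.2 hx)
    have key : ∀ a ∈ P.toCtx.D, x * a * x⁻¹ ∈ P.toCtx.D := fun a ha =>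
      P.toFrame.mem_D_of_J ((mem_normalizer_iff.1 hN a).1 (P.toCtx.D_le_J ha))
        ((Commute.mul_left (Commute.mul_left hxt (P.toCtx.mem_D.1 ha).2) (Commute.inv_left hxt)).eq)
    exact ⟨key _ P.zz_D, key _ P.y_D⟩
  obtain ⟨E, hEz, hEy, hEc, hEg⟩ := P.exists_eight hdiag
  have ht2 : orderOf P.t = 2 := P.toCtx.order_t
  set z : P.Ht := ⟨P.zz, P.D_le_Ht P.zz_D⟩ with hz
  set y : P.Ht := ⟨P.y, P.D_le_Ht P.y_D⟩ with hy
  set c : P.Ht := ⟨P.c, P.mem_Ht.2 P.facts_c⟩ with hc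
  set g : P.Ht := ⟨P.g, P.mem_Ht.2 P.g_t⟩ with hg
  have hgt : P.g ≠ P.t := fun e => by
    have h1 := P.g_z
    rw [e, ← P.toCtx.t_comm_Z P.zz_mem, mul_inv_cancel_right] at h1
    exact P.y_Q (h1 ▸ P.Z_le_Q P.zz_mem)
  rcases E.result with ⟨⟨ψ⟩⟩ | ⟨⟨ψ⟩⟩
  · left
    refine mcl_of_alt hU ht2 (ψ.toMonoidHom.comp (QuotientGroup.mk' P.Tt))
      (ψ.surjective.comp (QuotientGroup.mk'_surjective _)) (fun x => ?_)
      ⟨P.c, P.mem_Ht.2 P.facts_c, P.c_sq⟩ ?_
    · rw [MonoidHom.comp_apply, MulEquiv.coe_toMonoidHom, MulEquiv.map_eq_one_iff,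
        QuotientGroup.mk'_apply, QuotientGroup.eq_one_iff, mem_subgroupOf]
    · obtain ⟨x, hx⟩ := P.g_conj
      exact ⟨x, hx.symm ▸ P.mem_Ht.2 P.g_t, hx.symm ▸ hgt⟩
  -- the symmetric case
  set f0 : P.Ht →* Equiv.Perm (Fin 8) := ψ.toMonoidHom.comp (QuotientGroup.mk' P.Tt) with hf0
  have hsurj0 : Function.Surjective f0 := ψ.surjective.comp (QuotientGroup.mk'_surjective _)
  have hker0 : ∀ x, f0 x = 1 ↔ (x : G) ∈ zpowers P.t := fun x => by
    rw [hf0, MonoidHom.comp_apply, MulEquiv.coe_toMonoidHom, MulEquiv.map_eq_one_iff,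
      QuotientGroup.mk'_apply, QuotientGroup.eq_one_iff, mem_subgroupOf]
  -- the images of `z` and `y` are three-cycles
  have hcube : ∀ a : P.Ht, (a : G) * a * a = 1 → f0 a ^ 3 = 1 := fun a ha => by
    rw [← map_pow, show a ^ 3 = 1 from Subtype.ext (by
      rw [SubmonoidClass.coe_pow, pow_three']; exact ha), map_one]
  have hne : ∀ a : P.Ht, (a : G) * a * a = 1 → (a : G) ≠ 1 → f0 a ≠ 1 := fun a ha ha1 h => by
    rcases P.mem_zpowers_t.1 ((hker0 a).1 h) with e | e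
    · exact ha1 e
    · rw [e, P.t_sq, one_mul] at ha
      exact P.toCtx.t_ne_one ha
  obtain ⟨v, hv5, hv1, hvz⟩ : ∃ v : P.Ht, f0 v ^ 5 = 1 ∧ f0 v ≠ 1 ∧ f0 z * f0 v = f0 v * f0 z := by
    obtain ⟨w, hw⟩ := P.toCtx.gE_bijective.2 SL5.up
    have hwt : (w : G) ∈ P.Ht := P.mem_Ht.2 (P.toCtx.E_t w.2)
    refine ⟨⟨w, hwt⟩, ?_, fun h => ?_, ?_⟩
    · have h5 : w ^ 5 = 1 := P.toCtx.gE_bijective.1 (by rw [map_pow, hw, map_one, SL5.up_facts.1])
      rw [← map_pow, show (⟨w, hwt⟩ : P.Ht) ^ 5 = 1 from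
        Subtype.ext (by simpa using congrArg Subtype.val h5), map_one]
    · rcases P.mem_zpowers_t.1 ((hker0 _).1 h) with e | e
      · exact SL5.up_facts.2.1 (by rw [← hw, show w = 1 from Subtype.ext e, map_one])
      · have h2 := P.sq_t.2 e
        rw [hw] at h2
        exact absurd h2 (by decide +kernel)
    · rw [← map_mul, ← map_mul]
      exact congrArg f0 (Subtype.ext (P.toCtx.E_Z w.2 P.zz_mem))
  have hz3 := S8.threeCycle_of_five (hcube z P.zz_cube) (hne z P.zz_cube P.zz_ne) hv5 hv1 hvz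
  have hgz : g * z * g⁻¹ = y := Subtype.ext P.g_z
  have hy3 : (f0 y).IsThreeCycle := by
    show (f0 y).cycleType = {3}
    rw [← hgz, map_mul, map_mul, map_inv, Equiv.Perm.cycleType_conj]
    exact hz3.cycleType
  have hzy : z * y = y * z := Subtype.ext (P.toFrame.D_comm P.zz_D P.y_D)
  have hexact : ∀ a b : P.Ht, (a : G) * a * a = 1 → (b : G) * b * b = 1 → f0 a = f0 b → (a : G) = b := by
    intro a b ha hb h
    refine P.eq_of_mod (P.mem_Ht.1 b.2) ha hb ((hker0 (b⁻¹ * a)).1 ?_)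
    rw [map_mul, map_inv, h, inv_mul_cancel]
  obtain ⟨σ, hσz, hσy⟩ := S8.normalise hz3 hy3 (by rw [← map_mul, hzy, map_mul])
    (fun h => P.y_Q (by
      have := hexact y z P.y_cube P.zz_cube h
      change P.y = P.zz at this
      rw [this]; exact P.Z_le_Q P.zz_mem))
    (fun h => P.y_Q (by
      have := hexact y (z * z) P.y_cube
        (P.cube_of_D (mul_mem P.zz_D P.zz_D)) (by rw [map_mul]; exact h)
      change P.y = P.zz * P.zz at this
      rw [this]; exact P.Q.mul_mem (P.Z_le_Q P.zz_mem) (P.Z_le_Q P.zz_mem)))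
  set f1 : P.Ht →* Equiv.Perm (Fin 8) := (MulAut.conj σ).toMonoidHom.comp f0 with hf1
  have hf1z : f1 z = S8.pA := hσz
  have hf1y : f1 y = S8.pB := hσy
  have hsg : ∀ a : P.Ht, Equiv.Perm.sign (f1 a) = Equiv.Perm.sign (f0 a) := fun a => by
    show Equiv.Perm.sign (σ * f0 a * σ⁻¹) = _
    rw [map_mul, map_mul, map_inv, mul_comm, ← mul_assoc, inv_mul_cancel, one_mul]
  -- `c` is even
  have hcs : Equiv.Perm.sign (f1 c) = 1 := by
    obtain ⟨i, j, hge⟩ := E.ge_sq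
    have := congrArg (fun q => Equiv.Perm.sign (ψ q)) hge
    rw [hEc, hEz, hEy] at this
    simp only [map_mul, map_pow] at this
    rw [Int.units_mul_self] at this
    have hA : Equiv.Perm.sign (f1 z) = 1 := by rw [hf1z]; exact S8.facts.2.2.2.2.2.2.2.2.2.2.2.1
    have hB : Equiv.Perm.sign (f1 y) = 1 := by rw [hf1y]; exact S8.facts.2.2.2.2.2.2.2.2.2.2.2.2
    rw [hsg] at hA hB ⊢
    change 1 = Equiv.Perm.sign (f0 c) * (Equiv.Perm.sign (f0 z) ^ (i : ℕ) * Equiv.Perm.sign (f0 y) ^ (j : ℕ)) at this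
    rw [hA, hB, one_pow, one_pow, mul_one, mul_one] at this
    exact this.symm
  have hinvA : f1 c * S8.pA * (f1 c)⁻¹ = S8.pA⁻¹ := by
    rw [← hf1z, ← map_inv, ← map_inv, ← map_mul, ← map_mul]
    exact congrArg f1 (Subtype.ext P.c_z)
  have hinvB : f1 c * S8.pB * (f1 c)⁻¹ = S8.pB⁻¹ := by
    rw [← hf1y, ← map_inv, ← map_inv, ← map_mul, ← map_mul]
    exact congrArg f1 (Subtype.ext P.c_y)
  obtain ⟨τ, hτA, hτB, hτc⟩ := S8.inverter hinvA hinvB hcs
  set f : P.Ht →* Equiv.Perm (Fin 8) := (MulAut.conj τ).toMonoidHom.comp f1 with hf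
  have hfz : f z = S8.pA := by show τ * f1 z * τ⁻¹ = _; rw [hf1z, hτA]
  have hfy : f y = S8.pB := by show τ * f1 y * τ⁻¹ = _; rw [hf1y, hτB]
  have hfc : f c = S8.pC := hτc
  have hsurj : Function.Surjective f :=
    (MulAut.conj τ).surjective.comp ((MulAut.conj σ).surjective.comp hsurj0)
  have hker : ∀ x, f x = 1 ↔ (x : G) ∈ zpowers P.t := fun x => by
    rw [← hker0]
    show τ * (σ * f0 x * σ⁻¹) * τ⁻¹ = 1 ↔ _
    rw [conj_eq_one_iff, conj_eq_one_iff]
  set sgn : P.Ht →* ℤˣ := Equiv.Perm.sign.comp f with hsgn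
  have hlift : ∀ a b : P.Ht, f a = f b → (a : G) = b ∨ (a : G) = P.t * b := fun a b h => by
    rcases P.mem_zpowers_t.1 ((hker (a * b⁻¹)).1 (by rw [map_mul, map_inv, h, mul_inv_cancel])) with e | e
    · exact Or.inl (mul_inv_eq_one.1 e)
    · exact Or.inr (mul_inv_eq_iff_eq_mul.1 e)
  have hsq : ∀ a b : P.Ht, f a = f b → (a : G) * a = b * b := fun a b h => by
    rcases hlift a b h with e | e <;> rw [e]
    rw [show P.t * (b : G) * (P.t * b) = P.t * ((b : G) * P.t) * b by group, P.mem_Ht.1 b.2,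
      ← mul_assoc, P.t_sq, one_mul]
  have hctr : ∀ x : G, x ∈ P.Ht → Commute x P.t := fun x hx => P.mem_Ht.1 hx
  -- a lift of the transposition off both cycles
  obtain ⟨d, hd⟩ := hsurj S8.pT
  have hdd : (d : G) * d = 1 ∨ (d : G) * d = P.t := P.mem_zpowers_t.1 ((hker (d * d)).1 (by
    rw [map_mul, hd]; decide +kernel))
  have hcommex : ∀ a b : P.Ht, (b : G) * b * b = 1 → f a * f b = f b * f a →
      (a : G) * b = b * a := by
    intro a b hb h
    have hc' : ((a * b * a⁻¹ : P.Ht) : G) * (a * b * a⁻¹ : P.Ht) * (a * b * a⁻¹ : P.Ht) = 1 := by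
      simpa using conj_cube (x := (a : G)) (b : G) hb
    refine mul_inv_eq_iff_eq_mul.1 (P.eq_of_mod (P.mem_Ht.1 b.2) hc' hb ((hker (b⁻¹ * (a * b * a⁻¹))).1 ?_))
    simp [map_mul, map_inv, h]
  have hdz : (d : G) * P.zz = P.zz * d := hcommex d z P.zz_cube (by
    rw [hd, hfz, S8.facts.2.2.2.2.2.2.2.1])
  have hdy : (d : G) * P.y = P.y * d := hcommex d y P.y_cube (by
    rw [hd, hfy, S8.facts.2.2.2.2.2.2.2.2.1])
  have hds : sgn d = -1 := by
    show Equiv.Perm.sign (f d) = -1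
    rw [hd]; exact S8.facts.2.2.2.2.2.2.1
  -- the lifts of two disjoint transpositions square to `t` after multiplication
  have hconjC : ∀ x : P.Ht, ∀ s : Equiv.Perm (Fin 8), s * S8.pC * s⁻¹ = f x → (x : G) * x = P.t := by
    intro x s hs
    obtain ⟨k, hk⟩ := hsurj s
    rw [hsq x (k * c * k⁻¹) (by rw [map_mul, map_mul, map_inv, hk, hfc, hs])]
    show (k : G) * P.c * (k : G)⁻¹ * ((k : G) * P.c * (k : G)⁻¹) = P.t
    rw [conj_mul, P.c_sq, (hctr k k.2).eq, mul_inv_cancel_right]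
  obtain ⟨k1, hk1⟩ := hsurj (Equiv.swap (1 : Fin 8) 6 * Equiv.swap 2 7)
  obtain ⟨k2, hk2⟩ := hsurj (Equiv.swap (4 : Fin 8) 6 * Equiv.swap 5 7)
  set a := k1 * d * k1⁻¹ with ha
  set b := k2 * d * k2⁻¹ with hb
  have hfa : f a = Equiv.swap 1 2 := by
    rw [ha, map_mul, map_mul, map_inv, hk1, hd, S8.conjugators.2.2.1]
  have hfb : f b = Equiv.swap 4 5 := by
    rw [hb, map_mul, map_mul, map_inv, hk2, hd, S8.conjugators.2.2.2.1]
  have had : (a * d : P.Ht).1 * (a * d : P.Ht).1 = P.t :=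
    hconjC (a * d) _ (by rw [map_mul, hfa, hd]; exact S8.conjugators.1)
  have hbd : (b * d : P.Ht).1 * (b * d : P.Ht).1 = P.t :=
    hconjC (b * d) _ (by rw [map_mul, hfb, hd]; exact S8.conjugators.2.1)
  have ha2 : (a : G) * a = (d : G) * d := by
    show (k1 : G) * d * (k1 : G)⁻¹ * ((k1 : G) * d * (k1 : G)⁻¹) = _
    rw [conj_mul]
    rcases hdd with e | e <;> rw [e]
    · group
    · rw [(hctr k1 k1.2).eq, mul_inv_cancel_right]
  have hb2 : (b : G) * b = (d : G) * d := by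
    show (k2 : G) * d * (k2 : G)⁻¹ * ((k2 : G) * d * (k2 : G)⁻¹) = _
    rw [conj_mul]
    rcases hdd with e | e <;> rw [e]
    · group
    · rw [(hctr k2 k2.2).eq, mul_inv_cancel_right]
  have hanti : ∀ p : P.Ht, (p : G) * p = (d : G) * d → (p : G) * d * ((p : G) * d) = P.t →
      (d : G) * p = P.t * (p * d) := by
    intro p hp hpd
    have h1 : (d : G) * p = (p : G)⁻¹ * P.t * (d : G)⁻¹ := by rw [← hpd]; group
    have hdinv : (p : G)⁻¹ = p * ((d : G) * d) := by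
      refine inv_eq_of_mul_eq_one_right ?_
      rw [← mul_assoc, hp]
      rcases hdd with e | e <;> rw [e]
      · rw [one_mul]
      · exact P.t_sq
    have hdinv' : (d : G)⁻¹ = (d : G) * ((d : G) * d) := by
      refine inv_eq_of_mul_eq_one_right ?_
      rw [← mul_assoc]
      rcases hdd with e | e <;> rw [e]
      · rw [one_mul]
      · exact P.t_sq
    rw [h1, hdinv, hdinv']
    rcases hdd with e | e <;> rw [e]
    · rw [mul_one, mul_one, (hctr p p.2).eq]; group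
    · have c1 : Commute (p : G) P.t := hctr p p.2
      have c2 : Commute (d : G) P.t := hctr d d.2
      calc (p : G) * P.t * P.t * ((d : G) * P.t) = p * (P.t * P.t) * ((d : G) * P.t) := by group
        _ = p * (d * P.t) := by rw [P.t_sq, mul_one]
        _ = (p * d) * P.t := by group
        _ = P.t * (p * d) := (c1.mul_left c2).eq
  have hA' := hanti a ha2 had
  have hB' := hanti b hb2 hbd
  have hdc : (d : G) * P.c = P.c * d := by
    have hab : (d : G) * (a * b) = (a * b) * d := by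
      rw [← mul_assoc, hA', mul_assoc P.t, mul_assoc (a : G), hB', ← mul_assoc (a : G) P.t,
        (hctr a a.2).eq, mul_assoc P.t (a : G), ← mul_assoc P.t P.t, P.t_sq, one_mul, mul_assoc]
    rcases hlift c (a * b) (by rw [hfc, map_mul, hfa, hfb]; rfl) with e | e
    · change P.c = (a : G) * b at e
      rw [e, hab]
    · change P.c = P.t * ((a : G) * b) at e
      rw [e, ← mul_assoc, (hctr d d.2).eq, mul_assoc, hab, ← mul_assoc]
  -- products with three transpositions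
  have hU8 : f (d * c) = S8.pU := by rw [map_mul, hd, hfc]; exact S8.conjugators.2.2.2.2
  have hu2 : ((d * c : P.Ht) : G) * (d * c : P.Ht) = (d : G) * d * P.t := by
    show (d : G) * P.c * ((d : G) * P.c) = _
    calc (d : G) * P.c * ((d : G) * P.c) = d * (P.c * d) * P.c := by group
      _ = d * (d * P.c) * P.c := by rw [hdc]
      _ = d * d * (P.c * P.c) := by group
      _ = _ := by rw [P.c_sq]
  have hEven : ∀ x : P.Ht, (x : G) ∈ P.toCtx.CL → sgn x = 1 := by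
    intro x hx
    obtain ⟨w, hw, w', hw', hxw⟩ := P.toCtx.CL_decomp hx
    have hwt : w ∈ P.Ht := P.D_le_Ht (P.toCtx.Z_le_D hw)
    have hw't : w' ∈ P.Ht := P.mem_Ht.2 (P.toCtx.E_t hw')
    rw [show x = ⟨w, hwt⟩ * ⟨w', hw't⟩ from Subtype.ext hxw, map_mul]
    have h1 : sgn ⟨w, hwt⟩ = 1 := by
      have h3 : sgn ⟨w, hwt⟩ * sgn ⟨w, hwt⟩ * sgn ⟨w, hwt⟩ = 1 := by
        rw [← map_mul, ← map_mul, show (⟨w, hwt⟩ * ⟨w, hwt⟩ * ⟨w, hwt⟩ : P.Ht) = 1 from
          Subtype.ext (P.Q_cube w (P.Z_le_Q hw)), map_one]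
      rwa [Int.units_mul_self, one_mul] at h3
    rw [h1, one_mul]
    let θ : SL5 →* ℤˣ := (sgn.comp (inclusion (fun v hv => P.mem_Ht.2 (P.toCtx.E_t hv) :
      P.toCtx.E ≤ P.Ht))).comp P.toCtx.eE.symm.toMonoidHom
    have hθ : ∀ q, θ q = 1 := fun q =>
      Abelianization.commutator_subset_ker θ (SL5.perfect ▸ mem_top q)
    have := hθ (P.toCtx.eE ⟨w', hw'⟩)
    simpa [θ, inclusion] using this
  have hMeven : ∀ x : P.Ht, (x : G) ∈ P.M → (x : G) * P.zz = P.zz * x → (x : G) * P.y = P.y * x →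
      sgn x = 1 := by
    intro x hxM hxz hxy
    refine hEven x ?_
    rcases P.M_cent_D hxM (P.mem_Ht.1 x.2) (by rw [hxz, mul_inv_cancel_right])
      (by rw [hxy, mul_inv_cancel_right]) with h | h
    · exact P.toCtx.D_le_CL h
    · have := mul_mem P.toCtx.t_mem_CL (P.toCtx.D_le_CL h)
      rwa [← mul_assoc, P.t_sq, one_mul] at this
  have hsc : sgn c = 1 := by show Equiv.Perm.sign (f c) = 1; rw [hfc]; decide +kernel
  have hsdc : sgn (d * c) = -1 := by rw [map_mul, hds, hsc, mul_one]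
  have htHt : P.t ∈ P.Ht := P.mem_Ht.2 rfl
  set tt : P.Ht := ⟨P.t, htHt⟩
  have hst : sgn tt = 1 := by
    show Equiv.Perm.sign (f tt) = 1
    rw [(hker tt).2 (mem_zpowers _), map_one]
  -- an odd involution not conjugate to `t`
  obtain ⟨ι, hι2, hιs, hιt⟩ : ∃ ι : P.Ht, (ι : G) * ι = 1 ∧ sgn ι = -1 ∧
      ∀ x : G, x * P.t * x⁻¹ ≠ ι := by
    rcases hdd with e | e
    · refine ⟨d, e, hds, fun x hx => ?_⟩
      have := hEven d (P.mem_CL_of_conj (P.mem_Ht.1 d.2) hdz hx)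
      rw [hds] at this
      exact absurd this (by decide)
    · have hdM : (d : G) ∉ P.M := fun h => by
        have := hMeven d h hdz hdy
        rw [hds] at this
        exact absurd this (by decide)
      obtain ⟨v, hv, hvt⟩ := P.exists_not_conj hx0 (P.mem_Ht.1 d.2) hdz hdy e hdc hdM
      rcases hv with rfl | rfl
      · exact ⟨d * c, by rw [hu2, e, P.t_sq], hsdc, hvt⟩
      · refine ⟨d * c * tt, ?_, by rw [map_mul, hsdc, hst, mul_one], hvt⟩
        show (d : G) * P.c * P.t * ((d : G) * P.c * P.t) = 1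
        have hh : (d : G) * P.c * ((d : G) * P.c) = 1 := by
          have := hu2
          rw [e, P.t_sq] at this
          exact this
        calc (d : G) * P.c * P.t * ((d : G) * P.c * P.t)
            = d * P.c * (P.t * (d * P.c)) * P.t := by group
          _ = d * P.c * ((d * P.c) * P.t) * P.t := by
            rw [show P.t * ((d : G) * P.c) = d * P.c * P.t from (P.mem_Ht.1 (d * c : P.Ht).2).symm]
          _ = d * P.c * (d * P.c) * (P.t * P.t) := by group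
          _ = 1 := by rw [hh, P.t_sq, one_mul]
  -- `g` is even
  have hgs : sgn g = 1 := by
    by_contra hne
    have hgodd : sgn g = -1 := (Int.units_eq_one_or _).resolve_left hne
    have hgA : f g * S8.pA * (f g)⁻¹ = S8.pB := by
      rw [← hfz, ← hfy, ← map_inv, ← map_mul, ← map_mul, hgz]
    have hgB : f g * S8.pB * (f g)⁻¹ = S8.pA := by
      rw [← hfz, ← hfy, ← map_inv, ← map_mul, ← map_mul]
      exact congrArg f (Subtype.ext P.g_y)
    have hgg : f g * f g = 1 := by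
      rw [← map_mul, show g * g = 1 from Subtype.ext P.g_sq, map_one]
    obtain ⟨s, hs⟩ := S8.swapper hgA hgB hgg hgodd
    obtain ⟨k, hk⟩ := hsurj s
    set x := k * (d * c) * k⁻¹ with hx
    have hfx : f x = f g := by rw [hx, map_mul, map_mul, map_inv, hk, hU8, hs]
    have hxx : (x : G) * x = (d : G) * d * P.t := by
      show (k : G) * ((d : G) * P.c) * (k : G)⁻¹ * ((k : G) * ((d : G) * P.c) * (k : G)⁻¹) = _
      have hh : (d : G) * P.c * ((d : G) * P.c) = (d : G) * d * P.t := hu2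
      rw [conj_mul, hh]
      rcases hdd with e | e <;> rw [e]
      · rw [one_mul, (hctr k k.2).eq, mul_inv_cancel_right]
      · rw [P.t_sq]; group
    have hgx := hsq g x hfx.symm
    change P.g * P.g = _ at hgx
    rw [P.g_sq, hxx] at hgx
    rcases hdd with e | e
    · rw [e, one_mul] at hgx; exact P.toCtx.t_ne_one hgx.symm
    · -- both lifts of `f g` are conjugate to `t`
      obtain ⟨xg, hxg⟩ := P.g_conj
      have hcg : ∃ q : G, q * P.t * q⁻¹ = P.t * P.g := by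
        have htgM : P.t * P.g ∈ P.M := mul_mem (P.c_sq ▸ mul_mem P.c_M P.c_M) P.g_M
        have hcgM : P.c * P.g * P.c⁻¹ ∈ P.M := mul_mem (mul_mem P.c_M P.g_M) (inv_mem P.c_M)
        have htg2 : P.t * P.g * (P.t * P.g) = 1 := by
          rw [show P.t * P.g * (P.t * P.g) = P.t * (P.g * P.t) * P.g by group, P.g_t, ← mul_assoc,
            P.t_sq, one_mul, P.g_sq]
        have hp : (P.t * P.g)⁻¹ * (P.c * P.g * P.c⁻¹) ∈ P.J := by
          refine (P.f_ker ((⟨_, htgM⟩ : P.M)⁻¹ * ⟨_, hcgM⟩)).1 ?_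
          refine Subtype.ext ?_
          have e1 : (⟨_, htgM⟩ : P.M) = ⟨P.c, P.c_M⟩ * ⟨P.c, P.c_M⟩ * ⟨P.g, P.g_M⟩ :=
            Subtype.ext (show P.t * P.g = P.c * P.c * P.g by rw [P.c_sq])
          have e2 : (⟨_, hcgM⟩ : P.M) = ⟨P.c, P.c_M⟩ * ⟨P.g, P.g_M⟩ * ⟨P.c, P.c_M⟩⁻¹ := Subtype.ext rfl
          simp only [e1, e2, map_mul, map_inv, Subgroup.coe_mul, InvMemClass.coe_inv, P.c_img, P.g_img,
            OneMemClass.coe_one]
          decide +kernel
        have := conj_of_invol htg2 (P.J_cube _ hp) (by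
          rw [mul_inv_cancel_left, conj_mul, P.g_sq, mul_one, mul_inv_cancel])
        rw [mul_inv_cancel_left] at this
        refine ⟨((P.t * P.g)⁻¹ * (P.c * P.g * P.c⁻¹))⁻¹ * P.c * xg, ?_⟩
        set p := (P.t * P.g)⁻¹ * (P.c * P.g * P.c⁻¹)
        calc p⁻¹ * P.c * xg * P.t * (p⁻¹ * P.c * xg)⁻¹
            = p⁻¹ * (P.c * (xg * P.t * xg⁻¹) * P.c⁻¹) * p := by group
          _ = p⁻¹ * (p * (P.t * P.g) * p⁻¹) * p := by rw [hxg, this]
          _ = _ := by group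
      obtain ⟨q, hq⟩ := hcg
      -- the involution `ι` has the shape of `g`
      have hιx : ∀ v : P.Ht, f v = S8.pU → ∃ w : G, w * P.t * w⁻¹ = v := by
        intro v hv
        have hgv : f g = f (k * v * k⁻¹) := by rw [map_mul, map_mul, map_inv, hk, hv, hs]
        rcases hlift (k * v * k⁻¹) g hgv.symm with e1 | e1
        · refine ⟨(k : G)⁻¹ * xg, ?_⟩
          change (k : G) * v * (k : G)⁻¹ = P.g at e1
          rw [show (k : G)⁻¹ * xg * P.t * ((k : G)⁻¹ * xg)⁻¹ = (k : G)⁻¹ * (xg * P.t * xg⁻¹) * k by group,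
            hxg, ← e1]
          group
        · refine ⟨(k : G)⁻¹ * q, ?_⟩
          change (k : G) * v * (k : G)⁻¹ = P.t * P.g at e1
          rw [show (k : G)⁻¹ * q * P.t * ((k : G)⁻¹ * q)⁻¹ = (k : G)⁻¹ * (q * P.t * q⁻¹) * k by group,
            hq, ← e1]
          group
      have hUt : f (d * c * tt) = S8.pU := by
        rw [map_mul, hU8, (hker tt).2 (mem_zpowers _), mul_one]
      have hdM : (d : G) ∉ P.M := fun h => by
        have := hMeven d h hdz hdy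
        rw [hds] at this
        exact absurd this (by decide)
      obtain ⟨v, hv, hvt⟩ := P.exists_not_conj hx0 (P.mem_Ht.1 d.2) hdz hdy e hdc hdM
      rcases hv with rfl | rfl
      · obtain ⟨w, hw⟩ := hιx (d * c) hU8
        exact hvt w hw
      · obtain ⟨w, hw⟩ := hιx (d * c * tt) hUt
        exact hvt w hw
  have hfus : ∃ x : P.Ht, (x : G) ≠ P.t ∧ Equiv.Perm.sign (f x) = 1 ∧
      ∃ w : G, w * P.t * w⁻¹ = x := ⟨g, hgt, hgs, P.g_conj⟩
  exact aut_mcl_of_sym hU ht2 f hsurj hker ⟨c, P.c_sq, hsc⟩ ⟨ι, hι2, hιs, fun v hv => hιt v⁻¹ (by rw [← hv]; group)⟩ hfus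

end Local

end CfsgLib.McLThree
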