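import Cfsg.Agent.McLThree.Finish
import Cfsg.Agent.S3334

/-!
# The end of the 3-local characterization, with the centralizer characterization inserted
-/

set_option autoImplicit false

namespace CfsgLib.McLThree

universe u

/-- The characterization of McLaughlin's group by `2.A8`. -/
theorem centStatement : CentStatement.{u} := fun _ _ _ t ht h => Cfsg.Agent.S3334.result t ht h

end CfsgLib.McLThree
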