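import Cfsg.Agent.McLThree.Compl

/-!
The symmetric form `(u, v) ↦ [u, [y, v]]` on `Q/R`: the elements of `C(t)` centralising `E` lie in
`Z⟨t⟩` or invert `Z` and square to `t`.
-/

set_option autoImplicit false
set_option linter.style.haveILetI false

namespace CfsgLib.McLThree

open Subgroup
open scoped commutatorElement

universe u

variable {G : Type u} [Group G] [Finite G]

/-- The context with chosen `y ∈ E ∩ D` of order three and `e ∈ E` of order four inverting it. -/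
structure Frame (G : Type u) [Group G] [Finite G] extends Ctx G where
  y : G
  e : G
  y_E : y ∈ toCtx.E
  y_D : y ∈ toCtx.D
  y_Q : y ∉ Q
  y_cube : y * y * y = 1
  D_gen : ∀ d ∈ toCtx.D, ∃ z ∈ Z, ∃ i : Fin 3, d = z * y ^ (i : ℕ)
  e_E : e ∈ toCtx.E
  e_sq : e * e = t
  e_y : e * y = y⁻¹ * e

theorem Ctx.exists_frame (C : Ctx G) : ∃ F : Frame G, F.toCtx = C := by
  obtain ⟨y, e, h1, h2, h3, h4, h5, h6, h7, h8⟩ := C.exists_y
  exact ⟨⟨C, y, e, h1, h2, h3, h4, h5, h6, h7, h8⟩, rfl⟩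

theorem zmod_three_units : ∀ x : ZMod 3, x ≠ 0 → x = 1 ∨ x = -1 := by decide

theorem zmod_three_one : Multiplicative.ofAdd (1 : ZMod 3) ≠ 1 := by decide

set_option synthInstance.maxSize 4096 in
theorem form_solve : ∀ a b α γ σ : ZMod 3, (σ = 1 ∨ σ = -1) → (α ≠ 0 ∨ γ ≠ 0) →
    (a * a - b * b) * α + 2 * a * b * γ = σ * α →
    (a * a - b * b) * γ - 2 * a * b * α = σ * γ →
    (σ = 1 → (a = 1 ∨ a = -1) ∧ b = 0) ∧ (σ = -1 → a = 0 ∧ (b = 1 ∨ b = -1)) := by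
  decide +kernel

namespace Frame

variable (F : Frame G)

theorem y_S : F.y ∈ (F.S : Subgroup G) := F.J_le (F.toCtx.D_le_J F.y_D)

theorem y_J : F.y ∈ F.J := F.toCtx.D_le_J F.y_D

theorem e_cent : F.e ∈ centralizer (F.Z : Set G) := F.L_le (F.toCtx.E_L F.e_E)

theorem y_comm_R {r : G} (hr : r ∈ F.R) : F.y * r = r * F.y := F.J_comm _ F.y_J r hr.1

theorem comm_y_mem {v : G} (hv : v ∈ F.Q) : ⁅F.y, v⁆ ∈ F.R := by
  refine ⟨?_, ?_⟩
  · have hn := F.toCtx.normalizer_S_le (le_normalizer (F.toData.Q_le_S hv))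
    have h := (mem_normalizer_iff.1 hn _).1 (inv_mem F.y_J)
    rw [commutatorElement_def, show F.y * v * F.y⁻¹ * v⁻¹ = F.y * (v * F.y⁻¹ * v⁻¹) by group]
    exact F.J.mul_mem F.y_J h
  · rw [commutatorElement_def]
    exact F.Q.mul_mem (F.toData.L_conj_Q (F.toData.S_le_L F.y_S) hv) (F.Q.inv_mem hv)

theorem comm_R {v : G} (hv : v ∈ F.R) : ⁅F.y, v⁆ = 1 :=
  commutatorElement_eq_one_iff_mul_comm.2 (F.y_comm_R hv)

theorem comm_mul (v w : F.Q) :
    ⁅F.y, (v : G) * w⁆ = ⁅F.y, (v : G)⁆ * (⁅(v : G), ⁅F.y, (w : G)⁆⁆ * ⁅F.y, (w : G)⁆) := by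
  simp only [commutatorElement_def]; group

theorem comm_Z_left {u x z : G} (hu : u ∈ F.Q) (hx : x ∈ F.Q) (hz : z ∈ F.Z) :
    ⁅u, x * z⁆ = ⁅u, x⁆ := by
  have h := F.toData.Z_comm_Q hu hz
  have hc : ⁅u, z⁆ = 1 := commutatorElement_eq_one_iff_mul_comm.2 h.symm
  have e : ⁅u, x * z⁆ = ⁅u, x⁆ * (x * ⁅u, z⁆ * x⁻¹) := by simp only [commutatorElement_def]; group
  rw [e, hc, mul_one, mul_inv_cancel, mul_one]

/-- The form, with values in `Z`. -/
def bz (u v : F.Q) : F.Z :=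
  ⟨⁅(u : G), ⁅F.y, (v : G)⁆⁆, F.Q_comm u u.2 _ (F.comm_y_mem v.2).2⟩

theorem bz_mul_left (u u' v : F.Q) : F.bz (u * u') v = F.bz u v * F.bz u' v := by
  apply Subtype.ext
  have hc : ⁅(u' : G), ⁅F.y, (v : G)⁆⁆ ∈ F.Z := (F.bz u' v).2
  have e : ⁅(u : G) * u', ⁅F.y, (v : G)⁆⁆ =
      u * ⁅(u' : G), ⁅F.y, (v : G)⁆⁆ * (u : G)⁻¹ * ⁅(u : G), ⁅F.y, (v : G)⁆⁆ := by
    simp only [commutatorElement_def]; group
  show ⁅(u : G) * u', ⁅F.y, (v : G)⁆⁆ = (F.bz u v : G) * (F.bz u' v : G)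
  rw [e, ← F.toData.Z_comm_Q u.2 hc, mul_inv_cancel_right]
  exact F.toData.Z_comm_Q (F.Z_le_Q (F.bz u v).2) hc

theorem bz_mul_right (u v v' : F.Q) : F.bz u (v * v') = F.bz u v * F.bz u v' := by
  apply Subtype.ext
  have hz : ⁅(v : G), ⁅F.y, (v' : G)⁆⁆ ∈ F.Z := F.Q_comm v v.2 _ (F.comm_y_mem v'.2).2
  have hA := (F.comm_y_mem v.2).2
  have hB := (F.comm_y_mem v'.2).2
  show ⁅(u : G), ⁅F.y, (v : G) * v'⁆⁆ = (F.bz u v : G) * (F.bz u v' : G)
  rw [F.comm_mul, F.toData.Z_comm_Q hB hz, ← mul_assoc, F.comm_Z_left u.2 (mul_mem hA hB) hz]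
  have e : ⁅(u : G), ⁅F.y, (v : G)⁆ * ⁅F.y, (v' : G)⁆⁆ = ⁅(u : G), ⁅F.y, (v : G)⁆⁆ *
      (⁅F.y, (v : G)⁆ * ⁅(u : G), ⁅F.y, (v' : G)⁆⁆ * ⁅F.y, (v : G)⁆⁻¹) := by
    simp only [commutatorElement_def]; group
  have hz' : ⁅(u : G), ⁅F.y, (v' : G)⁆⁆ ∈ F.Z := (F.bz u v').2
  rw [e, ← F.toData.Z_comm_Q hA hz', mul_inv_cancel_right]
  rfl

theorem bz_R_right (u v : F.Q) (hv : (v : G) ∈ F.R) : F.bz u v = 1 := by
  apply Subtype.ext
  show ⁅(u : G), ⁅F.y, (v : G)⁆⁆ = 1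
  rw [F.comm_R hv]; simp [commutatorElement_def]

theorem bz_R_left (u v : F.Q) (hu : (u : G) ∈ F.R) : F.bz u v = 1 := by
  apply Subtype.ext
  exact commutatorElement_eq_one_iff_mul_comm.2 (F.toData.R_comm hu (F.comm_y_mem v.2))

/-- `Z` as the additive group of integers modulo three. -/
noncomputable def zmodEquiv : F.Z ≃* Multiplicative (ZMod 3) :=
  haveI : Fact (Nat.Prime 3) := ⟨Nat.prime_three⟩
  mulEquivOfPrimeCardEq (p := 3) F.Z_card (by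
    rw [Nat.card_congr Multiplicative.toAdd, Nat.card_zmod])

/-- The form, with values in `ZMod 3`. -/
noncomputable def bf (u v : F.Q) : ZMod 3 := Multiplicative.toAdd (F.zmodEquiv (F.bz u v))

theorem bf_mul_left (u u' v : F.Q) : F.bf (u * u') v = F.bf u v + F.bf u' v := by
  simp [bf, F.bz_mul_left]

theorem bf_mul_right (u v v' : F.Q) : F.bf u (v * v') = F.bf u v + F.bf u v' := by
  simp [bf, F.bz_mul_right]

theorem bf_R_left (u v : F.Q) (hu : (u : G) ∈ F.R) : F.bf u v = 0 := by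
  simp [bf, F.bz_R_left u v hu]

theorem bf_R_right (u v : F.Q) (hv : (v : G) ∈ F.R) : F.bf u v = 0 := by
  simp [bf, F.bz_R_right u v hv]

theorem bf_pow_left (u v : F.Q) : ∀ n : ℕ, F.bf (u ^ n) v = n * F.bf u v
  | 0 => by rw [pow_zero, Nat.cast_zero, zero_mul]; exact F.bf_R_left 1 v (one_mem _)
  | n + 1 => by rw [pow_succ, F.bf_mul_left, bf_pow_left u v n]; push_cast; ring

theorem bf_pow_right (u v : F.Q) : ∀ n : ℕ, F.bf u (v ^ n) = n * F.bf u v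
  | 0 => by rw [pow_zero, Nat.cast_zero, zero_mul]; exact F.bf_R_right u 1 (one_mem _)
  | n + 1 => by rw [pow_succ, F.bf_mul_right, bf_pow_right u v n]; push_cast; ring

/-- Conjugation inside `N(Z)`. -/
def cq {g : G} (hg : g ∈ normalizer (F.Z : Set G)) (u : F.Q) : F.Q :=
  ⟨g * u * g⁻¹, F.Q_normal g hg u u.2⟩

theorem bz_conj {g : G} (hg : g ∈ normalizer (F.Z : Set G)) (hy : g * F.y * g⁻¹ = F.y)
    (u v : F.Q) : (F.bz (F.cq hg u) (F.cq hg v) : G) = g * (F.bz u v : G) * g⁻¹ := by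
  show ⁅g * (u : G) * g⁻¹, ⁅F.y, g * (v : G) * g⁻¹⁆⁆ = g * ⁅(u : G), ⁅F.y, (v : G)⁆⁆ * g⁻¹
  conv_lhs => rw [← hy]
  simp only [commutatorElement_def]; group

theorem bf_conj {g : G} (hg : g ∈ normalizer (F.Z : Set G)) (hy : g * F.y * g⁻¹ = F.y) :
    ∃ σ : ZMod 3, (σ = 1 ∨ σ = -1) ∧ (∀ u v, F.bf (F.cq hg u) (F.cq hg v) = σ * F.bf u v) ∧
      (σ = 1 ↔ g ∈ centralizer (F.Z : Set G)) := by
  haveI : Fact (Nat.Prime 3) := ⟨Nat.prime_three⟩
  let c : F.Z → F.Z := fun z => ⟨g * z * g⁻¹, (mem_normalizer_iff.1 hg z).1 z.2⟩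
  let φ : ZMod 3 →+ ZMod 3 := AddMonoidHom.mk'
    (fun x => Multiplicative.toAdd (F.zmodEquiv (c (F.zmodEquiv.symm (Multiplicative.ofAdd x)))))
    (fun a b => by
      have e : c (F.zmodEquiv.symm (Multiplicative.ofAdd a) * F.zmodEquiv.symm (Multiplicative.ofAdd b)) =
          c (F.zmodEquiv.symm (Multiplicative.ofAdd a)) * c (F.zmodEquiv.symm (Multiplicative.ofAdd b)) :=
        Subtype.ext (conj_mul).symm
      simp [ofAdd_add, e])
  have hφ : ∀ x, φ x = φ 1 * x := fun x => by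
    conv_lhs => rw [← ZMod.natCast_zmod_val x, ← nsmul_one, map_nsmul, nsmul_eq_mul,
      ZMod.natCast_zmod_val, mul_comm]
  have hz : ∀ z : F.Z, Multiplicative.toAdd (F.zmodEquiv (c z)) =
      φ 1 * Multiplicative.toAdd (F.zmodEquiv z) := fun z => by
    rw [← hφ]; simp [φ]
  have h0 : φ 1 ≠ 0 := by
    intro h
    have := hz (F.zmodEquiv.symm (Multiplicative.ofAdd 1))
    rw [h, zero_mul, toAdd_eq_zero, MulEquiv.map_eq_one_iff] at this
    have h' := congrArg Subtype.val this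
    simp only [c, OneMemClass.coe_one, conj_eq_one_iff] at h'
    have h'' : F.zmodEquiv.symm (Multiplicative.ofAdd (1 : ZMod 3)) = 1 := Subtype.ext h'
    rw [MulEquiv.map_eq_one_iff] at h''
    exact zmod_three_one h''
  have hσ : φ 1 = 1 ∨ φ 1 = -1 := by
    exact zmod_three_units _ h0
  refine ⟨φ 1, hσ, fun u v => ?_, ⟨fun h => mem_centralizer_iff.2 fun z hzm => ?_, fun h => ?_⟩⟩
  · have e : F.bz (F.cq hg u) (F.cq hg v) = c (F.bz u v) := Subtype.ext (F.bz_conj hg hy u v)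
    rw [bf, e, hz, bf]
  · have e : c ⟨z, hzm⟩ = ⟨z, hzm⟩ := by
      apply F.zmodEquiv.injective
      apply Multiplicative.toAdd.injective
      rw [hz, h, one_mul]
    exact (mul_inv_eq_iff_eq_mul.1 (congrArg Subtype.val e)).symm
  · set z := F.zmodEquiv.symm (Multiplicative.ofAdd (1 : ZMod 3))
    have e : c z = z := Subtype.ext (mul_inv_eq_iff_eq_mul.2 (mem_centralizer_iff.1 h z z.2).symm)
    have := hz z
    rw [e] at this
    simpa [z] using this.symm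

end Frame

end CfsgLib.McLThree
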