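import Cfsg.Agent.McLThree.MSide
import Cfsg.Agent.ThreeLocalEight.Setup

/-!
Conjugates of `Z` in `J`: the group `Z` and the `S`-conjugates of `⟨y⟩`.
-/

set_option autoImplicit false
set_option maxRecDepth 100000

namespace CfsgLib.McLThree

open Subgroup
open scoped commutatorElement

universe u

namespace Six

theorem cent_pa : ∀ q : Equiv.Perm (Fin 6), q * pa = pa * q → q * (q * q) = 1 → q ∈ P0 := by
  decide +kernel

theorem pc_back : pc * pb * pc⁻¹ ∈ [pa, pa * pa] ∧ ∀ p ∈ P0, pc⁻¹ * p * pc ∈ P0 := by decide +kernel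

/-- Elements commuting with one of the four three-cycles of `P0`. -/
theorem cent_cycle {r q : Equiv.Perm (Fin 6)} (hr : r ∈ [pa, pa * pa, pb, pb * pb])
    (h : q * r = r * q) (h3 : q * (q * q) = 1) : q ∈ P0 := by
  have hsq : ∀ w : Equiv.Perm (Fin 6), w * w * w = 1 → ∀ q', q' * (w * w) = w * w * q' →
      q' * w = w * q' := by
    intro w hw q' h'
    have e : w * w * (w * w) = w := by rw [← mul_assoc, hw, one_mul]
    rw [← e]; exact (Commute.mul_right h' h').eq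
  have ha : pa * pa * pa = 1 := by decide +kernel
  have hb : pb * pb * pb = 1 := by decide +kernel
  have hB : q * pb = pb * q → q ∈ P0 := by
    intro hq
    set q' := pc * q * pc⁻¹ with hq'
    have h1 : q' * (pc * pb * pc⁻¹) = pc * pb * pc⁻¹ * q' := by rw [hq', conj_mul, conj_mul, hq]
    have h3' : q' * (q' * q') = 1 := by rw [hq', conj_mul, conj_mul, h3, mul_one, mul_inv_cancel]
    have hm : q' ∈ P0 := by
      have hmem := pc_back.1
      simp only [List.mem_cons, List.not_mem_nil, or_false] at hmem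
      rcases hmem with e | e <;> rw [e] at h1
      · exact cent_pa _ h1 h3'
      · exact cent_pa _ (hsq _ ha _ h1) h3'
    have := pc_back.2 _ hm
    rwa [hq', show pc⁻¹ * (pc * q * pc⁻¹) * pc = q by group] at this
  simp only [List.mem_cons, List.not_mem_nil, or_false] at hr
  rcases hr with rfl | rfl | rfl | rfl
  · exact cent_pa _ h h3
  · exact cent_pa _ (hsq _ ha _ h) h3
  · exact hB h
  · exact hB (hsq _ hb _ h)

theorem cycle_cases : ∀ a b c : Fin 6, a ≠ b → b ≠ c → a ≠ c →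
    (Equiv.swap a b * Equiv.swap b c ∈ [pa, pa * pa, pb, pb * pb]) ∨ ∃ p ∈ P0,
      (pg⁻¹ * p⁻¹) * (Equiv.swap a b * Equiv.swap b c) * (p * pg) ∈ [pa, pa * pa, pb, pb * pb] := by
  decide +kernel

theorem four_in_P0 : ∀ r ∈ [pa, pa * pa, pb, pb * pb], r ∈ P0 := by decide +kernel

theorem pb_facts : pb * pa = pa * pb ∧ pb * (pb * pb) = 1 := by decide +kernel

/-- An element moving the cycle `pa` to one of the four cycles normalizes `P0`. -/
theorem norm_P0_of (x : Equiv.Perm (Fin 6)) (h : x * pa * x⁻¹ ∈ [pa, pa * pa, pb, pb * pb]) :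
    ∀ p ∈ P0, x * p * x⁻¹ ∈ P0 := by
  have h1 := four_in_P0 _ h
  have h2 : x * pb * x⁻¹ ∈ P0 := cent_cycle h (by rw [conj_mul, conj_mul, pb_facts.1])
    (by rw [conj_mul, conj_mul, pb_facts.2, mul_one, mul_inv_cancel])
  have hm : ∀ p q, x * p * x⁻¹ ∈ P0 → x * q * x⁻¹ ∈ P0 → x * (p * q) * x⁻¹ ∈ P0 :=
    fun p q hp hq => by rw [← conj_mul]; exact P0_closed _ hp _ hq
  intro p hp
  simp only [P0, List.mem_cons, List.not_mem_nil, or_false] at hp
  rcases hp with rfl | rfl | rfl | rfl | rfl | rfl | rfl | rfl | rfl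
  · simp [P0]
  · exact h1
  · exact hm _ _ h1 h1
  · exact h2
  · exact hm _ _ h1 h2
  · exact hm _ _ (hm _ _ h1 h1) h2
  · exact hm _ _ h2 h2
  · exact hm _ _ h1 (hm _ _ h2 h2)
  · exact hm _ _ (hm _ _ h1 h1) (hm _ _ h2 h2)

theorem double_coset (x : Equiv.Perm (Fin 6)) : (∀ p ∈ P0, x * p * x⁻¹ ∈ P0) ∨
    ∃ p ∈ P0, ∀ r ∈ P0, (pg⁻¹ * p⁻¹ * x) * r * (pg⁻¹ * p⁻¹ * x)⁻¹ ∈ P0 := by
  have e : x * pa * x⁻¹ = Equiv.swap (x 0) (x 1) * Equiv.swap (x 1) (x 2) := by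
    rw [Equiv.swap_apply_apply, Equiv.swap_apply_apply, pa]; group
  have hne : ∀ i j : Fin 6, i ≠ j → x i ≠ x j := fun i j h h' => h (x.injective h')
  rcases cycle_cases (x 0) (x 1) (x 2) (hne _ _ (by decide)) (hne _ _ (by decide))
    (hne _ _ (by decide)) with h | ⟨p, hp, h⟩
  · exact Or.inl (norm_P0_of x (e ▸ h))
  · refine Or.inr ⟨p, hp, norm_P0_of _ ?_⟩
    rwa [show pg⁻¹ * p⁻¹ * x * pa * (pg⁻¹ * p⁻¹ * x)⁻¹ = pg⁻¹ * p⁻¹ * (x * pa * x⁻¹) * (p * pg) by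
      group, e]

end Six

variable {G : Type u} [Group G] [Finite G]

/-- A conjugate of `J` lying with `J` in a 3-group is `J`. -/
theorem Ctx.J_weak (C : Ctx G) {P : Subgroup G} (hP : IsPGroup 3 P) (hJ : C.J ≤ P) {h : G}
    (hh : ∀ a ∈ C.J, h * a * h⁻¹ ∈ P) : h ∈ normalizer (C.J : Set G) := by
  haveI : Fact (Nat.Prime 3) := ⟨Nat.prime_three⟩
  obtain ⟨T, hT⟩ := hP.exists_le_sylow
  obtain ⟨x, hx⟩ := MulAction.exists_smul_eq G T C.S
  have key : ∀ k : G, (∀ a ∈ C.J, k * a * k⁻¹ ∈ P) → x * k ∈ normalizer (C.J : Set G) := by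
    intro k hk
    have hle : C.J.map (MulAut.conj (x * k)).toMonoidHom ≤ (C.S : Subgroup G) := by
      rintro _ ⟨a, ha, rfl⟩
      rw [← hx, Sylow.coe_subgroup_smul]
      refine Subgroup.mem_smul_pointwise_iff_exists _ _ _ |>.2 ⟨k * a * k⁻¹, hT (hk a ha), ?_⟩
      show x * (k * a * k⁻¹) * x⁻¹ = x * k * a * (x * k)⁻¹
      group
    have heq := C.J_unique hle (by
      rintro _ ⟨a, ha, rfl⟩ _ ⟨b, hb, rfl⟩
      rw [← map_mul, ← map_mul, C.J_comm a ha b hb])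
      (by rw [Subgroup.card_map_of_injective (MulEquiv.injective _), C.J_card])
    rw [Subgroup.mem_normalizer_iff]
    intro a
    constructor
    · intro ha
      rw [← heq]; exact ⟨a, ha, rfl⟩
    · intro ha
      rw [← heq] at ha
      obtain ⟨b, hb, hb'⟩ := ha
      exact (show b = a by simpa [mul_assoc] using hb') ▸ hb
  have h1 := key 1 (fun a ha => by simpa using hJ ha)
  rw [mul_one] at h1
  simpa using mul_mem (inv_mem h1) (key h hh)

/-- Fusion in `J` is controlled by `N(J)`. -/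
theorem Ctx.fusion_J (C : Ctx G) {a b h : G} (ha : a ∈ C.J) (hb : b ∈ C.J) (hh : h * a * h⁻¹ = b) :
    ∃ n ∈ normalizer (C.J : Set G), n * a * n⁻¹ = b := by
  haveI : Fact (Nat.Prime 3) := ⟨Nat.prime_three⟩
  set B := centralizer ({b} : Set G)
  have hJB : C.J ≤ B := fun j hj => mem_centralizer_singleton_iff.2 (C.J_comm j hj b hb)
  have hJB' : C.J.map (MulAut.conj h).toMonoidHom ≤ B := by
    rintro _ ⟨j, hj, rfl⟩
    refine mem_centralizer_singleton_iff.2 ?_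
    show h * j * h⁻¹ * b = b * (h * j * h⁻¹)
    rw [← hh, conj_mul, conj_mul, C.J_comm j hj a ha]
  have hJp : IsPGroup 3 C.J := IsPGroup.of_card (n := 4) (by rw [C.J_card]; norm_num)
  obtain ⟨P, hP⟩ := (hJp.of_equiv (subgroupOfEquivOfLe hJB).symm).exists_le_sylow
  obtain ⟨P', hP'⟩ := ((hJp.map (MulAut.conj h).toMonoidHom).of_equiv
    (subgroupOfEquivOfLe hJB').symm).exists_le_sylow
  obtain ⟨k, hk⟩ := MulAction.exists_smul_eq B P' P
  have hk' : ∀ j ∈ C.J, (k : G) * (h * j * h⁻¹) * (k : G)⁻¹ ∈ ((P : Subgroup B).map B.subtype) := by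
    intro j hj
    refine ⟨k * ⟨h * j * h⁻¹, hJB' ⟨j, hj, rfl⟩⟩ * k⁻¹, ?_, rfl⟩
    rw [← hk]
    exact (Subgroup.mem_smul_pointwise_iff_exists _ _ _).2
      ⟨⟨h * j * h⁻¹, hJB' ⟨j, hj, rfl⟩⟩, hP' (mem_subgroupOf.2 ⟨j, hj, rfl⟩), rfl⟩
  refine ⟨k * h, C.J_weak (P.2.map B.subtype) (fun j hj => ⟨⟨j, hJB hj⟩, hP (mem_subgroupOf.2 hj), rfl⟩)
    (fun j hj => by
      have := hk' j hj
      rwa [show (k : G) * (h * j * h⁻¹) * (k : G)⁻¹ = k * h * j * (k * h)⁻¹ by group] at this), ?_⟩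
  rw [show (k : G) * h * a * (k * h)⁻¹ = k * (h * a * h⁻¹) * (k : G)⁻¹ by group, hh,
    mem_centralizer_singleton_iff.1 k.2, mul_inv_cancel_right]

namespace Local

variable (P : Local G)

theorem normS_of_image {m : P.M}
    (h1 : ∀ p ∈ Six.P0, (P.f m : Equiv.Perm (Fin 6)) * p * (P.f m : Equiv.Perm (Fin 6))⁻¹ ∈ Six.P0) :
    (m : G) ∈ normalizer ((P.S : Subgroup G) : Set G) := by
  have aux : ∀ s ∈ (P.S : Subgroup G), (m : G) * s * (m : G)⁻¹ ∈ (P.S : Subgroup G) := by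
    intro s hs
    have h := (P.f_S ⟨s, P.toFrame.S_le_M hs⟩).1 hs
    refine (P.f_S (m * ⟨s, P.toFrame.S_le_M hs⟩ * m⁻¹)).2 ?_
    show ((P.f (m * ⟨s, P.toFrame.S_le_M hs⟩ * m⁻¹) : alternatingGroup (Fin 6)) : Equiv.Perm (Fin 6)) ∈ Six.P0
    simp only [map_mul, map_inv, Subgroup.coe_mul, InvMemClass.coe_inv]
    exact h1 _ h
  refine mem_normalizer_iff.2 fun s => ⟨aux s, fun h => ?_⟩
  obtain ⟨⟨s', hs'⟩, e⟩ := Finite.surjective_of_injective
    (f := fun s : (P.S : Subgroup G) => (⟨(m : G) * s * (m : G)⁻¹, aux s s.2⟩ : (P.S : Subgroup G)))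
    (fun a b h => Subtype.ext (mul_left_cancel (mul_right_cancel (congrArg Subtype.val h))))
    ⟨_, h⟩
  have := mul_left_cancel (mul_right_cancel (congrArg Subtype.val e))
  exact this ▸ hs'

/-- The Frattini argument in `N(J)`. -/
theorem frattini {n : G} (hn : n ∈ normalizer (P.J : Set G)) :
    ∃ m ∈ P.M, ∃ w ∈ normalizer ((P.S : Subgroup G) : Set G), n = m * w := by
  haveI : Fact (Nat.Prime 3) := ⟨Nat.prime_three⟩
  set SM := (P.S).subtype P.toFrame.S_le_M with hSM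
  have hle : ((P.S : Subgroup G).map (MulAut.conj n).toMonoidHom) ≤ P.M := by
    rintro _ ⟨s, hs, rfl⟩
    exact P.M_normal n hn s (P.toFrame.S_le_M hs)
  obtain ⟨T, hT⟩ := ((P.S.2.map (MulAut.conj n).toMonoidHom).of_equiv
    (subgroupOfEquivOfLe hle).symm).exists_le_sylow
  obtain ⟨m, hm⟩ := MulAction.exists_smul_eq P.M SM T
  refine ⟨m, m.2, (m : G)⁻¹ * n, ?_, by group⟩
  have key : ∀ s ∈ (P.S : Subgroup G), (m : G)⁻¹ * n * s * ((m : G)⁻¹ * n)⁻¹ ∈ (P.S : Subgroup G) := by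
    intro s hs
    have h1 : (⟨n * s * n⁻¹, hle ⟨s, hs, rfl⟩⟩ : P.M) ∈ (T : Subgroup P.M) :=
      hT (mem_subgroupOf.2 ⟨s, hs, rfl⟩)
    rw [← hm] at h1
    obtain ⟨w, hw, hwe⟩ := (Subgroup.mem_smul_pointwise_iff_exists _ _ _).1 h1
    have h2 : (m : G) * w * (m : G)⁻¹ = n * s * n⁻¹ := congrArg Subtype.val hwe
    have h3 : (w : G) ∈ (P.S : Subgroup G) := by
      simpa [hSM, Sylow.coe_subtype, mem_subgroupOf] using hw
    convert h3 using 1
    calc (m : G)⁻¹ * n * s * ((m : G)⁻¹ * n)⁻¹ = (m : G)⁻¹ * (n * s * n⁻¹) * m := by group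
      _ = _ := by rw [← h2]; group
  refine mem_normalizer_iff.2 fun s => ⟨key s, fun h => ?_⟩
  obtain ⟨⟨s', hs'⟩, e⟩ := Finite.surjective_of_injective
    (f := fun s : (P.S : Subgroup G) => (⟨_, key s s.2⟩ : (P.S : Subgroup G)))
    (fun a b h => Subtype.ext (mul_left_cancel (mul_right_cancel (congrArg Subtype.val h))))
    ⟨_, h⟩
  have := mul_left_cancel (mul_right_cancel (congrArg Subtype.val e))
  exact this ▸ hs'

/-- A conjugate of `zz` in `J` lies in `Z` or in an `S`-conjugate of `⟨y⟩`. -/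
theorem singular {a h : G} (ha : a ∈ P.J) (hh : h * P.zz * h⁻¹ = a) :
    a ∈ P.Z ∨ ∃ s ∈ (P.S : Subgroup G), s⁻¹ * a * s ∈ zpowers P.y := by
  obtain ⟨n, hn, hna⟩ := P.toCtx.fusion_J (P.toData.Z_le_J P.zz_mem) ha hh
  obtain ⟨m, hm, w, hw, rfl⟩ := P.frattini hn
  have hwz : w * P.zz * w⁻¹ ∈ P.Z := P.toFrame.normZ_mem (P.toFrame.normS_normZ hw) P.zz_mem
  have hma : a = m * (w * P.zz * w⁻¹) * m⁻¹ := by rw [← hna]; group
  rcases Six.double_coset (P.f ⟨m, hm⟩ : Equiv.Perm (Fin 6)) with h1 | ⟨p, hp, h1⟩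
  · left
    rw [hma]
    exact P.toFrame.normZ_mem (P.toFrame.normS_normZ (P.normS_of_image (m := ⟨m, hm⟩) h1)) hwz
  · right
    obtain ⟨s, hs⟩ := P.f_surj ⟨p, Equiv.Perm.mem_alternatingGroup.2 (Six.P0_signs p hp)⟩
    have hsS : (s : G) ∈ (P.S : Subgroup G) := (P.f_S s).2 (by
      show (P.f s : Equiv.Perm (Fin 6)) ∈ Six.P0
      rw [hs]; exact hp)
    refine ⟨s, hsS, ?_⟩
    set n' : P.M := ⟨P.g, P.g_M⟩⁻¹ * s⁻¹ * ⟨m, hm⟩ with hn'
    have hfn : (P.f n' : Equiv.Perm (Fin 6)) = Six.pg⁻¹ * p⁻¹ * (P.f ⟨m, hm⟩ : Equiv.Perm (Fin 6)) := by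
      simp [hn', hs, P.g_img]
    have hN := P.normS_of_image (m := n') (by rw [hfn]; exact h1)
    have hnZ := P.toFrame.normZ_mem (P.toFrame.normS_normZ hN) hwz
    obtain ⟨k, hk⟩ : ∃ k : ℤ, (n' : G) * (w * P.zz * w⁻¹) * (n' : G)⁻¹ = P.zz ^ k := by
      have hle : zpowers P.zz ≤ P.Z := zpowers_le.2 P.zz_mem
      have hZ : zpowers P.zz = P.Z := eq_of_le_of_card_ge hle (by
        rw [P.Z_card, Nat.card_zpowers, orderOf_eq_prime (p := 3)
          (by rw [pow_three']; exact P.Q_cube _ (P.Z_le_Q P.zz_mem)) P.zz_ne])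
      rw [← hZ] at hnZ
      exact ⟨_, (mem_zpowers_iff.1 hnZ).choose_spec.symm⟩
    refine mem_zpowers_iff.2 ⟨k, ?_⟩
    have e : P.g * P.zz ^ k * P.g⁻¹ = P.y ^ k := by rw [← conj_zpow, P.g_z]
    rw [← e, ← hk, hma]
    show P.g * ((P.g⁻¹ * (s : G)⁻¹ * m) * (w * P.zz * w⁻¹) * (P.g⁻¹ * (s : G)⁻¹ * m)⁻¹) * P.g⁻¹ = _
    group

theorem y_pow_cases {a : G} (ha : a ∈ zpowers P.y) : a = 1 ∨ a = P.y ∨ a = P.y⁻¹ :=
  ThreeLocalEight.zpowers_three (by rw [pow_three']; exact P.y_cube) ha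

/-- The only conjugates of `Z` in `J ∩ Q` lie in `Z`. -/
theorem singular_Q {a h : G} (ha : a ∈ P.J) (haQ : a ∈ P.Q) (hh : h * P.zz * h⁻¹ = a) : a ∈ P.Z := by
  rcases P.singular ha hh with h1 | ⟨s, hs, hsa⟩
  · exact h1
  · exfalso
    have hq : s⁻¹ * a * s ∈ P.Q := by
      simpa using P.toData.L_conj_Q (inv_mem (P.toData.S_le_L hs)) haQ
    rcases P.y_pow_cases hsa with e | e | e
    · have : a = 1 := by
        calc a = s * (s⁻¹ * a * s) * s⁻¹ := by group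
          _ = 1 := by rw [e]; group
      exact P.zz_ne (conj_eq_one_iff.1 (hh.trans this))
    · exact P.y_Q (e ▸ hq)
    · exact P.y_Q ((inv_mem_iff (H := P.Q)).1 (e ▸ hq))

/-- The conjugates of `Z` in `D` lie in `Z` or `⟨y⟩`. -/
theorem singular_D {a h : G} (ha : a ∈ P.toCtx.D) (hh : h * P.zz * h⁻¹ = a) :
    a ∈ P.Z ∨ a ∈ zpowers P.y := by
  rcases P.singular (P.toCtx.D_le_J ha) hh with h1 | ⟨s, hs, hsa⟩
  · exact Or.inl h1
  right
  obtain ⟨j, hj, q, hq, rfl⟩ := P.toCtx.mem_J_Q hs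
  have hb : q⁻¹ * a * q ∈ zpowers P.y := by
    convert hsa using 1
    calc q⁻¹ * a * q = q⁻¹ * (j⁻¹ * (j * a)) * q := by group
      _ = q⁻¹ * (j⁻¹ * (a * j)) * q := by rw [P.J_comm j hj a (P.toCtx.D_le_J ha)]
      _ = (j * q)⁻¹ * a * (j * q) := by group
  have hyD : q * P.y * q⁻¹ ∈ P.toCtx.D := by
    have e : ∀ x, a = q * x * q⁻¹ → (x = P.y ∨ x = P.y⁻¹) → q * P.y * q⁻¹ ∈ P.toCtx.D := by
      rintro x rfl (rfl | rfl)
      · exact ha
      · simpa [mul_assoc] using inv_mem ha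
    rcases P.y_pow_cases hb with e1 | e1
    · exfalso
      have : a = 1 := by
        calc a = q * (q⁻¹ * a * q) * q⁻¹ := by group
          _ = 1 := by rw [e1]; group
      exact P.zz_ne (conj_eq_one_iff.1 (hh.trans this))
    · exact e (q⁻¹ * a * q) (by group) e1
  have hcomm : ⁅P.y, q⁆ ∈ P.Z := by
    have h1 : q * P.y * q⁻¹ * P.y⁻¹ ∈ P.toCtx.D := mul_mem hyD (inv_mem P.y_D)
    have h2 : q * (P.y * q⁻¹ * P.y⁻¹) ∈ P.Q :=
      mul_mem hq (P.toData.L_conj_Q (P.toData.S_le_L P.toFrame.y_S) (inv_mem hq))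
    have h3 := P.toCtx.cent_t_Q (q := q * P.y * q⁻¹ * P.y⁻¹) (by simpa [mul_assoc] using h2)
      (P.toCtx.mem_D.1 h1).2.symm
    have := inv_mem h3
    rw [commutatorElement_def]
    simpa [mul_assoc] using this
  have hc := P.toFrame.y_comm_R ((P.toFrame.R_eq).2 ⟨hq, hcomm⟩)
  have : a = q⁻¹ * a * q := by
    obtain ⟨k, hk⟩ := mem_zpowers_iff.1 hb
    calc a = q * (q⁻¹ * a * q) * q⁻¹ := by group
      _ = q⁻¹ * a * q := by
        rw [← hk, ← conj_zpow, ← hc, mul_inv_cancel_right]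
  rw [this]; exact hb

end Local

end CfsgLib.McLThree
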