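import Cfsg.Agent.McLThree.Basic

/-!
The involution `t` of `L`: it inverts `Q/Z`, an element of `S` outside `Q` fixes exactly `R/Z` on
`Q/Z`, `J` is the only abelian subgroup of order 81 of `S`, and `C_J(t)` has order 9.
-/

set_option autoImplicit false

namespace CfsgLib.McLThree

open Subgroup
open scoped commutatorElement

universe u

variable {G : Type u} [Group G] [Finite G]

namespace Data

variable (D : Data G)

theorem exists_invol : ∃ t : G, ∃ h : t ∈ D.L, t * t = 1 ∧ D.fL ⟨t, h⟩ = -1 := by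
  obtain ⟨x, hx⟩ := D.fL_surj (-1)
  have h2 : D.fL (x * x) = 1 := by rw [map_mul, hx]; exact SL5.neg_one_ne.2
  have h6 := D.Q_cube _ ((D.fL_ker _).1 h2)
  refine ⟨(x * x * x : D.L), (x * x * x).2, ?_, ?_⟩
  · simpa [mul_assoc] using h6
  · show D.fL (x * x * x) = -1
    rw [map_mul, h2, one_mul, hx]

theorem mem_Q_of_eq {x y : G} (hx : x ∈ D.L) (hy : y ∈ D.L) (h : D.fL ⟨x, hx⟩ = D.fL ⟨y, hy⟩) :
    x⁻¹ * y ∈ D.Q :=
  (D.fL_ker (⟨x, hx⟩⁻¹ * ⟨y, hy⟩)).1 (by rw [map_mul, map_inv, h, inv_mul_cancel])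

/-- A subgroup of `L` containing `Q` which maps onto `SL(2,5)` is `L`. -/
theorem eq_L_of_map {N : Subgroup G} (hNL : N ≤ D.L) (hQ : D.Q ≤ N)
    (h : (N.subgroupOf D.L).map D.fL = ⊤) {l : G} (hl : l ∈ D.L) : l ∈ N := by
  obtain ⟨m, hm, e⟩ := (h ▸ mem_top (D.fL ⟨l, hl⟩) : D.fL ⟨l, hl⟩ ∈ (N.subgroupOf D.L).map D.fL)
  have := hQ (D.mem_Q_of_eq m.2 hl e)
  simpa using mul_mem (mem_subgroupOf.1 hm) this

end Data

/-- The data with a chosen involution `t` of `L` outside `Q`. -/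
structure Ctx (G : Type u) [Group G] [Finite G] extends Data G where
  t : G
  t_mem : t ∈ L
  t_sq : t * t = 1
  t_img : fL ⟨t, t_mem⟩ = -1

theorem Data.exists_ctx (D : Data G) : ∃ C : Ctx G, C.toData = D := by
  obtain ⟨t, h, h1, h2⟩ := D.exists_invol
  exact ⟨⟨D, t, h, h1, h2⟩, rfl⟩

namespace Ctx

variable (C : Ctx G)

theorem t_inv_eq : C.t⁻¹ = C.t := inv_eq_of_mul_eq_one_right C.t_sq

theorem t_notMem_Q : C.t ∉ C.Q := fun h => SL5.neg_one_ne.1 (by rw [← C.t_img]; exact (C.fL_ker _).2 h)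

theorem t_ne_one : C.t ≠ 1 := fun h => C.t_notMem_Q (h ▸ one_mem _)

theorem order_t : orderOf C.t = 2 := orderOf_eq_prime (by rw [sq]; exact C.t_sq) C.t_ne_one

theorem t_cent : C.t ∈ centralizer (C.Z : Set G) := C.L_le C.t_mem

theorem t_comm_Z {z : G} (hz : z ∈ C.Z) : z * C.t = C.t * z := C.comm_Z C.t_cent hz

theorem t_Q {q : G} (hq : q ∈ C.Q) : C.t * q * C.t ∈ C.Q := by
  have := C.toData.L_conj_Q C.t_mem hq
  rwa [C.t_inv_eq] at this

/-- `t` is central modulo `Q`. -/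
theorem t_central {l : G} (hl : l ∈ C.L) : l⁻¹ * C.t * l * C.t ∈ C.Q := by
  have e := (C.fL_ker ((⟨l, hl⟩ : C.L)⁻¹ * ⟨C.t, C.t_mem⟩ * ⟨l, hl⟩ * ⟨C.t, C.t_mem⟩)).1 (by
    rw [map_mul, map_mul, map_mul, map_inv, C.t_img, mul_assoc _ (-1 : SL5), SL5.neg_one_central,
      inv_mul_cancel_left, SL5.neg_one_ne.2])
  simpa using e

/-- The elements of `Q` inverted modulo `Z`. -/
def K : Subgroup G where
  carrier := {q | q ∈ C.Q ∧ C.t * q * C.t * q ∈ C.Z}
  one_mem' := ⟨one_mem _, by simp [C.t_sq]⟩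
  mul_mem' := by
    rintro a b ⟨ha, ha'⟩ ⟨hb, hb'⟩
    refine ⟨mul_mem ha hb, ?_⟩
    have hc := C.Q_comm _ (C.t_Q hb) _ ha
    have e : C.t * (a * b) * C.t * (a * b) = (C.t * a * C.t) * (⁅C.t * b * C.t, a⁆ * a) *
        (C.t * b * C.t * b) := by
      calc C.t * (a * b) * C.t * (a * b)
          = C.t * a * (C.t * C.t) * b * C.t * (a * b) := by rw [C.t_sq]; group
        _ = _ := by rw [commutatorElement_def]; group
    rw [e, C.toData.Z_comm_Q ha hc, ← mul_assoc (C.t * a * C.t)]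
    exact mul_mem (mul_mem ha' hc) hb'
  inv_mem' := by
    rintro a ⟨ha, ha'⟩
    refine ⟨inv_mem ha, ?_⟩
    have e : C.t * a⁻¹ * C.t * a⁻¹ = (a * (C.t * a * C.t * a) * a⁻¹)⁻¹ := by
      calc C.t * a⁻¹ * C.t * a⁻¹ = C.t⁻¹ * a⁻¹ * C.t⁻¹ * a⁻¹ := by rw [C.t_inv_eq]
        _ = _ := by group
    rw [e, ← C.toData.Z_comm_Q ha ha', mul_inv_cancel_right]
    exact inv_mem ha'

theorem Z_le_K : C.Z ≤ C.K := fun z hz => ⟨C.Z_le_Q hz, by
  rw [← C.t_comm_Z hz, mul_assoc z, C.t_sq, mul_one]; exact mul_mem hz hz⟩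

theorem K_normal {l : G} (hl : l ∈ C.L) {q : G} (hq : q ∈ C.K) : l * q * l⁻¹ ∈ C.K := by
  obtain ⟨hqQ, hq'⟩ := hq
  refine ⟨C.toData.L_conj_Q hl hqQ, ?_⟩
  set p := l⁻¹ * C.t * l * C.t with hp
  have hpQ : p ∈ C.Q := C.t_central hl
  have e1 : l⁻¹ * C.t * l = p * C.t := by rw [hp, mul_assoc _ C.t C.t, C.t_sq, mul_one]
  have e : C.t * (l * q * l⁻¹) * C.t * (l * q * l⁻¹) =
      l * (⁅p, C.t * q * C.t⁆ * (C.t * q * C.t * q)) * l⁻¹ := by
    calc C.t * (l * q * l⁻¹) * C.t * (l * q * l⁻¹)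
        = l * ((l⁻¹ * C.t * l) * q * (l⁻¹ * C.t * l)⁻¹ * q) * l⁻¹ := by
          simp only [mul_inv_rev, inv_inv, C.t_inv_eq]; group
      _ = l * (p * (C.t * q * C.t) * p⁻¹ * q) * l⁻¹ := by
          rw [e1, mul_inv_rev, C.t_inv_eq]; group
      _ = _ := by rw [commutatorElement_def]; group
  rw [e]
  have hz : ⁅p, C.t * q * C.t⁆ * (C.t * q * C.t * q) ∈ C.Z :=
    mul_mem (C.Q_comm _ hpQ _ (C.t_Q hqQ)) hq'
  rw [← C.toData.comm_Z (C.L_le hl) hz, mul_inv_cancel_right]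
  exact hz

/-- `t` inverts `Q/Z`. -/
theorem K_eq : C.K = C.Q := by
  classical
  have hle : C.K ≤ C.Q := fun q hq => hq.1
  by_contra hne
  have hd : Nat.card C.K ∣ 3 ^ 5 := by
    rw [show (3 : ℕ) ^ 5 = Nat.card C.Q by rw [C.Q_card]; norm_num]
    exact card_dvd_of_le hle
  obtain ⟨n, hn, hKn⟩ := (Nat.dvd_prime_pow Nat.prime_three).1 hd
  have hn4 : n ≤ 4 := by
    by_contra h
    exact hne (eq_of_le_of_card_ge hle (by rw [C.Q_card, hKn, show n = 5 by omega]; norm_num))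
  -- an element of order five
  have : ∃ u : G, ∃ h : u ∈ C.L, u ^ 5 = 1 ∧ u ≠ 1 := by
    haveI : Fact (Nat.Prime 5) := ⟨by norm_num⟩
    obtain ⟨x, hx⟩ := exists_prime_orderOf_dvd_card' (G := C.L) 5 (by rw [C.toData.card_L]; norm_num)
    refine ⟨x, x.2, ?_, fun h => ?_⟩
    · rw [← Subgroup.coe_pow, ← hx, pow_orderOf_eq_one, Subgroup.coe_one]
    · rw [show x = 1 from Subtype.ext h, orderOf_one] at hx; omega
  obtain ⟨u, hu, hu5, hu1⟩ := this
  obtain ⟨z, hz, hz1⟩ : ∃ z ∈ C.Z, z ≠ (1 : G) := by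
    by_contra h
    push Not at h
    have : C.Z = ⊥ := (eq_bot_iff_forall _).2 h
    have hc := C.Z_card
    rw [this, card_bot] at hc
    omega
  have hcom := commute_of_five hKn hn4 hu5 (fun k hk => C.K_normal hu hk) (C.Z_le_K hz) hz1
    (C.toData.comm_Z (C.L_le hu) hz).symm
  -- the kernel of the action
  let N : Subgroup G := C.L ⊓ centralizer (C.K : Set G)
  have hNn : (N.subgroupOf C.L).Normal := ⟨fun n hn l => by
    rw [mem_subgroupOf] at hn ⊢
    refine ⟨C.L.mul_mem (C.L.mul_mem l.2 hn.1) (C.L.inv_mem l.2), mem_centralizer_iff.2 fun k hk => ?_⟩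
    have hk' : (l : G)⁻¹ * k * l ∈ C.K := by simpa using C.K_normal (inv_mem l.2) hk
    have h' := mem_centralizer_iff.1 hn.2 _ hk'
    calc k * ((l : G) * n * (l : G)⁻¹) = l * ((l : G)⁻¹ * k * l * n) * (l : G)⁻¹ := by group
      _ = l * (n * ((l : G)⁻¹ * k * l)) * (l : G)⁻¹ := by rw [h']
      _ = ((l * n * l⁻¹ : C.L) : G) * k := by simp [mul_assoc]⟩
  have huN : u ∈ N := ⟨hu, mem_centralizer_iff.2 fun k hk => (hcom k hk).symm⟩
  have htop := SL5.eq_top_of_five (hNn.map C.fL C.fL_surj)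
    (x := C.fL ⟨u, hu⟩) ⟨⟨u, hu⟩, huN, rfl⟩
    (by rw [← map_pow, show (⟨u, hu⟩ : C.L) ^ 5 = 1 from Subtype.ext hu5, map_one])
    (fun h => by
      have hc := C.Q_cube u ((C.fL_ker _).1 h)
      rw [← pow_three'] at hc
      have : u ^ 1 = 1 := by
        rw [show (1 : ℕ) = Nat.gcd 5 3 by norm_num]; exact pow_gcd_eq_one.2 ⟨hu5, hc⟩
      exact hu1 (by simpa using this))
  obtain ⟨x, hx, hxt⟩ :=
    (htop ▸ mem_top (-1 : SL5) : (-1 : SL5) ∈ (N.subgroupOf C.L).map C.fL)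
  have hp : C.t⁻¹ * (x : G) ∈ C.Q := C.toData.mem_Q_of_eq C.t_mem x.2 (C.t_img.trans hxt.symm)
  have hKZ : C.K ≤ C.Z := by
    intro k hk
    have h := mem_centralizer_iff.1 (mem_subgroupOf.1 hx).2 k hk
    set p := C.t⁻¹ * (x : G)
    have hxp : (x : G) = C.t * p := by simp [p]
    rw [hxp] at h
    have e : C.t * k * C.t * k⁻¹ = ⁅p, k⁆ := by
      rw [commutatorElement_def]
      calc C.t * k * C.t * k⁻¹ = C.t * (k * (C.t * p)) * p⁻¹ * k⁻¹ := by group
        _ = (C.t * C.t) * (p * k * p⁻¹ * k⁻¹) := by rw [h]; group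
        _ = _ := by rw [C.t_sq, one_mul]
    have h1 : C.t * k * C.t * k⁻¹ ∈ C.Z := e ▸ C.Q_comm _ hp _ hk.1
    have h2 : k * k ∈ C.Z := by
      have := mul_mem (inv_mem h1) hk.2
      have e' : (C.t * k * C.t * k⁻¹)⁻¹ * (C.t * k * C.t * k) = k * k := by group
      rwa [e'] at this
    have h3 := mul_mem h2 h2
    rwa [show k * k * (k * k) = k * k * k * k by simp only [mul_assoc], C.Q_cube k hk.1, one_mul] at h3
  refine C.t_notMem_Q (C.cent_Q _ fun q hq => ?_)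
  have htt : C.t * (C.t * q * C.t) * C.t = q := by
    calc C.t * (C.t * q * C.t) * C.t = (C.t * C.t) * q * (C.t * C.t) := by group
      _ = q := by rw [C.t_sq, one_mul, mul_one]
  have hk : (C.t * q * C.t)⁻¹ * q ∈ C.K := by
    refine ⟨mul_mem (inv_mem (C.t_Q hq)) hq, ?_⟩
    have e : C.t * ((C.t * q * C.t)⁻¹ * q) * C.t * ((C.t * q * C.t)⁻¹ * q) = 1 := by
      simp only [mul_inv_rev, C.t_inv_eq]
      calc C.t * (C.t * (q⁻¹ * C.t) * q) * C.t * (C.t * (q⁻¹ * C.t) * q)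
          = (C.t * C.t) * q⁻¹ * C.t * q * (C.t * C.t) * q⁻¹ * C.t * q := by group
        _ = q⁻¹ * C.t * (C.t * q) := by rw [C.t_sq]; group
        _ = q⁻¹ * (C.t * C.t) * q := by group
        _ = 1 := by rw [C.t_sq]; group
    rw [e]; exact one_mem _
  have hz' := hKZ hk
  set w := (C.t * q * C.t)⁻¹ * q with hw
  have hq1 : q = C.t * q * C.t * w := by rw [hw]; group
  have hw2 : q = q * w * w := by
    have h' : C.t * q * C.t = q * w := by
      conv_lhs => rw [hq1]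
      calc C.t * (C.t * q * C.t * w) * C.t = (C.t * C.t) * q * (C.t * w * C.t) := by group
        _ = q * w := by rw [C.t_sq, one_mul, ← C.t_comm_Z hz', mul_assoc w, C.t_sq, mul_one]
    conv_lhs => rw [hq1, h']
  have hw1 : w = 1 := by
    have h' : w * w = 1 := by
      have := congrArg (fun x => q⁻¹ * x) hw2
      simpa [mul_assoc] using this.symm
    have h'' := C.Q_cube w (hle hk)
    rwa [h', one_mul] at h''
  rw [hw1, mul_one] at hq1
  calc C.t * q = C.t * q * (C.t * C.t) := by rw [C.t_sq, mul_one]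
    _ = (C.t * q * C.t) * C.t := by group
    _ = q * C.t := by rw [← hq1]

theorem t_inverts {q : G} (hq : q ∈ C.Q) : C.t * q * C.t * q ∈ C.Z := (C.K_eq.symm ▸ hq : q ∈ C.K).2

theorem cent_t_Q {q : G} (hq : q ∈ C.Q) (h : C.t * q = q * C.t) : q ∈ C.Z := by
  have h1 := C.t_inverts hq
  rw [h, mul_assoc q, C.t_sq, mul_one] at h1
  have h3 := mul_mem h1 h1
  rwa [show q * q * (q * q) = q * q * q * q by simp only [mul_assoc], C.Q_cube q hq, one_mul] at h3

theorem t_swap_Z {q : G} (hq : q ∈ C.Q) (h : C.t * q * C.t * q⁻¹ ∈ C.Z) : q ∈ C.Z := by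
  have h2 : q * q ∈ C.Z := by
    have := mul_mem (inv_mem h) (C.t_inverts hq)
    have e' : (C.t * q * C.t * q⁻¹)⁻¹ * (C.t * q * C.t * q) = q * q := by group
    rwa [e'] at this
  have h3 := mul_mem h2 h2
  rwa [show q * q * (q * q) = q * q * q * q by simp only [mul_assoc], C.Q_cube q hq, one_mul] at h3

/-- The elements of `Q` centralised modulo `Z` by `a`. -/
def Fix {a : G} (ha : a ∈ C.L) : Subgroup G where
  carrier := {q | q ∈ C.Q ∧ ⁅a, q⁆ ∈ C.Z}
  one_mem' := ⟨one_mem _, by simp [commutatorElement_def]⟩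
  mul_mem' := by
    rintro x y ⟨hx, hx'⟩ ⟨hy, hy'⟩
    refine ⟨mul_mem hx hy, ?_⟩
    have e : ⁅a, x * y⁆ = ⁅a, x⁆ * (x * ⁅a, y⁆ * x⁻¹) := by
      simp only [commutatorElement_def]; group
    rw [e, ← C.toData.Z_comm_Q hx hy', mul_inv_cancel_right]
    exact mul_mem hx' hy'
  inv_mem' := by
    rintro x ⟨hx, hx'⟩
    refine ⟨inv_mem hx, ?_⟩
    have e : ⁅a, x⁻¹⁆ = x⁻¹ * ⁅a, x⁆⁻¹ * x := by simp only [commutatorElement_def]; group
    rw [e, mul_assoc, C.toData.Z_comm_Q hx (inv_mem hx'), ← mul_assoc, inv_mul_cancel, one_mul]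
    exact inv_mem hx'

theorem mem_J_Q {s : G} (hs : s ∈ (C.S : Subgroup G)) : ∃ j ∈ C.J, ∃ q ∈ C.Q, s = j * q := by
  have hn : C.J ≤ normalizer (C.Q : Set G) := (C.J_le.trans C.toData.S_le_L).trans C.toData.L_norm_Q
  have hcard := CfsgLib.Solvable.card_sup_mul_card_inf hn
  rw [C.J_card, C.Q_card, show C.J ⊓ C.Q = C.toData.R from rfl, C.toData.card_R] at hcard
  have e : C.J ⊔ C.Q = (C.S : Subgroup G) :=
    eq_of_le_of_card_ge (sup_le C.J_le C.toData.Q_le_S) (by rw [C.toData.card_S]; omega)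
  rw [← e] at hs
  obtain ⟨j, hj, q, hq, h⟩ := (Set.mem_mul.1
    ((Subgroup.coe_mul_of_left_le_normalizer_right _ _ hn).subset hs))
  exact ⟨j, hj, q, hq, h.symm⟩

theorem J_comm_Z {j z : G} (hj : j ∈ C.J) (hz : z ∈ C.Z) : j * z = z * j :=
  C.J_comm j hj z (C.toData.Z_le_J hz)

theorem R_le_Fix {a : G} (ha : a ∈ (C.S : Subgroup G)) :
    C.toData.R ≤ C.Fix (C.toData.S_le_L ha) := by
  intro r hr
  refine ⟨hr.2, ?_⟩
  obtain ⟨j, hj, q, hq, rfl⟩ := C.mem_J_Q ha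
  have hc := C.Q_comm q hq r hr.2
  have e : ⁅j * q, r⁆ = j * ⁅q, r⁆ * j⁻¹ * ⁅j, r⁆ := by simp only [commutatorElement_def]; group
  rw [e, C.J_comm_Z hj hc, mul_inv_cancel_right,
    commutatorElement_eq_one_iff_mul_comm.2 (C.J_comm j hj r hr.1), mul_one]
  exact hc

/-- An element of `S` outside `Q` centralises only `R` modulo `Z`. -/
theorem Fix_eq {a : G} (ha : a ∈ (C.S : Subgroup G)) (haQ : a ∉ C.Q) :
    C.Fix (C.toData.S_le_L ha) = C.toData.R := by
  haveI : Fact (Nat.Prime 3) := ⟨Nat.prime_three⟩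
  set haL := C.toData.S_le_L ha
  refine (eq_of_le_of_card_ge (C.R_le_Fix ha) ?_).symm
  rw [C.toData.card_R]
  by_contra hgt
  have hle : C.Fix haL ≤ C.Q := fun q hq => hq.1
  have h81 : 81 ≤ Nat.card (C.Fix haL) := by
    obtain ⟨n, -, hn⟩ := (Nat.dvd_prime_pow Nat.prime_three).1
      (show Nat.card (C.Fix haL) ∣ 3 ^ 5 by
        rw [show (3 : ℕ) ^ 5 = Nat.card C.Q by rw [C.Q_card]; norm_num]
        exact card_dvd_of_le hle)
    rw [hn] at hgt ⊢
    have : 4 ≤ n := by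
      by_contra h
      have : 3 ^ n ≤ 3 ^ 3 := Nat.pow_le_pow_right (by norm_num) (by omega)
      omega
    exact le_trans (by norm_num) (Nat.pow_le_pow_right (by norm_num : 0 < 3) this)
  -- the image has order three
  set α := C.fL ⟨a, haL⟩ with hα
  have ha1 : α ≠ 1 := fun h => haQ ((C.fL_ker _).1 h)
  have hα3 : α * α * α = 1 := by
    obtain ⟨j, hj, q, hq, e⟩ := C.mem_J_Q ha
    have hjL : j ∈ C.L := C.toData.S_le_L (C.J_le hj)
    have h' : α = C.fL ⟨j, hjL⟩ := by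
      rw [hα, show (⟨a, haL⟩ : C.L) = ⟨j, hjL⟩ * ⟨q, C.Q_le_L hq⟩ from Subtype.ext e, map_mul,
        (C.fL_ker ⟨q, C.Q_le_L hq⟩).2 hq, mul_one]
    rw [h', ← map_mul, ← map_mul]
    exact (C.fL_ker _).2 (by simpa [mul_assoc] using (C.J_cube j hj ▸ one_mem C.Q :
      j * j * j ∈ C.Q))
  obtain ⟨v, hv⟩ := SL5.exists_gen hα3 ha1
  obtain ⟨x, hx⟩ := C.fL_surj v
  have hbL : (x : G) * a * (x : G)⁻¹ ∈ C.L := mul_mem (mul_mem x.2 haL) (inv_mem x.2)
  -- the common fixed points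
  let F : Subgroup G := C.Fix haL ⊓ C.Fix hbL
  have hb81 : 81 ≤ Nat.card (C.Fix hbL) := by
    refine h81.trans (Nat.card_le_card_of_injective
      (fun q => ⟨(x : G) * q * (x : G)⁻¹, C.toData.L_conj_Q x.2 q.2.1, ?_⟩) ?_)
    · have e : ⁅(x : G) * a * (x : G)⁻¹, (x : G) * q * (x : G)⁻¹⁆ = x * ⁅a, (q : G)⁆ * (x : G)⁻¹ := by
        simp only [commutatorElement_def]; group
      rw [e, ← C.toData.comm_Z (C.L_le x.2) q.2.2, mul_inv_cancel_right]
      exact q.2.2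
    · intro q r h
      exact Subtype.ext (mul_left_cancel (mul_right_cancel (congrArg Subtype.val h)))
  have hF : 9 ≤ Nat.card F := by
    have hn : C.Fix haL ≤ normalizer (C.Fix hbL : Set G) := by
      intro q hq
      refine mem_normalizer_iff.2 fun r => ?_
      have aux : ∀ q' ∈ C.Q, ∀ r ∈ C.Fix hbL, q' * r * q'⁻¹ ∈ C.Fix hbL := by
        intro q' hq' r hr
        have hz := C.Q_comm q' hq' r hr.1
        rw [show q' * r * q'⁻¹ = ⁅q', r⁆ * r by simp [commutatorElement_def]]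
        refine mul_mem ⟨C.Z_le_Q hz, ?_⟩ hr
        rw [commutatorElement_eq_one_iff_mul_comm.2 (C.toData.comm_Z (C.L_le hbL) hz).symm]
        exact one_mem _
      refine ⟨aux q hq.1 r, fun h => ?_⟩
      have := aux q⁻¹ (inv_mem hq.1) _ h
      simpa [mul_assoc] using this
    have h := card_meet hle (fun q hq => hq.1 : C.Fix hbL ≤ C.Q) hn
    rw [C.Q_card] at h
    have h' := Nat.mul_le_mul h81 hb81
    change Nat.card (C.Fix haL) * Nat.card (C.Fix hbL) ≤ 243 * Nat.card F at h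
    omega
  -- centralised by `L`
  let N : Subgroup G :=
    { carrier := {l | l ∈ C.L ∧ ∀ q ∈ F, ⁅l, q⁆ ∈ C.Z}
      one_mem' := ⟨one_mem _, fun q _ => by simp [commutatorElement_def]⟩
      mul_mem' := by
        rintro l m ⟨hl, hl'⟩ ⟨hm, hm'⟩
        refine ⟨mul_mem hl hm, fun q hq => ?_⟩
        have e : ⁅l * m, q⁆ = l * ⁅m, q⁆ * l⁻¹ * ⁅l, q⁆ := by simp only [commutatorElement_def]; group
        rw [e, ← C.toData.comm_Z (C.L_le hl) (hm' q hq), mul_inv_cancel_right]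
        exact mul_mem (hm' q hq) (hl' q hq)
      inv_mem' := by
        rintro l ⟨hl, hl'⟩
        refine ⟨inv_mem hl, fun q hq => ?_⟩
        have e : ⁅l⁻¹, q⁆ = l⁻¹ * ⁅l, q⁆⁻¹ * l := by simp only [commutatorElement_def]; group
        rw [e, mul_assoc, C.toData.comm_Z (C.L_le hl) (inv_mem (hl' q hq)), ← mul_assoc,
          inv_mul_cancel, one_mul]
        exact inv_mem (hl' q hq) }
  have htop : (N.subgroupOf C.L).map C.fL = ⊤ := by
    refine hv _ ⟨⟨a, haL⟩, ⟨haL, fun q hq => hq.1.2⟩, rfl⟩ ⟨⟨_, hbL⟩, ⟨hbL, fun q hq => hq.2.2⟩, ?_⟩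
    rw [show (⟨_, hbL⟩ : C.L) = x * ⟨a, haL⟩ * x⁻¹ from Subtype.ext rfl, map_mul, map_mul, map_inv, hx]
  have htN : C.t ∈ N := C.toData.eq_L_of_map (N := N) (fun l hl => hl.1)
    (fun q hq => ⟨C.Q_le_L hq, fun r hr => C.Q_comm q hq r (hle hr.1)⟩) htop C.t_mem
  have hFZ : F ≤ C.Z := by
    intro q hq
    refine C.t_swap_Z (hle hq.1) ?_
    have := htN.2 q hq
    rwa [commutatorElement_def, C.t_inv_eq] at this
  have := card_le_of_le hFZ
  rw [C.Z_card] at this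
  omega

theorem exists_notMem_Q : ∃ a ∈ C.J, a ∉ C.Q := by
  by_contra h
  push Not at h
  have := card_le_of_le (show C.J ≤ C.toData.R from fun a ha => ⟨ha, h a ha⟩)
  rw [C.J_card, C.toData.card_R] at this
  omega

/-- `C_S(R) = J`. -/
theorem cent_R_S {s : G} (hs : s ∈ (C.S : Subgroup G)) (h : ∀ r ∈ C.toData.R, s * r = r * s) :
    s ∈ C.J := by
  obtain ⟨j, hj, q, hq, rfl⟩ := C.mem_J_Q hs
  refine mul_mem hj (C.toData.R_le_J (C.toData.cent_R hq fun r hr => ?_))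
  have h1 := h r hr
  have h2 := C.J_comm j hj r hr.1
  calc q * r = j⁻¹ * (j * q * r) := by group
    _ = j⁻¹ * (r * (j * q)) := by rw [h1]
    _ = j⁻¹ * (r * j) * q := by group
    _ = j⁻¹ * (j * r) * q := by rw [h2]
    _ = r * q := by group

/-- `J` is the only abelian subgroup of order 81 of `S`. -/
theorem J_unique {A : Subgroup G} (hA : A ≤ C.S) (hc : ∀ a ∈ A, ∀ b ∈ A, a * b = b * a)
    (h81 : Nat.card A = 81) : A = C.J := by
  refine eq_of_le_of_card_ge ?_ (by rw [C.J_card, h81])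
  have h27 : Nat.card ↥(A ⊓ C.Q) = 27 := by
    have h1 := C.toData.card_abelian_le (A := A ⊓ C.Q) inf_le_right fun a ha b hb => hc a ha.1 b hb.1
    have h2 := C.toData.card_meet_Q hA
    rw [h81] at h2
    omega
  obtain ⟨a, haA, haQ⟩ : ∃ a ∈ A, a ∉ C.Q := by
    by_contra h
    push Not at h
    have := card_le_of_le (show A ≤ A ⊓ C.Q from fun a ha => ⟨ha, h a ha⟩)
    omega
  have hsub : A ⊓ C.Q ≤ C.Fix (C.toData.S_le_L (hA haA)) := fun q hq => ⟨hq.2, by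
    rw [commutatorElement_eq_one_iff_mul_comm.2 (hc a haA q hq.1)]; exact one_mem _⟩
  rw [C.Fix_eq (hA haA) haQ] at hsub
  have hR : A ⊓ C.Q = C.toData.R := eq_of_le_of_card_ge hsub (by rw [h27, C.toData.card_R])
  intro x hx
  refine C.cent_R_S (hA hx) fun r hr => hc x hx r ?_
  exact ((hR ▸ hr : r ∈ A ⊓ C.Q)).1

/-- An element normalising `S` normalises `J`. -/
theorem normalizer_S_le {g : G} (hg : g ∈ normalizer ((C.S : Subgroup G) : Set G)) :
    g ∈ normalizer (C.J : Set G) := by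
  have e : C.J.map (MulAut.conj g).toMonoidHom = C.J := by
    refine C.J_unique ?_ ?_ ?_
    · rintro _ ⟨j, hj, rfl⟩
      exact (mem_normalizer_iff.1 hg j).1 (C.J_le hj)
    · rintro _ ⟨j, hj, rfl⟩ _ ⟨k, hk, rfl⟩
      rw [← map_mul, ← map_mul, C.J_comm j hj k hk]
    · rw [card_map_of_injective (MulAut.conj g).injective, C.J_card]
  refine mem_normalizer_iff.2 fun x => ⟨fun hx => ?_, fun hx => ?_⟩
  · rw [← e]; exact ⟨x, hx, rfl⟩
  · rw [← e] at hx
    obtain ⟨y, hy, he⟩ := hx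
    have : y = x := by
      have he' : g * y * g⁻¹ = g * x * g⁻¹ := he
      exact mul_left_cancel (mul_right_cancel he')
    exact this ▸ hy

theorem t_normS : C.t ∈ normalizer ((C.S : Subgroup G) : Set G) := by
  have aux : ∀ s ∈ (C.S : Subgroup G), C.t * s * C.t⁻¹ ∈ (C.S : Subgroup G) := by
    intro s hs
    have h := C.t_central (inv_mem (C.toData.S_le_L hs))
    rw [inv_inv] at h
    have e : C.t * s * C.t⁻¹ = (s * C.t * s⁻¹ * C.t)⁻¹ * s := by
      simp only [mul_inv_rev, inv_inv, C.t_inv_eq]; group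
    rw [e]
    exact mul_mem (inv_mem (C.toData.Q_le_S h)) hs
  refine mem_normalizer_iff.2 fun s => ⟨aux s, fun h => ?_⟩
  have := aux _ h
  rw [C.t_inv_eq] at this
  rwa [show C.t * (C.t * s * C.t) * C.t = (C.t * C.t) * s * (C.t * C.t) by group, C.t_sq, one_mul,
    mul_one] at this

theorem t_J {a : G} (ha : a ∈ C.J) : C.t * a * C.t ∈ C.J := by
  have := (mem_normalizer_iff.1 (C.normalizer_S_le C.t_normS) a).1 ha
  rwa [C.t_inv_eq] at this

/-- An element of `J` outside `Q` centralised by `t`. -/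
theorem exists_fixed : ∃ d ∈ C.J, d ∉ C.Q ∧ C.t * d = d * C.t := by
  obtain ⟨a, ha, haQ⟩ := C.exists_notMem_Q
  set r := a⁻¹ * (C.t * a * C.t) with hr
  have hrR : r ∈ C.toData.R := by
    refine ⟨C.J.mul_mem (C.J.inv_mem ha) (C.t_J ha), ?_⟩
    have := C.t_central (C.toData.S_le_L (C.J_le ha))
    rwa [hr, ← mul_assoc, ← mul_assoc]
  have htr : C.t * r * C.t = r⁻¹ := by
    calc C.t * r * C.t = (C.t * a⁻¹ * C.t) * a * (C.t * C.t) := by rw [hr]; group
      _ = r⁻¹ := by rw [C.t_sq, hr]; simp only [mul_inv_rev, inv_inv, C.t_inv_eq, mul_one, mul_assoc]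
  refine ⟨a * (r * r), mul_mem ha (mul_mem hrR.1 hrR.1), fun h => haQ ?_, ?_⟩
  · have := mul_mem h (inv_mem (mul_mem hrR.2 hrR.2))
    rwa [mul_inv_cancel_right] at this
  · have h3 : r * r * r = 1 := C.Q_cube r hrR.2
    have e : C.t * (a * (r * r)) * C.t = a * (r * r) := by
      calc C.t * (a * (r * r)) * C.t = C.t * a * (C.t * C.t) * r * (C.t * C.t) * r * C.t := by
            rw [C.t_sq]; group
        _ = (C.t * a * C.t) * (C.t * r * C.t) * (C.t * r * C.t) := by group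
        _ = a * r * r⁻¹ * r⁻¹ := by rw [htr, hr]; group
        _ = a * r⁻¹ := by group
        _ = a * (r * r) := by rw [show r⁻¹ = r * r from inv_eq_of_mul_eq_one_right (by
              rw [← mul_assoc]; exact h3)]
    calc C.t * (a * (r * r)) = C.t * (a * (r * r)) * (C.t * C.t) := by rw [C.t_sq, mul_one]
      _ = C.t * (a * (r * r)) * C.t * C.t := by group
      _ = a * (r * r) * C.t := by rw [e]

end Ctx

end CfsgLib.McLThree
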