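import Mathlib

/-! Facts about the alternating group of degree six and the normalizer of a Sylow 3-subgroup. -/

set_option autoImplicit false
set_option maxRecDepth 100000

namespace CfsgLib.McLThree.Six

open Equiv

/-- The first three-cycle. -/
def pa : Perm (Fin 6) := swap 0 1 * swap 1 2
/-- The second three-cycle. -/
def pb : Perm (Fin 6) := swap 3 4 * swap 4 5
/-- An element of order four normalizing the two cycles. -/
def pc : Perm (Fin 6) := swap 0 3 * (swap 1 4 * swap 4 2 * swap 2 5)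
/-- An involution inverting `pc`. -/
def pg : Perm (Fin 6) := swap 1 4 * swap 2 5
/-- A conjugating element. -/
def px : Perm (Fin 6) := swap 2 4 * swap 0 3

/-- The Sylow subgroup as a list. -/
def P0 : List (Perm (Fin 6)) :=
  [1, pa, pa * pa, pb, pa * pb, pa * pa * pb, pb * pb, pa * (pb * pb), pa * pa * (pb * pb)]

theorem signs : Perm.sign pa = 1 ∧ Perm.sign pb = 1 ∧ Perm.sign pc = 1 ∧ Perm.sign pg = 1 ∧
    Perm.sign px = 1 := by decide +kernel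

theorem pc_facts : pc * pc * (pc * pc) = 1 ∧ pc * pc ≠ 1 ∧ pc * pc ∉ P0 ∧
    (∀ p ∈ P0, pc * p * pc⁻¹ ∈ P0) ∧ (∀ p ∈ P0, pc * pc * p * (pc * pc)⁻¹ = p⁻¹) := by
  decide +kernel

theorem pg_facts : pg * pg = 1 ∧ pg * (pc * pc) = pc * pc * pg ∧
    px * (pc * pc) * px⁻¹ = pg ∧ pg * pa * pg⁻¹ ∉ P0 ∧ pg ≠ 1 := by decide +kernel

theorem norm_P0 : ∀ x : Perm (Fin 6), Perm.sign x = 1 → x * pa * x⁻¹ ∈ P0 → x * pb * x⁻¹ ∈ P0 →
    x ∈ P0 ∨ x * pc⁻¹ ∈ P0 ∨ x * (pc * pc)⁻¹ ∈ P0 ∨ x * (pc * pc * pc)⁻¹ ∈ P0 := by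
  decide +kernel

theorem cent_sq : ∀ x : Perm (Fin 6), x * (pc * pc) = pc * pc * x → Perm.sign x = 1 →
    (x = 1 ∨ x = pc ∨ x = pc * pc ∨ x = pc * pc * pc) ∨
      (x * pg = 1 ∨ x * pg = pc ∨ x * pg = pc * pc ∨ x * pg = pc * pc * pc) := by
  decide +kernel

theorem pg_pc : pg * pc = pc * pc * pc * pg := by decide +kernel

theorem coset_facts : ∀ p ∈ P0, (∀ r ∈ P0, p * pc * (p * pc) * r * (p * pc * (p * pc))⁻¹ = r⁻¹) ∧
    ∃ q ∈ P0, q * (p * pc) * q⁻¹ = pc := by decide +kernel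

theorem P0_closed : ∀ x ∈ P0, ∀ r ∈ P0, x * r ∈ P0 := by decide +kernel

theorem P0_inv : ∀ x ∈ P0, x⁻¹ ∈ P0 := by decide +kernel

theorem P0_signs : ∀ p ∈ P0, Perm.sign p = 1 := by decide +kernel

theorem P0_nodup : P0.Nodup ∧ P0.length = 9 := by decide +kernel

theorem P0_group : (∀ x ∈ P0, ∀ r ∈ P0, x * r ∈ P0) ∧ (∀ x ∈ P0, x⁻¹ ∈ P0) ∧ P0.Nodup ∧
    P0.length = 9 := ⟨P0_closed, P0_inv, P0_nodup.1, P0_nodup.2⟩

theorem P0_three : ∀ p ∈ P0, p * p * p = 1 := by decide +kernel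

end CfsgLib.McLThree.Six
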