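import Cfsg.Agent.McLThree.CentE
import Cfsg.Agent.McLThree.SixFacts

/-!
The normalizer side: an element `c ∈ M` of order four with `c² = t` inverting `z` and `y`, and an
involution `g ∈ M`, conjugate to `t`, exchanging `z` and `y`.
-/

set_option autoImplicit false
set_option maxHeartbeats 800000

namespace CfsgLib.McLThree

open Subgroup
open scoped commutatorElement

universe u

variable {G : Type u} [Group G] [Finite G]

/-- An involution congruent to `t` modulo an exponent three subgroup is a conjugate of `t` in it. -/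
theorem conj_of_invol {t p : G} (ht : t * t = 1) (hp : p * p * p = 1) (h : t * p * (t * p) = 1) :
    p * t * p⁻¹ = t * p := by
  have hti : t⁻¹ = t := inv_eq_of_mul_eq_one_right ht
  have h1 : t * p * t = p⁻¹ := by
    calc t * p * t = t * p * (t * p) * p⁻¹ := by group
      _ = p⁻¹ := by rw [h, one_mul]
  have hp2 : p⁻¹ = p * p := inv_eq_of_mul_eq_one_right (by rw [← mul_assoc]; exact hp)
  calc p * t * p⁻¹ = t * (t * p * t) * p⁻¹ := by
        calc p * t * p⁻¹ = (t * t) * (p * t) * p⁻¹ := by rw [ht, one_mul]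
          _ = _ := by group
    _ = t * (p⁻¹ * p⁻¹) := by rw [h1, mul_assoc]
    _ = t * p := by rw [hp2]; congr 1; simp only [mul_assoc]; rw [← mul_assoc p p p, hp, mul_one]

namespace Frame

variable (F : Frame G)

/-- The subgroup `P₀`. -/
def Pg : Subgroup (alternatingGroup (Fin 6)) where
  carrier := {x | (x : Equiv.Perm (Fin 6)) ∈ Six.P0}
  one_mem' := by simp [Six.P0]
  mul_mem' := fun hx hy => Six.P0_group.1 _ hx _ hy
  inv_mem' := fun hx => Six.P0_group.2.1 _ hx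

theorem card_Pg : Nat.card Pg = 9 := by
  classical
  have hmem : ∀ p ∈ Six.P0, p ∈ alternatingGroup (Fin 6) := by
    intro p hp
    rw [Equiv.Perm.mem_alternatingGroup]
    exact Six.P0_signs p hp
  let e : Pg ≃ {p // p ∈ Six.P0.toFinset} :=
    { toFun := fun x => ⟨(x.1 : Equiv.Perm (Fin 6)), List.mem_toFinset.2 x.2⟩
      invFun := fun p => ⟨⟨p.1, hmem _ (List.mem_toFinset.1 p.2)⟩, List.mem_toFinset.1 p.2⟩
      left_inv := fun x => rfl
      right_inv := fun p => rfl }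
  rw [Nat.card_congr e, Nat.card_eq_fintype_card, Fintype.card_coe,
    List.toFinset_card_of_nodup Six.P0_group.2.2.1, Six.P0_group.2.2.2]

theorem S_le_M : (F.S : Subgroup G) ≤ F.M := by
  intro g hg
  obtain ⟨k, hk⟩ := F.S.2 ⟨g, hg⟩
  exact F.M_three g (F.toCtx.normalizer_S_le (le_normalizer hg)) ⟨k, congrArg Subtype.val hk⟩

theorem exists_image : ∃ f : F.M →* alternatingGroup (Fin 6), Function.Surjective f ∧
    (∀ x : F.M, f x = 1 ↔ (x : G) ∈ F.J) ∧ ∀ x : F.M, (x : G) ∈ (F.S : Subgroup G) ↔ f x ∈ Pg := by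
  classical
  haveI : Fact (Nat.Prime 3) := ⟨Nat.prime_three⟩
  let SM := (F.S : Subgroup G).subgroupOf F.M
  let U := SM.map F.fM
  have hker : F.fM.ker = F.J.subgroupOf F.M := by
    ext x; rw [MonoidHom.mem_ker, F.fM_ker, mem_subgroupOf]
  have hle : F.fM.ker ≤ SM := fun x hx => mem_subgroupOf.2 (F.J_le ((F.fM_ker x).1 hx))
  have hcardU : Nat.card U = 9 := by
    let φ : SM →* alternatingGroup (Fin 6) := F.fM.comp SM.subtype
    have h1 := Subgroup.card_eq_card_quotient_mul_card_subgroup φ.ker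
    rw [Nat.card_congr (QuotientGroup.quotientKerEquivRange φ).toEquiv] at h1
    have h2 : φ.ker = F.fM.ker.subgroupOf SM := by ext x; rfl
    have h3 : φ.range = U := by rw [MonoidHom.range_comp, range_subtype]
    rw [h2, h3, Nat.card_congr (subgroupOfEquivOfLe hle).toEquiv,
      Nat.card_congr (subgroupOfEquivOfLe F.S_le_M).toEquiv, F.toData.card_S, hker,
      Nat.card_congr (subgroupOfEquivOfLe F.J_le_M).toEquiv, F.J_card] at h1
    omega
  have hfac : (Nat.card (alternatingGroup (Fin 6))).factorization 3 = 2 := by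
    rw [nat_card_alternatingGroup, Nat.card_fin,
      show Nat.factorial 6 / 2 = 3 ^ 2 * 40 by decide,
      Nat.factorization_mul (by norm_num) (by norm_num), Finsupp.add_apply,
      Nat.Prime.factorization_pow Nat.prime_three, Finsupp.single_eq_same,
      Nat.factorization_eq_zero_of_not_dvd (by norm_num : ¬ 3 ∣ 40)]
  let U' : Sylow 3 (alternatingGroup (Fin 6)) := Sylow.ofCard U (by rw [hfac, hcardU]; norm_num)
  let P' : Sylow 3 (alternatingGroup (Fin 6)) := Sylow.ofCard Pg (by rw [hfac, card_Pg]; norm_num)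
  obtain ⟨a, ha⟩ := MulAction.exists_smul_eq (alternatingGroup (Fin 6)) U' P'
  refine ⟨(MulAut.conj a).toMonoidHom.comp F.fM, (MulAut.conj a).surjective.comp F.fM_surj,
    fun x => ?_, fun x => ?_⟩
  · simp [MulEquiv.map_eq_one_iff, F.fM_ker]
  · have hP : U.map (MulAut.conj a).toMonoidHom = Pg := by
      have := congrArg Sylow.toSubgroup ha
      simp only [U', P', Sylow.coe_subgroup_smul, Sylow.coe_ofCard, Subgroup.pointwise_smul_def] at this
      exact this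
    rw [← hP, MonoidHom.comp_apply]
    constructor
    · intro hx; exact mem_map_of_mem _ ⟨x, hx, rfl⟩
    · rintro ⟨_, ⟨s, hs, rfl⟩, e⟩
      have e' : F.fM s = F.fM x := (MulAut.conj a).injective e
      have : (F.J : Set G) ((s : G)⁻¹ * x) := (F.fM_ker (s⁻¹ * x)).1 (by rw [map_mul, map_inv, e', inv_mul_cancel])
      have h2 := mul_mem (mem_subgroupOf.1 hs) (F.J_le this)
      simpa using h2

theorem mem_D_of_J {d : G} (hd : d ∈ F.J) (ht : d * F.t = F.t * d) : d ∈ F.toCtx.D :=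
  F.toCtx.mem_D.2 ⟨hd, ht⟩

theorem D_comm {a b : G} (ha : a ∈ F.toCtx.D) (hb : b ∈ F.toCtx.D) : a * b = b * a :=
  F.J_comm a (F.toCtx.D_le_J ha) b (F.toCtx.D_le_J hb)

theorem D_cube {a : G} (ha : a ∈ F.toCtx.D) : a * a * a = 1 := F.J_cube a (F.toCtx.D_le_J ha)

/-- Coordinates in `D` are unique. -/
theorem D_unique {z z' : G} {i i' : Fin 3} (hz : z ∈ F.Z) (hz' : z' ∈ F.Z)
    (h : z * F.y ^ (i : ℕ) = z' * F.y ^ (i' : ℕ)) : z = z' ∧ i = i' := by
  have h1 : F.y ^ (i : ℕ) * (F.y ^ (i' : ℕ))⁻¹ = z⁻¹ * z' := by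
    rw [mul_inv_eq_iff_eq_mul, mul_assoc, ← h, inv_mul_cancel_left]
  have h2 : z⁻¹ * z' = 1 := F.toCtx.E_inf_Z (by
    rw [← h1]; exact mul_mem (pow_mem F.y_E _) (inv_mem (pow_mem F.y_E _))) (mul_mem (inv_mem hz) hz')
  have hzz : z = z' := inv_mul_eq_one.1 h2
  refine ⟨hzz, ?_⟩
  subst hzz
  have h3 := mul_left_cancel h
  have ho : orderOf F.y = 3 := orderOf_eq_prime (p := 3) (by rw [pow_three']; exact F.y_cube)
    (fun e => F.y_Q (by rw [e]; exact one_mem _))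
  have := pow_injOn_Iio_orderOf (x := F.y) (by simpa [ho] using i.2) (by simpa [ho] using i'.2) h3
  exact Fin.ext this

/-- An element of `N(Z) ∩ C(t)` normalises `E`. -/
theorem conj_E {x : G} (hx : x ∈ normalizer (F.Z : Set G)) (ht : x * F.t = F.t * x) {f : G}
    (hf : f ∈ F.toCtx.E) : x * f * x⁻¹ ∈ F.toCtx.E := by
  have hCL : ∀ l ∈ F.toCtx.CL, x * l * x⁻¹ ∈ F.toCtx.CL := by
    intro l hl
    refine F.toCtx.mem_CL.2 ⟨F.L_normal x hx l (F.toCtx.mem_CL.1 hl).1, ?_⟩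
    have hlt := (F.toCtx.mem_CL.1 hl).2
    calc x * l * x⁻¹ * F.t = x * l * (x⁻¹ * (F.t * x)) * x⁻¹ := by group
      _ = x * (l * F.t) * x⁻¹ := by rw [← ht]; group
      _ = x * (F.t * l) * x⁻¹ := by rw [hlt]
      _ = (x * F.t) * l * x⁻¹ := by group
      _ = (F.t * x) * l * x⁻¹ := by rw [ht]
      _ = _ := by group
  obtain ⟨f', hf', rfl⟩ := hf
  let φ : F.toCtx.CL →* F.toCtx.CL :=
    { toFun := fun l => ⟨x * l * x⁻¹, hCL l l.2⟩
      map_one' := Subtype.ext (by simp)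
      map_mul' := fun a b => Subtype.ext (by simp [mul_assoc]) }
  refine ⟨φ f', ?_, rfl⟩
  have : (commutator F.toCtx.CL).map φ ≤ commutator F.toCtx.CL := by
    rw [commutator_def, map_commutator]
    exact commutator_mono le_top le_top
  exact this (mem_map_of_mem φ hf')

/-- An element of `N(Z) ∩ C(t) ∩ N(J)` fixes or inverts `y`. -/
theorem conj_y {x : G} (hx : x ∈ normalizer (F.Z : Set G)) (ht : x * F.t = F.t * x)
    (hJ : x ∈ normalizer (F.J : Set G)) : x * F.y * x⁻¹ = F.y ∨ x * F.y * x⁻¹ = F.y⁻¹ := by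
  have hD : x * F.y * x⁻¹ ∈ F.toCtx.D := by
    refine F.toCtx.mem_D.2 ⟨(mem_normalizer_iff.1 hJ _).1 F.y_J, ?_⟩
    have h := F.toCtx.E_t (F.conj_E hx ht F.y_E)
    exact h
  obtain ⟨z, hz, i, hzi⟩ := F.D_gen _ hD
  have hz1 : z = 1 := F.toCtx.E_inf_Z (by
    rw [show z = x * F.y * x⁻¹ * (F.y ^ (i : ℕ))⁻¹ by rw [hzi, mul_inv_cancel_right]]
    exact mul_mem (F.conj_E hx ht F.y_E) (inv_mem (pow_mem F.y_E _))) hz
  rw [hz1, one_mul] at hzi
  fin_cases i
  · exact absurd (conj_eq_one_iff.1 (show x * F.y * x⁻¹ = 1 by simpa using hzi)) (fun e => F.y_Q (by rw [e]; exact one_mem _))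
  · left; simpa using hzi
  · right
    rw [hzi, eq_inv_iff_mul_eq_one]
    simpa [sq] using F.y_cube

theorem normS_normZ {x : G} (hx : x ∈ normalizer ((F.S : Subgroup G) : Set G)) :
    x ∈ normalizer (F.Z : Set G) := by
  have aux : ∀ x ∈ normalizer ((F.S : Subgroup G) : Set G), ∀ z ∈ F.Z, x * z * x⁻¹ ∈ F.Z := by
    intro x hx z hz
    have hS : x * z * x⁻¹ ∈ (F.S : Subgroup G) := (mem_normalizer_iff.1 hx z).1 (F.toData.Z_le_S hz)
    have hcent : ∀ s ∈ (F.S : Subgroup G), x * z * x⁻¹ * s = s * (x * z * x⁻¹) := by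
      intro s hs
      have h' : x⁻¹ * s * x ∈ (F.S : Subgroup G) := (mem_normalizer_iff''.1 hx s).1 hs
      have hc := F.toData.comm_Z (F.S_le h') hz
      calc x * z * x⁻¹ * s = x * (z * (x⁻¹ * s * x)) * x⁻¹ := by group
        _ = x * (x⁻¹ * s * x * z) * x⁻¹ := by rw [hc]
        _ = _ := by group
    exact F.Z_center _ (F.cent_Q _ fun q hq => hcent q (F.toData.Q_le_S hq))
      fun q hq => hcent q (F.toData.Q_le_S hq)
  refine mem_normalizer_iff.2 fun z => ⟨aux x hx z, fun h => ?_⟩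
  have := aux x⁻¹ (inv_mem hx) _ h
  simpa [mul_assoc] using this

/-- An element of `M` with a power of the image of `pc` as image, commuting with `t`. -/
theorem exists_c : ∃ f : F.M →* alternatingGroup (Fin 6), Function.Surjective f ∧
    (∀ x : F.M, f x = 1 ↔ (x : G) ∈ F.J) ∧ (∀ x : F.M, (x : G) ∈ (F.S : Subgroup G) ↔ f x ∈ Pg) ∧
    ∃ c : F.M, (c : G) * c = F.t ∧ (f c : Equiv.Perm (Fin 6)) = Six.pc := by
  classical
  obtain ⟨f, hf, hk, hS⟩ := F.exists_image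
  obtain ⟨x, hx⟩ := hf ⟨Six.pc, Equiv.Perm.mem_alternatingGroup.2 Six.signs.2.2.1⟩
  have hxS : (x : G) ∈ normalizer ((F.S : Subgroup G) : Set G) := by
    have aux : ∀ s ∈ (F.S : Subgroup G), (x : G) * s * (x : G)⁻¹ ∈ (F.S : Subgroup G) := by
      intro s hs
      have h := (hS ⟨s, F.S_le_M hs⟩).1 hs
      refine (hS (x * ⟨s, F.S_le_M hs⟩ * x⁻¹)).2 ?_
      rw [map_mul, map_mul, map_inv, hx]
      exact Six.pc_facts.2.2.2.1 _ h
    refine mem_normalizer_iff.2 fun s => ⟨aux s, fun h => ?_⟩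
    obtain ⟨⟨s', hs'⟩, e⟩ := Finite.surjective_of_injective
      (f := fun s : (F.S : Subgroup G) => (⟨(x : G) * s * (x : G)⁻¹, aux s s.2⟩ : (F.S : Subgroup G)))
      (fun a b h => Subtype.ext (mul_left_cancel (mul_right_cancel (congrArg Subtype.val h))))
      ⟨_, h⟩
    have := mul_left_cancel (mul_right_cancel (congrArg Subtype.val e))
    exact this ▸ hs'
  have hxZ := F.normS_normZ hxS
  have hL : (x : G) * F.t * (x : G)⁻¹ ∈ F.L := F.L_normal _ hxZ _ F.t_mem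
  have hsq : (x : G) * F.t * (x : G)⁻¹ * ((x : G) * F.t * (x : G)⁻¹) = 1 := by
    rw [conj_mul, F.toCtx.t_sq, mul_one, mul_inv_cancel]
  have himg : F.fL ⟨_, hL⟩ = -1 := by
    refine (SL5.invol _ ?_).resolve_left fun h => ?_
    · rw [← map_mul, show (⟨_, hL⟩ : F.L) * ⟨_, hL⟩ = 1 from Subtype.ext hsq, map_one]
    · have h3 := F.Q_cube _ ((F.fL_ker _).1 h)
      simp only at h3
      rw [hsq, one_mul] at h3
      exact F.toCtx.t_ne_one (conj_eq_one_iff.1 h3)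
  set p := F.t⁻¹ * ((x : G) * F.t * (x : G)⁻¹) with hp
  have hpQ : p ∈ F.Q := F.toData.mem_Q_of_eq F.t_mem hL (F.t_img.trans himg.symm)
  have hconj : p * F.t * p⁻¹ = F.t * p := conj_of_invol F.toCtx.t_sq (F.Q_cube p hpQ)
    (by rw [hp, mul_inv_cancel_left]; exact hsq)
  have hpM : p ∈ F.M := F.S_le_M (F.toData.Q_le_S hpQ)
  set x1 : F.M := ⟨p, hpM⟩⁻¹ * x with hx1
  have hx1G : (x1 : G) = p⁻¹ * x := rfl
  have hx1t : (x1 : G) * F.t = F.t * x1 := by
    have e : (x : G) * F.t * (x : G)⁻¹ = p * F.t * p⁻¹ := by rw [hconj, hp, mul_inv_cancel_left]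
    calc (x1 : G) * F.t = p⁻¹ * ((x : G) * F.t * (x : G)⁻¹) * x := by rw [hx1G]; group
      _ = F.t * x1 := by rw [e, hx1G]; group
  have hp0 : f ⟨p, hpM⟩⁻¹ ∈ Pg := (hS _).1 (inv_mem (F.toData.Q_le_S hpQ))
  set p0 : Equiv.Perm (Fin 6) := ((f ⟨p, hpM⟩⁻¹ : alternatingGroup (Fin 6)) : Equiv.Perm (Fin 6))
    with hp0def
  have himg1 : (f x1 : Equiv.Perm (Fin 6)) = p0 * Six.pc := by
    rw [hx1, map_mul, hx]; rfl
  have hx1S : (x1 : G) ∈ normalizer ((F.S : Subgroup G) : Set G) := by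
    rw [hx1G]; exact mul_mem (inv_mem (le_normalizer (F.toData.Q_le_S hpQ))) hxS
  have hx1Z := F.normS_normZ hx1S
  have hx1J := F.toCtx.normalizer_S_le hx1S
  -- the square
  set w := (x1 : G) * x1 * F.t with hw
  have hsqZ : (x1 : G) * x1 ∈ centralizer (F.Z : Set G) := by
    refine mem_centralizer_iff.2 fun z hz => ?_
    haveI : Fact (Nat.Prime 3) := ⟨Nat.prime_three⟩
    have h2 : ∀ a : F.Z, (x1 : G) * x1 * a * ((x1 : G) * x1)⁻¹ = a := by
      intro a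
      by_cases ha : a = 1
      · subst ha; simp
      let φ : F.Z → F.Z := fun b => ⟨(x1 : G) * b * (x1 : G)⁻¹, F.normZ_mem hx1Z b.2⟩
      obtain ⟨k, hk⟩ := mem_powers_of_prime_card (G := F.Z) F.Z_card (g := a) (g' := φ a) ha
      replace hk : a ^ k = φ a := hk
      have hφ : ∀ b : F.Z, ∀ n : ℕ, φ (b ^ n) = φ b ^ n := fun b n => Subtype.ext (by
        show (x1 : G) * ((b : G) ^ n) * (x1 : G)⁻¹ = ((x1 : G) * b * (x1 : G)⁻¹) ^ n
        rw [conj_pow])
      have e : (x1 : G) * x1 * a * ((x1 : G) * x1)⁻¹ = (φ (φ a) : G) := by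
        show _ = (x1 : G) * ((x1 : G) * a * (x1 : G)⁻¹) * (x1 : G)⁻¹
        group
      rw [e]
      have e2 : φ (φ a) = a ^ (k * k) := by rw [← hk, hφ, ← hk, pow_mul]
      have hk3 : ¬ 3 ∣ k := fun ⟨m, hm⟩ => ha (by
        have h3 : a ^ 3 = 1 := by rw [← F.Z_card]; exact pow_card_eq_one'
        rw [hm, pow_mul, h3, one_pow] at hk
        exact Subtype.ext (conj_eq_one_iff.1 (congrArg Subtype.val hk).symm))
      have hmod : k * k % 3 = 1 := by
        rw [Nat.mul_mod]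
        have h' : k % 3 < 3 := Nat.mod_lt _ (by norm_num)
        have h0 : k % 3 ≠ 0 := fun h => hk3 (Nat.dvd_of_mod_eq_zero h)
        interval_cases k % 3 <;> simp_all
      rw [e2, ← Nat.div_add_mod (k * k) 3, hmod, pow_succ, pow_mul,
        show a ^ 3 = 1 by rw [← F.Z_card]; exact pow_card_eq_one', one_pow, one_mul]
    exact (mul_inv_eq_iff_eq_mul.1 (h2 ⟨z, hz⟩)).symm
  have hwt : w * F.t = F.t * w := by
    have h := (Commute.mul_left hx1t hx1t : Commute ((x1 : G) * x1) F.t)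
    exact (Commute.mul_left h (Commute.refl _)).eq
  have hty : F.t * F.y = F.y * F.t := (F.toCtx.E_t F.y_E).symm
  have hwy : w * F.y = F.y * w := by
    have h := F.conj_y hx1Z hx1t hx1J
    have e : (x1 : G) * x1 * F.y * ((x1 : G) * x1)⁻¹ = F.y := by
      rw [show (x1 : G) * x1 * F.y * ((x1 : G) * x1)⁻¹ =
        (x1 : G) * ((x1 : G) * F.y * (x1 : G)⁻¹) * (x1 : G)⁻¹ by group]
      rcases h with h | h <;> rw [h]
      · exact h
      · rw [← conj_inv, h, inv_inv]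
    exact (Commute.mul_left (mul_inv_eq_iff_eq_mul.1 e : Commute _ F.y) hty).eq
  have hwZ : w ∈ centralizer (F.Z : Set G) := mul_mem hsqZ F.toCtx.t_cent
  have hmod : ∀ q : F.Q, (q : G)⁻¹ * (w * q * w⁻¹) ∈ F.R := by
    intro q
    set q' := F.t * (q : G) * F.t with hq'
    have hq'Q : q' ∈ F.Q := F.toCtx.t_Q q.2
    -- the square inverts modulo `R`
    have hinv : (x1 : G) * x1 * q' * ((x1 : G) * x1)⁻¹ * q' ∈ F.R := by
      refine ⟨?_, mul_mem (F.Q_normal _ (mul_mem hx1Z hx1Z) _ hq'Q) hq'Q⟩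
      have hm : q' ∈ F.M := F.S_le_M (F.toData.Q_le_S hq'Q)
      refine (hk ((x1 * x1) * ⟨q', hm⟩ * (x1 * x1)⁻¹ * ⟨q', hm⟩)).1 ?_
      have hr := (hS ⟨q', hm⟩).1 (F.toData.Q_le_S hq'Q)
      refine Subtype.ext ?_
      simp only [map_mul, map_inv, Subgroup.coe_mul, InvMemClass.coe_inv, OneMemClass.coe_one]
      rw [himg1, (Six.coset_facts _ hp0).1 _ hr, inv_mul_cancel]
    have e : (q : G)⁻¹ * (w * q * w⁻¹) = ((q : G)⁻¹ *
        ((x1 : G) * x1 * q' * ((x1 : G) * x1)⁻¹ * q') * q) * ((q : G)⁻¹ * q'⁻¹) := by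
      rw [hw]
      calc (q : G)⁻¹ * ((x1 : G) * x1 * F.t * q * ((x1 : G) * x1 * F.t)⁻¹)
          = (q : G)⁻¹ * ((x1 : G) * x1 * F.t * q * (F.t⁻¹ * ((x1 : G) * x1)⁻¹)) := by group
        _ = (q : G)⁻¹ * ((x1 : G) * x1 * (F.t * q * F.t) * ((x1 : G) * x1)⁻¹) := by
            rw [F.toCtx.t_inv_eq]; group
        _ = _ := by rw [hq']; group
    rw [e]
    refine mul_mem ?_ ?_
    · rw [show (q : G)⁻¹ * ((x1 : G) * x1 * q' * ((x1 : G) * x1)⁻¹ * q') * q =
        (q : G)⁻¹ * ((x1 : G) * x1 * q' * ((x1 : G) * x1)⁻¹ * q') * ((q : G)⁻¹)⁻¹ by rw [inv_inv]]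
      set r := (x1 : G) * x1 * q' * ((x1 : G) * x1)⁻¹ * q'
      rw [show (q : G)⁻¹ * r * ((q : G)⁻¹)⁻¹ = ⁅(q : G)⁻¹, r⁆ * r by simp [commutatorElement_def]]
      exact mul_mem (F.Z_le_R' (F.Q_comm _ (inv_mem q.2) _ hinv.2)) hinv
    · rw [← mul_inv_rev, hq']
      exact inv_mem (F.Z_le_R' (F.toCtx.t_inverts q.2))
  have h9 := F.nine_of_mod hwZ hwy hwt hmod
  have hwD : w ∈ F.toCtx.D := by
    have hwL : w ∈ F.L := F.L_three w (centralizer_le_normalizer _ hwZ) ⟨2, by simpa using h9⟩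
    obtain ⟨z, hz, ε, hε, he⟩ := F.toCtx.CL_decomp (F.toCtx.mem_CL.2 ⟨hwL, hwt⟩)
    have hcz : Commute z F.y := F.toCtx.E_Z F.y_E hz
    have hεy : ε * F.y = F.y * ε := by
      have e : ε = z⁻¹ * w := by rw [he, inv_mul_cancel_left]
      rw [e]; exact (Commute.mul_left hcz.inv_left hwy).eq
    set a := F.toCtx.gE ⟨F.y, F.y_E⟩ with ha
    have ha3 : a * a * a = 1 := by
      rw [ha, ← map_mul, ← map_mul, show (⟨F.y, F.y_E⟩ : F.toCtx.E) * ⟨F.y, F.y_E⟩ * ⟨F.y, F.y_E⟩ = 1 from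
        Subtype.ext F.y_cube, map_one]
    have ha1 : a ≠ 1 := fun h => F.y_Q ((F.fL_ker _).1 h)
    have hb := SL5.cent_three a ha3 ha1 (F.toCtx.gE ⟨ε, hε⟩) (by
      rw [ha, ← map_mul, ← map_mul]; exact congrArg _ (Subtype.ext hεy))
    have hb9 : F.toCtx.gE ⟨ε, hε⟩ ^ 9 = 1 := by
      rw [← map_pow, show (⟨ε, hε⟩ : F.toCtx.E) ^ 9 = 1 from Subtype.ext ?_, map_one]
      show ε ^ 9 = 1
      have hzε : Commute z ε := F.toCtx.E_Z hε hz
      have := h9
      rw [he, hzε.mul_pow, show (9 : ℕ) = 3 * 3 from rfl, pow_mul z,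
        show z ^ 3 = 1 by rw [pow_three', F.Q_cube z (F.Z_le_Q hz)], one_pow, one_mul] at this
      exact this
    have key : ∀ a : SL5, a * a * a = 1 → ∀ b : SL5, b = -1 ∨ b = -a ∨ b = -(a * a) → b ^ 9 ≠ 1 := by
      intro a ha b hb h9
      have hsq : b ^ 9 = -1 := by
        have hm : ∀ c : SL5, c * c * c = 1 → (-c) ^ 9 = -1 := by
          intro c hc
          rw [Odd.neg_pow (by decide), show (9 : ℕ) = 3 * 3 from rfl, pow_mul, show c ^ 3 = 1 by rw [pow_three', hc], one_pow]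
        rcases hb with rfl | rfl | rfl
        · exact hm 1 (by simp)
        · exact hm a ha
        · exact hm (a * a) (by rw [show a * a * (a * a) * (a * a) = (a * a * a) * (a * a * a) by
            simp only [mul_assoc], ha, mul_one])
      exact SL5.neg_one_ne.1 (hsq.symm.trans h9)
    have hyi : ∃ i : ℕ, F.toCtx.gE ⟨ε, hε⟩ = a ^ i := by
      rcases hb with h | h | h | h | h | h
      · exact ⟨0, by rw [h, pow_zero]⟩
      · exact ⟨1, by rw [h, pow_one]⟩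
      · exact ⟨2, by rw [h, sq]⟩
      · exact absurd hb9 (key a ha3 _ (Or.inl h))
      · exact absurd hb9 (key a ha3 _ (Or.inr (Or.inl h)))
      · exact absurd hb9 (key a ha3 _ (Or.inr (Or.inr h)))
    obtain ⟨i, hi⟩ := hyi
    rw [ha, ← map_pow] at hi
    have hεi : ε = F.y ^ i := congrArg Subtype.val (F.toCtx.gE_bijective.1 hi)
    rw [he, hεi]
    exact mul_mem (F.toCtx.Z_le_D hz) (pow_mem F.y_D i)
  -- the element of order four
  have hwM : w ∈ F.M := F.J_le_M (F.toCtx.D_le_J hwD)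
  set c : F.M := x1 * ⟨w, hwM⟩ ^ 4 with hc
  have hcG : (c : G) = x1 * w ^ 4 := rfl
  have hxw : Commute (x1 : G) w :=
    Commute.mul_right (Commute.mul_right (Commute.refl _) (Commute.refl _)) hx1t
  have hcc : (c : G) * c = F.t := by
    calc (c : G) * c = (x1 : G) * (w ^ 4 * x1) * w ^ 4 := by rw [hcG]; group
      _ = (x1 : G) * (x1 * w ^ 4) * w ^ 4 := by rw [(hxw.pow_right 4).eq]
      _ = ((x1 : G) * x1 * F.t) * (F.t * w ^ 8) := by
          rw [show (x1 : G) * x1 * F.t * (F.t * w ^ 8) = x1 * x1 * (F.t * F.t) * w ^ 8 by group,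
            F.toCtx.t_sq]; group
      _ = w * (F.t * w ^ 8) := by rw [← hw]
      _ = (w * F.t) * w ^ 8 := by group
      _ = F.t * w ^ 9 := by rw [hwt]; group
      _ = F.t := by rw [h9, mul_one]
  have hfw : f ⟨w, hwM⟩ = 1 := (hk _).2 (F.toCtx.D_le_J hwD)
  obtain ⟨q, hq, hqc⟩ := (Six.coset_facts _ hp0).2
  have hqA : q ∈ alternatingGroup (Fin 6) := by
    exact Equiv.Perm.mem_alternatingGroup.2 (Six.P0_signs q hq)
  set qa : alternatingGroup (Fin 6) := ⟨q, hqA⟩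
  refine ⟨(MulAut.conj qa).toMonoidHom.comp f, (MulAut.conj qa).surjective.comp hf,
    fun m => by simp [hk], fun m => ?_, c, hcc, ?_⟩
  · rw [hS, MonoidHom.comp_apply]
    show _ ↔ qa * f m * qa⁻¹ ∈ Pg
    have hqa : qa ∈ Pg := hq
    exact ⟨fun h => mul_mem (mul_mem hqa h) (inv_mem hqa), fun h => by
      simpa [mul_assoc] using mul_mem (mul_mem (inv_mem hqa) h) hqa⟩
  · show ((qa * f c * qa⁻¹ : alternatingGroup (Fin 6)) : Equiv.Perm (Fin 6)) = Six.pc
    rw [hc, map_mul, map_pow, hfw, one_pow, mul_one]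
    simp only [Subgroup.coe_mul, InvMemClass.coe_inv]
    rw [himg1]; exact hqc

end Frame

/-- The local data with `c`, `g` and the image map of `M`. -/
structure Local (G : Type u) [Group G] [Finite G] extends Frame G where
  f : M →* alternatingGroup (Fin 6)
  f_surj : Function.Surjective f
  f_ker : ∀ x : M, f x = 1 ↔ (x : G) ∈ J
  f_S : ∀ x : M, (x : G) ∈ (S : Subgroup G) ↔ f x ∈ Frame.Pg
  c : G
  c_M : c ∈ M
  c_sq : c * c = t
  c_img : (f ⟨c, c_M⟩ : Equiv.Perm (Fin 6)) = Six.pc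
  zz : G
  zz_mem : zz ∈ Z
  zz_ne : zz ≠ 1
  c_z : c * zz * c⁻¹ = zz⁻¹
  c_y : c * y * c⁻¹ = y⁻¹
  g : G
  g_M : g ∈ M
  g_sq : g * g = 1
  g_t : g * t = t * g
  g_z : g * zz * g⁻¹ = y
  g_y : g * y * g⁻¹ = zz
  g_img : (f ⟨g, g_M⟩ : Equiv.Perm (Fin 6)) = Six.pg
  g_conj : ∃ x : G, x * t * x⁻¹ = g

theorem zm_two : ∀ b : ZMod 3, 2 * b = -b := by decide

theorem zm_sq : ∀ b : ZMod 3, b ≠ 0 → b * b = 1 := by decide

theorem fin_signs : ∀ a b : ZMod 3, ∀ ε δ σ : ZMod 3, b ≠ 0 → (ε = 1 ∨ ε = -1) →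
    ε * a = ε * a → δ * b = ε * b → (σ = 1 ∨ σ = ε) → σ * a = a → σ * b = -b →
      ε = -1 ∧ δ = -1 ∧ a = 0 := by decide +kernel

theorem Frame.exists_local (F : Frame G) : ∃ P : Local G, P.toFrame = F := by
  classical
  haveI : Fact (Nat.Prime 3) := ⟨Nat.prime_three⟩
  obtain ⟨f, hf, hk, hS, c, hcc, hci⟩ := F.exists_c
  have hct : (c : G) * F.t = F.t * c := by rw [← hcc, mul_assoc]
  have hcS : (c : G) ∈ normalizer ((F.S : Subgroup G) : Set G) := by
    have aux : ∀ s ∈ (F.S : Subgroup G), (c : G) * s * (c : G)⁻¹ ∈ (F.S : Subgroup G) := by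
      intro s hs
      have h := (hS ⟨s, F.S_le_M hs⟩).1 hs
      refine (hS (c * ⟨s, F.S_le_M hs⟩ * c⁻¹)).2 ?_
      show (((f (c * ⟨s, F.S_le_M hs⟩ * c⁻¹)) : alternatingGroup (Fin 6)) : Equiv.Perm (Fin 6)) ∈ Six.P0
      simp only [map_mul, map_inv, Subgroup.coe_mul, InvMemClass.coe_inv, hci]
      exact Six.pc_facts.2.2.2.1 _ h
    refine mem_normalizer_iff.2 fun s => ⟨aux s, fun h => ?_⟩
    obtain ⟨⟨s', hs'⟩, e⟩ := Finite.surjective_of_injective
      (f := fun s : (F.S : Subgroup G) => (⟨(c : G) * s * (c : G)⁻¹, aux s s.2⟩ : (F.S : Subgroup G)))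
      (fun a b h => Subtype.ext (mul_left_cancel (mul_right_cancel (congrArg Subtype.val h))))
      ⟨_, h⟩
    have := mul_left_cancel (mul_right_cancel (congrArg Subtype.val e))
    exact this ▸ hs'
  have hcZ := F.normS_normZ hcS
  -- the involution `g`
  obtain ⟨r, hr⟩ := hf ⟨Six.pg, Equiv.Perm.mem_alternatingGroup.2 Six.signs.2.2.2.1⟩
  have htM : F.t ∈ F.M := hcc ▸ mul_mem c.2 c.2
  set p := F.t⁻¹ * ((r : G) * F.t * (r : G)⁻¹) with hp
  have hpJ : p ∈ F.J := by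
    refine (hk (⟨F.t, htM⟩⁻¹ * (r * ⟨F.t, htM⟩ * r⁻¹))).1 ?_
    have e : (⟨F.t, htM⟩ : F.M) = c * c := Subtype.ext hcc.symm
    refine Subtype.ext ?_
    simp only [e, map_mul, map_inv, Subgroup.coe_mul, InvMemClass.coe_inv, hci, hr, OneMemClass.coe_one]
    rw [Six.pg_facts.2.1]
    simp [mul_assoc]
  have hrsq : (r : G) * F.t * (r : G)⁻¹ * ((r : G) * F.t * (r : G)⁻¹) = 1 := by
    rw [conj_mul, F.toCtx.t_sq, mul_one, mul_inv_cancel]
  have hconj : p * F.t * p⁻¹ = F.t * p := conj_of_invol F.toCtx.t_sq (F.J_cube p hpJ)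
    (by rw [hp, mul_inv_cancel_left]; exact hrsq)
  set g1 : F.M := ⟨p, F.J_le_M hpJ⟩⁻¹ * r with hg1
  have hg1G : (g1 : G) = p⁻¹ * r := rfl
  have hg1i : (f g1 : Equiv.Perm (Fin 6)) = Six.pg := by
    rw [hg1, map_mul, map_inv, (hk _).2 hpJ, inv_one, one_mul, hr]
  have hg1t : (g1 : G) * F.t = F.t * g1 := by
    have e : (r : G) * F.t * (r : G)⁻¹ = p * F.t * p⁻¹ := by rw [hconj, hp, mul_inv_cancel_left]
    calc (g1 : G) * F.t = p⁻¹ * ((r : G) * F.t * (r : G)⁻¹) * r := by rw [hg1G]; group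
      _ = F.t * g1 := by rw [e, hg1G]; group
  have hg1Z : (g1 : G) ∉ normalizer (F.Z : Set G) := by
    intro h
    apply Six.pg_facts.2.2.2.1
    have hJ := F.M_le g1.2
    obtain ⟨s, hs⟩ := hf ⟨Six.pa, Equiv.Perm.mem_alternatingGroup.2 Six.signs.1⟩
    have hsS : (s : G) ∈ (F.S : Subgroup G) := (hS s).2 (by
      show ((f s : alternatingGroup (Fin 6)) : Equiv.Perm (Fin 6)) ∈ Six.P0
      rw [hs]; simp [Six.P0])
    obtain ⟨j, hj, q, hq, hjq⟩ := F.toCtx.mem_J_Q hsS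
    have hsS' : (g1 : G) * s * (g1 : G)⁻¹ ∈ (F.S : Subgroup G) := by
      rw [hjq, ← conj_mul]
      exact mul_mem (F.J_le ((mem_normalizer_iff.1 hJ j).1 hj)) (F.toData.Q_le_S (F.Q_normal _ h q hq))
    have := (hS (g1 * s * g1⁻¹)).1 hsS'
    change ((f (g1 * s * g1⁻¹) : alternatingGroup (Fin 6)) : Equiv.Perm (Fin 6)) ∈ Six.P0 at this
    simpa [hg1i, hs] using this
  -- elements of `M ∩ C(t)`
  have hMt : ∀ x : F.M, (x : G) * F.t = F.t * x → ∃ i : ℕ,
      (∃ d ∈ F.toCtx.D, (x : G) = (c : G) ^ i * d) ∨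
        (∃ d ∈ F.toCtx.D, (x : G) = (c : G) ^ i * g1 * d) := by
    intro x hxt
    have htt : (⟨F.t, htM⟩ : F.M) = c * c := Subtype.ext hcc.symm
    have hcomm : (f x : Equiv.Perm (Fin 6)) * (Six.pc * Six.pc) = Six.pc * Six.pc * (f x : Equiv.Perm (Fin 6)) := by
      have := congrArg (fun m : F.M => ((f m : alternatingGroup (Fin 6)) : Equiv.Perm (Fin 6)))
        (show x * ⟨F.t, htM⟩ = ⟨F.t, htM⟩ * x from Subtype.ext hxt)
      simpa [htt, hci] using this
    have hD : ∀ m : F.M, (m : G) * F.t = F.t * m → f m = f x → ∃ d ∈ F.toCtx.D, (x : G) = m * d := by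
      intro m hm he
      refine ⟨(m : G)⁻¹ * x, F.mem_D_of_J ((hk (m⁻¹ * x)).1 (by rw [map_mul, map_inv, he, inv_mul_cancel]))
        ((Commute.mul_left (Commute.inv_left hm) hxt).eq), by group⟩
    rcases Six.cent_sq _ hcomm (Equiv.Perm.mem_alternatingGroup.1 (f x).2) with h | h
    · obtain ⟨i, hi⟩ : ∃ i : ℕ, (f x : Equiv.Perm (Fin 6)) = Six.pc ^ i := by
        rcases h with h | h | h | h
        · exact ⟨0, h⟩
        · exact ⟨1, by rw [h, pow_one]⟩
        · exact ⟨2, by rw [h, sq]⟩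
        · exact ⟨3, by rw [h, pow_three']⟩
      refine ⟨i, Or.inl (hD (c ^ i) ?_ (Subtype.ext ?_))⟩
      · exact (Commute.pow_left hct i).eq
      · rw [map_pow, SubmonoidClass.coe_pow, hci, hi]
    · obtain ⟨i, hi⟩ : ∃ i : ℕ, (f x : Equiv.Perm (Fin 6)) * Six.pg = Six.pc ^ i := by
        rcases h with h | h | h | h
        · exact ⟨0, h⟩
        · exact ⟨1, by rw [h, pow_one]⟩
        · exact ⟨2, by rw [h, sq]⟩
        · exact ⟨3, by rw [h, pow_three']⟩
      refine ⟨i, Or.inr (hD (c ^ i * g1) ?_ (Subtype.ext ?_))⟩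
      · exact (Commute.mul_left (Commute.pow_left hct i) hg1t).eq
      · rw [map_mul, map_pow, Subgroup.coe_mul, SubmonoidClass.coe_pow, hci, hg1i, ← hi, mul_assoc,
          Six.pg_facts.1, mul_one]
  -- the action of `e`
  have heS : F.e ∈ normalizer ((F.S : Subgroup G) : Set G) := by
    have aux : ∀ x : G, x ∈ normalizer (F.Z : Set G) → x * F.y * x⁻¹ = F.y⁻¹ →
        ∀ s ∈ (F.S : Subgroup G), x * s * x⁻¹ ∈ (F.S : Subgroup G) := by
      intro x hxZ hxy s hs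
      have hDS : zpowers F.y ⊔ F.Q = (F.S : Subgroup G) := by
        refine eq_of_le_of_card_ge (sup_le (zpowers_le.2 F.y_S) F.toData.Q_le_S) ?_
        have hlt : F.Q < zpowers F.y ⊔ F.Q := lt_of_le_of_ne le_sup_right fun e =>
          F.y_Q (e ▸ mem_sup_left (mem_zpowers _))
        have h1 := Set.Finite.card_lt_card (Set.toFinite _) (SetLike.coe_ssubset_coe.2 hlt)
        change Nat.card F.Q < Nat.card ↥(zpowers F.y ⊔ F.Q) at h1
        have h2 := card_dvd_of_le (sup_le (zpowers_le.2 F.y_S) F.toData.Q_le_S)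
        rw [F.toData.card_S] at h2 ⊢
        rw [F.Q_card] at h1
        obtain ⟨n, hn, hn'⟩ := (Nat.dvd_prime_pow Nat.prime_three).1
          (show Nat.card ↥(zpowers F.y ⊔ F.Q) ∣ 3 ^ 6 by norm_num; exact h2)
        rw [hn'] at h1 ⊢
        have : 6 ≤ n := by
          by_contra hcon
          have : 3 ^ n ≤ 3 ^ 5 := Nat.pow_le_pow_right (by norm_num) (by omega)
          omega
        calc 729 = 3 ^ 6 := by norm_num
          _ ≤ 3 ^ n := Nat.pow_le_pow_right (by norm_num) this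
      have hn : zpowers F.y ≤ normalizer (F.Q : Set G) :=
        zpowers_le.2 (F.toData.L_norm_Q (F.toData.S_le_L F.y_S))
      rw [← hDS] at hs
      obtain ⟨a, ha, q, hq, rfl⟩ := Set.mem_mul.1
        ((Subgroup.coe_mul_of_left_le_normalizer_right _ _ hn).subset hs)
      obtain ⟨k, rfl⟩ := mem_zpowers_iff.1 ha
      rw [← conj_mul, ← conj_zpow, hxy]
      exact mul_mem (zpow_mem (inv_mem F.y_S) _) (F.toData.Q_le_S (F.Q_normal x hxZ q hq))
    refine mem_normalizer_iff.2 fun s => ⟨aux F.e F.e_norm F.e_y_conj s, fun h => ?_⟩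
    have ey : F.e⁻¹ * F.y * F.e⁻¹⁻¹ = F.y⁻¹ := by
      have h1 := congrArg (fun x => F.e⁻¹ * x⁻¹ * F.e) F.e_y_conj
      simp only [inv_inv] at h1
      rw [inv_inv, ← h1]; group
    have := aux F.e⁻¹ (inv_mem F.e_norm) ey _ h
    simpa [mul_assoc] using this
  have het : F.e * F.t = F.t * F.e := F.toCtx.E_t F.e_E
  have heg : (F.e * g1 * F.e⁻¹) * F.t = F.t * (F.e * g1 * F.e⁻¹) :=
    (Commute.mul_left (Commute.mul_left het hg1t) (Commute.inv_left het)).eq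
  have hegM : F.e * g1 * F.e⁻¹ ∈ F.M := F.M_normal _ (F.toCtx.normalizer_S_le heS) _ g1.2
  have hnormD : ∀ d ∈ F.toCtx.D, d ∈ normalizer (F.Z : Set G) := fun d hd =>
    F.toData.S_norm (F.J_le (F.toCtx.D_le_J hd))
  obtain ⟨i, d, hd, hi⟩ : ∃ i : ℕ, ∃ d ∈ F.toCtx.D, F.e * g1 * F.e⁻¹ = (c : G) ^ i * g1 * d := by
    obtain ⟨i, h | ⟨d, hd, h⟩⟩ := hMt ⟨_, hegM⟩ heg
    · exfalso
      obtain ⟨d, hd, h⟩ := h
      apply hg1Z
      have e : (g1 : G) = F.e⁻¹ * ((c : G) ^ i * d) * F.e := by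
        rw [← h]; group
      rw [e]
      exact mul_mem (mul_mem (inv_mem F.e_norm) (mul_mem (pow_mem hcZ i) (hnormD d hd))) F.e_norm
    · exact ⟨i, d, hd, h⟩
  obtain ⟨z0, hz0, hz01⟩ : ∃ z ∈ F.Z, z ≠ (1 : G) := by
    by_contra h
    push Not at h
    have hb : F.Z = ⊥ := (eq_bot_iff_forall _).2 h
    have hc' := F.Z_card
    rw [hb, card_bot] at hc'
    omega
  have hZpow : ∀ w ∈ F.Z, ∃ a : Fin 3, w = z0 ^ (a : ℕ) := by
    intro w hw
    obtain ⟨k, hk'⟩ := mem_powers_of_prime_card (G := F.Z) F.Z_card (g := ⟨z0, hz0⟩) (g' := ⟨w, hw⟩)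
      (fun h => hz01 (congrArg Subtype.val h))
    refine ⟨⟨k % 3, Nat.mod_lt _ (by norm_num)⟩, ?_⟩
    have hk2 : z0 ^ k = w := congrArg Subtype.val hk'
    rw [← hk2]
    conv_lhs => rw [← Nat.div_add_mod k 3, pow_add, pow_mul, pow_three', F.Q_cube z0 (F.Z_le_Q hz0),
      one_pow, one_mul]
  -- coordinates in `D`
  have ho : orderOf z0 = 3 :=
    orderOf_eq_prime (p := 3) (by rw [pow_three']; exact F.Q_cube z0 (F.Z_le_Q hz0)) hz01
  have hoy : orderOf F.y = 3 := orderOf_eq_prime (p := 3) (by rw [pow_three']; exact F.y_cube)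
    (fun e => F.y_Q (by rw [e]; exact one_mem _))
  let pt : ZMod 3 → ZMod 3 → G := fun a b => z0 ^ a.val * F.y ^ b.val
  have hcz : Commute z0 F.y := F.toCtx.E_Z F.y_E hz0
  have hpow : ∀ (x : G), orderOf x = 3 → ∀ n : ℕ, x ^ n = x ^ (n : ZMod 3).val := fun x hx n => by
    rw [ZMod.val_natCast, ← hx, pow_mod_orderOf]
  have hptpow : ∀ a b : ZMod 3, ∀ n : ℕ, pt a b ^ n = pt (n * a) (n * b) := by
    intro a b n
    show (z0 ^ a.val * F.y ^ b.val) ^ n = z0 ^ ((n : ZMod 3) * a).val * F.y ^ ((n : ZMod 3) * b).val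
    rw [((hcz.pow_left _).pow_right _).mul_pow, ← pow_mul, ← pow_mul, hpow z0 ho, hpow F.y hoy]
    simp [mul_comm]
  have hptinj : ∀ a b a' b' : ZMod 3, pt a b = pt a' b' → a = a' ∧ b = b' := by
    intro a b a' b' h
    obtain ⟨h1, h2⟩ := F.D_unique (i := ⟨b.val, ZMod.val_lt b⟩) (i' := ⟨b'.val, ZMod.val_lt b'⟩)
      (pow_mem hz0 _) (pow_mem hz0 _) h
    refine ⟨ZMod.val_injective _ ?_, ZMod.val_injective _ (congrArg Fin.val h2)⟩
    exact pow_injOn_Iio_orderOf (x := z0) (by simpa [ho] using ZMod.val_lt a)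
      (by simpa [ho] using ZMod.val_lt a') h1
  have hzexp : ∀ x : G, x ∈ normalizer (F.Z : Set G) → ∃ ε : ZMod 3, (ε = 1 ∨ ε = -1) ∧
      x * z0 * x⁻¹ = z0 ^ ε.val := by
    intro x hx
    obtain ⟨a, ha⟩ := hZpow _ (F.normZ_mem hx hz0)
    fin_cases a
    · exact absurd (conj_eq_one_iff.1 (show x * z0 * x⁻¹ = 1 by simpa using ha)) hz01
    · exact ⟨1, Or.inl rfl, by simpa [ZMod.val_one] using ha⟩
    · exact ⟨-1, Or.inr rfl, by rw [ha]; rfl⟩
  obtain ⟨ε, hε, hcε⟩ := hzexp c hcZ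
  obtain ⟨δ, hδ, hcδ⟩ : ∃ δ : ZMod 3, (δ = 1 ∨ δ = -1) ∧ (c : G) * F.y * (c : G)⁻¹ = F.y ^ δ.val := by
    rcases F.conj_y hcZ hct (F.M_le c.2) with h | h
    · exact ⟨1, Or.inl rfl, by rw [h, ZMod.val_one, pow_one]⟩
    · refine ⟨-1, Or.inr rfl, ?_⟩
      rw [h, show (-1 : ZMod 3).val = 2 from rfl]
      exact inv_eq_of_mul_eq_one_right (by rw [sq, ← mul_assoc, F.y_cube])
  set u := (g1 : G) * z0 * (g1 : G)⁻¹ with hu
  have huD : u ∈ F.toCtx.D := F.mem_D_of_J ((mem_normalizer_iff.1 (F.M_le g1.2) _).1 (F.toData.Z_le_J hz0))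
    ((Commute.mul_left (Commute.mul_left hg1t (F.toCtx.t_comm_Z hz0)) (Commute.inv_left hg1t)).eq)
  obtain ⟨zu, hzu, b', hub⟩ := F.D_gen u huD
  obtain ⟨a', rfl⟩ := hZpow zu hzu
  set a : ZMod 3 := ((a' : ℕ) : ZMod 3) with ha
  set b : ZMod 3 := ((b' : ℕ) : ZMod 3) with hb
  have huab : u = pt a b := by
    rw [hub, hpow z0 ho, hpow F.y hoy]
  have hb0 : b ≠ 0 := by
    intro h
    apply hg1Z
    have huZ : u ∈ F.Z := by
      rw [huab, h]; show z0 ^ a.val * F.y ^ (0 : ZMod 3).val ∈ F.Z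
      rw [ZMod.val_zero, pow_zero, mul_one]; exact pow_mem hz0 _
    have hsub : ∀ w ∈ F.Z, (g1 : G) * w * (g1 : G)⁻¹ ∈ F.Z := by
      intro w hw
      obtain ⟨k, rfl⟩ := hZpow w hw
      rw [← conj_pow]; exact pow_mem huZ _
    refine mem_normalizer_iff.2 fun w => ⟨hsub w, fun hw => ?_⟩
    obtain ⟨⟨w', hw'⟩, e⟩ := Finite.surjective_of_injective
      (f := fun w : F.Z => (⟨(g1 : G) * w * (g1 : G)⁻¹, hsub w w.2⟩ : F.Z))
      (fun a b h => Subtype.ext (mul_left_cancel (mul_right_cancel (congrArg Subtype.val h))))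
      ⟨_, hw⟩
    have := mul_left_cancel (mul_right_cancel (congrArg Subtype.val e))
    exact this ▸ hw'
  have hcpt : ∀ a b : ZMod 3, (c : G) * pt a b * (c : G)⁻¹ = pt (ε * a) (δ * b) := by
    intro a b
    show (c : G) * (z0 ^ a.val * F.y ^ b.val) * (c : G)⁻¹ = z0 ^ (ε * a).val * F.y ^ (δ * b).val
    rw [← conj_mul, ← conj_pow, ← conj_pow, hcε, hcδ, ← pow_mul, ← pow_mul, hpow z0 ho,
      hpow F.y hoy]
    simp [mul_comm]
  -- `c` is scalar on `u`
  have hcu : (c : G) * u * (c : G)⁻¹ = u ^ ε.val := by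
    have hd' : (g1 * c⁻¹)⁻¹ * (c * g1) ∈ (F.J.subgroupOf F.M) := by
      rw [mem_subgroupOf]
      refine (hk _).1 (Subtype.ext ?_)
      simp only [map_mul, map_inv, Subgroup.coe_mul, InvMemClass.coe_inv, hci, hg1i, OneMemClass.coe_one]
      rw [mul_inv_rev, inv_inv]
      have h1 : Six.pg⁻¹ = Six.pg := inv_eq_of_mul_eq_one_right Six.pg_facts.1
      have h4 : Six.pc * Six.pc * (Six.pc * Six.pc) = 1 := Six.pc_facts.1
      rw [h1]
      calc Six.pc * Six.pg * (Six.pc * Six.pg) = Six.pc * (Six.pg * Six.pc) * Six.pg := by group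
        _ = Six.pc * (Six.pc * Six.pc * Six.pc * Six.pg) * Six.pg := by rw [Six.pg_pc]
        _ = (Six.pc * Six.pc * (Six.pc * Six.pc)) * (Six.pg * Six.pg) := by group
        _ = 1 := by rw [h4, Six.pg_facts.1, mul_one]
    rw [mem_subgroupOf] at hd'
    set d' : G := (((g1 * c⁻¹)⁻¹ * (c * g1) : F.M) : G) with hd'def
    have hd'D : d' ∈ F.toCtx.D := by
      refine F.mem_D_of_J hd' ?_
      have h1 : Commute ((g1 : G) * (c : G)⁻¹)⁻¹ F.t :=
        Commute.inv_left (Commute.mul_left hg1t (Commute.inv_left hct))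
      exact (Commute.mul_left h1 (Commute.mul_left hct hg1t)).eq
    have hcg : (c : G) * g1 = g1 * (c : G)⁻¹ * d' := by
      rw [hd'def]; simp only [Subgroup.coe_mul, InvMemClass.coe_inv]; group
    have hd'z : d' * z0 * d'⁻¹ = z0 := by
      rw [F.D_comm hd'D (F.toCtx.Z_le_D hz0), mul_inv_cancel_right]
    have hcinv : (c : G)⁻¹ * z0 * c = z0 ^ ε.val := by
      have e1 : (c : G) * (z0 ^ ε.val) * (c : G)⁻¹ = z0 := by
        rw [← conj_pow, hcε, ← pow_mul, hpow z0 ho]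
        have : ((ε.val * ε.val : ℕ) : ZMod 3) = 1 := by
          push_cast; rw [ZMod.natCast_zmod_val]; rcases hε with rfl | rfl <;> simp
        rw [this, ZMod.val_one, pow_one]
      calc (c : G)⁻¹ * z0 * c = (c : G)⁻¹ * ((c : G) * z0 ^ ε.val * (c : G)⁻¹) * c := by rw [e1]
        _ = z0 ^ ε.val := by group
    calc (c : G) * u * (c : G)⁻¹ = ((c : G) * g1) * z0 * ((c : G) * g1)⁻¹ := by rw [hu]; group
      _ = g1 * (c : G)⁻¹ * (d' * z0 * d'⁻¹) * c * (g1 : G)⁻¹ := by rw [hcg]; group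
      _ = g1 * ((c : G)⁻¹ * z0 * c) * (g1 : G)⁻¹ := by rw [hd'z]; group
      _ = u ^ ε.val := by rw [hcinv, hu, conj_pow]
  rw [huab, hcpt, hptpow, ZMod.natCast_zmod_val] at hcu
  obtain ⟨-, hδb⟩ := hptinj _ _ _ _ hcu
  have hpow_c : ∀ n : ℕ, (c : G) ^ n * u * ((c : G) ^ n)⁻¹ = pt (ε ^ n * a) (ε ^ n * b) := by
    intro n
    induction n with
    | zero => simp [huab]
    | succ n ih =>
      calc (c : G) ^ (n + 1) * u * ((c : G) ^ (n + 1))⁻¹
          = c * ((c : G) ^ n * u * ((c : G) ^ n)⁻¹) * (c : G)⁻¹ := by rw [pow_succ']; group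
        _ = pt (ε * (ε ^ n * a)) (δ * (ε ^ n * b)) := by rw [ih, hcpt]
        _ = _ := by
          rw [show δ * (ε ^ n * b) = ε ^ n * (δ * b) by ring, hδb]
          congr 1 <;> ring
  -- `e` negates the second coordinate
  have heu : F.e * u * F.e⁻¹ = pt a (-b) := by
    have h1 : F.e * z0 * F.e⁻¹ = z0 := by rw [← F.toData.comm_Z F.e_cent hz0, mul_inv_cancel_right]
    rw [huab]
    show F.e * (z0 ^ a.val * F.y ^ b.val) * F.e⁻¹ = _
    rw [← conj_mul, ← conj_pow, ← conj_pow, h1, F.e_y_conj]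
    show z0 ^ a.val * F.y⁻¹ ^ b.val = z0 ^ a.val * F.y ^ (-b).val
    congr 1
    rw [show F.y⁻¹ = F.y ^ 2 from inv_eq_of_mul_eq_one_right (by rw [sq, ← mul_assoc, F.y_cube]),
      ← pow_mul, hpow F.y hoy]
    congr 1
    have : ((2 * b.val : ℕ) : ZMod 3) = -b := by
      push_cast; rw [ZMod.natCast_zmod_val]; exact zm_two b
    rw [this]
  have heu2 : F.e * u * F.e⁻¹ = (c : G) ^ i * u * ((c : G) ^ i)⁻¹ := by
    have hdz : d * z0 * d⁻¹ = z0 := by
      rw [F.D_comm hd (F.toCtx.Z_le_D hz0), mul_inv_cancel_right]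
    have hez : F.e⁻¹ * z0 * F.e = z0 := by
      rw [mul_assoc, F.toData.comm_Z F.e_cent hz0, inv_mul_cancel_left]
    calc F.e * u * F.e⁻¹ = (F.e * g1 * F.e⁻¹) * z0 * (F.e * g1 * F.e⁻¹)⁻¹ := by
          rw [hu]
          calc F.e * ((g1 : G) * z0 * (g1 : G)⁻¹) * F.e⁻¹
              = F.e * g1 * (F.e⁻¹ * z0 * F.e)  * (g1 : G)⁻¹ * F.e⁻¹ := by rw [hez]; group
            _ = _ := by group
      _ = (c : G) ^ i * g1 * (d * z0 * d⁻¹) * (g1 : G)⁻¹ * ((c : G) ^ i)⁻¹ := by rw [hi]; group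
      _ = _ := by rw [hdz, hu]; group
  rw [heu, hpow_c] at heu2
  obtain ⟨hA, hB⟩ := hptinj _ _ _ _ heu2
  have hσ : ε ^ i = 1 ∨ ε ^ i = ε := by
    rcases Nat.even_or_odd i with ⟨k, hk'⟩ | ⟨k, hk'⟩
    · left; rw [hk', ← two_mul, pow_mul]; rcases hε with rfl | rfl <;> simp
    · right; rw [hk', pow_add, pow_mul, pow_one]; rcases hε with rfl | rfl <;> simp
  obtain ⟨rfl, rfl, ha0⟩ := fin_signs a b ε δ (ε ^ i) hb0 hε rfl hδb hσ hA.symm hB.symm
  -- normalise `z`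
  set zz := (g1 : G)⁻¹ * F.y * g1 with hzz
  have hzzpow : ∃ k : ℕ, zz = z0 ^ k := by
    have huy : u = F.y ^ b.val := by
      rw [huab, ha0]; show z0 ^ (0 : ZMod 3).val * F.y ^ b.val = _
      rw [ZMod.val_zero, pow_zero, one_mul]
    refine ⟨b.val, ?_⟩
    have e : F.y = u ^ b.val := by
      rw [huy, ← pow_mul, hpow F.y hoy]
      have : ((b.val * b.val : ℕ) : ZMod 3) = 1 := by
        push_cast; rw [ZMod.natCast_zmod_val]; exact zm_sq b hb0
      rw [this, ZMod.val_one, pow_one]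
    rw [hzz, e, hu, conj_pow]; group
  have hzzZ : zz ∈ F.Z := by obtain ⟨k, hk'⟩ := hzzpow; rw [hk']; exact pow_mem hz0 k
  have hzz1 : zz ≠ 1 := by
    intro h
    rw [hzz] at h
    have : F.y = 1 := by
      calc F.y = (g1 : G) * ((g1 : G)⁻¹ * F.y * g1) * (g1 : G)⁻¹ := by group
        _ = 1 := by rw [h]; group
    exact F.y_Q (by rw [this]; exact one_mem _)
  have hz0inv : z0 ^ (-1 : ZMod 3).val = z0⁻¹ := by
    rw [show (-1 : ZMod 3).val = 2 from rfl]
    exact (inv_eq_of_mul_eq_one_right (by rw [sq, ← mul_assoc, F.Q_cube z0 (F.Z_le_Q hz0)])).symm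
  have hyinv : F.y ^ (-1 : ZMod 3).val = F.y⁻¹ := by
    rw [show (-1 : ZMod 3).val = 2 from rfl]
    exact (inv_eq_of_mul_eq_one_right (by rw [sq, ← mul_assoc, F.y_cube])).symm
  rw [hz0inv] at hcε
  rw [hyinv] at hcδ
  have hczz : (c : G) * zz * (c : G)⁻¹ = zz⁻¹ := by
    obtain ⟨k, hk'⟩ := hzzpow
    rw [hk', ← conj_pow, hcε, inv_pow]
  -- make `g1` an involution
  have hgsq : (g1 : G) * g1 ∈ F.toCtx.D := by
    refine F.mem_D_of_J ((hk (g1 * g1)).1 (Subtype.ext ?_)) ((Commute.mul_left hg1t hg1t).eq)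
    simp [hg1i, Six.pg_facts.1]
  set g := g1 * (g1 * g1) with hg
  have hgG : (g : G) = g1 * ((g1 : G) * g1) := rfl
  have hg2 : (g : G) * g = 1 := by
    rw [hgG]
    calc (g1 : G) * ((g1 : G) * g1) * (g1 * ((g1 : G) * g1))
        = ((g1 : G) * g1) * (g1 * g1) * (g1 * g1) := by group
      _ = 1 := F.D_cube hgsq
  have hgy1 : (g1 : G) * F.y * (g1 : G)⁻¹ = zz := by
    have h := F.D_comm hgsq (F.toCtx.Z_le_D hzzZ)
    calc (g1 : G) * F.y * (g1 : G)⁻¹ = (g1 : G) * g1 * zz * ((g1 : G) * g1)⁻¹ := by rw [hzz]; group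
      _ = zz := by rw [h, mul_inv_cancel_right]
  have hgi : (f g : Equiv.Perm (Fin 6)) = Six.pg := by
    rw [hg]; simp [hg1i, Six.pg_facts.1]
  -- conjugate to `t`
  have hgconj : ∃ x : G, x * F.t * x⁻¹ = g := by
    obtain ⟨m, hm⟩ := hf ⟨Six.px, Equiv.Perm.mem_alternatingGroup.2 Six.signs.2.2.2.2⟩
    set v := (m : G) * F.t * (m : G)⁻¹ with hv
    have hv2 : v * v = 1 := by rw [hv, conj_mul, F.toCtx.t_sq, mul_one, mul_inv_cancel]
    have hj : v⁻¹ * (g : G) ∈ F.J := by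
      refine (hk ((m * ⟨F.t, htM⟩ * m⁻¹)⁻¹ * g)).1 ?_
      have e : (⟨F.t, htM⟩ : F.M) = c * c := Subtype.ext hcc.symm
      refine Subtype.ext ?_
      simp only [e, map_mul, map_inv, Subgroup.coe_mul, InvMemClass.coe_inv, hci, hm, hgi,
        OneMemClass.coe_one]
      rw [Six.pg_facts.2.2.1, inv_mul_cancel]
    have := conj_of_invol hv2 (F.J_cube _ hj) (by rw [mul_inv_cancel_left]; exact hg2)
    refine ⟨v⁻¹ * (g : G) * m, ?_⟩
    calc v⁻¹ * (g : G) * m * F.t * (v⁻¹ * (g : G) * m)⁻¹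
        = (v⁻¹ * g) * v * (v⁻¹ * g)⁻¹ := by rw [hv]; group
      _ = v * (v⁻¹ * g) := this
      _ = g := by group
  refine ⟨{ toFrame := F, f := f, f_surj := hf, f_ker := hk, f_S := hS, c := c, c_M := c.2,
            c_sq := hcc, c_img := hci, zz := zz, zz_mem := hzzZ, zz_ne := hzz1, c_z := hczz,
            c_y := hcδ, g := g, g_M := g.2, g_sq := hg2,
            g_t := (Commute.mul_left hg1t (Commute.mul_left hg1t hg1t)).eq,
            g_z := ?_, g_y := ?_, g_img := hgi, g_conj := hgconj }, rfl⟩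
  · have hdz : (g1 : G) * g1 * zz * ((g1 : G) * g1)⁻¹ = zz := by
      rw [F.D_comm hgsq (F.toCtx.Z_le_D hzzZ), mul_inv_cancel_right]
    calc (g : G) * zz * (g : G)⁻¹ = g1 * ((g1 : G) * g1 * zz * ((g1 : G) * g1)⁻¹) * (g1 : G)⁻¹ := by
          rw [hgG]; group
      _ = g1 * zz * (g1 : G)⁻¹ := by rw [hdz]
      _ = F.y := by rw [hzz]; group
  · have hdy : (g1 : G) * g1 * F.y * ((g1 : G) * g1)⁻¹ = F.y := by
      rw [F.D_comm hgsq F.y_D, mul_inv_cancel_right]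
    calc (g : G) * F.y * (g : G)⁻¹ = g1 * ((g1 : G) * g1 * F.y * ((g1 : G) * g1)⁻¹) * (g1 : G)⁻¹ := by
          rw [hgG]; group
      _ = zz := by rw [hdy, hgy1]

end CfsgLib.McLThree
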