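import Cfsg.Agent.McLThree.CoreCore
import Cfsg.Agent.McLThree.CoreAuto
import Cfsg.Agent.McLThree.Final
import Cfsg.Agent.McLThree.FinishAll

/-!
The common data determine the McLaughlin group or its automorphism group.
-/

set_option autoImplicit false

namespace CfsgLib.McLThree

open Subgroup

universe u

variable {G : Type u} [Group G] [Finite G]

/-- The centralizer of the diagonal element normalises `J`. -/
theorem Local.cent_diag_le (P : Local G) :
    centralizer ({P.zz * P.y} : Set G) ≤ normalizer (P.J : Set G) := by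
  obtain ⟨n, hn, q, hqQ, -, ⟨hR, hZ⟩, hqr, hM, hx, h3, ht, hg⟩ := P.exists_sigma
  let A : Axes P :=
    { n := n, q := q, σ := n⁻¹ * q * n, n_N := hn, r_R := hR, r_Z := hZ, q_Q := hqQ, q_r := hqr
      σ_eq := rfl, σ_M := hM, σ_x := hx, σ_cube := h3, σ_t := ht, σ_g := hg }
  exact A.core (fun m hm hc u hu => P.conj_invol hm hc hu) (fun x hz hy hJ => P.rot hz hy hJ)

/-- The recognition from the common data. -/
theorem Data.recognise (D : Data G) :
    Nonempty (G ≃* Cfsg.Spor.McL) ∨ Nonempty (G ≃* MulAut Cfsg.Spor.McL) := by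
  obtain ⟨C, rfl⟩ := D.exists_ctx
  obtain ⟨F, rfl⟩ := C.exists_frame
  obtain ⟨P, rfl⟩ := F.exists_local
  exact P.conclusion P.cent_diag_le CfsgLib.McLThree.centStatement

end CfsgLib.McLThree
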