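import Mathlib
import Cfsg.Agent.Classical.Transvections
import Cfsg.Agent.Classical.SmallPSL

/-! Facts about `SL(2,5)` needed for the 3-local analysis of the McLaughlin group. -/

set_option autoImplicit false

namespace CfsgLib.McLThree

open Subgroup

/-- The group `SL(2,5)`. -/
abbrev SL5 : Type := Matrix.SpecialLinearGroup (Fin 2) (ZMod 5)

instance factFive : Fact (Nat.Prime 5) := ⟨by norm_num⟩

namespace SL5

/-- An element of order three. -/
def a0 : SL5 := ⟨!![0, 4; 1, 4], by decide +kernel⟩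
/-- The upper shear. -/
def up : SL5 := ⟨!![1, 1; 0, 1], by decide +kernel⟩
/-- The lower shear. -/
def lo : SL5 := ⟨!![1, 0; 1, 1], by decide +kernel⟩
/-- A conjugate of `a0`. -/
def b0 : SL5 := up * a0 * up⁻¹

theorem words : up = a0 * b0 * a0 * b0 ∧ lo = a0 * b0 * b0 * a0 * a0 * b0 * b0 * a0 := by
  decide +kernel

theorem card_eq : Nat.card SL5 = 120 := by
  rw [Nat.card_eq_fintype_card]; decide +kernel

theorem eq_top_of_shears {H : Subgroup SL5} (hu : up ∈ H) (hl : lo ∈ H) : H = ⊤ := by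
  rw [eq_top_iff]
  intro A _
  refine CfsgLib.Linear.transvection_induction (fun A => A ∈ H) ?_ (fun _ _ => mul_mem) A
  have key : ∀ c : ZMod 5, ∀ i j : Fin 2, ∀ h : i ≠ j,
      ∃ n : Fin 5, Matrix.SpecialLinearGroup.transvection h c = up ^ (n : ℕ) ∨
        Matrix.SpecialLinearGroup.transvection h c = lo ^ (n : ℕ) := by
    decide +kernel
  intro i j h c
  obtain ⟨n, e | e⟩ := key c i j h <;> rw [e]
  · exact pow_mem hu _
  · exact pow_mem hl _

theorem cube_conj : ∀ a : SL5, a * a * a = 1 → a ≠ 1 → ∃ s : SL5, s * a = a0 * s := by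
  decide +kernel

theorem five_conj : ∀ x : SL5, x ^ 5 = 1 → x ≠ 1 → ∃ s : SL5,
    (∃ j : Fin 5, s * up = x ^ (j : ℕ) * s) ∧ ∃ r : SL5, ∃ j : Fin 5, r * lo = x ^ (j : ℕ) * r := by
  decide +kernel

/-- Any element of order three generates with one of its conjugates. -/
theorem exists_gen {a : SL5} (h3 : a * a * a = 1) (h1 : a ≠ 1) :
    ∃ u : SL5, ∀ H : Subgroup SL5, a ∈ H → u * a * u⁻¹ ∈ H → H = ⊤ := by
  obtain ⟨s, hs⟩ := cube_conj a h3 h1
  have ha : a0 = s * a * s⁻¹ := eq_mul_inv_of_mul_eq hs.symm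
  refine ⟨s⁻¹ * up * s, fun H hA hB => ?_⟩
  let K := H.comap (MulAut.conj s⁻¹).toMonoidHom
  have hK : ∀ x, x ∈ K ↔ s⁻¹ * x * s ∈ H := fun x => by simp [K, MulAut.conj_apply]
  have ha0 : a0 ∈ K := by rw [hK, ha]; simpa [mul_assoc] using hA
  have hb0 : b0 ∈ K := by
    rw [hK, b0, ha]
    simpa [mul_assoc] using hB
  have hu : up ∈ K := by
    rw [words.1]; exact mul_mem (mul_mem (mul_mem ha0 hb0) ha0) hb0
  have hl : lo ∈ K := by
    rw [words.2]
    exact mul_mem (mul_mem (mul_mem (mul_mem (mul_mem (mul_mem (mul_mem ha0 hb0) hb0) ha0) ha0)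
      hb0) hb0) ha0
  have hK' := eq_top_of_shears hu hl
  rw [eq_top_iff]
  intro x _
  have := (hK (s * x * s⁻¹)).1 (hK' ▸ mem_top _)
  simpa [mul_assoc] using this

/-- A normal subgroup containing an element of order five is everything. -/
theorem eq_top_of_five {N : Subgroup SL5} (hN : N.Normal) {x : SL5} (hx : x ∈ N) (h5 : x ^ 5 = 1)
    (h1 : x ≠ 1) : N = ⊤ := by
  obtain ⟨s, ⟨j, hj⟩, r, i, hi⟩ := five_conj x h5 h1
  refine eq_top_of_shears ?_ ?_
  · rw [show up = s⁻¹ * x ^ (j : ℕ) * s by rw [mul_assoc, ← hj, inv_mul_cancel_left]]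
    simpa using hN.conj_mem _ (pow_mem hx (j : ℕ)) s⁻¹
  · rw [show lo = r⁻¹ * x ^ (i : ℕ) * r by rw [mul_assoc, ← hi, inv_mul_cancel_left]]
    simpa using hN.conj_mem _ (pow_mem hx (i : ℕ)) r⁻¹

theorem invol : ∀ x : SL5, x * x = 1 → x = 1 ∨ x = -1 := by decide +kernel

theorem neg_one_central : ∀ x : SL5, -1 * x = x * -1 := by decide +kernel

theorem neg_one_ne : (-1 : SL5) ≠ 1 ∧ (-1 : SL5) * -1 = 1 := by decide +kernel

theorem exists_inverting : ∀ a : SL5, a * a * a = 1 → a ≠ 1 →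
    ∃ e : SL5, e * e = -1 ∧ e * a = a⁻¹ * e := by decide +kernel

theorem cent_three : ∀ a : SL5, a * a * a = 1 → a ≠ 1 → ∀ x : SL5, x * a = a * x →
    x = 1 ∨ x = a ∨ x = a * a ∨ x = -1 ∨ x = -a ∨ x = -(a * a) := by decide +kernel

theorem up_facts : up ^ 5 = 1 ∧ up ≠ 1 ∧ a0 * a0 * a0 = 1 ∧ a0 ≠ 1 := by decide +kernel

theorem central_cases : ∀ x : SL5, x * a0 = a0 * x → x * up = up * x → x = 1 ∨ x = -1 := by
  decide +kernel

theorem perfect : commutator SL5 = ⊤ :=
  CfsgLib.Linear.commutator_SL_eq_top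
    (Or.inr (CfsgLib.Linear.Small.exists_sq_ne_one (F := ZMod 5) (by decide)))

theorem exists_toAlt : ∃ f : SL5 →* alternatingGroup (Fin 5),
    Function.Surjective f ∧ ∀ x, f x = 1 ↔ x = 1 ∨ x = -1 := by
  obtain ⟨e⟩ := CfsgLib.Linear.Small.nonempty_psl_two_five (F := ZMod 5) (by decide)
  refine ⟨e.toMonoidHom.comp (QuotientGroup.mk' _), e.surjective.comp (QuotientGroup.mk'_surjective _),
    fun x => ?_⟩
  simp only [MonoidHom.comp_apply, MulEquiv.coe_toMonoidHom, EmbeddingLike.map_eq_one_iff,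
    QuotientGroup.mk'_apply, QuotientGroup.eq_one_iff]
  constructor
  · intro hx
    have hc := mem_center_iff.1 hx
    rcases cent_three a0 up_facts.2.2.1 up_facts.2.2.2 x (hc a0).symm with h | h | h | h | h | h
    · exact Or.inl h
    all_goals first
      | exact Or.inr h
      | (have := hc up; rw [h] at this; exact absurd this (by decide +kernel))
  · rintro (rfl | rfl)
    · exact one_mem _
    · exact mem_center_iff.2 fun y => (neg_one_central y).symm

end SL5

end CfsgLib.McLThree
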