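import Cfsg.Agent.McLThree.Data
import Cfsg.Prelude.Def_Transfer

/-!
From the hypotheses of the 3-local characterizations to the common data.
-/

set_option autoImplicit false
set_option linter.style.haveILetI false

namespace CfsgLib.McLThree

open Subgroup
open scoped commutatorElement

universe u

/-- An element of 3-power order normalising a group of order three centralises it. -/
theorem commute_of_three {G : Type*} [Group G] {Z : Subgroup G} (hZ : Nat.card Z = 3) {g : G}
    (hg : g ∈ normalizer (Z : Set G)) {k : ℕ} (hk : g ^ 3 ^ k = 1) {z : G} (hz : z ∈ Z) :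
    g * z = z * g := by
  have h3 : ∀ w ∈ Z, w ^ 3 = 1 := fun w hw => by
    have h := pow_card_eq_one' (x := (⟨w, hw⟩ : Z))
    rw [hZ] at h
    exact congrArg Subtype.val h
  by_cases hz1 : z = 1
  · simp [hz1]
  have hzp : zpowers z = Z := by
    haveI : Finite Z := Nat.finite_of_card_ne_zero (by omega)
    refine eq_of_le_of_card_ge (zpowers_le.2 hz) ?_
    rw [hZ, Nat.card_zpowers, orderOf_eq_prime (hp := ⟨Nat.prime_three⟩) (h3 z hz) hz1]
  have hcase : g * z * g⁻¹ = z ∨ g * z * g⁻¹ = z⁻¹ := by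
    have hm : g * z * g⁻¹ ∈ zpowers z := hzp.symm ▸ (mem_normalizer_iff.1 hg z).1 hz
    obtain ⟨i, hi⟩ := mem_zpowers_iff.1 hm
    have h3' : z ^ (3 : ℤ) = 1 := by
      rw [show (3 : ℤ) = ((3 : ℕ) : ℤ) from rfl, zpow_natCast, h3 z hz]
    rw [← Int.emod_add_mul_ediv i 3, zpow_add, zpow_mul, h3', one_zpow, mul_one] at hi
    rcases (show i % 3 = 0 ∨ i % 3 = 1 ∨ i % 3 = 2 by omega) with h | h | h <;> rw [h] at hi
    · rw [zpow_zero, eq_comm, conj_eq_one_iff] at hi
      exact absurd hi hz1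
    · exact Or.inl (by rw [← hi, zpow_one])
    · refine Or.inr (eq_inv_of_mul_eq_one_left ?_)
      rw [← hi, ← zpow_add_one]; exact h3'
  rcases hcase with h | h
  · exact mul_inv_eq_iff_eq_mul.1 h
  · exfalso
    have key : ∀ n : ℕ, g ^ n * z * (g ^ n)⁻¹ = if Even n then z else z⁻¹ := by
      intro n
      induction n with
      | zero => simp
      | succ n ih =>
        rw [pow_succ', show g * g ^ n * z * (g * g ^ n)⁻¹ = g * (g ^ n * z * (g ^ n)⁻¹) * g⁻¹ by group, ih]
        by_cases hn : Even n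
        · rw [if_pos hn, if_neg (by simp [Nat.even_add_one, hn]), h]
        · rw [if_neg hn, if_pos (by simp [Nat.even_add_one, hn]), ← conj_inv, h, inv_inv]
    have h1 := key (3 ^ k)
    rw [hk, if_neg (Nat.not_even_iff_odd.2 ((by decide : Odd 3).pow)), one_mul, inv_one, mul_one] at h1
    apply hz1
    have : z ^ 2 = 1 := by
      rw [pow_two]
      nth_rewrite 1 [h1]
      rw [inv_mul_cancel]
    calc z = z ^ 3 * (z ^ 2)⁻¹ := by group
      _ = 1 := by rw [h3 z hz, this, inv_one, mul_one]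

variable {G : Type u} [Group G] [Finite G]
    (S : Sylow 3 G) (Z : Subgroup G) (hZ : Z = (S : Subgroup G) ⊓ centralizer ((S : Subgroup G) : Set G))
    (J : Subgroup G) (hJS : J ≤ S) (hJcomm : IsMulCommutative J) (hJexp : ∀ a ∈ J, a ^ 3 = 1)
    (hJcard : Nat.card J = 3 ^ 4)
    (M₀ : Subgroup G)
    (hM₀ : M₀ = closure {g : G | g ∈ normalizer (J : Set G) ∧ ∃ k : ℕ, orderOf g = 3 ^ k})
    (hJM : J ≤ M₀) [hJn : (J.subgroupOf M₀).Normal] (eM : M₀ ⧸ J.subgroupOf M₀ ≃* alternatingGroup (Fin 6))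
    (L₀ : Subgroup G)
    (hL₀ : L₀ = closure {g : G | g ∈ normalizer (Z : Set G) ∧ ∃ k : ℕ, orderOf g = 3 ^ k})
    (Q : Subgroup G) (hQ : Q = (Cfsg.pCore 3 (normalizer (Z : Set G))).map (normalizer (Z : Set G)).subtype)
    (hQex : Cfsg.IsExtraspecial 3 Q) (hQcard : Nat.card Q = 3 ^ 5) (hQexp : ∀ a ∈ Q, a ^ 3 = 1)
    (hQL : Q ≤ L₀) [hQn : (Q.subgroupOf L₀).Normal]
    (eL : L₀ ⧸ Q.subgroupOf L₀ ≃* Matrix.SpecialLinearGroup (Fin 2) (ZMod 5))

include hZ hJS hJcomm hJexp hJcard hM₀ hJM eM hL₀ hQ hQex hQcard hQexp hQL eL hJn hQn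

set_option linter.unusedSectionVars false in
/-- The centre of the Sylow subgroup. -/
theorem setup_Z : Z ≤ J ∧ Nat.card Z = 3 ∧
    (Cfsg.pCore 3 (centralizer (Z : Set G))).map (centralizer (Z : Set G)).subtype = Q := by
  classical
  haveI : Fact (Nat.Prime 3) := ⟨Nat.prime_three⟩
  have hZS : Z ≤ S := by rw [hZ]; exact inf_le_left
  have hZc : ∀ z ∈ Z, ∀ s ∈ (S : Subgroup G), z * s = s * z := fun z hz s hs => by
    rw [hZ] at hz; exact (mem_centralizer_iff.1 hz.2 s hs).symm
  set NZ := normalizer (Z : Set G) with hNZ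
  have hSN : (S : Subgroup G) ≤ NZ :=
    le_trans (fun s hs => mem_centralizer_iff.2 fun z hz => hZc z hz s hs) (centralizer_le_normalizer _)
  have hordS : ∀ s ∈ (S : Subgroup G), ∃ k : ℕ, orderOf s = 3 ^ k := fun s hs => by
    obtain ⟨k, hk⟩ := IsPGroup.iff_orderOf.1 S.2 ⟨s, hs⟩
    exact ⟨k, by rw [← hk, ← orderOf_coe]⟩
  have hSL : (S : Subgroup G) ≤ L₀ := fun s hs => by
    rw [hL₀]; exact subset_closure ⟨hSN hs, hordS s hs⟩
  have hLN : L₀ ≤ NZ := by rw [hL₀]; exact (closure_le _).2 fun g hg => hg.1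
  have hQNZ : ∀ g ∈ NZ, ∀ q ∈ Q, g * q * g⁻¹ ∈ Q := by
    intro g hg q hq
    rw [hQ] at hq ⊢
    obtain ⟨a, ha, rfl⟩ := hq
    exact ⟨⟨g, hg⟩ * a * ⟨g, hg⟩⁻¹, (Solvable.pCore_normal (G := NZ) 3).conj_mem a ha _, rfl⟩
  have hNQ : NZ ≤ normalizer (Q : Set G) := fun g hg => mem_normalizer_iff.2 fun q =>
    ⟨hQNZ g hg q, fun h => by
      have := hQNZ g⁻¹ (inv_mem hg) _ h
      simpa [mul_assoc] using this⟩
  have hQp : IsPGroup 3 Q := IsPGroup.of_card (n := 5) hQcard
  have hQS : Q ≤ S := (sup_eq_left.1 (S.3 (S.2.to_sup_of_normal_right' hQp (hSN.trans hNQ)) le_sup_left))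
  -- the order of `S`
  have hLc : Nat.card L₀ = 29160 := by
    rw [card_eq_card_quotient_mul_card_subgroup (Q.subgroupOf L₀), Nat.card_congr eL.toEquiv,
      SL5.card_eq, Nat.card_congr (subgroupOfEquivOfLe hQL).toEquiv, hQcard]
    norm_num
  have hScard : Nat.card (S : Subgroup G) = 729 := by
    have h1 : Nat.card (S : Subgroup G) ∣ 29160 := hLc ▸ card_dvd_of_le hSL
    obtain ⟨m, hm⟩ := IsPGroup.iff_card.1 S.2
    have h2 : 3 ^ 6 ∣ Nat.card (S : Subgroup G) := S.pow_dvd_card_of_pow_dvd_card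
      (Dvd.dvd.trans (by rw [hLc]; norm_num) (card_subgroup_dvd_card L₀))
    rw [hm] at h1 h2 ⊢
    have hle : m ≤ 6 := by
      by_contra hlt
      have : 3 ^ 7 ∣ 29160 := (pow_dvd_pow 3 (by omega)).trans h1
      norm_num at this
    have hge : 6 ≤ m := by
      by_contra hlt
      have := Nat.le_of_dvd (by positivity) h2
      have : 3 ^ m ≤ 3 ^ 5 := Nat.pow_le_pow_right (by norm_num) (by omega)
      omega
    rw [show m = 6 by omega]; norm_num
  -- `Z` is the centre of `Q`
  let π : L₀ →* SL5 := eL.toMonoidHom.comp (QuotientGroup.mk' _)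
  have hπ : Function.Surjective π := eL.surjective.comp (QuotientGroup.mk'_surjective _)
  have hπker : ∀ x : L₀, π x = 1 ↔ (x : G) ∈ Q := fun x => by
    show eL _ = 1 ↔ _
    rw [map_eq_one_iff eL eL.injective, QuotientGroup.mk'_apply, QuotientGroup.eq_one_iff, mem_subgroupOf]
  have hZQ : Z ≤ Q := by
    by_contra hn
    obtain ⟨z, hz, hzQ⟩ := SetLike.not_le_iff_exists.1 hn
    set N := (Z.subgroupOf L₀).map π with hN
    haveI : (Z.subgroupOf L₀).Normal := ⟨fun n hn' g => by
      rw [mem_subgroupOf] at hn' ⊢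
      exact (mem_normalizer_iff.1 (hLN g.2) _).1 hn'⟩
    haveI hNn : N.Normal := Subgroup.Normal.map inferInstance π hπ
    have hNp : IsPGroup 3 N := (IsPGroup.of_equiv (S.2.to_le hZS)
      (subgroupOfEquivOfLe (hZS.trans hSL)).symm).map π
    set a := π ⟨z, hSL (hZS hz)⟩ with ha
    have ha1 : a ≠ 1 := fun e => hzQ ((hπker _).1 e)
    have haN : a ∈ N := ⟨_, mem_subgroupOf.2 hz, rfl⟩
    obtain ⟨m, hm⟩ := IsPGroup.iff_card.1 hNp
    have h120 : Nat.card N ∣ 120 := SL5.card_eq ▸ card_subgroup_dvd_card N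
    have h3 : Nat.card N ∣ 3 := by
      rw [hm] at h120 ⊢
      have : m ≤ 1 := by
        by_contra hlt
        have : 3 ^ 2 ∣ 120 := (pow_dvd_pow 3 (by omega)).trans h120
        norm_num at this
      simpa using pow_dvd_pow 3 this
    have hcube : a * a * a = 1 := by
      have h : (⟨a, haN⟩ : N) ^ 3 = 1 :=
        orderOf_dvd_iff_pow_eq_one.1 ((_root_.orderOf_dvd_natCard _).trans h3)
      simpa [pow_succ] using congrArg Subtype.val h
    obtain ⟨u, hu⟩ := SL5.exists_gen hcube ha1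
    have htop := hu N haN (hNn.conj_mem a haN u)
    rw [htop, card_top, SL5.card_eq] at h3
    norm_num at h3
  obtain ⟨hsp, hcen⟩ := hQex
  have hZle : Z.subgroupOf Q ≤ center Q := fun x hx => mem_center_iff.2 fun y =>
    Subtype.ext (hZc _ (mem_subgroupOf.1 hx) _ (hQS y.2)).symm
  have hZne : Z ≠ ⊥ := by
    intro h
    haveI : Nontrivial (S : Subgroup G) := Finite.one_lt_card_iff_nontrivial.1 (by rw [hScard]; norm_num)
    haveI := S.2.center_nontrivial
    obtain ⟨c, hc⟩ := exists_ne (1 : center (S : Subgroup G))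
    have : ((c : (S : Subgroup G)) : G) ∈ Z := by
      rw [hZ]
      exact ⟨(c : (S : Subgroup G)).2, mem_centralizer_iff.2 fun s hs =>
        congrArg Subtype.val (mem_center_iff.1 c.2 ⟨s, hs⟩)⟩
    rw [h, mem_bot] at this
    exact hc (Subtype.ext (Subtype.ext this))
  have hZ3 : Nat.card Z = 3 := by
    have h1 : Nat.card Z ∣ 3 := by
      rw [← Nat.card_congr (subgroupOfEquivOfLe hZQ).toEquiv, ← hcen]
      exact card_dvd_of_le hZle
    exact ((Nat.dvd_prime Nat.prime_three).1 h1).resolve_left fun h => hZne (eq_bot_of_card_eq _ h)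
  -- `Z` lies in `J`
  have hMN : M₀ ≤ normalizer (J : Set G) := by rw [hM₀]; exact (closure_le _).2 fun g hg => hg.1
  have hZJ : Z ≤ J := by
    by_contra hn
    obtain ⟨z, hz, hzJ⟩ := SetLike.not_le_iff_exists.1 hn
    have hzcJ : ∀ j ∈ J, z * j = j * z := fun j hj => hZc z hz j (hJS hj)
    have hzM : z ∈ M₀ := by
      rw [hM₀]
      exact subset_closure ⟨(centralizer_le_normalizer (J : Set G))
        (mem_centralizer_iff.2 fun j hj => (hzcJ j hj).symm), hordS z (hZS hz)⟩
    let ρ : M₀ →* alternatingGroup (Fin 6) := eM.toMonoidHom.comp (QuotientGroup.mk' _)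
    have hρ : Function.Surjective ρ := eM.surjective.comp (QuotientGroup.mk'_surjective _)
    have hρker : ∀ x : M₀, ρ x = 1 ↔ (x : G) ∈ J := fun x => by
      show eM _ = 1 ↔ _
      rw [map_eq_one_iff eM eM.injective, QuotientGroup.mk'_apply, QuotientGroup.eq_one_iff, mem_subgroupOf]
    set CJ := (centralizer (J : Set G)).subgroupOf M₀ with hCJ
    haveI : CJ.Normal := ⟨fun n hn' g => by
      rw [mem_subgroupOf, mem_centralizer_iff] at hn' ⊢
      intro j hj
      have hj' : (g : G)⁻¹ * j * g ∈ J := by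
        have := (mem_normalizer_iff.1 (inv_mem (hMN g.2)) j).1 hj
        rwa [inv_inv] at this
      have := hn' _ hj'
      show j * ((g : G) * n * (g : G)⁻¹) = (g : G) * n * (g : G)⁻¹ * j
      calc j * ((g : G) * n * (g : G)⁻¹) = (g : G) * ((g : G)⁻¹ * j * g * n) * (g : G)⁻¹ := by group
        _ = _ := by rw [this]; group⟩
    haveI : (CJ.map ρ).Normal := Subgroup.Normal.map inferInstance ρ hρ
    haveI := alternatingGroup.isSimpleGroup (α := Fin 6) (by simp)
    have htop : CJ.map ρ = ⊤ := by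
      refine (IsSimpleGroup.eq_bot_or_eq_top_of_normal _ inferInstance).resolve_left fun h => hzJ ?_
      refine (hρker ⟨z, hzM⟩).1 ?_
      rw [← Subgroup.mem_bot, ← h]
      exact ⟨_, mem_subgroupOf.2 (mem_centralizer_iff.2 fun j hj => (hzcJ j hj).symm), rfl⟩
    have hcent : ∀ m ∈ M₀, ∀ j ∈ J, j * m = m * j := by
      intro m hm j hj
      obtain ⟨c, hc, e⟩ := (htop ▸ mem_top (ρ ⟨m, hm⟩) : ρ ⟨m, hm⟩ ∈ CJ.map ρ)
      have hd : (c : G)⁻¹ * m ∈ J := by
        have h := (hρker (c⁻¹ * ⟨m, hm⟩)).1 (by rw [map_mul, map_inv, e, inv_mul_cancel])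
        simpa using h
      have h1 : j * c = c * j := mem_centralizer_iff.1 (mem_subgroupOf.1 hc) j hj
      have h2 : j * ((c : G)⁻¹ * m) = (c : G)⁻¹ * m * j :=
        congrArg Subtype.val (hJcomm.is_comm.comm (⟨j, hj⟩ : J) ⟨_, hd⟩)
      calc j * m = j * c * ((c : G)⁻¹ * m) := by group
        _ = c * (j * ((c : G)⁻¹ * m)) := by rw [h1]; group
        _ = m * j := by rw [h2]; group
    have hMc : Nat.card M₀ = 29160 := by
      rw [card_eq_card_quotient_mul_card_subgroup (J.subgroupOf M₀), Nat.card_congr eM.toEquiv,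
        nat_card_alternatingGroup, Nat.card_fin, Nat.card_congr (subgroupOfEquivOfLe hJM).toEquiv, hJcard]
      norm_num [Nat.factorial]
    obtain ⟨T, hT⟩ := Sylow.exists_subgroup_card_pow_prime 3 (G := M₀) (n := 6) (by rw [hMc]; norm_num)
    set R := T.map M₀.subtype with hR
    have hRc : Nat.card R = 729 := by rw [hR, card_map_of_injective M₀.subtype_injective, hT]; norm_num
    obtain ⟨P, hP⟩ := (IsPGroup.of_card (p := 3) (n := 6) (show Nat.card R = 3 ^ 6 by rw [hRc]; norm_num)).exists_le_sylow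
    obtain ⟨g, hg⟩ := MulAction.exists_smul_eq G S P
    have hPR : (P : Subgroup G) = R := (eq_of_le_of_card_ge hP (by
      rw [← Nat.card_congr (Sylow.equiv S P).toEquiv, hScard, hRc])).symm
    have hconj : ∀ x ∈ R, g⁻¹ * x * g ∈ (S : Subgroup G) := fun x hx => by
      rw [← hPR, ← hg, Sylow.coe_subgroup_smul] at hx
      obtain ⟨s, hs, rfl⟩ := hx
      show g⁻¹ * (g * s * g⁻¹) * g ∈ (S : Subgroup G)
      rw [show g⁻¹ * (g * s * g⁻¹) * g = s by group]; exact hs
    have hJR : J ≤ R := by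
      have hTp : IsPGroup 3 T := IsPGroup.of_card hT
      have hJp : IsPGroup 3 (J.subgroupOf M₀) :=
        IsPGroup.of_card (n := 4) (by rw [Nat.card_congr (subgroupOfEquivOfLe hJM).toEquiv, hJcard])
      have hsup : Nat.card ↥(T ⊔ J.subgroupOf M₀) ≤ 729 := by
        obtain ⟨m, hm⟩ := IsPGroup.iff_card.1 (hTp.to_sup_of_normal_right hJp)
        have hd : 3 ^ m ∣ 29160 := hm ▸ hMc ▸ card_subgroup_dvd_card _
        have : m ≤ 6 := by
          by_contra hlt
          have : 3 ^ 7 ∣ 29160 := (pow_dvd_pow 3 (by omega)).trans hd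
          norm_num at this
        rw [hm]
        exact (Nat.pow_le_pow_right (by norm_num) this).trans (by norm_num)
      have he : T = T ⊔ J.subgroupOf M₀ := eq_of_le_of_card_ge le_sup_left (hsup.trans (by rw [hT]; norm_num))
      intro j hj
      exact ⟨⟨j, hJM hj⟩, he ▸ mem_sup_right (mem_subgroupOf.2 hj), rfl⟩
    have hle : J.map (MulAut.conj g⁻¹).toMonoidHom ≤ Z := by
      rintro _ ⟨j, hj, rfl⟩
      show g⁻¹ * j * g⁻¹⁻¹ ∈ Z
      rw [inv_inv, hZ]
      refine ⟨hconj j (hJR hj), mem_centralizer_iff.2 fun s hs => ?_⟩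
      have hsR : g * s * g⁻¹ ∈ M₀ := by
        have hs' : g * s * g⁻¹ ∈ R := by
          rw [← hPR, ← hg, Sylow.coe_subgroup_smul]; exact ⟨s, hs, rfl⟩
        obtain ⟨w, -, hw⟩ := hs'
        exact hw ▸ w.2
      have h := hcent _ hsR j hj
      calc s * (g⁻¹ * j * g) = g⁻¹ * (g * s * g⁻¹ * j) * g := by group
        _ = g⁻¹ * j * g * s := by rw [← h]; group
    have := card_le_of_le hle
    rw [card_map_of_injective (MulEquiv.injective _), hJcard, hZ3] at this
    norm_num at this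
  refine ⟨hZJ, hZ3, ?_⟩
  -- the core of the centralizer
  set CZ := centralizer (Z : Set G) with hCZ
  have hQC : Q ≤ CZ := fun q hq => mem_centralizer_iff.2 fun z hz => hZc z hz q (hQS hq)
  apply le_antisymm
  · have hn : ∀ g ∈ NZ, ∀ x ∈ (Cfsg.pCore 3 CZ).map CZ.subtype, g * x * g⁻¹ ∈ (Cfsg.pCore 3 CZ).map CZ.subtype := by
      rintro g hg _ ⟨a, ha, rfl⟩
      have hc : ∀ c : CZ, g * c * g⁻¹ ∈ CZ := fun c => mem_centralizer_iff.2 fun z hz => by
        have hz' : g⁻¹ * z * g ∈ Z := by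
          have := (mem_normalizer_iff.1 (inv_mem hg) z).1 hz
          rwa [inv_inv] at this
        have h := mem_centralizer_iff.1 c.2 _ hz'
        calc z * (g * c * g⁻¹) = g * (g⁻¹ * z * g * c) * g⁻¹ := by group
          _ = g * c * g⁻¹ * z := by rw [h]; group
      have hc' : ∀ c : CZ, g⁻¹ * c * g ∈ CZ := fun c => mem_centralizer_iff.2 fun z hz => by
        have hz' : g * z * g⁻¹ ∈ Z := (mem_normalizer_iff.1 hg z).1 hz
        have h := mem_centralizer_iff.1 c.2 _ hz'
        calc z * (g⁻¹ * c * g) = g⁻¹ * (g * z * g⁻¹ * c) * g := by group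
          _ = g⁻¹ * c * g * z := by rw [h]; group
      let e : CZ ≃* CZ :=
        { toFun := fun c => ⟨g * c * g⁻¹, hc c⟩
          invFun := fun c => ⟨g⁻¹ * c * g, hc' c⟩
          left_inv := fun c => Subtype.ext (by simp [mul_assoc])
          right_inv := fun c => Subtype.ext (by simp [mul_assoc])
          map_mul' := fun c d => Subtype.ext (by simp [mul_assoc]) }
      have hle : (Cfsg.pCore 3 CZ).map e.toMonoidHom ≤ Cfsg.pCore 3 CZ :=
        Solvable.le_pCore 3 ((Solvable.pCore_normal (G := CZ) 3).map _ e.surjective) ((Solvable.isPGroup_pCore 3).map _)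
      exact ⟨e a, hle ⟨a, ha, rfl⟩, rfl⟩
    have hle1 : (Cfsg.pCore 3 CZ).map CZ.subtype ≤ NZ :=
      (map_subtype_le _).trans (centralizer_le_normalizer _)
    have hle2 : ((Cfsg.pCore 3 CZ).map CZ.subtype).subgroupOf NZ ≤ Cfsg.pCore 3 NZ := by
      refine Solvable.le_pCore 3 ⟨fun n hn' g => ?_⟩ ?_
      · rw [mem_subgroupOf] at hn' ⊢
        exact hn g g.2 _ hn'
      · exact ((Solvable.isPGroup_pCore 3).map CZ.subtype).of_equiv (subgroupOfEquivOfLe hle1).symm
    intro x hx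
    rw [hQ]
    exact ⟨⟨x, hle1 hx⟩, hle2 (mem_subgroupOf.2 hx), rfl⟩
  · intro q hq
    refine ⟨⟨q, hQC hq⟩, ?_, rfl⟩
    refine Solvable.le_pCore 3 (N := Q.subgroupOf CZ) ⟨fun n hn' g => ?_⟩
      (hQp.of_equiv (subgroupOfEquivOfLe hQC).symm) (mem_subgroupOf.2 hq)
    rw [mem_subgroupOf] at hn' ⊢
    exact hQNZ g (centralizer_le_normalizer _ g.2) _ hn'

set_option linter.unusedSectionVars false in
/-- The data. -/
theorem exists_data
    (hiii : centralizer (((Cfsg.pCore 3 (centralizer (Z : Set G))).map (centralizer (Z : Set G)).subtype : Subgroup G) : Set G)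
        ≤ (Cfsg.pCore 3 (centralizer (Z : Set G))).map (centralizer (Z : Set G)).subtype) :
    ∃ D : Data G, D.S = S ∧ D.Z = Z ∧ D.J = J ∧ D.Q = Q := by
  classical
  haveI : Fact (Nat.Prime 3) := ⟨Nat.prime_three⟩
  obtain ⟨hZJ, hZ3, hcore⟩ := setup_Z S Z hZ J hJS hJcomm hJexp hJcard M₀ hM₀ hJM eM L₀ hL₀ Q hQ hQex hQcard
    hQexp hQL eL
  rw [hcore] at hiii
  have hgen : ∀ (A H : Subgroup G) (_ : H = closure {g : G | g ∈ normalizer (A : Set G) ∧ ∃ k : ℕ, orderOf g = 3 ^ k})
      (g : G) (_ : g ∈ normalizer (A : Set G)) (h : G) (_ : h ∈ H), g * h * g⁻¹ ∈ H := by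
    rintro A H rfl g hg h hh
    induction hh using closure_induction with
    | mem x hx =>
      refine subset_closure ⟨mul_mem (mul_mem hg hx.1) (inv_mem hg), ?_⟩
      obtain ⟨k, hk⟩ := hx.2
      exact ⟨k, by rw [← hk]; exact (MulAut.conj g).orderOf_eq x⟩
    | one => simp
    | mul a b _ _ ha hb =>
      rw [show g * (a * b) * g⁻¹ = (g * a * g⁻¹) * (g * b * g⁻¹) by group]
      exact mul_mem ha hb
    | inv a _ ha =>
      rw [show g * a⁻¹ * g⁻¹ = (g * a * g⁻¹)⁻¹ by group]
      exact inv_mem ha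
  have hord : ∀ g : G, (∃ k : ℕ, g ^ 3 ^ k = 1) → ∃ k : ℕ, orderOf g = 3 ^ k := by
    rintro g ⟨k, hk⟩
    obtain ⟨j, -, hj⟩ := (Nat.dvd_prime_pow Nat.prime_three).1 (orderOf_dvd_of_pow_eq_one hk)
    exact ⟨j, hj⟩
  have hLC : L₀ ≤ centralizer (Z : Set G) := by
    rw [hL₀, closure_le]
    rintro g ⟨hg, k, hk⟩
    refine mem_centralizer_iff.2 fun z hz => (commute_of_three hZ3 hg (k := k) ?_ hz).symm
    rw [← hk, pow_orderOf_eq_one]
  have hQS : ∀ q ∈ Q, q ∈ normalizer (Z : Set G) := fun q hq =>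
    centralizer_le_normalizer _ (hLC (hQL hq))
  obtain ⟨⟨hQp, -, hder⟩, hcen⟩ := hQex
  have hZQ : Z ≤ Q := fun z hz => hiii (mem_centralizer_iff.2 fun q hq =>
    (mem_centralizer_iff.1 (hLC (hQL hq)) z hz).symm)
  have hZc : Z.subgroupOf Q = center Q := by
    refine eq_of_le_of_card_ge (fun x hx => mem_center_iff.2 fun y => Subtype.ext
      (mem_centralizer_iff.1 (hLC (hQL y.2)) _ (mem_subgroupOf.1 hx)).symm) ?_
    rw [hcen, Nat.card_congr (subgroupOfEquivOfLe hZQ).toEquiv, hZ3]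
  refine ⟨
    { S := S
      Z := Z
      J := J
      Q := Q
      M := M₀
      L := L₀
      J_le := hJS
      J_comm := fun a ha b hb => congrArg Subtype.val (hJcomm.is_comm.comm (⟨a, ha⟩ : J) ⟨b, hb⟩)
      J_cube := fun a ha => by rw [← hJexp a ha, pow_succ, pow_two]
      J_card := by rw [hJcard]; norm_num
      M_le := by rw [hM₀]; exact (closure_le _).2 fun g hg => hg.1
      M_normal := fun g hg m hm => hgen J M₀ hM₀ g hg m hm
      M_three := fun g hg hk => by rw [hM₀]; exact subset_closure ⟨hg, hord g hk⟩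
      J_le_M := hJM
      fM := eM.toMonoidHom.comp (QuotientGroup.mk' _)
      fM_surj := eM.surjective.comp (QuotientGroup.mk'_surjective _)
      fM_ker := fun x => by
        show eM _ = 1 ↔ _
        rw [map_eq_one_iff eM eM.injective, QuotientGroup.mk'_apply, QuotientGroup.eq_one_iff, mem_subgroupOf]
      L_le := hLC
      L_normal := fun g hg l hl => hgen Z L₀ hL₀ g hg l hl
      L_three := fun g hg hk => by rw [hL₀]; exact subset_closure ⟨hg, hord g hk⟩
      Q_le_L := hQL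
      Q_normal := fun g hg q hq => by
        rw [hQ] at hq ⊢
        obtain ⟨a, ha, rfl⟩ := hq
        exact ⟨⟨g, hg⟩ * a * ⟨g, hg⟩⁻¹,
          (Solvable.pCore_normal (G := normalizer (Z : Set G)) 3).conj_mem a ha _, rfl⟩
      Q_card := by rw [hQcard]; norm_num
      Q_cube := fun q hq => by rw [← hQexp q hq, pow_succ, pow_two]
      Q_comm := fun a ha b hb => by
        have h : ⁅(⟨a, ha⟩ : Q), ⟨b, hb⟩⁆ ∈ Z.subgroupOf Q := by
          rw [hZc, ← hder, commutator_def]
          exact commutator_mem_commutator (mem_top _) (mem_top _)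
        exact mem_subgroupOf.1 h
      fL := eL.toMonoidHom.comp (QuotientGroup.mk' _)
      fL_surj := eL.surjective.comp (QuotientGroup.mk'_surjective _)
      fL_ker := fun x => by
        show eL _ = 1 ↔ _
        rw [map_eq_one_iff eL eL.injective, QuotientGroup.mk'_apply, QuotientGroup.eq_one_iff, mem_subgroupOf]
      Z_card := hZ3
      Z_le_Q := hZQ
      Z_center := fun q hq h => by
        have h' : (⟨q, hq⟩ : Q) ∈ Z.subgroupOf Q := hZc.symm ▸ mem_center_iff.2 fun y =>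
          Subtype.ext (h y y.2).symm
        exact mem_subgroupOf.1 h'
      S_le := fun s hs => mem_centralizer_iff.2 fun z hz => by
        rw [hZ] at hz; exact (mem_centralizer_iff.1 hz.2 s hs).symm
      cent_Q := fun g hg => hiii (mem_centralizer_iff.2 fun q hq => (hg q hq).symm) }, rfl, rfl, rfl, rfl⟩

end CfsgLib.McLThree
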