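import Cfsg.Agent.McLThree.Setup
import Cfsg.Agent.McLSimple.Main
import Cfsg.Agent.Comp.Layer
import Cfsg.Prelude.Def_Spor_Conway
import Cfsg.Prelude.Def_Transfer

/-!
From the 3-local hypotheses on `F*(C(Z))` and `N(J)` to the common data, and from the two possible
groups to their generalized Fitting subgroup.
-/

set_option autoImplicit false
set_option maxRecDepth 8000
set_option linter.style.haveILetI false

namespace CfsgLib.McLThree

open Subgroup
open scoped commutatorElement

universe u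

namespace SL5

theorem count_cube : Nat.card {a : SL5 // a * a * a = 1 ∧ a ≠ 1} = 20 := by
  rw [Nat.card_eq_fintype_card, Fintype.card_subtype]; decide +kernel

/-- What `b0` looks like from `a0`. -/
def Profile (b : SL5) : Prop :=
  b * b * b = 1 ∧ b ≠ 1 ∧ (a0 * b) ^ 10 = 1 ∧ (a0 * b) ^ 5 ≠ 1 ∧ (a0 * b) ^ 2 ≠ 1

instance : DecidablePred Profile := fun b => by unfold Profile; infer_instance

theorem count_profile : Nat.card {b : SL5 // Profile b} ≤ 6 := by
  rw [Nat.card_eq_fintype_card, Fintype.card_subtype]; decide +kernel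

theorem profile_b0 : Profile b0 := by unfold Profile; decide +kernel

/-- There are at most 120 automorphisms of `SL(2,5)`. -/
theorem card_aut_le : Nat.card (MulAut SL5) ≤ 120 := by
  classical
  have ha : ∀ f : MulAut SL5, f a0 * f a0 * f a0 = 1 ∧ f a0 ≠ 1 := fun f => by
    refine ⟨?_, fun h => up_facts.2.2.2 ((map_eq_one_iff f f.injective).1 h)⟩
    rw [← map_mul, ← map_mul, up_facts.2.2.1, map_one]
  choose s hs using fun a : {a : SL5 // a * a * a = 1 ∧ a ≠ 1} => cube_conj a.1 a.2.1 a.2.2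
  let i : MulAut SL5 → {a : SL5 // a * a * a = 1 ∧ a ≠ 1} := fun f => ⟨f a0, ha f⟩
  let g : MulAut SL5 → MulAut SL5 := fun f => MulAut.conj (s (i f)) * f
  have hg : ∀ f, g f a0 = a0 := fun f => by
    show s (i f) * f a0 * (s (i f))⁻¹ = a0
    rw [show s (i f) * f a0 = a0 * s (i f) from hs (i f), mul_inv_cancel_right]
  have hp : ∀ f, Profile (g f b0) := fun f => by
    obtain ⟨h1, h2, h3, h4, h5⟩ := profile_b0
    have hb : ∀ n : ℕ, (a0 * g f b0) ^ n = g f ((a0 * b0) ^ n) := fun n => by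
      rw [map_pow, map_mul, hg]
    refine ⟨by rw [← map_mul, ← map_mul, h1, map_one],
      fun h => h2 ((map_eq_one_iff (g f) (g f).injective).1 h), by rw [hb, h3, map_one], ?_, ?_⟩
    · exact fun h => h4 ((map_eq_one_iff (g f) (g f).injective).1 ((hb 5).symm.trans h))
    · exact fun h => h5 ((map_eq_one_iff (g f) (g f).injective).1 ((hb 2).symm.trans h))
  let Φ : MulAut SL5 → {a : SL5 // a * a * a = 1 ∧ a ≠ 1} × {b : SL5 // Profile b} :=
    fun f => (i f, ⟨g f b0, hp f⟩)
  have hΦ : Function.Injective Φ := by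
    intro f f' h
    have h1 : i f = i f' := congrArg Prod.fst h
    have h2 : g f b0 = g f' b0 := congrArg (fun x => x.2.1) h
    have he : (g f).toMonoidHom.eqLocus (g f').toMonoidHom = ⊤ := by
      have ha0 : a0 ∈ (g f).toMonoidHom.eqLocus (g f').toMonoidHom := (hg f).trans (hg f').symm
      have hb0 : b0 ∈ (g f).toMonoidHom.eqLocus (g f').toMonoidHom := h2
      refine eq_top_of_shears ?_ ?_
      · rw [words.1]; exact mul_mem (mul_mem (mul_mem ha0 hb0) ha0) hb0
      · rw [words.2]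
        exact mul_mem (mul_mem (mul_mem (mul_mem (mul_mem (mul_mem (mul_mem ha0 hb0) hb0) ha0) ha0)
          hb0) hb0) ha0
    have heq : g f = g f' := MulEquiv.ext fun x => (he ▸ mem_top x :)
    simp only [g, h1] at heq
    exact mul_left_cancel heq
  refine (Nat.card_le_card_of_injective Φ hΦ).trans ?_
  rw [Nat.card_prod, count_cube]
  exact (Nat.mul_le_mul_left 20 count_profile).trans_eq rfl

theorem card_center_le : Nat.card (center SL5) ≤ 2 := by
  classical
  let f : center SL5 → Bool := fun x => decide ((x : SL5) = 1)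
  refine (Nat.card_le_card_of_injective f ?_).trans (by rw [Nat.card_eq_fintype_card]; simp)
  intro x y h
  have hx := mem_center_iff.1 x.2
  have hy := mem_center_iff.1 y.2
  apply Subtype.ext
  rcases central_cases x.1 (hx a0).symm (hx up).symm with hx' | hx' <;>
    rcases central_cases y.1 (hy a0).symm (hy up).symm with hy' | hy' <;>
    simp only [f, hx', hy'] at h ⊢ <;> exact absurd h (by simp [neg_one_ne.1])

theorem eq_top_of_three {T : Subgroup SL5} (h : ∀ a : SL5, a * a * a = 1 → a ∈ T) : T = ⊤ := by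
  refine eq_top_of_shears ?_ ?_
  all_goals
    have ha0 : a0 ∈ T := h _ up_facts.2.2.1
    have hb0 : b0 ∈ T := h _ profile_b0.1
  · rw [words.1]; exact mul_mem (mul_mem (mul_mem ha0 hb0) ha0) hb0
  · rw [words.2]
    exact mul_mem (mul_mem (mul_mem (mul_mem (mul_mem (mul_mem (mul_mem ha0 hb0) hb0) ha0) ha0)
      hb0) hb0) ha0

end SL5

/-! ### A group with a self-centralising normal `SL(2,5)` -/

/-- A normal `SL(2,5)` containing its centralizer has index at most two. -/
theorem index_SL5_le {H : Type*} [Group H] [Finite H] (K : Subgroup H) [K.Normal] (e : K ≃* SL5)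
    (hC : centralizer (K : Set H) ≤ K) : K.index ≤ 2 := by
  classical
  haveI : Finite (MulAut SL5) := Finite.of_injective (fun f : MulAut SL5 => (f : SL5 → SL5))
    DFunLike.coe_injective
  let θ : H →* MulAut SL5 := (MulAut.congr e).toMonoidHom.comp (MulAut.conjNormal (H := K))
  have hker : ∀ h : H, θ h = 1 → h ∈ K ∧ ∀ k ∈ K, k * h = h * k := by
    intro h hh
    have hc : ∀ k ∈ K, k * h = h * k := fun k hk => by
      have := congrArg (fun f : MulAut SL5 => e.symm (f (e ⟨k, hk⟩))) hh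
      simp [θ, MulAut.congr] at this
      have h' : h * k * h⁻¹ = k := by simpa using congrArg Subtype.val this
      exact (mul_inv_eq_iff_eq_mul.1 h').symm
    exact ⟨hC (mem_centralizer_iff.2 hc), hc⟩
  have h2 : Nat.card θ.ker ≤ 2 := by
    refine (Nat.card_le_card_of_injective (fun x : θ.ker =>
      (⟨e ⟨x.1, (hker _ x.2).1⟩, mem_center_iff.2 fun y => by
        obtain ⟨k, rfl⟩ := e.surjective y
        rw [← map_mul, ← map_mul]
        exact congrArg e (Subtype.ext ((hker _ x.2).2 k k.2))⟩ : center SL5)) ?_).trans SL5.card_center_le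
    intro x y h
    exact Subtype.ext (congrArg (fun z : K => (z : H)) (e.injective (congrArg Subtype.val h)))
  have hH : Nat.card H ≤ 240 := by
    rw [← θ.ker.card_mul_index, index_ker]
    exact (Nat.mul_le_mul h2 ((card_le_card_group _).trans SL5.card_aut_le)).trans_eq rfl
  have hK : Nat.card K = 120 := by rw [Nat.card_congr e.toEquiv, SL5.card_eq]
  have := K.card_mul_index
  rw [hK] at this
  omega

/-- An element of 3-power order lies in a normal subgroup of index at most two. -/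
theorem mem_of_index_le {H : Type*} [Group H] [Finite H] {K : Subgroup H} [K.Normal]
    (hK : K.index ≤ 2) {h : H} (hh : ∃ k : ℕ, h ^ 3 ^ k = 1) : h ∈ K := by
  obtain ⟨k, hk⟩ := hh
  rw [← QuotientGroup.eq_one_iff, ← orderOf_eq_one_iff]
  refine Nat.eq_one_of_dvd_coprimes (?_ : Nat.Coprime (3 ^ k) K.index) ?_ ?_
  · apply Nat.Coprime.pow_left
    have : K.index ≠ 0 := FiniteIndex.index_ne_zero
    rcases (show K.index = 1 ∨ K.index = 2 by omega) with h' | h' <;> rw [h'] <;> decide
  · exact orderOf_dvd_of_pow_eq_one (by rw [← QuotientGroup.mk_pow, hk, QuotientGroup.mk_one])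
  · exact _root_.orderOf_dvd_natCard _

/-! ### The subgroup generated by the elements of 3-power order -/

section ThreeGen

variable {G : Type*} [Group G]

/-- The subgroup generated by the elements of 3-power order of `N`. -/
def threeGen (N : Subgroup G) : Subgroup G :=
  closure {g : G | g ∈ N ∧ ∃ k : ℕ, g ^ 3 ^ k = 1}

theorem threeGen_le (N : Subgroup G) : threeGen N ≤ N := (closure_le _).2 fun _ hg => hg.1

theorem mem_threeGen {N : Subgroup G} {g : G} (hg : g ∈ N) (hk : ∃ k : ℕ, g ^ 3 ^ k = 1) :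
    g ∈ threeGen N := subset_closure ⟨hg, hk⟩

theorem threeGen_conj {N : Subgroup G} {g : G} (hN : ∀ x ∈ N, g * x * g⁻¹ ∈ N) {h : G}
    (hh : h ∈ threeGen N) : g * h * g⁻¹ ∈ threeGen N := by
  induction hh using closure_induction with
  | mem x hx =>
    obtain ⟨k, hk⟩ := hx.2
    exact mem_threeGen (hN x hx.1) ⟨k, by rw [conj_pow, hk, mul_one, mul_inv_cancel]⟩
  | one => simp
  | mul a b _ _ ha hb =>
    rw [show g * (a * b) * g⁻¹ = (g * a * g⁻¹) * (g * b * g⁻¹) by group]
    exact mul_mem ha hb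
  | inv a _ ha =>
    rw [show g * a⁻¹ * g⁻¹ = (g * a * g⁻¹)⁻¹ by group]
    exact inv_mem ha

/-- A homomorphism with kernel of exponent three, restricted to the 3-generated subgroup. -/
theorem exists_threeGen_hom {N : Subgroup G} {H A : Type*} [Group H] [Group A] (π : N →* H)
    (hπ : Function.Surjective π) (hker : ∀ x, π x = 1 → x ^ 3 = 1) (X : Subgroup H)
    (hX : X = closure {h : H | ∃ k : ℕ, h ^ 3 ^ k = 1}) (e : X ≃* A) :
    ∃ f : threeGen N →* A, Function.Surjective f ∧
      ∀ x : threeGen N, f x = 1 ↔ π ⟨x, threeGen_le N x.2⟩ = 1 := by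
  let φ : threeGen N →* H := π.comp (inclusion (threeGen_le N))
  have hmem : ∀ x, φ x ∈ X := by
    have h : threeGen N ≤ (X.comap π).map N.subtype := by
      refine (closure_le _).2 fun g ⟨hg, k, hk⟩ => ⟨⟨g, hg⟩, ?_, rfl⟩
      show π ⟨g, hg⟩ ∈ X
      rw [hX]
      exact subset_closure ⟨k, by rw [← map_pow, show (⟨g, hg⟩ : N) ^ 3 ^ k = 1 from Subtype.ext hk, map_one]⟩
    intro x
    obtain ⟨y, hy, he⟩ := h x.2
    have : y = ⟨x, threeGen_le N x.2⟩ := Subtype.ext he
    rw [this] at hy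
    exact hy
  have hsurj : X ≤ φ.range := by
    rw [hX, closure_le]
    rintro h ⟨k, hk⟩
    obtain ⟨x, rfl⟩ := hπ h
    have hx : x ^ 3 ^ (k + 1) = 1 := by
      rw [pow_succ, pow_mul]; exact hker _ (by rw [map_pow, hk])
    exact ⟨⟨x, mem_threeGen x.2 ⟨k + 1, by simpa using congrArg Subtype.val hx⟩⟩, rfl⟩
  refine ⟨e.toMonoidHom.comp (φ.codRestrict X hmem), e.surjective.comp fun y => ?_, fun x => ?_⟩
  · obtain ⟨x, hx⟩ := hsurj y.2
    exact ⟨x, Subtype.ext hx⟩
  · show e _ = 1 ↔ _
    rw [map_eq_one_iff e e.injective, Subtype.ext_iff]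
    rfl

end ThreeGen

/-! ### The data -/

/-- The common data from the hypotheses on `F*(C(Z))` and `N(J)`. -/
theorem data_of_Fstar_aux {G : Type u} [Group G] [Finite G] (Z : Subgroup G) (hZ : Nat.card Z = 3)
    (C : Subgroup G) (hC : C = centralizer (Z : Set G))
    (S : Sylow 3 C) (J : Subgroup G)
    (hJS : J ≤ (S : Subgroup C).map C.subtype)
    (hJ : Cfsg.IsElementaryAbelian 3 J) (hJcard : Nat.card J = 3 ^ 4)
    (hQ : Cfsg.IsExtraspecial 3 (Cfsg.generalizedFittingSubgroup C))
    (hQcard : Nat.card (Cfsg.generalizedFittingSubgroup C) = 3 ^ 5)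
    [hQn : (Cfsg.generalizedFittingSubgroup C).Normal]
    (hexp : ∀ x ∈ Cfsg.generalizedFittingSubgroup C, x ^ 3 = 1)
    (hFMQ : Nonempty (Cfsg.generalizedFittingSubgroup (C ⧸
      Cfsg.generalizedFittingSubgroup C) ≃* SL5))
    [hJn : (J.subgroupOf (normalizer (J : Set G))).Normal]
    (hA6 : Nonempty (closure {x : normalizer (J : Set G) ⧸ J.subgroupOf (normalizer (J : Set G)) |
      ∃ k : ℕ, orderOf x = 3 ^ k} ≃* alternatingGroup (Fin 6))) :
    Nonempty (Data G) := by
  classical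
  haveI : Fact (Nat.Prime 3) := ⟨Nat.prime_three⟩
  set F := Cfsg.generalizedFittingSubgroup C with hF
  set Q := F.map C.subtype with hQdef
  set NJ := normalizer (J : Set G) with hNJ
  obtain ⟨eK⟩ := hFMQ
  obtain ⟨eM⟩ := hA6
  set K := Cfsg.generalizedFittingSubgroup (C ⧸ F) with hK
  have hKi : K.index ≤ 2 := index_SL5_le K eK Comp.centralizer_Fstar_le
  -- `Z` is the centre of `Q`
  have hCm : ∀ {x : G}, x ∈ C ↔ ∀ z ∈ (Z : Set G), z * x = x * z := by
    intro x; rw [hC]; exact mem_centralizer_iff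
  have hZC : Z ≤ C := fun z hz => hCm.2 fun w hw => by
    haveI : IsCyclic Z := isCyclic_of_prime_card hZ
    obtain ⟨g, hg⟩ := IsCyclic.exists_generator (α := Z)
    obtain ⟨i, hi⟩ := mem_zpowers_iff.1 (hg ⟨z, hz⟩)
    obtain ⟨j, hj⟩ := mem_zpowers_iff.1 (hg ⟨w, hw⟩)
    have h : (⟨w, hw⟩ : Z) * ⟨z, hz⟩ = ⟨z, hz⟩ * ⟨w, hw⟩ := by rw [← hi, ← hj]; group
    exact congrArg Subtype.val h
  have hZF : Z.subgroupOf C ≤ F := fun x hx => Comp.centralizer_Fstar_le
    (mem_centralizer_iff.2 fun y _ => Subtype.ext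
      (hCm.1 y.2 x (mem_subgroupOf.1 hx)).symm)
  have hcen : (Z.subgroupOf C).subgroupOf F = center F := by
    refine eq_of_le_of_card_ge (fun x hx => mem_center_iff.2 fun y => Subtype.ext (Subtype.ext
      (hCm.1 y.1.2 _ (mem_subgroupOf.1 (mem_subgroupOf.1 hx))).symm)) ?_
    rw [hQ.2, Nat.card_congr (subgroupOfEquivOfLe hZF).toEquiv,
      Nat.card_congr (subgroupOfEquivOfLe hZC).toEquiv, hZ]
  have hmemQ : ∀ {x : G} (hx : x ∈ C), x ∈ Q ↔ (⟨x, hx⟩ : C) ∈ F := fun {x} hx =>
    ⟨fun ⟨y, hy, he⟩ => (Subtype.ext he : y = ⟨x, hx⟩) ▸ hy, fun h => ⟨_, h, rfl⟩⟩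
  have hQC : Q ≤ C := map_subtype_le F
  have hQ243 : Nat.card Q = 243 := by
    rw [hQdef, card_map_of_injective C.subtype_injective, hQcard]; norm_num
  have hZQ : Z ≤ Q := fun z hz => ⟨⟨z, hZC hz⟩, hZF (mem_subgroupOf.2 hz), rfl⟩
  have hZcenter : ∀ q ∈ Q, (∀ b ∈ Q, q * b = b * q) → q ∈ Z := fun q hq h => by
    have h' : (⟨⟨q, hQC hq⟩, (hmemQ _).1 hq⟩ : F) ∈ center F := mem_center_iff.2 fun y =>
      Subtype.ext (Subtype.ext (h _ ⟨y.1, y.2, rfl⟩).symm)
    rw [← hcen] at h'
    exact mem_subgroupOf.1 (mem_subgroupOf.1 h')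
  have hcentQ : ∀ g : G, (∀ q ∈ Q, g * q = q * g) → g ∈ Q := fun g h => by
    have hgC : g ∈ C := hCm.2 fun z hz => (h z (hZQ hz)).symm
    exact (hmemQ hgC).2 (Comp.centralizer_Fstar_le (mem_centralizer_iff.2 fun y hy =>
      Subtype.ext (h _ ⟨y, hy, rfl⟩).symm))
  -- the Sylow subgroup
  have hCcard : Nat.card C = 3 ^ 5 * (120 * K.index) := by
    rw [card_eq_card_quotient_mul_card_subgroup F, hQcard, ← K.card_mul_index,
      Nat.card_congr eK.toEquiv, SL5.card_eq]
    ring
  have hi : K.index = 1 ∨ K.index = 2 := by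
    have : K.index ≠ 0 := FiniteIndex.index_ne_zero
    omega
  have hFS : F ≤ (S : Subgroup C) :=
    sup_eq_left.1 (S.3 (S.2.to_sup_of_normal_right hQ.1.1) le_sup_left)
  set S₀ := (S : Subgroup C).map C.subtype with hS₀
  have hS0C : S₀ ≤ C := map_subtype_le _
  have hQS : Q ≤ S₀ := map_mono hFS
  obtain ⟨P, hP⟩ := (S.2.map C.subtype).exists_le_sylow
  have hPS : (P : Subgroup G) = S₀ := by
    by_contra hne
    haveI := P.2.isNilpotent
    have hlt : S₀.subgroupOf (P : Subgroup G) < ⊤ := by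
      rw [lt_top_iff_ne_top, ne_eq, subgroupOf_eq_top]
      exact fun h => hne (le_antisymm h hP)
    obtain ⟨x, hx, hxS⟩ := SetLike.exists_of_lt (Group.normalizerCondition_of_isNilpotent _ hlt)
    have hx' : ∀ s ∈ S₀, (x : G) * s * (x : G)⁻¹ ∈ S₀ := fun s hs => by
      have := (mem_normalizer_iff.1 hx ⟨s, hP hs⟩).1 (mem_subgroupOf.2 hs)
      exact mem_subgroupOf.1 this
    have hx'' : ∀ s ∈ S₀, (x : G)⁻¹ * s * (x : G) ∈ S₀ := fun s hs => by
      have := (mem_normalizer_iff.1 (inv_mem hx) ⟨s, hP hs⟩).1 (mem_subgroupOf.2 hs)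
      simpa using mem_subgroupOf.1 this
    have hxN : ∀ y : G, (∀ s ∈ S₀, y * s * y⁻¹ ∈ S₀) → (∀ s ∈ S₀, y⁻¹ * s * y ∈ S₀) →
        ∀ z ∈ Z, y * z * y⁻¹ ∈ Z := by
      intro y h1 h2 z hz
      have hS : ∀ s ∈ S₀, (y * z * y⁻¹) * s = s * (y * z * y⁻¹) := fun s hs => by
        have h := hCm.1 (hS0C (h2 s hs)) z hz
        calc (y * z * y⁻¹) * s = y * (z * (y⁻¹ * s * y)) * y⁻¹ := by group
          _ = _ := by rw [h]; group
      exact hZcenter _ (hcentQ _ fun q hq => hS q (hQS hq)) fun b hb => hS b (hQS hb)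
    have hxZ : (x : G) ∈ normalizer (Z : Set G) := mem_normalizer_iff.2 fun z =>
      ⟨hxN x hx' hx'' z, fun hz => by
        have := hxN (x : G)⁻¹ (fun s hs => by simpa using hx'' s hs)
          (fun s hs => by simpa using hx' s hs) _ hz
        simpa [mul_assoc] using this⟩
    obtain ⟨k, hk⟩ := P.2 x
    have hk' : (x : G) ^ 3 ^ k = 1 := by simpa using congrArg Subtype.val hk
    have hxC : (x : G) ∈ C := hCm.2 fun z hz => (commute_of_three hZ hxZ hk' hz).symm
    have hPC : (P : Subgroup G).subgroupOf C = (S : Subgroup C) := S.3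
      (P.2.comap_of_injective C.subtype C.subtype_injective)
      (fun s hs => mem_subgroupOf.2 (hP ⟨s, hs, rfl⟩))
    have hxS' : (⟨x, hxC⟩ : C) ∈ (S : Subgroup C) := hPC ▸ mem_subgroupOf.2 x.2
    exact hxS (mem_subgroupOf.2 ⟨_, hxS', rfl⟩)
  have hJP : J ≤ (P : Subgroup G) := fun a ha => by
    rw [hPS, hS₀]; exact hJS ha
  -- the two sides
  have hord : ∀ {H : Type u} [Group H] (x : H),
      (∃ k : ℕ, x ^ 3 ^ k = 1) ↔ ∃ k : ℕ, orderOf x = 3 ^ k := fun x =>
    ⟨fun ⟨k, hk⟩ => by
      obtain ⟨j, -, hj⟩ := (Nat.dvd_prime_pow Nat.prime_three).1 (orderOf_dvd_of_pow_eq_one hk)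
      exact ⟨j, hj⟩, fun ⟨k, hk⟩ => ⟨k, by rw [← hk, pow_orderOf_eq_one]⟩⟩
  have hNZC : ∀ g ∈ normalizer (Z : Set G), ∀ x ∈ C, g * x * g⁻¹ ∈ C := fun g hg x hx =>
    hCm.2 fun z hz => by
      have hz' : g⁻¹ * z * g ∈ Z := by
        have := (mem_normalizer_iff.1 (inv_mem hg) z).1 hz
        rwa [inv_inv] at this
      have h := hCm.1 hx _ hz'
      calc z * (g * x * g⁻¹) = g * (g⁻¹ * z * g * x) * g⁻¹ := by group
        _ = g * x * g⁻¹ * z := by rw [h]; group
  obtain ⟨fL, hfL, hfLk⟩ := exists_threeGen_hom (QuotientGroup.mk' F) (QuotientGroup.mk'_surjective F)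
    (fun x hx => hexp x ((QuotientGroup.eq_one_iff x).1 hx)) K (le_antisymm (by
      have h : (closure {h : C ⧸ F | ∃ k : ℕ, h ^ 3 ^ k = 1}).comap
          (K.subtype.comp eK.symm.toMonoidHom) = ⊤ := SL5.eq_top_of_three fun a ha =>
        subset_closure ⟨1, by rw [← map_pow, pow_one, show a ^ 3 = 1 by rw [← ha, pow_succ, pow_two], map_one]⟩
      intro x hx
      have := h.ge (mem_top (eK ⟨x, hx⟩))
      simpa using this) ((closure_le _).2 fun h hh => mem_of_index_le hKi hh)) eK
  obtain ⟨fM, hfM, hfMk⟩ := exists_threeGen_hom (QuotientGroup.mk' (J.subgroupOf NJ))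
    (QuotientGroup.mk'_surjective _)
    (fun x hx => Subtype.ext (by simpa using hJ.2 _ (mem_subgroupOf.1 ((QuotientGroup.eq_one_iff x).1 hx))))
    (Subgroup.closure {x : NJ ⧸ J.subgroupOf NJ | ∃ k : ℕ, orderOf x = 3 ^ k})
    (congrArg Subgroup.closure (Set.ext fun x => (hord x).symm)) eM
  refine ⟨
    { S := P
      Z := Z
      J := J
      Q := Q
      M := threeGen NJ
      L := threeGen C
      J_le := hJP
      J_comm := fun a ha b hb => congrArg Subtype.val (hJ.1.is_comm.comm (⟨a, ha⟩ : J) ⟨b, hb⟩)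
      J_cube := fun a ha => by rw [← hJ.2 a ha, pow_succ, pow_two]
      J_card := by rw [hJcard]; norm_num
      M_le := threeGen_le _
      M_normal := fun g hg m hm =>
        threeGen_conj (fun x hx => mul_mem (mul_mem hg hx) (inv_mem hg)) hm
      M_three := fun g hg hk => mem_threeGen hg hk
      J_le_M := fun a ha => mem_threeGen (le_normalizer ha) ⟨1, by simpa using hJ.2 a ha⟩
      fM := fM
      fM_surj := hfM
      fM_ker := fun x => (hfMk x).trans
        ((QuotientGroup.eq_one_iff _).trans mem_subgroupOf)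
      L_le := (threeGen_le _).trans hC.le
      L_normal := fun g hg l hl => threeGen_conj (hNZC g hg) hl
      L_three := fun g hg ⟨k, hk⟩ => mem_threeGen
        (hCm.2 fun z hz => (commute_of_three hZ hg hk hz).symm) ⟨k, hk⟩
      Q_le_L := fun q hq => mem_threeGen (hQC hq)
        ⟨1, by simpa using congrArg Subtype.val (hexp _ ((hmemQ (hQC hq)).1 hq))⟩
      Q_normal := fun g hg q hq => by
        have hg' := inv_mem hg
        let e : C ≃* C :=
          { toFun := fun c => ⟨g * c * g⁻¹, hNZC g hg c c.2⟩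
            invFun := fun c => ⟨g⁻¹ * c * g, by simpa using hNZC _ hg' c c.2⟩
            left_inv := fun c => Subtype.ext (by simp [mul_assoc])
            right_inv := fun c => Subtype.ext (by simp [mul_assoc])
            map_mul' := fun c d => Subtype.ext (by simp [mul_assoc]) }
        obtain ⟨a, ha, rfl⟩ := hq
        exact ⟨e a, Comp.map_Fstar_le e ⟨a, ha, rfl⟩, rfl⟩
      Q_card := hQ243
      Q_cube := fun q hq => by
        have := congrArg Subtype.val (hexp _ ((hmemQ (hQC hq)).1 hq))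
        simpa [pow_succ] using this
      Q_comm := fun a ha b hb => by
        have h : ⁅(⟨⟨a, hQC ha⟩, (hmemQ _).1 ha⟩ : F), ⟨⟨b, hQC hb⟩, (hmemQ _).1 hb⟩⁆ ∈
            (Z.subgroupOf C).subgroupOf F := by
          rw [hcen, ← hQ.1.2.2, _root_.commutator_def]
          exact commutator_mem_commutator (mem_top _) (mem_top _)
        exact mem_subgroupOf.1 (mem_subgroupOf.1 h)
      fL := fL
      fL_surj := hfL
      fL_ker := fun x => (hfLk x).trans ((QuotientGroup.eq_one_iff _).trans (hmemQ _).symm)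
      Z_card := hZ
      Z_le_Q := hZQ
      Z_center := hZcenter
      S_le := (hPS.le.trans hS0C).trans hC.le
      cent_Q := hcentQ }⟩

/-- The common data from the hypotheses on `F*(C(Z))` and `N(J)`. -/
theorem data_of_Fstar {G : Type u} [Group G] [Finite G] (Z : Subgroup G) (hZ : Nat.card Z = 3)
    (S : Sylow 3 (centralizer (Z : Set G))) (J : Subgroup G)
    (hJS : J ≤ (S : Subgroup (centralizer (Z : Set G))).map (centralizer (Z : Set G)).subtype)
    (hJ : Cfsg.IsElementaryAbelian 3 J) (hJcard : Nat.card J = 3 ^ 4)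
    (hQ : Cfsg.IsExtraspecial 3 (Cfsg.generalizedFittingSubgroup (centralizer (Z : Set G))))
    (hQcard : Nat.card (Cfsg.generalizedFittingSubgroup (centralizer (Z : Set G))) = 3 ^ 5)
    [hQn : (Cfsg.generalizedFittingSubgroup (centralizer (Z : Set G))).Normal]
    (hexp : ∀ x ∈ Cfsg.generalizedFittingSubgroup (centralizer (Z : Set G)), x ^ 3 = 1)
    (hFMQ : Nonempty (Cfsg.generalizedFittingSubgroup (centralizer (Z : Set G) ⧸
      Cfsg.generalizedFittingSubgroup (centralizer (Z : Set G))) ≃* SL5))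
    [hJn : (J.subgroupOf (normalizer (J : Set G))).Normal]
    (hA6 : Nonempty (closure {x : normalizer (J : Set G) ⧸ J.subgroupOf (normalizer (J : Set G)) |
      ∃ k : ℕ, orderOf x = 3 ^ k} ≃* alternatingGroup (Fin 6))) :
    Nonempty (Data G) :=
  data_of_Fstar_aux Z hZ _ rfl S J hJS hJ hJcard hQ hQcard hexp hFMQ hA6

/-! ### The socle -/

theorem simple_McL : IsSimpleGroup Cfsg.Spor.McL := by
  haveI := Cfsg.Agent.McLSimple.simple_mclStab
  let e : Cfsg.Spor.McL ≃* Cfsg.Agent.McLSimple.mclStab :=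
    { toFun := fun g => ⟨⟨g.1, g.2.1.1⟩, g.2.1.2, g.2.2⟩
      invFun := fun g => ⟨g.1.1, ⟨g.1.2, g.2.1⟩, g.2.2⟩
      left_inv := fun g => rfl
      right_inv := fun g => rfl
      map_mul' := fun g h => rfl }
  exact e.isSimpleGroup

theorem card_McL : Nat.card Cfsg.Spor.McL = 898128000 := by
  rw [← Cfsg.Agent.McLSimple.card_mclStab]
  exact Nat.card_congr
    { toFun := fun g => ⟨⟨g.1, g.2.1.1⟩, g.2.1.2, g.2.2⟩
      invFun := fun g => ⟨g.1.1, ⟨g.1.2, g.2.1⟩, g.2.2⟩
      left_inv := fun g => rfl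
      right_inv := fun g => rfl }

theorem Fstar_ne_bot {X : Type*} [Group X] [Finite X] [Nontrivial X] :
    Cfsg.generalizedFittingSubgroup X ≠ ⊥ := by
  intro h
  obtain ⟨x, hx⟩ := exists_ne (1 : X)
  have h' := Comp.centralizer_Fstar_le (G := X) (x := x)
    (mem_centralizer_iff.2 fun y hy => by
      rw [SetLike.mem_coe, h, mem_bot] at hy
      rw [hy, one_mul, mul_one])
  rw [h, mem_bot] at h'
  exact hx h'

theorem Fstar_equiv {X Y : Type*} [Group X] [Group Y] (e : X ≃* Y) :
    Nonempty (Cfsg.generalizedFittingSubgroup X ≃* Cfsg.generalizedFittingSubgroup Y) := by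
  have h : (Cfsg.generalizedFittingSubgroup X).map e.toMonoidHom =
      Cfsg.generalizedFittingSubgroup Y := le_antisymm (Comp.map_Fstar_le e) fun y hy =>
    ⟨e.symm y, Comp.map_Fstar_le e.symm ⟨y, hy, rfl⟩, e.apply_symm_apply y⟩
  exact ⟨((Cfsg.generalizedFittingSubgroup X).equivMapOfInjective _ e.injective).trans
    (MulEquiv.subgroupCongr h)⟩

theorem Fstar_of_simple (S : Type*) [Group S] [Finite S] [IsSimpleGroup S] :
    Nonempty (Cfsg.generalizedFittingSubgroup S ≃* S) := by
  rw [(Subgroup.Normal.eq_bot_or_eq_top inferInstance).resolve_left (Fstar_ne_bot (X := S))]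
  exact ⟨topEquiv⟩

theorem Fstar_of_aut (S : Type*) [Group S] [Finite S] [IsSimpleGroup S] (hns : ¬ Group.IsSolvable S) :
    Nonempty (Cfsg.generalizedFittingSubgroup (MulAut S) ≃* S) := by
  haveI : Finite (MulAut S) := Finite.of_injective (fun f : MulAut S => (f : S → S))
    DFunLike.coe_injective
  have hZ : center S = ⊥ := by
    refine (Subgroup.Normal.eq_bot_or_eq_top inferInstance).resolve_right fun h => hns ?_
    exact IsSimpleGroup.comm_iff_isSolvable.1 fun a b => mem_center_iff.1 (h ▸ mem_top b) a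
  have hinj : Function.Injective (MulAut.conj (G := S)) := by
    rw [← MonoidHom.ker_eq_bot_iff, eq_bot_iff, ← hZ]
    intro x hx
    refine mem_center_iff.2 fun y => ?_
    have := DFunLike.congr_fun (MonoidHom.mem_ker.1 hx) y
    simp only [MulAut.conj_apply, MulAut.one_apply] at this
    exact (mul_inv_eq_iff_eq_mul.1 this).symm
  set I := (MulAut.conj (G := S)).range with hI
  let eI : S ≃* I := MonoidHom.ofInjective hinj
  haveI : IsSimpleGroup I := eI.symm.isSimpleGroup
  haveI : Nontrivial (MulAut S) := hinj.nontrivial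
  haveI hIn : I.Normal := ⟨by
    rintro _ ⟨x, rfl⟩ f
    exact ⟨f x, MulEquiv.ext fun y => by simp [MulAut.conj_apply]⟩⟩
  have hC : centralizer (I : Set (MulAut S)) = ⊥ := by
    refine eq_bot_iff.2 fun f hf => mem_bot.2 (MulEquiv.ext fun x => hinj ?_)
    have h := mem_centralizer_iff.1 hf _ ⟨x, rfl⟩
    refine MulEquiv.ext fun y => ?_
    have h' := DFunLike.congr_fun h (f⁻¹ y)
    simpa [MulAut.conj_apply, map_mul, map_inv] using h'.symm
  have hle : Cfsg.generalizedFittingSubgroup (MulAut S) ≤ I := by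
    refine Comp.Fstar_le_of_self_centralizing I ?_ (hC ▸ bot_le)
    set N := Cfsg.fittingSubgroup (MulAut S) with hN
    rcases (inferInstance : (N.subgroupOf I).Normal).eq_bot_or_eq_top with h | h
    · have hd : Disjoint N I := subgroupOf_eq_bot.1 h
      have : N ≤ centralizer (I : Set (MulAut S)) := fun n hn => mem_centralizer_iff.2 fun i hi =>
        (commute_of_normal_of_disjoint I N hIn inferInstance hd.symm i n hi hn).eq
      exact this.trans (hC ▸ bot_le)
    · exfalso
      haveI := Comp.fitting_isSolvable (G := MulAut S)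
      have hIN : I ≤ N := subgroupOf_eq_top.1 h
      refine hns (Group.isSolvable_of_isSolvable_injective
        (f := (inclusion hIN).comp eI.toMonoidHom) ?_)
      exact (inclusion_injective hIN).comp eI.injective
  have hge : Cfsg.generalizedFittingSubgroup (MulAut S) = I := by
    refine le_antisymm hle ?_
    rcases (inferInstance : ((Cfsg.generalizedFittingSubgroup (MulAut S)).subgroupOf I).Normal
      ).eq_bot_or_eq_top with h | h
    · exact absurd ((subgroupOf_eq_bot.1 h).eq_bot_of_le hle) Fstar_ne_bot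
    · exact subgroupOf_eq_top.1 h
  exact ⟨(MulEquiv.subgroupCongr hge).trans eI.symm⟩

theorem isoMcL_Fstar {G : Type*} [Group G]
    (h : Nonempty (G ≃* Cfsg.Spor.McL) ∨ Nonempty (G ≃* MulAut Cfsg.Spor.McL)) :
    Cfsg.Spor.IsoMcL (Cfsg.generalizedFittingSubgroup G) := by
  haveI := simple_McL
  haveI : Finite Cfsg.Spor.McL := Nat.finite_of_card_ne_zero (by rw [card_McL]; norm_num)
  have hns : ¬ Group.IsSolvable Cfsg.Spor.McL := by
    intro hs
    haveI := hs
    letI : CommGroup Cfsg.Spor.McL := { (inferInstance : Group Cfsg.Spor.McL) with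
      mul_comm := IsSimpleGroup.comm_iff_isSolvable.2 hs }
    have := IsSimpleGroup.prime_card (α := Cfsg.Spor.McL)
    rw [card_McL] at this
    norm_num at this
  rcases h with ⟨⟨e⟩⟩ | ⟨⟨e⟩⟩
  · obtain ⟨e₁⟩ := Fstar_equiv e
    obtain ⟨e₂⟩ := Fstar_of_simple Cfsg.Spor.McL
    exact ⟨e₁.trans e₂⟩
  · obtain ⟨e₁⟩ := Fstar_equiv e
    obtain ⟨e₂⟩ := Fstar_of_aut Cfsg.Spor.McL hns
    exact ⟨e₁.trans e₂⟩

end CfsgLib.McLThree
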