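import Cfsg.Agent.McLThree.Fusion
import Cfsg.Agent.McLThree.NormZ
import Cfsg.Agent.McLThree.EightData

/-!
The centralizer of `t` modulo `⟨t⟩` satisfies the local hypotheses leading to `A₈` or `S₈`.
-/

set_option autoImplicit false
set_option maxHeartbeats 400000

namespace CfsgLib.McLThree

open Subgroup
open CfsgLib.ThreeLocalSymEight (P35 eZ eZ')

universe u

variable {G : Type u} [Group G] [Finite G]

namespace Local

variable (P : Local G)

/-- The centralizer of `t`. -/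
abbrev Ht : Subgroup G := centralizer ({P.t} : Set G)

/-- The subgroup `⟨t⟩` of the centralizer. -/
abbrev Tt : Subgroup P.Ht := (zpowers P.t).subgroupOf P.Ht

theorem mem_Ht {x : G} : x ∈ P.Ht ↔ x * P.t = P.t * x := mem_centralizer_singleton_iff

theorem mem_zpowers_t {x : G} : x ∈ zpowers P.t ↔ x = 1 ∨ x = P.t := by
  constructor
  · intro h
    obtain ⟨k, rfl⟩ := mem_zpowers_iff.1 h
    rcases Int.even_or_odd k with ⟨n, rfl⟩ | ⟨n, rfl⟩
    · left; rw [← two_mul, zpow_mul, zpow_two, P.t_sq, one_zpow]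
    · right; rw [zpow_add, zpow_mul, zpow_two, P.t_sq, one_zpow, one_mul, zpow_one]
  · rintro (rfl | rfl)
    · exact one_mem _
    · exact mem_zpowers _

instance normal_Tt : P.Tt.Normal := ⟨fun n hn x => by
  rw [mem_subgroupOf] at hn ⊢
  rcases P.mem_zpowers_t.1 hn with e | e <;> refine P.mem_zpowers_t.2 ?_
  · left; simp [e]
  · right
    simp only [Subgroup.coe_mul, InvMemClass.coe_inv, e]
    rw [P.mem_Ht.1 x.2, mul_inv_cancel_right]⟩

theorem cube_of_D {d : G} (hd : d ∈ P.toCtx.D) : d * d * d = 1 := P.toFrame.D_cube hd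

theorem D_le_Ht : P.toCtx.D ≤ P.Ht := fun _ hd => P.mem_Ht.2 (P.toCtx.mem_D.1 hd).2

theorem conj_cube {x : G} (d : G) (hd : d * d * d = 1) : x * d * x⁻¹ * (x * d * x⁻¹) * (x * d * x⁻¹) = 1 := by
  rw [conj_mul, conj_mul, hd, mul_one, mul_inv_cancel]

theorem eq_of_mod {a b : G} (hb : b * P.t = P.t * b) (ha3 : a * a * a = 1) (hb3 : b * b * b = 1)
    (h : b⁻¹ * a ∈ zpowers P.t) : a = b := by
  rcases P.mem_zpowers_t.1 h with e | e
  · exact (inv_mul_eq_one.1 e).symm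
  · exfalso
    apply P.toCtx.t_ne_one
    have ea : a = b * P.t := by rw [← e, mul_inv_cancel_left]
    rw [ea] at ha3
    calc P.t = b * b * b * (P.t * P.t * P.t) := by rw [hb3, P.t_sq, one_mul, one_mul]
      _ = b * P.t * (b * P.t) * (b * P.t) := by
        have c : Commute b P.t := hb
        rw [c.symm.mul_mul_mul_comm, (Commute.mul_right c c).symm.mul_mul_mul_comm]
      _ = 1 := ha3

theorem y_not_zero : P.y ≠ 1 := fun h => P.y_Q (h ▸ one_mem _)

theorem inv_ne {a : G} (h3 : a * a * a = 1) (h1 : a ≠ 1) : a⁻¹ ≠ a := fun h => h1 (by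
  rwa [show a * a = 1 by nth_rewrite 1 [← h]; exact inv_mul_cancel _, one_mul] at h3)

theorem zz_cube : P.zz * P.zz * P.zz = 1 := P.Q_cube _ (P.Z_le_Q P.zz_mem)

theorem zz_D : P.zz ∈ P.toCtx.D := P.toCtx.Z_le_D P.zz_mem

theorem Z_inf_Y {a : G} (h1 : a ∈ P.Z) (h2 : a ∈ zpowers P.y) : a = 1 := by
  rcases P.y_pow_cases h2 with e | e | e
  · exact e
  · exact absurd (P.Z_le_Q (e ▸ h1)) P.y_Q
  · exact absurd (P.Z_le_Q ((inv_mem_iff (H := P.Z)).1 (e ▸ h1))) P.y_Q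

theorem closure_zy : closure ({P.zz, P.y} : Set G) = P.toCtx.D := by
  refine le_antisymm ((closure_le _).2 ?_) fun d hd => ?_
  · rintro w (rfl | rfl)
    · exact P.zz_D
    · exact P.y_D
  · obtain ⟨w, hw, i, rfl⟩ := P.D_gen d hd
    rw [← P.zpowers_zz] at hw
    obtain ⟨k, rfl⟩ := mem_zpowers_iff.1 hw
    have h1 : P.zz ∈ closure ({P.zz, P.y} : Set G) := Subgroup.subset_closure (Set.mem_insert _ _)
    have h2 : P.y ∈ closure ({P.zz, P.y} : Set G) :=
      Subgroup.subset_closure (Set.mem_insert_of_mem _ (Set.mem_singleton _))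
    exact mul_mem (zpow_mem h1 k) (pow_mem h2 _)

/-- The conjugates of `zz` in `D` lie in `Z` or `⟨y⟩`, those of `y` likewise. -/
theorem singular_D' {h : G} (hd : h * P.y * h⁻¹ ∈ P.toCtx.D) :
    h * P.y * h⁻¹ ∈ P.Z ∨ h * P.y * h⁻¹ ∈ zpowers P.y := by
  refine P.singular_D hd (h := h * P.g) ?_
  rw [← P.g_z]; group

/-- A 3-element of `C(t)` normalising `D` lies in `D`. -/
theorem three_norm_D {h : G} (hh : h * P.t = P.t * h) (hn : h ∈ normalizer (P.toCtx.D : Set G))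
    (h3 : ∃ k : ℕ, h ^ 3 ^ k = 1) : h ∈ P.toCtx.D := by
  haveI : Fact (Nat.Prime 3) := ⟨Nat.prime_three⟩
  have hcD : ∀ x ∈ normalizer (P.toCtx.D : Set G), ∀ a ∈ P.toCtx.D, x * a * x⁻¹ ∈ P.toCtx.D :=
    fun x hx a ha => (mem_normalizer_iff.1 hx a).1 ha
  have hsq : h ^ 2 ∈ normalizer (P.Z : Set G) := by
    rw [← P.zpowers_zz]
    refine ThreeLocalEight.mem_normalizer_zpowers_of ?_
    have e : h ^ 2 * P.zz * (h ^ 2)⁻¹ = h * (h * P.zz * h⁻¹) * h⁻¹ := by rw [sq]; group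
    rw [e]
    rcases P.singular_D (hcD h hn _ P.zz_D) rfl with e1 | e1
    · rw [← P.zpowers_zz] at e1
      obtain ⟨k, hk⟩ := mem_zpowers_iff.1 e1
      rcases P.singular_D (hcD h hn _ P.zz_D) rfl with e2 | e2
      · rw [← hk, ← conj_zpow, ← hk, ← zpow_mul]
        exact zpow_mem (mem_zpowers _) _
      · have : h * P.zz * h⁻¹ = 1 := P.Z_inf_Y (P.zpowers_zz ▸ hk ▸ zpow_mem (mem_zpowers _) _) e2
        exact absurd (conj_eq_one_iff.1 this) P.zz_ne
    · obtain ⟨k, hk⟩ := mem_zpowers_iff.1 e1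
      rcases P.singular_D' (hcD h hn _ P.y_D) with e2 | e2
      · rw [← hk, ← conj_zpow]
        exact zpow_mem (P.zpowers_zz.symm ▸ e2) k
      · exfalso
        obtain ⟨i, hi⟩ := mem_zpowers_iff.1 e2
        rcases P.y_pow_cases e1 with e3 | e3 | e3
        · exact P.zz_ne (conj_eq_one_iff.1 e3)
        all_goals
          rcases P.y_pow_cases e2 with e4 | e4 | e4
          · exact P.y_not_zero (conj_eq_one_iff.1 e4)
          all_goals
            have key : P.zz = P.y ∨ P.zz = P.y⁻¹ := by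
              first
              | exact Or.inl (mul_left_cancel (mul_right_cancel (e3.trans e4.symm)))
              | refine Or.inr (mul_left_cancel (a := h) (mul_right_cancel (b := h⁻¹) ?_))
                rw [e3, ← conj_inv, e4, inv_inv]
              | refine Or.inr (mul_left_cancel (a := h) (mul_right_cancel (b := h⁻¹) ?_))
                rw [e3, ← conj_inv, e4]
            rcases key with e5 | e5
            · exact P.y_Q (e5 ▸ P.Z_le_Q P.zz_mem)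
            · exact P.y_Q ((inv_mem_iff (H := P.Q)).1 (e5 ▸ P.Z_le_Q P.zz_mem))
  have hhZ : h ∈ normalizer (P.Z : Set G) := by
    obtain ⟨k, hk⟩ := h3
    obtain ⟨n, hn'⟩ : Odd (3 ^ k) := Odd.pow (by decide)
    have : h = (h ^ 2) ^ (n + 1) := by
      rw [← pow_mul, show 2 * (n + 1) = (2 * n + 1) + 1 by ring, pow_succ, ← hn', hk, one_mul]
    rw [this]
    exact pow_mem hsq _
  have hCL : h ∈ P.toCtx.CL := P.toCtx.mem_CL.2 ⟨P.L_three h hhZ h3, hh⟩
  have hzh : IsPGroup 3 (zpowers h) := by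
    rintro ⟨w, hw⟩
    obtain ⟨k, hk⟩ := h3
    obtain ⟨m, rfl⟩ := mem_zpowers_iff.1 hw
    refine ⟨k, Subtype.ext ?_⟩
    show (h ^ m) ^ 3 ^ k = 1
    rw [← zpow_natCast, ← zpow_mul, mul_comm, zpow_mul, zpow_natCast, hk, one_zpow]
  have hP : IsPGroup 3 ↥(zpowers h ⊔ P.toCtx.D) :=
    IsPGroup.to_sup_of_normal_right' hzh (IsPGroup.of_card (n := 2) (by rw [P.toCtx.card_D]; norm_num))
      (zpowers_le.2 hn)
  obtain ⟨n, hn2⟩ := IsPGroup.iff_card.1 hP
  have hd : Nat.card ↥(zpowers h ⊔ P.toCtx.D) ∣ 360 := by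
    rw [← P.toCtx.card_CL]
    exact card_dvd_of_le (sup_le (zpowers_le.2 hCL) P.toCtx.D_le_CL)
  have hle : n ≤ 2 := by
    by_contra hc
    have : 27 ∣ 360 := (pow_dvd_pow 3 (by omega : 3 ≤ n)).trans (hn2 ▸ hd)
    omega
  have heq : P.toCtx.D = zpowers h ⊔ P.toCtx.D := eq_of_le_of_card_ge le_sup_right (by
    rw [hn2, P.toCtx.card_D]; exact Nat.pow_le_pow_right (by norm_num : 0 < 3) hle)
  rw [heq]
  exact mem_sup_left (mem_zpowers h)

/-- A 3-subgroup of `C(t)` has order dividing 9. -/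
theorem sylow_Ht {R : Subgroup P.Ht} (hR : IsPGroup 3 R) : Nat.card R ∣ 9 := by
  haveI : Fact (Nat.Prime 3) := ⟨Nat.prime_three⟩
  have hD : IsPGroup 3 (P.toCtx.D.subgroupOf P.Ht) :=
    (IsPGroup.of_card (n := 2) (by rw [P.toCtx.card_D]; norm_num)).of_equiv
      (subgroupOfEquivOfLe P.D_le_Ht).symm
  obtain ⟨T, hT⟩ := hD.exists_le_sylow
  obtain ⟨T', hT'⟩ := hR.exists_le_sylow
  have hTeq : P.toCtx.D.subgroupOf P.Ht = (T : Subgroup P.Ht) := by
    by_contra hne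
    haveI := T.2.isNilpotent
    have hlt : (P.toCtx.D.subgroupOf P.Ht).subgroupOf T < ⊤ := by
      rw [lt_top_iff_ne_top]
      exact fun h => hne (le_antisymm hT (subgroupOf_eq_top.1 h))
    obtain ⟨w, hw, hwD⟩ := SetLike.exists_of_lt (Group.normalizerCondition_of_isNilpotent _ hlt)
    apply hwD
    rw [mem_subgroupOf, mem_subgroupOf]
    refine P.three_norm_D (P.mem_Ht.1 (w : P.Ht).2) ?_ ?_
    · rw [mem_normalizer_iff]
      intro a
      constructor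
      · intro ha
        have haT : (⟨a, P.D_le_Ht ha⟩ : P.Ht) ∈ (T : Subgroup P.Ht) := hT (mem_subgroupOf.2 ha)
        have := (mem_normalizer_iff.1 hw ⟨_, haT⟩).1 (mem_subgroupOf.2 (mem_subgroupOf.2 ha))
        exact mem_subgroupOf.1 (mem_subgroupOf.1 this)
      · intro ha
        have haT : (⟨_, P.D_le_Ht ha⟩ : P.Ht) ∈ (T : Subgroup P.Ht) := hT (mem_subgroupOf.2 ha)
        have := (mem_normalizer_iff.1 (inv_mem hw) ⟨_, haT⟩).1 (mem_subgroupOf.2 (mem_subgroupOf.2 ha))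
        have h2 := mem_subgroupOf.1 (mem_subgroupOf.1 this)
        simpa [mul_assoc] using h2
    · obtain ⟨k, hk⟩ := T.2 w
      exact ⟨k, congrArg (fun x : (T : Subgroup P.Ht) => ((x : P.Ht) : G)) hk⟩
  calc Nat.card R ∣ Nat.card T' := card_dvd_of_le hT'
    _ = Nat.card T := Nat.card_congr (Sylow.equiv T' T).toEquiv
    _ = 9 := by
      rw [← hTeq, Nat.card_congr (subgroupOfEquivOfLe P.D_le_Ht).toEquiv, P.toCtx.card_D]

theorem e_normS : P.e ∈ normalizer ((P.S : Subgroup G) : Set G) := by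
  have key : ∀ x : G, x ∈ normalizer (P.Z : Set G) → x * P.y * x⁻¹ = P.y⁻¹ →
      ∀ s ∈ (P.S : Subgroup G), x * s * x⁻¹ ∈ (P.S : Subgroup G) := by
    intro x hxZ hxy s hs
    have hyQ : zpowers P.y ⊔ P.Q = (P.S : Subgroup G) := by
      refine eq_of_le_of_card_ge (sup_le (zpowers_le.2 P.toFrame.y_S) P.toData.Q_le_S) ?_
      have h1 : 729 ∣ Nat.card ↥(zpowers P.y ⊔ P.Q) * 1 := by
        have hlt : P.Q < zpowers P.y ⊔ P.Q := lt_of_le_of_ne le_sup_right fun e =>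
          P.y_Q (e ▸ mem_sup_left (mem_zpowers _))
        have h2 := card_dvd_of_le (sup_le (zpowers_le.2 P.toFrame.y_S) P.toData.Q_le_S)
        rw [P.toData.card_S] at h2
        obtain ⟨n, hn, hn'⟩ := (Nat.dvd_prime_pow Nat.prime_three).1
          (show Nat.card ↥(zpowers P.y ⊔ P.Q) ∣ 3 ^ 6 by norm_num; exact h2)
        have h3 := Set.Finite.card_lt_card (Set.toFinite _) (SetLike.coe_ssubset_coe.2 hlt)
        change Nat.card P.Q < Nat.card ↥(zpowers P.y ⊔ P.Q) at h3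
        rw [P.Q_card, hn'] at h3
        have : 6 ≤ n := by
          by_contra hcon
          have : 3 ^ n ≤ 3 ^ 5 := Nat.pow_le_pow_right (by norm_num) (by omega)
          omega
        rw [hn', mul_one, show (729 : ℕ) = 3 ^ 6 by norm_num]
        exact pow_dvd_pow 3 this
      rw [P.toData.card_S]
      exact Nat.le_of_dvd Nat.card_pos (by simpa using h1)
    have hn : zpowers P.y ≤ normalizer (P.Q : Set G) :=
      zpowers_le.2 (P.toData.L_norm_Q (P.toData.S_le_L P.toFrame.y_S))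
    rw [← hyQ] at hs
    obtain ⟨a, ha, q, hq, rfl⟩ := Set.mem_mul.1
      ((Subgroup.coe_mul_of_left_le_normalizer_right _ _ hn).subset hs)
    obtain ⟨k, rfl⟩ := mem_zpowers_iff.1 ha
    rw [← conj_mul, ← conj_zpow, hxy]
    exact mul_mem (zpow_mem (inv_mem P.toFrame.y_S) _) (P.toData.Q_le_S (P.Q_normal x hxZ q hq))
  refine mem_normalizer_iff.2 fun s => ⟨key P.e P.toFrame.e_norm P.toFrame.e_y_conj s, fun h => ?_⟩
  have ey : P.e⁻¹ * P.y * P.e⁻¹⁻¹ = P.y⁻¹ := by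
    have h1 := congrArg (fun x => P.e⁻¹ * x⁻¹ * P.e) P.toFrame.e_y_conj
    simp only [inv_inv] at h1
    rw [inv_inv, ← h1]; group
  have := key P.e⁻¹ (inv_mem P.toFrame.e_norm) ey _ h
  simpa [mul_assoc] using this

theorem e_z : P.e * P.zz * P.e⁻¹ = P.zz := by
  rw [← P.toData.comm_Z P.toFrame.e_cent P.zz_mem, mul_inv_cancel_right]

theorem e_t : P.e * P.t = P.t * P.e := P.toCtx.E_t P.e_E

/-- The elements of `M ∩ C(t)` centralising `D`. -/
theorem M_cent_D {x : G} (hM : x ∈ P.M) (ht : x * P.t = P.t * x)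
    (hz : x * P.zz * x⁻¹ = P.zz) (hy : x * P.y * x⁻¹ = P.y) :
    x ∈ P.toCtx.D ∨ P.t * x ∈ P.toCtx.D := by
  set m : P.M := ⟨x, hM⟩ with hm
  set tM : P.M := ⟨P.t, P.c_sq ▸ mul_mem P.c_M P.c_M⟩ with htM
  set cM : P.M := ⟨P.c, P.c_M⟩ with hcM
  set gM : P.M := ⟨P.g, P.g_M⟩ with hgM
  have htc : tM = cM * cM := Subtype.ext P.c_sq.symm
  have hci : (P.f cM : Equiv.Perm (Fin 6)) = Six.pc := P.c_img
  have hcomm : (P.f m : Equiv.Perm (Fin 6)) * (Six.pc * Six.pc) =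
      Six.pc * Six.pc * (P.f m : Equiv.Perm (Fin 6)) := by
    have h := congrArg (fun w : P.M => ((P.f w : alternatingGroup (Fin 6)) : Equiv.Perm (Fin 6)))
      (show m * tM = tM * m from Subtype.ext ht)
    simpa [htc, hci] using h
  have hD : ∀ w : P.M, (w : G) * P.t = P.t * w → P.f w = P.f m → ∃ d ∈ P.toCtx.D, x = w * d := by
    intro w hw he
    refine ⟨(w : G)⁻¹ * x, P.toFrame.mem_D_of_J
      ((P.f_ker (w⁻¹ * m)).1 (by rw [map_mul, map_inv, he, inv_mul_cancel]))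
      ((Commute.mul_left (Commute.inv_left hw) ht).eq), by group⟩
  have hct : P.c * P.t = P.t * P.c := by rw [← P.c_sq, mul_assoc]
  have hdz : ∀ d ∈ P.toCtx.D, d * P.zz * d⁻¹ = P.zz := fun d hd => by
    rw [P.toFrame.D_comm hd P.zz_D, mul_inv_cancel_right]
  have hcz : ∀ i : ℕ, (P.c ^ i * P.zz * (P.c ^ i)⁻¹ = P.zz ∨ P.c ^ i * P.zz * (P.c ^ i)⁻¹ = P.zz⁻¹) ∧
      (P.c ^ i * P.y * (P.c ^ i)⁻¹ = P.y ∨ P.c ^ i * P.y * (P.c ^ i)⁻¹ = P.y⁻¹) := by
    intro i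
    induction i with
    | zero => exact ⟨Or.inl (by simp), Or.inl (by simp)⟩
    | succ n ih =>
      have e : ∀ w, P.c ^ (n + 1) * w * (P.c ^ (n + 1))⁻¹ =
          P.c ^ n * (P.c * w * P.c⁻¹) * (P.c ^ n)⁻¹ := fun w => by rw [pow_succ]; group
      rw [e, e, P.c_z, P.c_y, ← conj_inv, ← conj_inv]
      refine ⟨?_, ?_⟩
      · rcases ih.1 with h | h <;> rw [h]
        · exact Or.inr rfl
        · exact Or.inl (inv_inv _)
      · rcases ih.2 with h | h <;> rw [h]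
        · exact Or.inr rfl
        · exact Or.inl (inv_inv _)
  rcases Six.cent_sq _ hcomm (Equiv.Perm.mem_alternatingGroup.1 (P.f m).2) with h | h
  · rcases h with h | h | h | h
    · obtain ⟨d, hd, rfl⟩ := hD 1 (by simp) (Subtype.ext (by rw [map_one]; exact h.symm))
      exact Or.inl (by simpa using hd)
    · exfalso
      obtain ⟨d, hd, e⟩ := hD cM hct (Subtype.ext (by rw [hci, h]))
      have : x * P.zz * x⁻¹ = P.zz⁻¹ := by
        rw [e, show P.c * d * P.zz * (P.c * d)⁻¹ = P.c * (d * P.zz * d⁻¹) * P.c⁻¹ by group, hdz d hd, P.c_z]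
      exact inv_ne P.zz_cube P.zz_ne (this.symm.trans hz)
    · obtain ⟨d, hd, e⟩ := hD tM rfl (Subtype.ext (by rw [htc, map_mul, Subgroup.coe_mul, hci, h]))
      right
      rw [e, ← mul_assoc, show (tM : G) = P.t from rfl, P.t_sq, one_mul]
      exact hd
    · exfalso
      obtain ⟨d, hd, e⟩ := hD (tM * cM) ((Commute.mul_left (Commute.refl P.t) hct).eq)
        (Subtype.ext (by rw [htc, map_mul, map_mul, Subgroup.coe_mul, Subgroup.coe_mul, hci, h]))
      have : x * P.zz * x⁻¹ = P.zz⁻¹ := by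
        rw [e, show (tM * cM : P.M) = (P.t * P.c : G) from rfl,
          show P.t * P.c * d * P.zz * (P.t * P.c * d)⁻¹ =
            P.t * (P.c * (d * P.zz * d⁻¹) * P.c⁻¹) * P.t⁻¹ by group, hdz d hd, P.c_z,
          ← conj_inv, ← P.toCtx.t_comm_Z P.zz_mem, mul_inv_cancel_right]
      exact inv_ne P.zz_cube P.zz_ne (this.symm.trans hz)
  · exfalso
    obtain ⟨i, hi⟩ : ∃ i : ℕ, (P.f m : Equiv.Perm (Fin 6)) * Six.pg = Six.pc ^ i := by
      rcases h with h | h | h | h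
      · exact ⟨0, h⟩
      · exact ⟨1, by rw [h, pow_one]⟩
      · exact ⟨2, by rw [h, sq]⟩
      · exact ⟨3, by rw [h, pow_three']⟩
    obtain ⟨d, hd, e⟩ := hD (cM ^ i * gM)
      ((Commute.mul_left (Commute.pow_left hct i) P.g_t).eq) (Subtype.ext (by
        rw [map_mul, map_pow, Subgroup.coe_mul, SubmonoidClass.coe_pow, hci,
          show (P.f gM : Equiv.Perm (Fin 6)) = Six.pg from P.g_img, ← hi, mul_assoc, Six.pg_facts.1,
          mul_one]))
    have h2 : x * P.zz * x⁻¹ = P.c ^ i * P.y * (P.c ^ i)⁻¹ := by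
      rw [e, show ((cM ^ i * gM : P.M) : G) = P.c ^ i * P.g from rfl,
        show P.c ^ i * P.g * d * P.zz * (P.c ^ i * P.g * d)⁻¹ =
          P.c ^ i * (P.g * (d * P.zz * d⁻¹) * P.g⁻¹) * (P.c ^ i)⁻¹ by group, hdz d hd, P.g_z]
    rw [hz] at h2
    rcases (hcz i).2 with h3 | h3 <;> rw [h3] at h2
    · exact P.y_Q (h2 ▸ P.Z_le_Q P.zz_mem)
    · exact P.y_Q ((inv_mem_iff (H := P.Q)).1 (h2 ▸ P.Z_le_Q P.zz_mem))

/-- `(g e)²` is `c` up to `D⟨t⟩`. -/
theorem ge_sq : ∃ d ∈ P.toCtx.D,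
    P.g * P.e * (P.g * P.e) = P.c * d ∨ P.g * P.e * (P.g * P.e) = P.t * (P.c * d) := by
  set m := P.e * P.g * P.e⁻¹ * P.g⁻¹ with hm
  have hemM : P.e * P.g * P.e⁻¹ ∈ P.M :=
    P.M_normal _ (P.toCtx.normalizer_S_le P.e_normS) _ P.g_M
  have hmM : m ∈ P.M := mul_mem hemM (inv_mem P.g_M)
  have hct : P.c * P.t = P.t * P.c := by rw [← P.c_sq, mul_assoc]
  set x := P.c⁻¹ * (P.g * m * P.g⁻¹) with hx
  have hxM : x ∈ P.M := mul_mem (inv_mem P.c_M) (mul_mem (mul_mem P.g_M hmM) (inv_mem P.g_M))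
  have hmt : Commute m P.t :=
    Commute.mul_left (Commute.mul_left (Commute.mul_left P.e_t P.g_t) (Commute.inv_left P.e_t))
      (Commute.inv_left P.g_t)
  have hxt : x * P.t = P.t * x :=
    (Commute.mul_left (Commute.inv_left hct)
      ((Commute.mul_left (P.g_t : Commute P.g P.t) hmt).mul_left (Commute.inv_left P.g_t))).eq
  have hgi : P.g⁻¹ = P.g := inv_eq_of_mul_eq_one_right P.g_sq
  have hei : ∀ w v : G, P.e * w * P.e⁻¹ = v → P.e⁻¹ * v * P.e = w := fun w v h => by rw [← h]; group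
  have hinv : ∀ a b : G, P.g * a * P.g⁻¹ = b → P.g * b * P.g⁻¹ = a →
      P.e * a * P.e⁻¹ = a → P.e * b * P.e⁻¹ = b⁻¹ →
      (P.g * m * P.g⁻¹) * a * (P.g * m * P.g⁻¹)⁻¹ = a⁻¹ ∧
      (P.g * m * P.g⁻¹) * b * (P.g * m * P.g⁻¹)⁻¹ = b⁻¹ := by
    intro a b h1 h2 h3 h4
    have i1 : P.e⁻¹ * a * P.e = a := hei _ _ h3
    have i2 : P.e⁻¹ * b * P.e = b⁻¹ := hei _ _ (by rw [← conj_inv, h4, inv_inv])
    constructor
    · calc (P.g * m * P.g⁻¹) * a * (P.g * m * P.g⁻¹)⁻¹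
          = P.g * (P.e * (P.g * (P.e⁻¹ * (P.g⁻¹ * (P.g⁻¹ * a * P.g) * P.g) * P.e) * P.g⁻¹) * P.e⁻¹) *
              P.g⁻¹ := by rw [hm]; simp [mul_assoc]
        _ = a⁻¹ := by
          rw [show P.g⁻¹ * a * P.g = b by rw [hgi]; nth_rewrite 2 [← hgi]; exact h1,
            show P.g⁻¹ * b * P.g = a by rw [hgi]; nth_rewrite 2 [← hgi]; exact h2, i1, h1, h4,
            ← conj_inv, h2]
    · calc (P.g * m * P.g⁻¹) * b * (P.g * m * P.g⁻¹)⁻¹
          = P.g * (P.e * (P.g * (P.e⁻¹ * (P.g⁻¹ * (P.g⁻¹ * b * P.g) * P.g) * P.e) * P.g⁻¹) * P.e⁻¹) *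
              P.g⁻¹ := by rw [hm]; simp [mul_assoc]
        _ = b⁻¹ := by
          rw [show P.g⁻¹ * b * P.g = a by rw [hgi]; nth_rewrite 2 [← hgi]; exact h2,
            show P.g⁻¹ * a * P.g = b by rw [hgi]; nth_rewrite 2 [← hgi]; exact h1, i2,
            ← conj_inv, h2, ← conj_inv, h3, ← conj_inv, h1]
  obtain ⟨hA, hB⟩ := hinv P.zz P.y P.g_z P.g_y P.e_z P.toFrame.e_y_conj
  have hcinv : ∀ w : G, P.c * w * P.c⁻¹ = w⁻¹ → P.c⁻¹ * w⁻¹ * P.c = w := fun w h => by rw [← h]; group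
  have key := P.M_cent_D hxM hxt
    (by rw [hx, show P.c⁻¹ * (P.g * m * P.g⁻¹) * P.zz * (P.c⁻¹ * (P.g * m * P.g⁻¹))⁻¹ =
          P.c⁻¹ * (P.g * m * P.g⁻¹ * P.zz * (P.g * m * P.g⁻¹)⁻¹) * P.c by group, hA, hcinv _ P.c_z])
    (by rw [hx, show P.c⁻¹ * (P.g * m * P.g⁻¹) * P.y * (P.c⁻¹ * (P.g * m * P.g⁻¹))⁻¹ =
          P.c⁻¹ * (P.g * m * P.g⁻¹ * P.y * (P.g * m * P.g⁻¹)⁻¹) * P.c by group, hB, hcinv _ P.c_y])
  have e1 : P.g * P.e * (P.g * P.e) = P.c * x * P.t := by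
    rw [hx, mul_inv_cancel_left, ← P.e_sq]
    calc P.g * P.e * (P.g * P.e) = P.g * P.e * P.g * P.e⁻¹ * (P.g⁻¹ * P.g⁻¹) * (P.e * P.e) := by
          rw [hgi, P.g_sq]; group
      _ = _ := by rw [hm]; group
  have hxtc : P.c * x * P.t = P.t * (P.c * x) := by
    rw [← mul_assoc P.t, ← hct, mul_assoc, hxt, ← mul_assoc]
  rcases key with h | h
  · exact ⟨x, h, Or.inr (e1.trans hxtc)⟩
  · refine ⟨_, h, Or.inl (e1.trans ?_)⟩
    rw [mul_assoc, hxt]

/-- The local data of `C(t)/⟨t⟩`. -/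
theorem exists_eight (hdiag : ∀ x : G, x * P.t = P.t * x → x * (P.zz * P.y) = P.zz * P.y * x →
      x * P.zz * x⁻¹ ∈ P.toCtx.D ∧ x * P.y * x⁻¹ ∈ P.toCtx.D) :
    ∃ E : EightData (P.Ht ⧸ P.Tt),
      E.z = QuotientGroup.mk ⟨P.zz, P.D_le_Ht P.zz_D⟩ ∧ E.y = QuotientGroup.mk ⟨P.y, P.D_le_Ht P.y_D⟩ ∧
      E.c = QuotientGroup.mk ⟨P.c, P.mem_Ht.2 (by rw [← P.c_sq, mul_assoc])⟩ ∧
      E.g = QuotientGroup.mk ⟨P.g, P.mem_Ht.2 P.g_t⟩ := by
  classical
  set z : P.Ht := ⟨P.zz, P.D_le_Ht P.zz_D⟩ with hz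
  set y : P.Ht := ⟨P.y, P.D_le_Ht P.y_D⟩ with hy
  set c : P.Ht := ⟨P.c, P.mem_Ht.2 (by rw [← P.c_sq, mul_assoc])⟩ with hc
  set g : P.Ht := ⟨P.g, P.mem_Ht.2 P.g_t⟩ with hg
  set e : P.Ht := ⟨P.e, P.mem_Ht.2 P.e_t⟩ with he
  set π := QuotientGroup.mk' P.Tt with hπ
  have hmk : ∀ x : P.Ht, (QuotientGroup.mk x : P.Ht ⧸ P.Tt) = π x := fun _ => rfl
  have heq : ∀ a b : P.Ht, π a = π b ↔ (a : G)⁻¹ * b ∈ zpowers P.t := fun a b => by
    rw [← hmk, ← hmk, QuotientGroup.eq, mem_subgroupOf]; rfl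
  have hone : ∀ a : P.Ht, π a = 1 ↔ (a : G) ∈ zpowers P.t := fun a => by
    rw [← hmk, QuotientGroup.eq_one_iff, mem_subgroupOf]
  have hexact : ∀ a b : P.Ht, (a : G) * a * a = 1 → (b : G) * b * b = 1 → π a = π b → (a : G) = b :=
    fun a b ha hb h => P.eq_of_mod (P.mem_Ht.1 b.2) ha hb ((heq b a).1 h.symm)
  -- closures
  have hclo : closure ({π z, π y} : Set (P.Ht ⧸ P.Tt)) = (P.toCtx.D.subgroupOf P.Ht).map π := by
    have e1 : P.toCtx.D.subgroupOf P.Ht = closure ({z, y} : Set P.Ht) := by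
      refine (map_injective (subtype_injective P.Ht)) ?_
      rw [subgroupOf_map_subtype, MonoidHom.map_closure, Set.image_pair, inf_eq_left.2 P.D_le_Ht]
      exact P.closure_zy.symm
    rw [e1, MonoidHom.map_closure, Set.image_pair]
  have hmemD : ∀ a : P.Ht, (a : G) * a * a = 1 → π a ∈ closure ({π z, π y} : Set (P.Ht ⧸ P.Tt)) →
      (a : G) ∈ P.toCtx.D := by
    intro a ha h
    rw [hclo] at h
    obtain ⟨d, hd, hde⟩ := h
    have := hexact d a (P.cube_of_D (mem_subgroupOf.1 hd)) ha hde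
    rw [← this]; exact mem_subgroupOf.1 hd
  have hinD : ∀ a : P.Ht, (a : G) ∈ P.toCtx.D → π a ∈ closure ({π z, π y} : Set (P.Ht ⧸ P.Tt)) :=
    fun a ha => hclo ▸ ⟨a, mem_subgroupOf.2 ha, rfl⟩
  have hcube : ∀ a : P.Ht, (a : G) ∈ P.toCtx.D → π a * π a * π a = 1 := fun a ha => by
    rw [← map_mul, ← map_mul, hone]
    exact P.mem_zpowers_t.2 (Or.inl (P.cube_of_D ha))
  -- the normalizer of `z`
  have hN : ∀ a : P.Ht, π a ∈ normalizer (zpowers (π z) : Set (P.Ht ⧸ P.Tt)) ↔ (a : G) ∈ P.NH := by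
    intro a
    constructor
    · intro h
      obtain ⟨k, hk⟩ := mem_zpowers_iff.1 (ThreeLocalEight.conj_mem_zpowers h)
      rw [← map_inv, ← map_mul, ← map_mul, ← map_zpow] at hk
      refine P.mem_NH.2 ⟨?_, P.mem_Ht.1 a.2⟩
      rw [← P.zpowers_zz]
      refine ThreeLocalEight.mem_normalizer_zpowers_of ?_
      have := hexact (a * z * a⁻¹) (z ^ k) (conj_cube _ P.zz_cube) ?_ hk.symm
      · exact mem_zpowers_iff.2 ⟨k, by simpa using this.symm⟩
      · rw [SubgroupClass.coe_zpow, ← (Commute.refl P.zz).mul_zpow, ← ((Commute.refl P.zz).mul_left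
          (Commute.refl P.zz)).mul_zpow, P.zz_cube, one_zpow]
    · intro h
      refine ThreeLocalEight.mem_normalizer_zpowers_of ?_
      rw [← map_inv, ← map_mul, ← map_mul]
      rcases P.NH_conj_Z h with e1 | e1
      · rw [show a * z * a⁻¹ = z from Subtype.ext e1]; exact mem_zpowers _
      · rw [show a * z * a⁻¹ = z⁻¹ from Subtype.ext e1, map_inv]; exact inv_mem (mem_zpowers _)
  let ρ : P.NH →* normalizer (zpowers (π z) : Set (P.Ht ⧸ P.Tt)) :=
    { toFun := fun x => ⟨π ⟨x, P.mem_Ht.2 (P.mem_NH.1 x.2).2⟩, (hN _).2 x.2⟩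
      map_one' := Subtype.ext (map_one π)
      map_mul' := fun a b => Subtype.ext (map_mul π ⟨a, _⟩ ⟨b, _⟩) }
  have hρ : Function.Surjective ρ := by
    rintro ⟨q, hq⟩
    obtain ⟨a, rfl⟩ := QuotientGroup.mk'_surjective _ q
    exact ⟨⟨a, (hN a).1 hq⟩, rfl⟩
  obtain ⟨Φ, hΦk, hΦz, hΦy, hΦbig, hΦc⟩ := P.exists_phi
  have hρk : ∀ x, ρ x = 1 ↔ Φ x = 1 := fun x => by
    rw [hΦk, ← hone ⟨x, P.mem_Ht.2 (P.mem_NH.1 x.2).2⟩]
    exact ⟨fun h => congrArg Subtype.val h, fun h => Subtype.ext h⟩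
  set φ := ρ.liftOfSurjective hρ ⟨Φ, fun x hx => (hρk x).1 hx⟩
  have hφ : ∀ x, φ (ρ x) = Φ x := fun x => ρ.liftOfRightInverse_comp_apply _ _ _ x
  obtain ⟨d, hd, hge⟩ := P.ge_sq
  obtain ⟨w, hw, j, hdj⟩ := P.D_gen d hd
  rw [← P.zpowers_zz] at hw
  obtain ⟨i, rfl⟩ : ∃ i : Fin 3, w = P.zz ^ (i : ℕ) := by
    rcases ThreeLocalEight.zpowers_three (by rw [pow_three']; exact P.zz_cube) hw with e1 | e1 | e1
    · exact ⟨0, by simpa using e1⟩
    · exact ⟨1, by rw [e1]; simp⟩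
    · exact ⟨2, by rw [e1]; exact inv_eq_of_mul_eq_one_right (by rw [show ((2 : Fin 3) : ℕ) = 2 from rfl,
        sq, ← mul_assoc, P.zz_cube])⟩
  have hct : ∀ a b : P.Ht, (a : G) = b ∨ (a : G) = P.t * b → π a = π b := by
    intro a b h
    rw [eq_comm, heq, P.mem_zpowers_t]
    rcases h with e1 | e1 <;> rw [e1]
    · left; group
    · right; rw [← mul_assoc, (Commute.inv_left (P.mem_Ht.1 b.2)).eq, mul_assoc, inv_mul_cancel, mul_one]
  refine ⟨{ z := π z, y := π y, g := π g, e := π e, c := π c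
            z_cube := hcube z P.zz_D, y_cube := hcube y P.y_D
            zy_comm := by
              rw [← map_mul, ← map_mul]
              exact congrArg π (Subtype.ext (P.toFrame.D_comm P.zz_D P.y_D))
            φ := φ
            φ_inj := ?_, φ_z := ?_, φ_y := ?_, φ_big := ?_
            g_sq := by rw [← map_mul]; exact (hone _).2 (P.mem_zpowers_t.2 (Or.inl P.g_sq))
            g_z := by rw [← map_inv, ← map_mul, ← map_mul]; exact congrArg π (Subtype.ext P.g_z)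
            g_y := by rw [← map_inv, ← map_mul, ← map_mul]; exact congrArg π (Subtype.ext P.g_y)
            e_sq := by rw [← map_mul]; exact (hone _).2 (P.mem_zpowers_t.2 (Or.inr P.e_sq))
            e_z := by rw [← map_inv, ← map_mul, ← map_mul]; exact congrArg π (Subtype.ext P.e_z)
            e_y := by
              rw [← map_inv, ← map_inv, ← map_mul, ← map_mul]
              exact congrArg π (Subtype.ext P.toFrame.e_y_conj)
            c_sq := by rw [← map_mul]; exact (hone _).2 (P.mem_zpowers_t.2 (Or.inr P.c_sq))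
            c_z := by rw [← map_inv, ← map_inv, ← map_mul, ← map_mul]; exact congrArg π (Subtype.ext P.c_z)
            c_y := by rw [← map_inv, ← map_inv, ← map_mul, ← map_mul]; exact congrArg π (Subtype.ext P.c_y)
            c_odd := ?_, ge_sq := ⟨i, j, ?_⟩, sylow := ?_, cent_diag := ?_, no_diag := ?_ }, rfl, rfl, rfl, rfl⟩
  · refine (injective_iff_map_eq_one φ).2 fun q hq => ?_
    obtain ⟨x, rfl⟩ := hρ q
    exact (hρk x).2 ((hφ x).symm.trans hq)
  · intro h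
    rw [show (⟨π z, h⟩ : normalizer (zpowers (π z) : Set (P.Ht ⧸ P.Tt))) = ρ ⟨P.zz, P.zz_NH⟩ from rfl, hφ]
    exact hΦz
  · intro h
    rw [show (⟨π y, h⟩ : normalizer (zpowers (π z) : Set (P.Ht ⧸ P.Tt))) = ρ ⟨P.y, P.y_NH⟩ from rfl, hφ]
    exact hΦy
  · intro p hp
    obtain ⟨x, rfl⟩ := hΦbig p hp
    exact ⟨ρ x, hφ x⟩
  · intro h
    rw [show (⟨π c, h⟩ : normalizer (zpowers (π z) : Set (P.Ht ⧸ P.Tt))) = ρ ⟨P.c, P.c_NH⟩ from rfl, hφ]
    exact hΦc
  · rw [← map_mul, ← map_mul, ← map_pow, ← map_pow, ← map_mul, ← map_mul]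
    refine hct _ _ ?_
    show P.g * P.e * (P.g * P.e) = P.c * (P.zz ^ (i : ℕ) * P.y ^ (j : ℕ)) ∨
      P.g * P.e * (P.g * P.e) = P.t * (P.c * (P.zz ^ (i : ℕ) * P.y ^ (j : ℕ)))
    rw [← hdj]; exact hge
  · intro R hR
    haveI : Fact (Nat.Prime 3) := ⟨Nat.prime_three⟩
    set R' := R.comap π
    obtain ⟨T⟩ : Nonempty (Sylow 3 R') := inferInstance
    have hdvd : Nat.card R ∣ Nat.card R' := by
      refine card_dvd_of_surjective (π.subgroupComap R) ?_
      rintro ⟨q, hq⟩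
      obtain ⟨a, rfl⟩ := QuotientGroup.mk'_surjective _ q
      exact ⟨⟨a, hq⟩, rfl⟩
    obtain ⟨n, hn⟩ := IsPGroup.iff_card.1 hR
    have h1 : 3 ^ n ∣ Nat.card T := T.pow_dvd_card_of_pow_dvd_card (hn ▸ hdvd)
    have h2 := P.sylow_Ht (T.2.map R'.subtype)
    rw [Subgroup.card_map_of_injective (subtype_injective R')] at h2
    rw [hn]
    exact h1.trans h2
  · intro q hq
    obtain ⟨a, rfl⟩ := QuotientGroup.mk'_surjective _ q
    have hc' : (a : G) * (P.zz * P.y) * (a : G)⁻¹ = P.zz * P.y := by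
      refine hexact (a * (z * y) * a⁻¹) (z * y) ?_ ?_ ?_
      · exact conj_cube _ (P.cube_of_D (mul_mem P.zz_D P.y_D))
      · exact P.cube_of_D (mul_mem P.zz_D P.y_D)
      · rw [map_mul, map_mul, map_mul, map_inv, hq, mul_inv_cancel_right]
    obtain ⟨h1, h2⟩ := hdiag a (P.mem_Ht.1 a.2) (mul_inv_eq_iff_eq_mul.1 hc')
    constructor
    · rw [← map_inv, ← map_mul, ← map_mul]; exact hinD _ h1
    · rw [← map_inv, ← map_mul, ← map_mul]; exact hinD _ h2
  · intro q hq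
    obtain ⟨a, rfl⟩ := QuotientGroup.mk'_surjective _ q
    rw [← map_inv, ← map_mul, ← map_mul] at hq ⊢
    have haD := hmemD (a * z * a⁻¹) (conj_cube _ P.zz_cube) hq
    rcases P.singular_D haD (h := (a : G)) rfl with h | h
    · left
      rw [← P.zpowers_zz] at h
      obtain ⟨k, hk⟩ := mem_zpowers_iff.1 h
      exact mem_zpowers_iff.2 ⟨k, by rw [← map_zpow]; exact congrArg π (Subtype.ext hk)⟩
    · right
      obtain ⟨k, hk⟩ := mem_zpowers_iff.1 h
      exact mem_zpowers_iff.2 ⟨k, by rw [← map_zpow]; exact congrArg π (Subtype.ext hk)⟩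

end Local

end CfsgLib.McLThree
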