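import Cfsg.Agent.McLThree.TwentySevenBound
import Cfsg.Agent.ThreeLocalNine.Fix
import Mathlib.GroupTheory.Nilpotent
import Mathlib.GroupTheory.Sylow

/-!
A group with an elementary abelian subgroup of order 27 with trivial intersections, whose automizer
is a four-group or dihedral of order eight acting monomially, has that subgroup normal.
-/

set_option autoImplicit false
set_option maxRecDepth 100000
set_option linter.style.haveILetI false

namespace CfsgLib.McLThree.TwentySeven

open Subgroup CfsgLib.Char Multiplicative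
open scoped ComplexConjugate

universe u

/-- The exponent group. -/
abbrev V := Fin 3 → ZMod 3

/-- The eight monomial maps. -/
def monomial (j : Fin 8) (v : V) : V :=
  match j with
  | 0 => ![v 0, v 1, v 2]
  | 1 => ![v 0, -v 1, -v 2]
  | 2 => ![-v 0, v 1, -v 2]
  | 3 => ![-v 0, -v 1, v 2]
  | 4 => ![v 0, -v 2, v 1]
  | 5 => ![v 0, v 2, -v 1]
  | 6 => ![-v 0, v 2, v 1]
  | 7 => ![-v 0, -v 2, -v 1]

/-- The indices used: all eight in the dihedral case, the sign changes in the four-group case. -/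
def idx (d : Bool) : Finset (Fin 8) := Finset.univ.filter fun j => d = true ∨ j.val < 4

/-- The listed maps. -/
def pat (d : Bool) (j : Fin 8) (v : V) : V :=
  if d then monomial j v else monomial ⟨j.val % 4, by omega⟩ v

/-- Two exponents are related by a listed map. -/
def rel (d : Bool) (v w : V) : Prop := ∃ j, pat d j v = w

instance (d : Bool) (v w : V) : Decidable (rel d v w) := by unfold rel; infer_instance

/-- The number of listed maps fixing an exponent. -/
def stab (d : Bool) (v : V) : ℕ := ((idx d).filter fun j => pat d j v = v).card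

theorem pat_inj : ∀ d : Bool, ∀ j ∈ idx d, ∀ j' ∈ idx d, (∀ v, pat d j v = pat d j' v) → j = j' := by
  intro d j hj j' hj' h
  have h' : pat d j ![1, 0, 0] = pat d j' ![1, 0, 0] ∧ pat d j ![0, 1, 0] = pat d j' ![0, 1, 0] ∧
      pat d j ![0, 0, 1] = pat d j' ![0, 0, 1] := ⟨h _, h _, h _⟩
  revert j' j d
  have k : ∀ d : Bool, ∀ j ∈ idx d, ∀ j' ∈ idx d, pat d j ![1, 0, 0] = pat d j' ![1, 0, 0] ∧
      pat d j ![0, 1, 0] = pat d j' ![0, 1, 0] ∧ pat d j ![0, 0, 1] = pat d j' ![0, 0, 1] → j = j' := by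
    decide +kernel
  intro d j hj j' hj' _ h'
  exact k d j hj j' hj' h'

theorem pat_idx : ∀ d : Bool, ∀ j, ∃ k ∈ idx d, ∀ v, pat d j v = pat d k v := by
  intro d j
  cases d
  · exact ⟨⟨j.val % 4, by omega⟩, Finset.mem_filter.2 ⟨Finset.mem_univ _, Or.inr (Nat.mod_lt _ (by norm_num))⟩,
      fun v => by
        simp only [pat, Bool.false_eq_true, if_false]
        congr 1
        exact Fin.ext (Nat.mod_mod _ _).symm⟩
  · exact ⟨j, Finset.mem_filter.2 ⟨Finset.mem_univ _, Or.inl rfl⟩, fun v => rfl⟩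

theorem idx_card : ∀ d : Bool, (idx d).card = if d then 8 else 4 := by decide

theorem rel_trans : ∀ d : Bool, ∀ j k : Fin 8, ∃ l : Fin 8, ∀ v, pat d k (pat d j v) = pat d l v := by
  decide +kernel

/-! The cube roots of unity. -/

/-- A primitive cube root of unity. -/
noncomputable def om : ℂ := ⟨-1 / 2, Real.sqrt 3 / 2⟩

theorem om_sq : om * om = -1 - om := by
  have h := Real.mul_self_sqrt (show (0 : ℝ) ≤ 3 by norm_num)
  apply Complex.ext <;> simp [om, Complex.mul_re, Complex.mul_im] <;> ring_nf <;> nlinarith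

theorem conj_om : conj om = -1 - om := by
  apply Complex.ext <;> simp [om]
  norm_num

/-- Rational part of a power of `om`. -/
def wA (x : ZMod 3) : ℤ := if x = 0 then 1 else if x = 1 then 0 else -1

/-- Coefficient of `om` in a power of `om`. -/
def wB (x : ZMod 3) : ℤ := if x = 0 then 0 else if x = 1 then 1 else -1

/-- A power of `om`. -/
noncomputable def wE (x : ZMod 3) : ℂ := (wA x : ℂ) + (wB x : ℂ) * om

theorem wE_add (x y : ZMod 3) : wE (x + y) = wE x * wE y := by
  have k : ∀ x y : ZMod 3, wA (x + y) = wA x * wA y - wB x * wB y ∧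
      wB (x + y) = wA x * wB y + wB x * wA y - wB x * wB y := by decide
  obtain ⟨h1, h2⟩ := k x y
  simp only [wE, h1, h2]
  push_cast
  linear_combination (-(wB x : ℂ) * (wB y : ℂ)) * om_sq

theorem wE_zero : wE 0 = 1 := by simp [wE, wA, wB]

theorem conj_wE (x : ZMod 3) : conj (wE x) = wE (-x) := by
  have k : ∀ x : ZMod 3, wA (-x) = wA x - wB x ∧ wB (-x) = -wB x := by decide
  simp only [wE, (k x).1, (k x).2, map_add, map_mul, map_intCast, conj_om]
  push_cast
  ring

/-- A functional on exponents. -/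
def dot (l v : V) : ZMod 3 := l 0 * v 0 + l 1 * v 1 + l 2 * v 2

theorem dot_add (l v w : V) : dot l (v + w) = dot l v + dot l w := by
  simp only [dot, Pi.add_apply]; ring

/-- The linear character attached to a functional. -/
noncomputable def lin (l : V) : Multiplicative V →* ℂˣ :=
  MonoidHom.toHomUnits
    { toFun := fun v => wE (-(dot l v.toAdd))
      map_one' := by simp [dot, wE_zero]
      map_mul' := fun v w => by rw [toAdd_mul, dot_add, neg_add, wE_add] }

theorem conj_lin (l : V) (v : Multiplicative V) : conj ((lin l v : ℂˣ) : ℂ) = wE (dot l v.toAdd) := by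
  show conj (wE (-(dot l v.toAdd))) = _
  rw [conj_wE, neg_neg]

/-- The coefficient data used in the argument. -/
structure Table (d : Bool) (n : ℕ) where
  rep : Fin n → V
  co : Fin n → ℤ
  l1 : V
  l2 : V
  kp : ℤ
  kq : ℤ
  q : ℕ
  u0 : V
  j0 : Fin n
  s : ℤ
  rep_dist : ∀ a b, rel d (rep a) (rep b) → a = b
  rep_ne : ∀ a, rep a ≠ 0
  cover : ∀ v, v ≠ 0 → (Finset.univ.filter fun a => rel d (rep a) v).card = 1
  sumA : ∀ a, ∑ v ∈ Finset.univ.filter (fun v => rel d (rep a) v), (wA (dot l1 v) - wA (dot l2 v)) = co a * kp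
  sumB : ∀ a, ∑ v ∈ Finset.univ.filter (fun v => rel d (rep a) v), (wB (dot l1 v) - wB (dot l2 v)) = co a * kq
  norm_k : (q : ℤ) * (kp * kp - kp * kq + kq * kq) = 729
  norm_co : ∑ a, co a ^ 2 * (27 * stab d (rep a) : ℕ) = 2 * q
  u0_ne : u0 ≠ 0
  u0_dist : ∀ a, co a ≠ 0 → ¬ rel d u0 (rep a)
  co_j0 : co j0 ≠ 0
  s_unit : s = 1 ∨ s = -1
  count : ∑ a, co a * ((Finset.univ.filter fun p : V × V =>
      rel d u0 p.1 ∧ rel d (rep j0) p.2 ∧ p.1 + p.2 = rep a).card : ℤ) = co j0 * s

/-- The table of the four-group case. -/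
def kleinTable : Table false 8 where
  rep := ![![1, 0, 0], ![0, 1, 0], ![0, 0, 1], ![1, 1, 0], ![1, 0, 1], ![0, 1, 1], ![1, 1, 1], ![-1, -1, -1]]
  co := ![0, 0, 0, 0, 0, 0, -1, 1]
  l1 := ![1, 1, 1]
  l2 := ![-1, -1, -1]
  kp := 3
  kq := 6
  q := 27
  u0 := ![1, 0, 0]
  j0 := 6
  s := -1
  rep_dist := by decide +kernel
  rep_ne := by decide +kernel
  cover := by decide +kernel
  sumA := by decide +kernel
  sumB := by decide +kernel
  norm_k := by norm_num
  norm_co := by decide +kernel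
  u0_ne := by decide +kernel
  u0_dist := by decide +kernel
  co_j0 := by decide +kernel
  s_unit := Or.inr rfl
  count := by decide +kernel

/-- The table of the dihedral case. -/
def dihedralTable : Table true 5 where
  rep := ![![1, 0, 0], ![0, 1, 0], ![1, 1, 0], ![0, 1, 1], ![1, 1, 1]]
  co := ![0, -1, 1, 1, -1]
  l1 := ![1, 1, 1]
  l2 := ![1, 1, 0]
  kp := 3
  kq := 0
  q := 81
  u0 := ![1, 0, 0]
  j0 := 1
  s := -1
  rep_dist := by decide +kernel
  rep_ne := by decide +kernel
  cover := by decide +kernel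
  sumA := by decide +kernel
  sumB := by decide +kernel
  norm_k := by norm_num
  norm_co := by decide +kernel
  u0_ne := by decide +kernel
  u0_dist := by decide +kernel
  co_j0 := by decide +kernel
  s_unit := Or.inr rfl
  count := by decide +kernel

/-- The hypotheses. -/
structure Hyp (d : Bool) (Y : Type u) [Group Y] where
  i : Multiplicative V →* Y
  inj : Function.Injective i
  cent : ∀ a, a ≠ 1 → centralizer ({i a} : Set Y) ≤ normalizer (i.range : Set Y)
  self : centralizer (i.range : Set Y) = i.range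
  norm : ∀ n ∈ normalizer (i.range : Set Y), ∃ j, ∀ v : V, n * i (ofAdd v) * n⁻¹ = i (ofAdd (pat d j v))
  surj : ∀ j, ∃ n ∈ normalizer (i.range : Set Y), ∀ v : V, n * i (ofAdd v) * n⁻¹ = i (ofAdd (pat d j v))

namespace Hyp

variable {d : Bool} {Y : Type u} [Group Y] (H : Hyp d Y)

/-- The normalizer of the subgroup. -/
abbrev N : Subgroup Y := normalizer (H.i.range : Set Y)

/-- The element with exponent `v`. -/
def el (v : V) : Y := H.i (ofAdd v)

theorem el_mem (v : V) : H.el v ∈ H.i.range := ⟨_, rfl⟩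

theorem el_inj {v w : V} (h : H.el v = H.el w) : v = w := ofAdd.injective (H.inj h)

theorem el_ne {v : V} (h : v ≠ 0) : H.el v ≠ 1 := fun e =>
  h (H.el_inj (e.trans (map_one H.i).symm : H.el v = H.el 0))

theorem el_add (v w : V) : H.el (v + w) = H.el v * H.el w := map_mul H.i _ _

theorem exists_el {a : Y} (h : a ∈ H.i.range) : ∃ v, H.el v = a := by
  obtain ⟨x, rfl⟩ := h; exact ⟨x.toAdd, rfl⟩

theorem el_cube (v : V) : H.el v ^ 3 = 1 := by
  have h : ∀ v : V, v + v + v = 0 := by decide +kernel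
  rw [pow_succ, pow_two, ← H.el_add, ← H.el_add, h]
  exact map_one H.i

theorem mem_range_of_comm {g : Y} (h : ∀ v, g * H.el v * g⁻¹ = H.el v) : g ∈ H.i.range := by
  rw [← H.self, mem_centralizer_iff]
  intro a ha
  obtain ⟨v, rfl⟩ := H.exists_el ha
  exact (mul_inv_eq_iff_eq_mul.1 (h v)).symm

theorem range_fix {a : Y} (ha : a ∈ H.i.range) (v : V) : a * H.el v * a⁻¹ = H.el v := by
  obtain ⟨w, rfl⟩ := H.exists_el ha
  rw [← H.el_add, add_comm, H.el_add, mul_inv_cancel_right]

/-- The index of an element of the normalizer. -/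
noncomputable def ind (n : H.N) : idx d :=
  ⟨(pat_idx d (H.norm n n.2).choose).choose, (pat_idx d (H.norm n n.2).choose).choose_spec.1⟩

theorem ind_spec (n : H.N) (v : V) : (n : Y) * H.el v * (n : Y)⁻¹ = H.el (pat d (H.ind n) v) := by
  rw [show pat d (H.ind n) v = pat d (H.norm n n.2).choose v from
    ((pat_idx d (H.norm n n.2).choose).choose_spec.2 v).symm]
  exact (H.norm n n.2).choose_spec v

theorem ind_eq (n : H.N) (j : idx d) (h : ∀ v, (n : Y) * H.el v * (n : Y)⁻¹ = H.el (pat d j v)) :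
    H.ind n = j :=
  Subtype.ext (pat_inj d _ (H.ind n).2 _ j.2 fun v => H.el_inj ((H.ind_spec n v).symm.trans (h v)))

theorem range_le_N : H.i.range ≤ H.N := le_normalizer

theorem card_range : Nat.card H.i.range = 27 := by
  rw [← Nat.card_congr (MonoidHom.ofInjective H.inj).toEquiv, Nat.card_congr Multiplicative.toAdd]
  simp [Nat.card_eq_fintype_card]

theorem card_fibre (P : idx d → Prop) :
    Nat.card {n : H.N // P (H.ind n)} = 27 * Nat.card {j : idx d // P j} := by
  choose m hm hm' using fun j : idx d => H.surj j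
  have hind : ∀ (a : H.i.range) (j : idx d), H.ind ⟨a * m j, mul_mem (H.range_le_N a.2) (hm j)⟩ = j :=
    fun a j => H.ind_eq _ j fun v => by
      show (a : Y) * m j * H.el v * ((a : Y) * m j)⁻¹ = _
      calc (a : Y) * m j * H.el v * ((a : Y) * m j)⁻¹ = (a : Y) * (m j * H.el v * (m j)⁻¹) * (a : Y)⁻¹ := by group
        _ = _ := by rw [show m j * H.el v * (m j)⁻¹ = H.el (pat d j v) from hm' j v, H.range_fix a.2]
  rw [← H.card_range, ← Nat.card_prod]
  refine (Nat.card_congr (Equiv.ofBijective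
    (fun p : H.i.range × {j : idx d // P j} =>
      (⟨⟨p.1 * m p.2, mul_mem (H.range_le_N p.1.2) (hm p.2)⟩, by rw [hind]; exact p.2.2⟩ :
        {n : H.N // P (H.ind n)})) ⟨?_, ?_⟩)).symm
  · intro p p' e
    have e1 := congrArg (fun z : {n : H.N // P (H.ind n)} => z.1) e
    simp only at e1
    have ej : p.2.1 = p'.2.1 := by rw [← hind p.1 p.2.1, ← hind p'.1 p'.2.1, e1]
    have ea : (p.1 : Y) * m p.2 = (p'.1 : Y) * m p'.2 := congrArg Subtype.val e1
    rw [ej] at ea
    exact Prod.ext (Subtype.ext (mul_right_cancel ea)) (Subtype.ext ej)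
  · rintro ⟨n, hn⟩
    refine ⟨(⟨(n : Y) * (m (H.ind n))⁻¹, H.mem_range_of_comm fun v => ?_⟩, ⟨H.ind n, hn⟩),
      Subtype.ext (Subtype.ext (inv_mul_cancel_right _ _))⟩
    obtain ⟨w, hw⟩ : ∃ w, pat d (H.ind n) w = v := by
      have hb : Function.Injective (pat d (H.ind n)) := fun a b e => by
        have := (H.ind_spec n a).trans ((congrArg H.el e).trans (H.ind_spec n b).symm)
        exact H.el_inj (mul_left_cancel (mul_right_cancel this))
      exact Finite.surjective_of_injective hb v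
    subst hw
    rw [show H.el (pat d (H.ind n) w) = m (H.ind n) * H.el w * (m (H.ind n))⁻¹ from (hm' (H.ind n) w).symm]
    calc (n : Y) * (m (H.ind n))⁻¹ * (m (H.ind n) * H.el w * (m (H.ind n))⁻¹) * ((n : Y) * (m (H.ind n))⁻¹)⁻¹
        = (n : Y) * H.el w * (n : Y)⁻¹ := by group
      _ = _ := by rw [H.ind_spec]; exact (hm' (H.ind n) w).symm

theorem card_N : Nat.card H.N = 27 * if d then 8 else 4 := by
  rw [← Nat.card_congr (Equiv.subtypeUnivEquiv (p := fun _ : H.N => True) fun _ => trivial),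
    H.card_fibre (fun _ => True), Nat.card_congr (Equiv.subtypeUnivEquiv fun _ => trivial),
    Nat.card_eq_fintype_card, Fintype.card_coe, idx_card]

theorem card_cent {v : V} (hv : v ≠ 0) : Nat.card (centralizer ({H.el v} : Set Y)) = 27 * stab d v := by
  have h := H.card_fibre (fun j => pat d j v = v)
  have hs : Nat.card {j : idx d // pat d j v = v} = stab d v := by
    rw [Nat.card_eq_fintype_card, stab, Fintype.card_subtype]
    refine Finset.card_bij (fun j _ => j.1) ?_ ?_ ?_
    · intro j hj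
      exact Finset.mem_filter.2 ⟨j.2, (Finset.mem_filter.1 hj).2⟩
    · exact fun a _ b _ e => Subtype.ext e
    · intro j hj
      exact ⟨⟨j, (Finset.mem_filter.1 hj).1⟩, Finset.mem_filter.2 ⟨Finset.mem_univ _, (Finset.mem_filter.1 hj).2⟩, rfl⟩
  rw [← hs, ← h]
  have hN : ∀ c : centralizer ({H.el v} : Set Y), (c : Y) ∈ H.N := fun c =>
    H.cent (ofAdd v) (fun e => hv (ofAdd.injective e)) c.2
  refine Nat.card_congr
    { toFun := fun c => ⟨⟨c, hN c⟩, H.el_inj ((H.ind_spec ⟨c, hN c⟩ v).symm.trans (by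
          rw [show ((c : Y)) * H.el v = H.el v * c from mem_centralizer_singleton_iff.1 c.2, mul_inv_cancel_right]))⟩
      invFun := fun n => ⟨n.1.1, mem_centralizer_singleton_iff.2 (mul_inv_eq_iff_eq_mul.1
        ((H.ind_spec n.1 v).trans (congrArg H.el n.2)))⟩
      left_inv := fun c => rfl
      right_inv := fun n => rfl }

variable [Finite Y]

theorem three_mem {x : Y} (hx : x ∈ H.N) {k : ℕ} (hk : x ^ 3 ^ k = 1) : x ∈ H.i.range := by
  haveI : Fact (Nat.Prime 3) := ⟨Nat.prime_three⟩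
  have hA : IsPGroup 3 H.i.range := IsPGroup.of_card (n := 3) (by rw [H.card_range]; norm_num)
  have hx' : IsPGroup 3 (zpowers x) := by
    obtain ⟨j, -, hj⟩ := (Nat.dvd_prime_pow Nat.prime_three).1 (orderOf_dvd_of_pow_eq_one hk)
    exact IsPGroup.of_card (n := j) (by rw [Nat.card_zpowers, hj])
  obtain ⟨m, hm⟩ := IsPGroup.iff_card.1 (IsPGroup.to_sup_of_normal_right' hx' hA (zpowers_le.2 hx))
  have h1 : 3 ^ m ∣ 27 * if d then 8 else 4 :=
    hm ▸ H.card_N ▸ card_dvd_of_le (sup_le (zpowers_le.2 hx) H.range_le_N)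
  have h2 : m ≤ 3 := by
    by_contra hlt
    have h81 : 3 ^ 4 ∣ 27 * if d then 8 else 4 := (pow_dvd_pow 3 (by omega)).trans h1
    cases d <;> norm_num at h81
  have he : H.i.range = zpowers x ⊔ H.i.range := eq_of_le_of_card_ge le_sup_right (by
    rw [hm, H.card_range]; exact Nat.pow_le_pow_right (by norm_num) h2)
  exact he ▸ mem_sup_left (mem_zpowers x)

theorem ti {g : Y} {v w : V} (hv : v ≠ 0) (h : g * H.el w * g⁻¹ = H.el v) : g ∈ H.N := by
  have key : ∀ a ∈ H.i.range, g * a * g⁻¹ ∈ H.i.range := by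
    intro a ha
    have hc : g * a * g⁻¹ ∈ centralizer ({H.el v} : Set Y) := by
      obtain ⟨u, rfl⟩ := H.exists_el ha
      rw [mem_centralizer_singleton_iff, ← h]
      calc g * H.el u * g⁻¹ * (g * H.el w * g⁻¹) = g * (H.el u * H.el w) * g⁻¹ := by group
        _ = g * (H.el w * H.el u) * g⁻¹ := by rw [← H.el_add, add_comm, H.el_add]
        _ = _ := by group
    refine H.three_mem (k := 1) (H.cent (ofAdd v) (fun e => hv (ofAdd.injective e)) hc) ?_
    obtain ⟨u, rfl⟩ := H.exists_el ha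
    rw [pow_one, conj_pow, H.el_cube, mul_one, mul_inv_cancel]
  have he := eq_of_le_of_card_ge (H := H.i.range.map (MulAut.conj g).toMonoidHom) (K := H.i.range)
    (by rintro _ ⟨a, ha, rfl⟩; exact key a ha) (card_map_of_injective (MulEquiv.injective _)).ge
  rw [mem_normalizer_iff]
  intro a
  refine ⟨key a, fun ha => ?_⟩
  rw [← he] at ha
  obtain ⟨b, hb, e⟩ := ha
  have e' : b = a := by simpa using e
  exact e' ▸ hb

theorem isConj_iff_rel {v w : V} (hw : w ≠ 0) : IsConj (H.el v) (H.el w) ↔ rel d v w := by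
  rw [isConj_iff]
  constructor
  · rintro ⟨g, hg⟩
    exact ⟨H.ind ⟨g, H.ti hw hg⟩, H.el_inj ((H.ind_spec ⟨g, H.ti hw hg⟩ v).symm.trans hg)⟩
  · rintro ⟨j, rfl⟩
    obtain ⟨n, -, hn'⟩ := H.surj j
    exact ⟨n, hn' v⟩

omit [Finite Y] in
theorem rel_ne {v w : V} (hv : v ≠ 0) (h : rel d v w) : w ≠ 0 := by
  obtain ⟨j, rfl⟩ := h
  have k : ∀ d : Bool, ∀ j, ∀ v : V, v ≠ 0 → pat d j v ≠ 0 := by decide +kernel
  exact k d j v hv

theorem sylow_eq : ∃ P : Sylow 3 Y, (P : Subgroup Y) = H.i.range := by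
  haveI : Fact (Nat.Prime 3) := ⟨Nat.prime_three⟩
  obtain ⟨P, hP⟩ := (IsPGroup.of_card (p := 3) (n := 3) (show Nat.card H.i.range = 3 ^ 3 by
    rw [H.card_range]; norm_num)).exists_le_sylow
  refine ⟨P, le_antisymm ?_ hP⟩
  by_contra hne
  haveI := P.2.isNilpotent
  have hlt : H.i.range.subgroupOf P < ⊤ := by
    rw [lt_top_iff_ne_top]
    intro h
    apply hne
    intro x hx
    exact mem_subgroupOf.1 (h ▸ mem_top (⟨x, hx⟩ : (P : Subgroup Y)))
  obtain ⟨w, hw, hwA⟩ := SetLike.exists_of_lt (Group.normalizerCondition_of_isNilpotent _ hlt)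
  have hwN : (w : Y) ∈ H.N := by
    rw [mem_normalizer_iff]
    intro a
    constructor
    · intro ha
      exact mem_subgroupOf.1 ((mem_normalizer_iff.1 hw ⟨a, hP ha⟩).1 (mem_subgroupOf.2 ha))
    · intro ha
      have haP : a ∈ (P : Subgroup Y) := by
        have := mul_mem (mul_mem (inv_mem w.2) (hP ha)) w.2
        simpa [mul_assoc] using this
      exact mem_subgroupOf.1 ((mem_normalizer_iff.1 hw ⟨a, haP⟩).2 (mem_subgroupOf.2 ha))
  obtain ⟨k, hk⟩ := P.2 w
  exact hwA (mem_subgroupOf.2 (H.three_mem hwN (congrArg Subtype.val hk)))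

/-- The pairs of conjugates with product `el w` lie in the subgroup. -/
theorem pairs_card {u0 v0 w : V} (hu : u0 ≠ 0) (hv : v0 ≠ 0) (hw : w ≠ 0) (hne : ¬ rel d u0 v0) :
    Nat.card {p : Y × Y // IsConj (H.el u0) p.1 ∧ IsConj (H.el v0) p.2 ∧ p.1 * p.2 = H.el w} =
      (Finset.univ.filter fun p : V × V => rel d u0 p.1 ∧ rel d v0 p.2 ∧ p.1 + p.2 = w).card := by
  classical
  haveI : Fact (Nat.Prime 3) := ⟨Nat.prime_three⟩
  rw [← Fintype.card_subtype, ← Nat.card_eq_fintype_card]
  refine (Nat.card_congr (Equiv.ofBijective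
    (fun p : {p : V × V // rel d u0 p.1 ∧ rel d v0 p.2 ∧ p.1 + p.2 = w} =>
      (⟨(H.el p.1.1, H.el p.1.2), (H.isConj_iff_rel (rel_ne hu p.2.1)).2 p.2.1,
        (H.isConj_iff_rel (rel_ne hv p.2.2.1)).2 p.2.2.1,
        (H.el_add _ _).symm.trans (congrArg H.el p.2.2.2)⟩ :
        {p : Y × Y // IsConj (H.el u0) p.1 ∧ IsConj (H.el v0) p.2 ∧ p.1 * p.2 = H.el w})) ⟨?_, ?_⟩)).symm
  · intro p p' e
    have e' := congrArg Subtype.val e
    exact Subtype.ext (Prod.ext (H.el_inj (congrArg Prod.fst e')) (H.el_inj (congrArg Prod.snd e')))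
  rintro ⟨⟨x, y⟩, hx, hy, hxy⟩
  have cube : ∀ {v : V} {z : Y}, IsConj (H.el v) z → z ^ 3 = 1 := by
    intro v z h
    obtain ⟨g, rfl⟩ := isConj_iff.1 h
    rw [conj_pow, H.el_cube, mul_one, mul_inv_cancel]
  obtain ⟨f, hf1, hf3, hfx, hfy⟩ := ThreeLocalNine.triple_fix (cube hx) (cube hy)
    (by rw [show x * y = H.el w from hxy, H.el_cube]) (fun h =>
      hne ((H.isConj_iff_rel hv).1 ((hx.trans h).trans hy.symm)))
  have hfp : IsPGroup 3 (zpowers f) := by
    refine IsPGroup.of_card (n := 1) ?_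
    rw [Nat.card_zpowers, pow_one, orderOf_eq_prime hf3 hf1]
  obtain ⟨P, hP⟩ := H.sylow_eq
  obtain ⟨R, hR⟩ := hfp.exists_le_sylow
  obtain ⟨h, hh⟩ := MulAction.exists_smul_eq Y R P
  have hfA : h * f * h⁻¹ ∈ H.i.range := by
    rw [← hP, ← hh, Sylow.coe_subgroup_smul]
    exact ⟨f, hR (mem_zpowers f), rfl⟩
  obtain ⟨φ, hφ⟩ := H.exists_el hfA
  have hφ0 : φ ≠ 0 := by
    rintro rfl
    have : h * f * h⁻¹ = 1 := hφ.symm.trans (map_one H.i)
    exact hf1 (conj_eq_one_iff.1 this)
  have move : ∀ z : Y, z ^ 3 = 1 → f * z = z * f → h * z * h⁻¹ ∈ H.i.range := by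
    intro z hz hc
    refine H.three_mem (k := 1) (H.cent (ofAdd φ) (fun e => hφ0 (ofAdd.injective e)) ?_) ?_
    · rw [mem_centralizer_singleton_iff]
      show h * z * h⁻¹ * H.el φ = H.el φ * (h * z * h⁻¹)
      rw [hφ]
      calc h * z * h⁻¹ * (h * f * h⁻¹) = h * (z * f) * h⁻¹ := by group
        _ = h * (f * z) * h⁻¹ := by rw [hc]
        _ = _ := by group
    · rw [pow_one, conj_pow, hz, mul_one, mul_inv_cancel]
  have hX := move x (cube hx) hfx
  have hW : h * H.el w * h⁻¹ ∈ H.i.range := by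
    rw [← hxy, show h * (x * y) * h⁻¹ = h * x * h⁻¹ * (h * y * h⁻¹) by group]
    exact mul_mem hX (move y (cube hy) hfy)
  obtain ⟨w', hw'⟩ := H.exists_el hW
  have hhN : h ∈ H.N := by
    refine H.ti (v := w') (w := w) ?_ hw'.symm
    rintro rfl
    have : h * H.el w * h⁻¹ = 1 := hw'.symm.trans (map_one H.i)
    exact H.el_ne hw (conj_eq_one_iff.1 this)
  have back : ∀ z : Y, h * z * h⁻¹ ∈ H.i.range → z ∈ H.i.range := fun z hz => (mem_normalizer_iff.1 hhN z).2 hz
  obtain ⟨p, rfl⟩ := H.exists_el (back x hX)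
  obtain ⟨q, rfl⟩ := H.exists_el (back y (move y (cube hy) hfy))
  have hp0 : p ≠ 0 := by
    rintro rfl
    exact H.el_ne hu (isConj_one_left.1 (show IsConj (H.el u0) 1 from (map_one H.i) ▸ hx))
  have hq0 : q ≠ 0 := by
    rintro rfl
    exact H.el_ne hv (isConj_one_left.1 (show IsConj (H.el v0) 1 from (map_one H.i) ▸ hy))
  exact ⟨⟨(p, q), (H.isConj_iff_rel hp0).1 hx, (H.isConj_iff_rel hq0).1 hy,
    H.el_inj ((H.el_add p q).trans hxy)⟩, rfl⟩

theorem index_mod : 27 ∣ H.N.index - 1 := by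
  classical
  haveI : Fintype (Y ⧸ H.N) := Fintype.ofFinite _
  set b : Y ⧸ H.N := QuotientGroup.mk 1 with hb
  let X := {x : Y ⧸ H.N // x ≠ b}
  have hfix : ∀ a : H.i.range, ∀ g : Y, (a : Y) • (QuotientGroup.mk g : Y ⧸ H.N) = QuotientGroup.mk g →
      g⁻¹ * a * g ∈ H.N := by
    intro a g h
    rw [MulAction.Quotient.smul_mk, QuotientGroup.eq, smul_eq_mul] at h
    have := inv_mem h
    rw [show ((a : Y) * g)⁻¹ * g = (g⁻¹ * a * g)⁻¹ by group] at h
    simpa using inv_mem h
  have hbfix : ∀ a : H.i.range, (a : Y) • b = b := fun a => by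
    rw [hb, MulAction.Quotient.smul_mk, QuotientGroup.eq, smul_eq_mul, mul_one]
    simpa using inv_mem (H.range_le_N a.2)
  letI : MulAction H.i.range X :=
    { smul := fun a x => ⟨(a : Y) • x.1, fun e => x.2 (by
        have := congrArg (fun z => ((a⁻¹ : H.i.range) : Y) • z) e
        rw [hbfix a⁻¹, coe_inv, inv_smul_smul] at this
        exact this)⟩
      one_smul := fun x => Subtype.ext (one_smul Y x.1)
      mul_smul := fun a a' x => Subtype.ext (mul_smul (a : Y) a' x.1) }
  have hfree : ∀ x : X, MulAction.stabilizer H.i.range x = ⊥ := by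
    rintro ⟨x, hx⟩
    rw [eq_bot_iff]
    intro a ha
    obtain ⟨g, rfl⟩ := QuotientGroup.mk_surjective x
    have hN := hfix a g (congrArg Subtype.val (MulAction.mem_stabilizer_iff.1 ha))
    obtain ⟨v, hv⟩ := H.exists_el a.2
    have hc : (g⁻¹ * (a : Y) * g) ^ 3 = 1 := by
      rw [← hv]
      have := conj_pow (a := g⁻¹) (b := H.el v) (i := 3)
      rw [inv_inv] at this
      rw [this, H.el_cube, mul_one, inv_mul_cancel]
    obtain ⟨w, hw⟩ := H.exists_el (H.three_mem hN (k := 1) (by rw [pow_one]; exact hc))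
    rw [Subgroup.mem_bot]
    by_contra hne
    refine hx ?_
    have hgN : g⁻¹ ∈ H.N := H.ti (v := w) (w := v) (by
      rintro rfl
      have h1 : g⁻¹ * (a : Y) * g = 1 := hw.symm.trans (map_one H.i)
      refine hne (Subtype.ext ?_)
      calc (a : Y) = g * (g⁻¹ * a * g) * g⁻¹ := by group
        _ = 1 := by rw [h1]; group) (by rw [inv_inv, hv, hw])
    rw [hb, QuotientGroup.eq, mul_one]
    exact hgN
  have h := Nat.card_congr (MulAction.selfEquivOrbitsQuotientProd hfree)
  rw [Nat.card_prod, H.card_range] at h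
  have hX : Nat.card X = H.N.index - 1 := by
    rw [index_eq_card, Nat.card_eq_fintype_card, Nat.card_eq_fintype_card, Fintype.card_subtype_compl,
      Fintype.card_subtype_eq]
  exact ⟨_, (hX.symm.trans h).trans (mul_comm _ _)⟩

include H in
theorem order_le {n : ℕ} (T : Table d n) : 2 * Nat.card Y ≤ (27 * stab d T.u0) ^ 2 := by
  classical
  haveI : Fintype Y := Fintype.ofFinite Y
  set k0 : ℂ := (T.kp : ℂ) + (T.kq : ℂ) * om with hk0
  have hk0c : k0 * conj k0 = ((T.kp * T.kp - T.kp * T.kq + T.kq * T.kq : ℤ) : ℂ) := by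
    simp only [hk0, map_add, map_mul, map_intCast, conj_om]
    push_cast
    linear_combination (-(T.kq : ℂ) * T.kq) * om_sq
  have hnk : (T.q : ℂ) * ((T.kp * T.kp - T.kp * T.kq + T.kq * T.kq : ℤ) : ℂ) = 729 := by
    exact_mod_cast T.norm_k
  have hk0ne : k0 ≠ 0 := by
    intro h
    rw [← hk0c, h, zero_mul, mul_zero] at hnk
    norm_num at hnk
  have hq0 : T.q ≠ 0 := by
    intro h
    have := T.norm_k
    rw [h] at this
    norm_num at this
  have hmult : ∀ χ, Cfsg.IsIrrCharacter Y χ →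
      ∃ m : ℤ, ∑ a, (T.co a : ℂ) * conj (χ (H.el (T.rep a))) = 27 / k0 * m := by
    intro χ hχ
    have hc : Cfsg.IsCharacter (Multiplicative V) (fun x => conj (χ (H.i x))) :=
      IsCharacter.comp (IsCharacter.conj (IsIrrCharacter.isCharacter hχ)) H.i
    obtain ⟨n1, h1⟩ := IsCharacter.exists_classInner_eq_natCast' hc (isCharacter_ofHom (lin T.l1))
    obtain ⟨n2, h2⟩ := IsCharacter.exists_classInner_eq_natCast' hc (isCharacter_ofHom (lin T.l2))
    refine ⟨(n1 : ℤ) - n2, ?_⟩
    rw [classInner_def] at h1 h2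
    have h27 : (Nat.card (Multiplicative V) : ℂ) = 27 := by
      rw [Nat.card_congr Multiplicative.toAdd, Nat.card_eq_fintype_card]; simp
    rw [h27] at h1 h2
    have e1 := congrArg (fun z : ℂ => 27 * z) h1
    have e2 := congrArg (fun z : ℂ => 27 * z) h2
    simp only [← mul_assoc, mul_inv_cancel₀ (show (27 : ℂ) ≠ 0 by norm_num), one_mul, conj_lin] at e1 e2
    set f : V → ℂ := fun v => conj (χ (H.el v)) with hf
    set S : V → ℂ := fun v => wE (dot T.l1 v) - wE (dot T.l2 v) with hS
    have hm : ∑ v : V, f v * S v = 27 * ((n1 : ℂ) - n2) := by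
      rw [mul_sub, ← e1, ← e2, ← Finset.sum_sub_distrib]
      refine Fintype.sum_equiv Multiplicative.ofAdd _ _ fun v => ?_
      simp only [hf, hS, el, toAdd_ofAdd]; ring
    have hgroup : ∑ v : V, f v * S v =
        ∑ a, f (T.rep a) * ∑ v ∈ Finset.univ.filter (fun v => rel d (T.rep a) v), S v := by
      have step : ∀ a, f (T.rep a) * ∑ v ∈ Finset.univ.filter (fun v => rel d (T.rep a) v), S v =
          ∑ v : V, if rel d (T.rep a) v then f v * S v else 0 := by
        intro a
        rw [Finset.mul_sum, Finset.sum_filter]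
        refine Finset.sum_congr rfl fun v _ => ?_
        split_ifs with h
        · have hf' : f (T.rep a) = f v := congrArg conj (IsClassFunction.apply_eq_of_isConj
            (IsIrrCharacter.isClassFunction hχ) ((H.isConj_iff_rel (rel_ne (T.rep_ne a) h)).2 h))
          rw [hf']
        · rfl
      rw [Finset.sum_congr rfl fun a _ => step a, Finset.sum_comm]
      refine Finset.sum_congr rfl fun v _ => ?_
      by_cases hv : v = 0
      · subst hv
        simp [hS, dot]
      · rw [← Finset.sum_filter]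
        obtain ⟨a, ha⟩ := Finset.card_eq_one.1 (T.cover v hv)
        rw [ha, Finset.sum_singleton]
    have hSa : ∀ a, ∑ v ∈ Finset.univ.filter (fun v => rel d (T.rep a) v), S v = (T.co a : ℂ) * k0 := by
      intro a
      have hA := congrArg (Int.cast : ℤ → ℂ) (T.sumA a)
      have hB := congrArg (Int.cast : ℤ → ℂ) (T.sumB a)
      push_cast at hA hB
      rw [hk0, mul_add, ← hA, ← mul_assoc, ← hB, Finset.sum_mul, ← Finset.sum_add_distrib]
      exact Finset.sum_congr rfl fun v _ => by simp only [hS, wE]; ring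
    rw [hgroup, Finset.sum_congr rfl fun a _ => by rw [hSa a]] at hm
    push_cast
    rw [div_mul_eq_mul_div, eq_div_iff hk0ne, Finset.sum_mul, ← hm]
    exact Finset.sum_congr rfl fun a _ => by simp only [hf]; ring
  have hk : (27 / k0) * conj (27 / k0) = (T.q : ℂ) := by
    rw [map_div₀, div_mul_div_comm, hk0c, map_ofNat]
    have hne : ((T.kp * T.kp - T.kp * T.kq + T.kq * T.kq : ℤ) : ℂ) ≠ 0 := fun h => by
      rw [h, mul_zero] at hnk; norm_num at hnk
    rw [div_eq_iff hne, hnk]; norm_num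
  have h := order_bound (fun a => H.el (T.rep a)) T.co
    (fun a b e => T.rep_dist a b ((H.isConj_iff_rel (T.rep_ne b)).1 e))
    (fun a => H.el_ne (T.rep_ne a)) (27 / k0) T.q hk hq0 hmult
    (by
      rw [← T.norm_co]
      exact Finset.sum_congr rfl fun a _ => by rw [H.card_cent (T.rep_ne a)])
    (H.el T.u0) (fun a ha e => T.u0_dist a ha ((H.isConj_iff_rel (T.rep_ne a)).1 e))
    T.j0 T.co_j0 T.s T.s_unit
    (by
      rw [← T.count]
      exact Finset.sum_congr rfl fun a _ => by
        rw [H.pairs_card T.u0_ne (T.rep_ne T.j0) (T.rep_ne a) (T.u0_dist _ T.co_j0)])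
  rwa [H.card_cent T.u0_ne] at h

theorem normal_of_small (h : Nat.card Y < 28 * Nat.card H.N) : H.i.range.Normal := by
  have hg := card_mul_index H.N
  obtain ⟨k, hk⟩ := H.index_mod
  have hi : H.N.index < 28 := by
    by_contra h'
    have := Nat.mul_le_mul_left (Nat.card H.N) (Nat.not_lt.1 h')
    omega
  have h1 : 1 ≤ H.N.index := Nat.one_le_iff_ne_zero.2 index_ne_zero_of_finite
  exact normalizer_eq_top_iff.1 (index_eq_one.1 (show H.N.index = 1 by omega))

end Hyp

/-- The four-group case. -/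
theorem normal_klein {Y : Type u} [Group Y] [Finite Y] (H : Hyp false Y) : H.i.range.Normal := by
  refine H.normal_of_small ?_
  have h := H.order_le kleinTable
  rw [H.card_N, if_neg (by simp)]
  rw [show stab false kleinTable.u0 = 2 by decide +kernel] at h
  omega

/-- The dihedral case. -/
theorem normal_dihedral {Y : Type u} [Group Y] [Finite Y] (H : Hyp true Y) : H.i.range.Normal := by
  refine H.normal_of_small ?_
  have h := H.order_le dihedralTable
  rw [H.card_N, if_pos rfl]
  rw [show stab true dihedralTable.u0 = 4 by decide +kernel] at h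
  omega

end CfsgLib.McLThree.TwentySeven
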