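import Cfsg.Agent.Char.ClassProducts
import Cfsg.Agent.Char.AlgInt

/-!
A bound on the group order from a virtual column of norm two.
-/

set_option autoImplicit false
set_option linter.style.haveILetI false

namespace CfsgLib.McLThree.TwentySeven

open Subgroup CfsgLib.Char
open scoped ComplexConjugate

universe u

/-- An integral combination of columns supported by two irreducible characters bounds the order by
the square of a centralizer order. -/
theorem order_bound {Y : Type u} [Group Y] [Finite Y] {ι : Type} [Fintype ι] (r : ι → Y) (c : ι → ℤ)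
    (hdist : ∀ a b, IsConj (r a) (r b) → a = b) (h1 : ∀ a, r a ≠ 1)
    (k : ℂ) (q : ℕ) (hq : k * conj k = (q : ℂ)) (hq0 : q ≠ 0)
    (hm : ∀ χ, Cfsg.IsIrrCharacter Y χ → ∃ m : ℤ, ∑ a, (c a : ℂ) * conj (χ (r a)) = k * m)
    (hnorm : ∑ a, c a ^ 2 * (Nat.card (centralizer ({r a} : Set Y)) : ℤ) = 2 * q)
    (u : Y) (hu : ∀ a, c a ≠ 0 → ¬ IsConj u (r a))
    (j : ι) (hcj : c j ≠ 0) (s : ℤ) (hs : s = 1 ∨ s = -1)
    (hcnt : ∑ a, c a * (Nat.card {p : Y × Y // IsConj u p.1 ∧ IsConj (r j) p.2 ∧ p.1 * p.2 = r a} : ℤ)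
      = c j * s) :
    2 * Nat.card Y ≤ Nat.card (centralizer ({u} : Set Y)) ^ 2 := by
  classical
  haveI := Fintype.ofFinite Y
  set D : (Y → ℂ) → ℂ := fun χ => ∑ a, (c a : ℂ) * conj (χ (r a)) with hD
  -- orthogonality against the combination
  have horth : ∀ y, ∑ χ ∈ irrFinset Y, χ y * D χ =
      ∑ a, (c a : ℂ) * if IsConj y (r a) then (Nat.card (centralizer ({y} : Set Y)) : ℂ) else 0 := by
    intro y
    simp only [hD, Finset.mul_sum]
    rw [Finset.sum_comm]
    refine Finset.sum_congr rfl fun a _ => ?_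
    rw [← sum_irr_mul_conj y (r a), Finset.mul_sum]
    exact Finset.sum_congr rfl fun χ _ => by ring
  have hj : ∑ χ ∈ irrFinset Y, χ (r j) * D χ = (c j : ℂ) * Nat.card (centralizer ({r j} : Set Y)) := by
    rw [horth, Finset.sum_eq_single j]
    · rw [if_pos (IsConj.refl _)]
    · intro b _ hb
      rw [if_neg (fun h => hb (hdist _ _ h).symm), mul_zero]
    · intro h; exact absurd (Finset.mem_univ j) h
  choose! m hm using hm
  -- the norm
  have hsum : ∑ χ ∈ irrFinset Y, m χ ^ 2 = 2 := by
    have h1 : ∑ χ ∈ irrFinset Y, D χ * conj (D χ) = (2 * q : ℕ) := by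
      have e : ∀ χ : Y → ℂ, D χ * conj (D χ) = ∑ b, (c b : ℂ) * (χ (r b) * D χ) := fun χ => by
        conv_lhs => rw [mul_comm]
        rw [show conj (D χ) = ∑ b, (c b : ℂ) * χ (r b) by simp [hD, map_sum], Finset.sum_mul]
        exact Finset.sum_congr rfl fun b _ => by ring
      rw [Finset.sum_congr rfl fun χ _ => e χ, Finset.sum_comm]
      simp only [← Finset.mul_sum]
      have e2 : ∀ b, ∑ χ ∈ irrFinset Y, χ (r b) * D χ = (c b : ℂ) * Nat.card (centralizer ({r b} : Set Y)) := by
        intro b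
        rw [horth, Finset.sum_eq_single b]
        · rw [if_pos (IsConj.refl _)]
        · intro a _ ha
          rw [if_neg (fun h => ha (hdist _ _ h).symm), mul_zero]
        · intro h; exact absurd (Finset.mem_univ b) h
      simp only [e2]
      have := congrArg (Int.cast : ℤ → ℂ) hnorm
      push_cast at this ⊢
      rw [← this]
      exact Finset.sum_congr rfl fun b _ => by ring
    have h2 : ∑ χ ∈ irrFinset Y, D χ * conj (D χ) = (q : ℂ) * ((∑ χ ∈ irrFinset Y, m χ ^ 2 : ℤ) : ℂ) := by
      push_cast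
      rw [Finset.mul_sum]
      refine Finset.sum_congr rfl fun χ hχ => ?_
      rw [show D χ = k * m χ from hm χ (mem_irrFinset.1 hχ), map_mul, ← hq]
      simp only [map_intCast]
      ring
    have h3 : (q : ℂ) * ((∑ χ ∈ irrFinset Y, m χ ^ 2 : ℤ) : ℂ) = (q : ℂ) * 2 := by
      rw [← h2, h1]; push_cast; ring
    have h4 := mul_left_cancel₀ (show (q : ℂ) ≠ 0 by exact_mod_cast hq0) h3
    exact_mod_cast h4
  set T := (irrFinset Y).filter fun χ => m χ ≠ 0 with hT
  have hone : ∀ χ ∈ T, m χ ^ 2 = 1 := by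
    intro χ hχ
    rw [hT, Finset.mem_filter] at hχ
    have h := Finset.single_le_sum (f := fun χ => m χ ^ 2) (fun χ _ => sq_nonneg _) hχ.1
    rw [hsum] at h
    have hb : -1 ≤ m χ ∧ m χ ≤ 1 := by constructor <;> nlinarith
    rcases (show m χ = -1 ∨ m χ = 1 by omega) with e | e <;> rw [e] <;> norm_num
  have hTc : T.card = 2 := by
    have h : ∑ χ ∈ T, m χ ^ 2 = 2 := by
      rw [← hsum]
      refine Finset.sum_subset (Finset.filter_subset _ _) fun χ hχ hn => ?_
      have : m χ = 0 := by
        by_contra h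
        exact hn (Finset.mem_filter.2 ⟨hχ, h⟩)
      simp [this]
    rw [Finset.sum_congr rfl hone, Finset.sum_const, nsmul_eq_mul, mul_one] at h
    exact_mod_cast h
  obtain ⟨A, B, hAB, hTAB⟩ := Finset.card_eq_two.1 hTc
  have hAT : A ∈ irrFinset Y := (Finset.mem_filter.1 (by rw [hTAB]; simp : A ∈ T)).1
  have hBT : B ∈ irrFinset Y := (Finset.mem_filter.1 (by rw [hTAB]; simp : B ∈ T)).1
  have hpair : ∀ F : (Y → ℂ) → ℂ, ∑ χ ∈ irrFinset Y, F χ * D χ = k * (F A * m A + F B * m B) := by
    intro F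
    have e : ∀ χ ∈ irrFinset Y, F χ * D χ = k * (F χ * m χ) := fun χ hχ => by
      rw [show D χ = k * m χ from hm χ (mem_irrFinset.1 hχ)]; ring
    rw [Finset.sum_congr rfl e, ← Finset.mul_sum, ← Finset.sum_pair (f := fun χ => F χ * m χ) hAB, ← hTAB]
    congr 1
    refine (Finset.sum_subset (Finset.filter_subset _ _) fun χ hχ hn => ?_).symm
    have : m χ = 0 := by
      by_contra h
      exact hn (Finset.mem_filter.2 ⟨hχ, h⟩)
    simp [this]
  have hk0 : k ≠ 0 := by
    intro h; rw [h, zero_mul] at hq; exact hq0 (by exact_mod_cast hq.symm)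
  obtain ⟨R, hR0, hR⟩ := IsIrrCharacter.exists_degree (mem_irrFinset.1 hAT)
  obtain ⟨R', hR0', hR'⟩ := IsIrrCharacter.exists_degree (mem_irrFinset.1 hBT)
  have hAm := hone A (by rw [hTAB]; simp)
  have hBm := hone B (by rw [hTAB]; simp)
  -- the degrees
  have hdeg : (R : ℤ) * m A + R' * m B = 0 := by
    have h := hpair (fun χ => χ 1)
    rw [horth 1, Finset.sum_eq_zero] at h
    · have h' := (mul_eq_zero.1 h.symm).resolve_left hk0
      simp only [hR, hR'] at h'
      exact_mod_cast h'
    · intro a _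
      rw [if_neg (fun hc => h1 a (isConj_one_right.1 hc)), mul_zero]
  have hmB : m B = - m A ∧ R' = R := by
    have p1 : (0 : ℤ) < R := by exact_mod_cast Nat.pos_of_ne_zero (by omega)
    have p2 : (0 : ℤ) < R' := by exact_mod_cast Nat.pos_of_ne_zero (by omega)
    rcases sq_eq_one_iff.1 hAm with a | a <;> rcases sq_eq_one_iff.1 hBm with b | b <;>
      rw [a, b] at hdeg ⊢ <;> constructor <;> omega
  obtain ⟨hmB, rfl⟩ := hmB
  have hmA : (m A : ℂ) ≠ 0 := by
    intro h
    have : m A = 0 := by exact_mod_cast h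
    rw [this] at hAm; norm_num at hAm
  have hAu : A u = B u := by
    have h := hpair (fun χ => χ u)
    rw [horth u, Finset.sum_eq_zero] at h
    · have h' := (mul_eq_zero.1 h.symm).resolve_left hk0
      rw [hmB] at h'
      push_cast at h'
      have : (A u - B u) * (m A : ℂ) = 0 := by rw [← h']; ring
      exact sub_eq_zero.1 ((mul_eq_zero.1 this).resolve_right hmA)
    · intro a _
      by_cases hc : c a = 0
      · simp [hc]
      · rw [if_neg (hu a hc), mul_zero]
  -- the class algebra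
  have hK : ∀ y : Y, (Nat.card {x : Y // IsConj y x} : ℂ) * Nat.card (centralizer ({y} : Set Y)) =
      (Nat.card Y : ℂ) := fun y => by exact_mod_cast card_conj_class_mul_card_centralizer y
  have hg0 : (Nat.card Y : ℂ) ≠ 0 := by exact_mod_cast Nat.card_pos.ne'
  have hR0c : (R' : ℂ) ≠ 0 := by exact_mod_cast (show R' ≠ 0 by omega)
  have hfin : (Nat.card Y : ℂ) * A u = (s : ℂ) * R' * Nat.card (centralizer ({u} : Set Y)) := by
    have h := congrArg (Int.cast : ℤ → ℂ) hcnt
    push_cast at h
    simp only [card_class_products] at h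
    have e : ∀ a, (c a : ℂ) * ((Nat.card {x : Y // IsConj u x} : ℂ) * (Nat.card {x : Y // IsConj (r j) x} : ℂ) /
        (Nat.card Y : ℂ) * ∑ χ ∈ irrFinset Y, χ u * χ (r j) * conj (χ (r a)) / χ 1) =
        (Nat.card {x : Y // IsConj u x} : ℂ) * (Nat.card {x : Y // IsConj (r j) x} : ℂ) / (Nat.card Y : ℂ) *
          ∑ χ ∈ irrFinset Y, χ u * χ (r j) / χ 1 * ((c a : ℂ) * conj (χ (r a))) := fun a => by
      rw [Finset.mul_sum, Finset.mul_sum, Finset.mul_sum]
      exact Finset.sum_congr rfl fun χ _ => by ring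
    simp only [e] at h
    rw [← Finset.mul_sum, Finset.sum_comm] at h
    simp only [← Finset.mul_sum] at h
    change _ * ∑ χ ∈ irrFinset Y, χ u * χ (r j) / χ 1 * D χ = _ at h
    rw [hpair (fun χ => χ u * χ (r j) / χ 1), hR, hR', ← hAu] at h
    have hv := hpair (fun χ => χ (r j))
    rw [hj] at hv
    have h' : (Nat.card {x : Y // IsConj u x} : ℂ) * (Nat.card {x : Y // IsConj (r j) x} : ℂ) / (Nat.card Y : ℂ) *
        (A u / R' * ((c j : ℂ) * Nat.card (centralizer ({r j} : Set Y)))) = (c j : ℂ) * s := by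
      rw [hv, ← h]; ring
    have h'' : (Nat.card {x : Y // IsConj u x} : ℂ) * A u * (c j : ℂ) = (c j : ℂ) * s * R' := by
      have hKj := hK (r j)
      field_simp at h'
      have : (Nat.card {x : Y // IsConj u x} : ℂ) * A u * (c j : ℂ) * (Nat.card Y : ℂ) =
          (c j : ℂ) * s * R' * (Nat.card Y : ℂ) := by
        rw [← hKj] at h' ⊢
        linear_combination (c j : ℂ) * h'
      exact mul_right_cancel₀ hg0 this
    have hc0 : (c j : ℂ) ≠ 0 := by exact_mod_cast hcj
    have h3 : (Nat.card {x : Y // IsConj u x} : ℂ) * A u = (s : ℂ) * R' :=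
      mul_right_cancel₀ hc0 (h''.trans (by ring))
    rw [← hK u]
    calc _ = (Nat.card {x : Y // IsConj u x} : ℂ) * A u * Nat.card (centralizer ({u} : Set Y)) := by ring
      _ = _ := by rw [h3]
  have hint : ∃ z : ℤ, A u = z := by
    refine (fun h => h.imp fun _ h => h.1) (exists_int_of_isIntegral_rat ((s * R' * Nat.card (centralizer ({u} : Set Y)) : ℚ) / Nat.card Y)
      (IsCharacter.isIntegral (IsIrrCharacter.isCharacter (mem_irrFinset.1 hAT)) u) ?_)
    push_cast
    rw [eq_div_iff hg0, mul_comm]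
    exact hfin
  obtain ⟨z, hz⟩ := hint
  have hzi : (Nat.card Y : ℤ) * z = s * R' * Nat.card (centralizer ({u} : Set Y)) := by
    rw [hz] at hfin; exact_mod_cast hfin
  have hle : Nat.card Y ≤ R' * Nat.card (centralizer ({u} : Set Y)) := by
    have h := congrArg Int.natAbs hzi
    simp only [Int.natAbs_mul, Int.natAbs_natCast] at h
    rw [show s.natAbs = 1 by rcases hs with e | e <;> simp [e], one_mul] at h
    refine le_trans (Nat.le_mul_of_pos_right _ (Nat.pos_of_ne_zero ?_)) h.le
    intro h0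
    rw [h0, mul_zero] at h
    exact Nat.mul_ne_zero (by omega) Nat.card_pos.ne' h.symm
  have hsq : 2 * R' ^ 2 ≤ Nat.card Y := by
    have hd : ∀ χ ∈ irrFinset Y, ∃ n : ℕ, χ 1 = n := fun χ hχ => by
      obtain ⟨n, -, hn⟩ := IsIrrCharacter.exists_degree (mem_irrFinset.1 hχ)
      exact ⟨n, hn⟩
    choose! n hn using hd
    have h := sum_degree_sq (G := Y)
    rw [Finset.sum_congr rfl fun χ hχ => by rw [hn χ hχ]] at h
    have h' : ∑ χ ∈ irrFinset Y, n χ ^ 2 = Nat.card Y := by exact_mod_cast h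
    have hsub : ({A, B} : Finset (Y → ℂ)) ⊆ irrFinset Y := by
      intro χ hχ
      rcases Finset.mem_insert.1 hχ with rfl | h
      · exact hAT
      · rw [Finset.mem_singleton.1 h]; exact hBT
    have := Finset.sum_le_sum_of_subset (f := fun χ => n χ ^ 2) hsub
    rw [Finset.sum_pair hAB, h'] at this
    have eA : n A = R' := by
      have := (hn A hAT).symm.trans hR; exact_mod_cast this
    have eB : n B = R' := by
      have := (hn B hBT).symm.trans hR'; exact_mod_cast this
    rw [eA, eB] at this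
    omega
  set C := Nat.card (centralizer ({u} : Set Y))
  have h2 : 2 * R' ≤ C := by
    by_contra h
    have : R' * C < 2 * R' ^ 2 := by nlinarith [Nat.pos_of_ne_zero (show R' ≠ 0 by omega)]
    omega
  nlinarith

end CfsgLib.McLThree.TwentySeven
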