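import Cfsg.Agent.McLThree.TwentySevenMono

/-!
A complement to the subgroup in its normalizer.
-/

set_option autoImplicit false
set_option maxRecDepth 100000
set_option linter.style.haveILetI false

namespace CfsgLib.McLThree.TwentySeven

open Subgroup Multiplicative
open CfsgLib.AltNine (mh ih)

universe u

namespace MonoHyp

variable {d : Bool} {Y : Type u} [Group Y] (H : MonoHyp d Y)

/-- The preimage of the sign changes. -/
def M : Subgroup H.N where
  carrier := {n | isSign (H.ind n) = true}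
  one_mem' := by
    show isSign (H.ind 1) = true
    rw [H.ind_one]; exact isSign_zero
  mul_mem' := fun {n m} hn hm => by
    show isSign (H.ind (n * m)) = true
    rw [H.ind_mul]; exact (isSign_mul _ _ hm hn).1
  inv_mem' := fun {n} hn => by
    show isSign (H.ind n⁻¹) = true
    have k : ∀ a, isSign a = true → isSign (ih a) = true := by decide +kernel
    rw [H.ind_inv]; exact k _ hn

theorem mem_M {n : H.N} : n ∈ H.M ↔ isSign (H.ind n) = true := Iff.rfl

instance M_normal : H.M.Normal := ⟨fun n hn g => by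
  show isSign (H.ind (g * n * g⁻¹)) = true
  have k : ∀ a b, mh (ih a) (mh b a) = mh (mh (ih a) b) a := fun a b =>
    (CfsgLib.AltNine.mh_assoc _ _ _).symm
  rw [H.ind_mul, H.ind_mul, H.ind_inv, k]
  exact isSign_conj _ _ hn⟩

variable [Finite Y]

/-- A complement to the subgroup in its normalizer. -/
theorem exists_compl : ∃ C : Subgroup H.N,
    (∀ c ∈ C, H.ind c = 0 → c = 1) ∧ ∀ a, inList d a = true → ∃ c ∈ C, H.ind c = a := by
  classical
  haveI : Fact (Nat.Prime 2) := ⟨Nat.prime_two⟩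
  have P : Sylow 2 H.M := default
  have sgn : ∀ s, isSign s = true → ∃ p : H.M, p ∈ (P : Subgroup H.M) ∧ H.ind p = s := by
    intro s hs
    obtain ⟨n, hn, hn'⟩ := H.surj s (inList_sign d s hs)
    have hi : H.ind ⟨n, hn⟩ = s := H.ind_eq _ _ hn'
    set m : H.M := ⟨⟨n, hn⟩, by rw [H.mem_M, hi]; exact hs⟩ with hm
    have hm2 : ((m * m : H.M) : H.N).1 ∈ H.i.range := (H.ind_eq_zero _).1 (by
      rw [Subgroup.coe_mul, H.ind_mul, hi]; exact (isSign_mul s s hs hs).2.2)
    have h13 : H.ind (((m * m) ^ 13 : H.M) : H.N) = 0 :=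
      (H.ind_eq_zero _).2 (by push_cast; exact pow_mem (by simpa using hm2) 13)
    have hy : IsPGroup 2 (zpowers ((m * m) ^ 13 * m)) := by
      have h2 : ((m * m) ^ 13 * m) ^ 2 = (m * m) ^ 27 := by
        rw [pow_two, ← pow_two m, ← pow_mul, ← pow_succ, ← pow_add, ← pow_mul]
      have h27 : (m * m) ^ 27 = 1 := Subtype.ext (Subtype.ext (by
        push_cast; exact (orderOf_dvd_iff_pow_eq_one.1 ((orderOf_dvd_of_pow_eq_one (H.cube_mem (by simpa using hm2))).trans (by norm_num)))))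
      obtain ⟨j, -, hj⟩ := (Nat.dvd_prime_pow Nat.prime_two).1
        (orderOf_dvd_of_pow_eq_one (show ((m * m) ^ 13 * m) ^ 2 ^ 1 = 1 by rw [pow_one, h2, h27]))
      exact IsPGroup.of_card (n := j) (by rw [Nat.card_zpowers, hj])
    obtain ⟨Q, hQ⟩ := hy.exists_le_sylow
    obtain ⟨x, hx⟩ := MulAction.exists_smul_eq H.M Q P
    refine ⟨x * ((m * m) ^ 13 * m) * x⁻¹, ?_, ?_⟩
    · rw [← hx, Sylow.coe_subgroup_smul]
      exact ⟨(m * m) ^ 13 * m, hQ (mem_zpowers _), rfl⟩
    · rw [Subgroup.coe_mul, Subgroup.coe_mul, Subgroup.coe_mul, H.ind_mul, H.ind_mul, H.ind_mul,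
        h13, hi, Subgroup.coe_inv, H.ind_inv]
      have k : ∀ a s, isSign a = true → isSign s = true → mh (ih a) (mh (mh s 0) a) = s := by
        decide +kernel
      exact k _ _ x.2 hs
  refine ⟨normalizer ((P : Subgroup H.M).map H.M.subtype : Set H.N), ?_, ?_⟩
  · intro c hc h0
    obtain ⟨v, hv⟩ := H.exists_el ((H.ind_eq_zero c).1 h0)
    suffices h : v = 0 by exact Subtype.ext (hv.symm.trans (h ▸ H.el_zero))
    refine sign_fix v fun s hs => ?_
    obtain ⟨p, hp, hps⟩ := sgn s hs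
    have hq : c * (p : H.N)⁻¹ * c⁻¹ ∈ (P : Subgroup H.M).map H.M.subtype :=
      (mem_normalizer_iff.1 hc _).1 ⟨p⁻¹, inv_mem hp, rfl⟩
    obtain ⟨q, hqP, hq⟩ := hq
    set w : H.M := p * q with hw
    have hwP : w ∈ (P : Subgroup H.M) := mul_mem hp hqP
    have hwY : ((w : H.N) : Y) = H.el (oct s v) * H.el (-v) := by
      have hq' : ((q : H.N) : Y) = (c : Y) * ((p : H.N) : Y)⁻¹ * (c : Y)⁻¹ :=
        congrArg Subtype.val hq
      have hneg : (H.el v)⁻¹ = H.el (-v) :=
        inv_eq_of_mul_eq_one_right (by rw [← H.el_add, add_neg_cancel, H.el_zero])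
      have hsp := H.ind_spec (p : H.N) v
      rw [hps] at hsp
      rw [← hsp, ← hneg, hw]
      push_cast
      rw [hq', ← hv]
      group
    have hmem : ((w : H.N) : Y) ∈ H.i.range := by
      rw [hwY]; exact mul_mem (H.el_mem _) (H.el_mem _)
    obtain ⟨k, hk⟩ := P.2 ⟨w, hwP⟩
    have h1 : ((w : H.N) : Y) ^ 2 ^ k = 1 :=
      congrArg (fun z : (P : Subgroup H.M) => (((z : H.M) : H.N) : Y)) hk
    have hw1 : ((w : H.N) : Y) = 1 := by
      rw [← orderOf_eq_one_iff]
      exact Nat.eq_one_of_dvd_coprimes (a := 2 ^ k) (b := 27)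
        (Nat.Coprime.pow_left _ (by norm_num))
        (orderOf_dvd_of_pow_eq_one h1) (orderOf_dvd_of_pow_eq_one ((pow_mul _ 3 9).trans (by rw [H.cube_mem hmem, one_pow])))
    have h2 : H.el (oct s v + -v) = H.el 0 := by rw [H.el_add, ← hwY, hw1, H.el_zero]
    exact add_neg_eq_zero.1 (H.el_inj h2)
  · intro a hl
    obtain ⟨n, hn, hn'⟩ := H.surj a hl
    have htop := Sylow.normalizer_sup_eq_top P
    obtain ⟨c, hc, m, hm, hcm⟩ := Subgroup.mem_sup_of_normal_right.1
      (htop ▸ mem_top (⟨n, hn⟩ : H.N))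
    obtain ⟨p, hp, hpm⟩ := sgn _ hm
    refine ⟨c * p, mul_mem hc (le_normalizer ⟨p, hp, rfl⟩), ?_⟩
    rw [H.ind_mul, hpm, ← H.ind_mul, hcm]
    exact H.ind_eq _ _ hn'

end MonoHyp

end CfsgLib.McLThree.TwentySeven
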