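import Cfsg.Agent.McLThree.TwentySevenOcta

/-!
An elementary abelian subgroup of order 27 with automizer the alternating or symmetric group of
degree four acting monomially: basic facts about its normalizer.
-/

set_option autoImplicit false
set_option maxRecDepth 100000
set_option linter.style.haveILetI false

namespace CfsgLib.McLThree.TwentySeven

open Subgroup Multiplicative
open CfsgLib.AltNine (mh ih)

universe u

/-- The maps of the alternating group of degree four among the 24. -/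
def tet (a : Fin 24) : Bool := decide (mh a (mh a a) = 0) || isSign a

/-- The list of maps: all 24, or the twelve of `tet`. -/
def inList (d : Bool) (a : Fin 24) : Bool := d || tet a

/-- The number of non-zero coordinates. -/
def wt (v : V) : ℕ := (Finset.univ.filter fun k => v k ≠ 0).card

/-- An element of `tet` is a signed even permutation with product of signs one. -/
theorem tet_signed : ∀ a, tet a = true → ∃ p : Fin 3 → Fin 3, ∃ e : Fin 3 → ZMod 3,
    sdet p e = 1 ∧ e 0 * e 1 * e 2 = 1 ∧ ∀ w, oct a w = signed p e w := by decide +kernel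

/-- A signed even permutation with product of signs one is in `tet`. -/
theorem signed_tet : ∀ p : Fin 3 → Fin 3, ∀ e : Fin 3 → ZMod 3,
    sdet p e = 1 → e 0 * e 1 * e 2 = 1 → ∃ a, tet a = true ∧ ∀ w, oct a w = signed p e w := by
  decide +kernel

theorem inList_true (a : Fin 24) : inList true a = true := rfl

theorem inList_sign : ∀ d : Bool, ∀ a, isSign a = true → inList d a = true := by decide +kernel

theorem inList_mul : ∀ d : Bool, ∀ a b, inList d a = true → inList d b = true →
    inList d (mh a b) = true := by decide +kernel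

theorem fix_three : ∀ a, a ≠ 0 → mh a (mh a a) = 0 → ∃ f : V, f ≠ 0 ∧ wt f ≠ 2 ∧ oct a f = f ∧
    ∀ v, oct a v = v → ∃ k : Fin 3, v = k.val • f := by decide +kernel

theorem comm_three : ∀ a b, a ≠ 0 → mh a (mh a a) = 0 → mh a b = mh b a →
    b = 0 ∨ b = a ∨ b = mh a a := by decide +kernel

/-- The hypotheses. -/
structure MonoHyp (d : Bool) (Y : Type u) [Group Y] where
  i : Multiplicative V →* Y
  inj : Function.Injective i
  self : centralizer (i.range : Set Y) = i.range
  norm : ∀ n ∈ normalizer (i.range : Set Y), ∃ a, inList d a = true ∧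
    ∀ v : V, n * i (ofAdd v) * n⁻¹ = i (ofAdd (oct a v))
  surj : ∀ a, inList d a = true →
    ∃ n ∈ normalizer (i.range : Set Y), ∀ v : V, n * i (ofAdd v) * n⁻¹ = i (ofAdd (oct a v))
  cent : ∀ v : V, v ≠ 0 → wt v ≠ 2 →
    centralizer ({i (ofAdd v)} : Set Y) ≤ normalizer (i.range : Set Y)
  nofuse : ∀ x ∈ normalizer (i.range : Set Y), x ∉ i.range → x ^ 3 = 1 →
    ∀ v : V, v ≠ 0 → wt v ≠ 2 → ∀ g : Y, g * x * g⁻¹ ≠ i (ofAdd v)

namespace MonoHyp

variable {d : Bool} {Y : Type u} [Group Y] (H : MonoHyp d Y)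

/-- The normalizer of the subgroup. -/
abbrev N : Subgroup Y := normalizer (H.i.range : Set Y)

/-- The element with exponent `v`. -/
def el (v : V) : Y := H.i (ofAdd v)

theorem el_mem (v : V) : H.el v ∈ H.i.range := ⟨_, rfl⟩

theorem el_inj {v w : V} (h : H.el v = H.el w) : v = w := ofAdd.injective (H.inj h)

theorem el_add (v w : V) : H.el (v + w) = H.el v * H.el w := map_mul H.i _ _

theorem el_zero : H.el 0 = 1 := map_one H.i

theorem el_neg (v : V) : H.el (-v) = (H.el v)⁻¹ := map_inv H.i _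

theorem el_nsmul (k : ℕ) (v : V) : H.el (k • v) = H.el v ^ k := by
  show H.i (ofAdd (k • v)) = H.i (ofAdd v) ^ k
  rw [ofAdd_nsmul, map_pow]

theorem el_ne {v : V} (h : v ≠ 0) : H.el v ≠ 1 := fun e => h (H.el_inj (e.trans H.el_zero.symm))

theorem el_comm (v w : V) : H.el v * H.el w = H.el w * H.el v := by
  rw [← H.el_add, add_comm, H.el_add]

theorem exists_el {a : Y} (h : a ∈ H.i.range) : ∃ v, H.el v = a := by
  obtain ⟨x, rfl⟩ := h; exact ⟨x.toAdd, rfl⟩

theorem range_le_N : H.i.range ≤ H.N := le_normalizer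

theorem el_cube (v : V) : H.el v ^ 3 = 1 := by
  have hk : ∀ v : V, v + v + v = 0 := by decide +kernel
  rw [pow_succ, pow_two, ← H.el_add, ← H.el_add, hk, H.el_zero]

theorem cube_mem {a : Y} (h : a ∈ H.i.range) : a ^ 3 = 1 := by
  obtain ⟨v, rfl⟩ := H.exists_el h; exact H.el_cube v

theorem card_range : Nat.card H.i.range = 27 := by
  rw [← Nat.card_congr (MonoidHom.ofInjective H.inj).toEquiv, Nat.card_congr Multiplicative.toAdd]
  simp [Nat.card_eq_fintype_card]

theorem isPGroup_range : IsPGroup 3 H.i.range :=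
  IsPGroup.of_card (n := 3) (by rw [H.card_range]; norm_num)

/-- The index of an element of the normalizer. -/
noncomputable def ind (n : H.N) : Fin 24 := (H.norm n n.2).choose

theorem ind_inList (n : H.N) : inList d (H.ind n) = true := (H.norm n n.2).choose_spec.1

theorem ind_spec (n : H.N) (v : V) : (n : Y) * H.el v * (n : Y)⁻¹ = H.el (oct (H.ind n) v) :=
  (H.norm n n.2).choose_spec.2 v

theorem ind_eq (n : H.N) (a : Fin 24) (h : ∀ v, (n : Y) * H.el v * (n : Y)⁻¹ = H.el (oct a v)) :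
    H.ind n = a :=
  have k := fun v => H.el_inj ((H.ind_spec n v).symm.trans (h v))
  oct_inj _ _ (k _) (k _) (k _)

theorem ind_mul (n m : H.N) : H.ind (n * m) = mh (H.ind m) (H.ind n) := H.ind_eq _ _ fun v => by
  rw [oct_mh, ← H.ind_spec n, ← H.ind_spec m]
  simp [mul_assoc]

theorem ind_one : H.ind 1 = 0 := H.ind_eq _ _ fun v => by simp [oct_zero]

theorem ind_inv (n : H.N) : H.ind n⁻¹ = ih (H.ind n) := by
  have h : mh (H.ind n) (H.ind n⁻¹) = 0 := by rw [← H.ind_mul, inv_mul_cancel, ind_one]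
  have k : ∀ a b, mh a b = 0 → b = ih a := by decide +kernel
  exact k _ _ h

theorem ind_eq_zero (n : H.N) : H.ind n = 0 ↔ (n : Y) ∈ H.i.range := by
  constructor
  · intro h
    rw [← H.self, mem_centralizer_iff]
    intro a ha
    obtain ⟨v, rfl⟩ := H.exists_el ha
    have := H.ind_spec n v
    rw [h, oct_zero] at this
    exact (mul_inv_eq_iff_eq_mul.1 this).symm
  · intro ha
    refine H.ind_eq _ _ fun v => ?_
    obtain ⟨w, hw⟩ := H.exists_el ha
    rw [oct_zero, ← hw, H.el_comm, mul_inv_cancel_right]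

theorem commute_iff (n : H.N) (v : V) :
    (n : Y) * H.el v = H.el v * n ↔ oct (H.ind n) v = v := by
  rw [← mul_inv_eq_iff_eq_mul, H.ind_spec]
  exact ⟨H.el_inj, fun h => by rw [h]⟩

theorem ind_cube (n : H.N) (h : (n : Y) ^ 3 = 1) : mh (H.ind n) (mh (H.ind n) (H.ind n)) = 0 := by
  rw [← H.ind_mul, ← H.ind_mul, ← H.ind_one, show n * n * n = 1 from Subtype.ext (by
    rw [Subgroup.coe_mul, Subgroup.coe_mul, Subgroup.coe_one, ← pow_two, ← pow_succ, h])]

theorem ind_pow_three (n : H.N) {k : ℕ} (h : (n : Y) ^ 3 ^ k = 1)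
    (h2 : mh (H.ind n) (H.ind n) = 0) : (n : Y) ∈ H.i.range := by
  have e : ∀ m : ℕ, H.ind (n ^ (2 * m + 1)) = H.ind n := by
    intro m
    induction m with
    | zero => rw [mul_zero, zero_add, pow_one]
    | succ m ih =>
      rw [show 2 * (m + 1) + 1 = 2 * m + 1 + 2 by ring, pow_add, pow_two, H.ind_mul, H.ind_mul, h2,
        ih, (CfsgLib.AltNine.mh_one _).1]
  obtain ⟨m, hm⟩ : Odd (3 ^ k) := Odd.pow (by decide)
  rw [← H.ind_eq_zero, ← e m, ← hm]
  exact (H.ind_eq_zero _).2 (by rw [Subgroup.coe_pow, h]; exact one_mem _)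

/-- The subgroup is the only one of its shape in its normalizer. -/
theorem eq_range {B : Subgroup Y} (hB : B ≤ H.N) (hc : Nat.card B = 27)
    (hcomm : ∀ x ∈ B, ∀ y ∈ B, x * y = y * x) (h3 : ∀ x ∈ B, x ^ 3 = 1) : B = H.i.range := by
  classical
  haveI : Finite H.i.range := Nat.finite_of_card_ne_zero (by rw [H.card_range]; norm_num)
  refine eq_of_le_of_card_ge (fun x hx => ?_) (by rw [hc, H.card_range])
  by_contra hxA
  set x' : H.N := ⟨x, hB hx⟩
  have ha0 : H.ind x' ≠ 0 := fun e => hxA ((H.ind_eq_zero x').1 e)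
  have ha3 := H.ind_cube x' (h3 x hx)
  obtain ⟨f, -, -, -, hf⟩ := fix_three _ ha0 ha3
  have hsurj : ∀ y : B, ∃ p : Fin 3 × Fin 3, (y : Y) = x ^ p.1.val * H.el (p.2.val • f) := by
    intro y
    have hfix : ∀ z : H.N, (z : Y) ∈ B → H.ind z = 0 → ∃ k : Fin 3, (z : Y) = H.el (k.val • f) := by
      intro z hz h0
      obtain ⟨v, hv⟩ := H.exists_el ((H.ind_eq_zero z).1 h0)
      obtain ⟨k, hk⟩ := hf v ((H.commute_iff x' v).1 (by rw [hv]; exact hcomm x hx _ hz))
      exact ⟨k, by rw [← hv, hk]⟩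
    set y' : H.N := ⟨y, hB y.2⟩
    have hcy : mh (H.ind x') (H.ind y') = mh (H.ind y') (H.ind x') := by
      rw [← H.ind_mul, ← H.ind_mul]
      exact congrArg H.ind (Subtype.ext (hcomm y y.2 x hx))
    have key : ∀ j : Fin 3, H.ind ((x' ^ j.val)⁻¹ * y') = 0 →
        ∃ p : Fin 3 × Fin 3, (y : Y) = x ^ p.1.val * H.el (p.2.val • f) := by
      intro j hj
      obtain ⟨k, hk⟩ := hfix _ (mul_mem (inv_mem (pow_mem hx _)) y.2) hj
      refine ⟨(j, k), ?_⟩
      rw [← hk]; simp [x', y']
    rcases comm_three _ _ ha0 ha3 hcy with e | e | e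
    · exact key 0 (by simp [e])
    · exact key 1 (by
        rw [show ((1 : Fin 3) : ℕ) = 1 from rfl, pow_one, H.ind_mul, H.ind_inv, e]
        exact (mh_ih _).1)
    · exact key 2 (by
        rw [show ((2 : Fin 3) : ℕ) = 2 from rfl, pow_two, H.ind_mul, H.ind_inv, H.ind_mul, e]
        exact (mh_ih _).1)
  choose p hp using hsurj
  have hle := Nat.card_le_card_of_injective p fun y z e => Subtype.ext (by rw [hp y, hp z, e])
  rw [hc, Nat.card_eq_fintype_card] at hle
  simp at hle

/-- Conjugation of an element of the subgroup to one with centralizer in the normalizer. -/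
theorem conj_mem_N {g : Y} {v w : V} (hw : centralizer ({H.el w} : Set Y) ≤ H.N)
    (h : g * H.el v * g⁻¹ = H.el w) : g ∈ H.N := by
  haveI : Finite H.i.range := Nat.finite_of_card_ne_zero (by rw [H.card_range]; norm_num)
  have he := H.eq_range (B := H.i.range.map (MulAut.conj g).toMonoidHom) ?_ ?_ ?_ ?_
  · rw [mem_normalizer_iff]
    intro a
    constructor
    · intro ha; rw [← he]; exact ⟨a, ha, rfl⟩
    · intro ha
      rw [← he] at ha
      obtain ⟨b, hb, e⟩ := ha
      have e' : b = a := by simpa using e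
      exact e' ▸ hb
  · rintro _ ⟨a, ha, rfl⟩
    obtain ⟨u, rfl⟩ := H.exists_el ha
    refine hw (mem_centralizer_singleton_iff.2 ?_)
    simp only [MulEquiv.coe_toMonoidHom, MulAut.conj_apply, ← h]
    calc g * H.el u * g⁻¹ * (g * H.el v * g⁻¹) = g * (H.el u * H.el v) * g⁻¹ := by group
      _ = g * (H.el v * H.el u) * g⁻¹ := by rw [H.el_comm]
      _ = _ := by group
  · rw [card_map_of_injective (MulEquiv.injective _), H.card_range]
  · rintro _ ⟨a, ha, rfl⟩ _ ⟨b, hb, rfl⟩
    obtain ⟨u, rfl⟩ := H.exists_el ha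
    obtain ⟨u', rfl⟩ := H.exists_el hb
    rw [← map_mul, ← map_mul, H.el_comm]
  · rintro _ ⟨a, ha, rfl⟩
    rw [← map_pow, H.cube_mem ha, map_one]

variable [Finite Y]

theorem sylow_le {P : Sylow 3 Y} (hP : H.i.range ≤ P) : (P : Subgroup Y) ≤ H.N := by
  haveI : Fact (Nat.Prime 3) := ⟨Nat.prime_three⟩
  by_contra hne
  haveI := P.2.isNilpotent
  have hlt : H.N.subgroupOf P < ⊤ := by
    rw [lt_top_iff_ne_top]
    intro h
    exact hne fun x hx => mem_subgroupOf.1 (h ▸ mem_top (⟨x, hx⟩ : (P : Subgroup Y)))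
  obtain ⟨w, hw, hwN⟩ := SetLike.exists_of_lt (Group.normalizerCondition_of_isNilpotent _ hlt)
  apply hwN
  rw [mem_subgroupOf]
  have he := H.eq_range (B := H.i.range.map (MulAut.conj (w : Y)).toMonoidHom) ?_ ?_ ?_ ?_
  · rw [mem_normalizer_iff]
    intro a
    constructor
    · intro ha; rw [← he]; exact ⟨a, ha, rfl⟩
    · intro ha
      rw [← he] at ha
      obtain ⟨b, hb, e⟩ := ha
      have e' : b = a := by simpa using e
      exact e' ▸ hb
  · rintro _ ⟨a, ha, rfl⟩
    exact mem_subgroupOf.1 ((mem_normalizer_iff.1 hw ⟨a, hP ha⟩).1 (mem_subgroupOf.2 (H.range_le_N ha)))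
  · rw [card_map_of_injective (MulEquiv.injective _), H.card_range]
  · rintro _ ⟨a, ha, rfl⟩ _ ⟨b, hb, rfl⟩
    obtain ⟨u, rfl⟩ := H.exists_el ha
    obtain ⟨u', rfl⟩ := H.exists_el hb
    rw [← map_mul, ← map_mul, H.el_comm]
  · rintro _ ⟨a, ha, rfl⟩
    rw [← map_pow, H.cube_mem ha, map_one]

theorem not_dvd_index : ¬ 3 ∣ H.N.index := by
  haveI : Fact (Nat.Prime 3) := ⟨Nat.prime_three⟩
  obtain ⟨P, hP⟩ := H.isPGroup_range.exists_le_sylow
  exact fun h => P.not_dvd_index (h.trans (index_dvd_of_le (H.sylow_le hP)))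

end MonoHyp

end CfsgLib.McLThree.TwentySeven
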