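import Cfsg.Agent.McLThree.TwentySeven
import Cfsg.Agent.AltNine.Chars
import Mathlib.GroupTheory.Sylow

/-!
A group with an elementary abelian subgroup of order 27 whose automizer is the rotation group of
monomial maps, with the fusion of the normalizer closed, has that subgroup normal.

The 24 maps are indexed as in the model of the normalizer of `3^3` in the alternating group of
degree nine; `oct_signed` and `signed_oct` identify them with the signed coordinate permutations
of determinant one.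
-/

set_option autoImplicit false
set_option maxRecDepth 100000
set_option linter.style.haveILetI false

namespace CfsgLib.McLThree.TwentySeven

open Subgroup Multiplicative
open CfsgLib.AltNine (K mh ih act av)

universe u

/-- The coordinates of a translation of the model. -/
def toV (v : Fin 27) : V :=
  ![(v.val : ZMod 3), ((v.val / 3 : ℕ) : ZMod 3), ((v.val / 9 : ℕ) : ZMod 3)]

/-- The translation with given coordinates. -/
def ofV (w : V) : Fin 27 :=
  ⟨(w 0).val + 3 * (w 1).val + 9 * (w 2).val, by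
    have h0 := ZMod.val_lt (w 0); have h1 := ZMod.val_lt (w 1); have h2 := ZMod.val_lt (w 2); omega⟩

/-- The 24 maps. -/
def oct (a : Fin 24) (w : V) : V := toV (act a (ofV w))

/-- A signed coordinate permutation. -/
def signed (p : Fin 3 → Fin 3) (e : Fin 3 → ZMod 3) (w : V) : V := fun k => e k * w (p k)

/-- The determinant of a signed coordinate permutation. -/
def sdet (p : Fin 3 → Fin 3) (e : Fin 3 → ZMod 3) : ZMod 3 :=
  -(((p 1).val : ZMod 3) - (p 0).val) * (((p 2).val : ZMod 3) - (p 0).val) *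
    (((p 2).val : ZMod 3) - (p 1).val) * (e 0 * e 1 * e 2)

theorem ofV_toV : ∀ v, ofV (toV v) = v := by decide +kernel

theorem toV_ofV : ∀ w, toV (ofV w) = w := by decide +kernel

theorem toV_av : ∀ u v, toV (av u v) = toV u + toV v := by decide +kernel

theorem toV_zero : toV 0 = 0 := by decide +kernel

theorem toV_act (a : Fin 24) (v : Fin 27) : toV (act a v) = oct a (toV v) := by rw [oct, ofV_toV]

theorem oct_zero : ∀ w, oct 0 w = w := by decide +kernel

theorem oct_mh (a b : Fin 24) (w : V) : oct (mh a b) w = oct b (oct a w) := by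
  rw [oct, oct, oct, ofV_toV, CfsgLib.AltNine.act_mh]

theorem oct_inj : ∀ a b, oct a ![1, 0, 0] = oct b ![1, 0, 0] → oct a ![0, 1, 0] = oct b ![0, 1, 0] →
    oct a ![0, 0, 1] = oct b ![0, 0, 1] → a = b := by decide +kernel

/-- Every map of the list is a signed coordinate permutation of determinant one. -/
theorem oct_signed : ∀ a, ∃ p : Fin 3 → Fin 3, ∃ e : Fin 3 → ZMod 3,
    sdet p e = 1 ∧ ∀ w, oct a w = signed p e w := by decide +kernel

/-- Every signed coordinate permutation of determinant one is in the list. -/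
theorem signed_oct : ∀ p : Fin 3 → Fin 3, ∀ e : Fin 3 → ZMod 3,
    sdet p e = 1 → ∃ a, ∀ w, oct a w = signed p e w := by decide +kernel

/-- The sign changes. -/
def isSign (a : Fin 24) : Bool :=
  decide (∀ w : V, ∀ k, oct a w k = w k ∨ oct a w k = -w k)

theorem isSign_mul : ∀ a b, isSign a = true → isSign b = true →
    isSign (mh a b) = true ∧ mh a b = mh b a ∧ mh a a = 0 := by decide +kernel

theorem isSign_conj : ∀ a b, isSign b = true → isSign (mh (mh (ih a) b) a) = true := by decide +kernel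

theorem isSign_zero : isSign 0 = true := by decide +kernel

theorem sign_fix : ∀ w : V, (∀ a, isSign a = true → oct a w = w) → w = 0 := by decide +kernel

theorem mh_ih : ∀ a, mh a (ih a) = 0 ∧ mh (ih a) a = 0 := by decide +kernel

/-- The hypotheses. -/
structure OctaHyp (Y : Type u) [Group Y] where
  i : Multiplicative V →* Y
  inj : Function.Injective i
  cent : ∀ a, a ≠ 1 → centralizer ({i a} : Set Y) ≤ normalizer (i.range : Set Y)
  self : centralizer (i.range : Set Y) = i.range
  norm : ∀ n ∈ normalizer (i.range : Set Y), ∃ a, ∀ v : V, n * i (ofAdd v) * n⁻¹ = i (ofAdd (oct a v))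
  surj : ∀ a, ∃ n ∈ normalizer (i.range : Set Y), ∀ v : V, n * i (ofAdd v) * n⁻¹ = i (ofAdd (oct a v))
  closed : ∀ g : Y, ∀ a, g * i a * g⁻¹ ∈ normalizer (i.range : Set Y) → g * i a * g⁻¹ ∈ i.range

namespace OctaHyp

variable {Y : Type u} [Group Y] (H : OctaHyp Y)

/-- The normalizer of the subgroup. -/
abbrev N : Subgroup Y := normalizer (H.i.range : Set Y)

/-- The element with exponent `v`. -/
def el (v : V) : Y := H.i (ofAdd v)

theorem el_mem (v : V) : H.el v ∈ H.i.range := ⟨_, rfl⟩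

theorem el_inj {v w : V} (h : H.el v = H.el w) : v = w := ofAdd.injective (H.inj h)

theorem el_add (v w : V) : H.el (v + w) = H.el v * H.el w := map_mul H.i _ _

theorem el_zero : H.el 0 = 1 := map_one H.i

theorem exists_el {a : Y} (h : a ∈ H.i.range) : ∃ v, H.el v = a := by
  obtain ⟨x, rfl⟩ := h; exact ⟨x.toAdd, rfl⟩

theorem range_le_N : H.i.range ≤ H.N := le_normalizer

theorem pow_27 {a : Y} (h : a ∈ H.i.range) : a ^ 27 = 1 := by
  obtain ⟨v, rfl⟩ := H.exists_el h
  have hk : ∀ v : V, v + v + v = 0 := by decide +kernel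
  have h3 : H.el v ^ 3 = 1 := by
    rw [pow_succ, pow_two, ← H.el_add, ← H.el_add, hk, H.el_zero]
  rw [show 27 = 3 * 9 from rfl, pow_mul, h3, one_pow]

/-- The index of an element of the normalizer. -/
noncomputable def ind (n : H.N) : Fin 24 := (H.norm n n.2).choose

theorem ind_spec (n : H.N) (v : V) : (n : Y) * H.el v * (n : Y)⁻¹ = H.el (oct (H.ind n) v) :=
  (H.norm n n.2).choose_spec v

theorem ind_eq (n : H.N) (a : Fin 24) (h : ∀ v, (n : Y) * H.el v * (n : Y)⁻¹ = H.el (oct a v)) :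
    H.ind n = a :=
  have k := fun v => H.el_inj ((H.ind_spec n v).symm.trans (h v))
  oct_inj _ _ (k _) (k _) (k _)

theorem ind_mul (n m : H.N) : H.ind (n * m) = mh (H.ind m) (H.ind n) := H.ind_eq _ _ fun v => by
  rw [oct_mh, ← H.ind_spec n, ← H.ind_spec m]
  simp [mul_assoc]

theorem ind_one : H.ind 1 = 0 := H.ind_eq _ _ fun v => by simp [oct_zero]

theorem ind_inv (n : H.N) : H.ind n⁻¹ = ih (H.ind n) := by
  have h : mh (H.ind n) (H.ind n⁻¹) = 0 := by rw [← H.ind_mul, inv_mul_cancel, ind_one]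
  have k : ∀ a b, mh a b = 0 → b = ih a := by decide +kernel
  exact k _ _ h

theorem ind_eq_zero (n : H.N) : H.ind n = 0 ↔ (n : Y) ∈ H.i.range := by
  constructor
  · intro h
    rw [← H.self, mem_centralizer_iff]
    intro a ha
    obtain ⟨v, rfl⟩ := H.exists_el ha
    have := H.ind_spec n v
    rw [h, oct_zero] at this
    exact (mul_inv_eq_iff_eq_mul.1 this).symm
  · intro ha
    refine H.ind_eq _ _ fun v => ?_
    obtain ⟨w, hw⟩ := H.exists_el ha
    rw [oct_zero, ← hw, ← H.el_add, add_comm, H.el_add, mul_inv_cancel_right]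

/-- The preimage of the sign changes. -/
def M : Subgroup H.N where
  carrier := {n | isSign (H.ind n) = true}
  one_mem' := by
    show isSign (H.ind 1) = true
    rw [H.ind_one]; exact isSign_zero
  mul_mem' := fun {n m} hn hm => by
    show isSign (H.ind (n * m)) = true
    rw [H.ind_mul]; exact (isSign_mul _ _ hm hn).1
  inv_mem' := fun {n} hn => by
    show isSign (H.ind n⁻¹) = true
    have k : ∀ a, isSign a = true → isSign (ih a) = true := by decide +kernel
    rw [H.ind_inv]; exact k _ hn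

theorem mem_M {n : H.N} : n ∈ H.M ↔ isSign (H.ind n) = true := Iff.rfl

instance M_normal : H.M.Normal := ⟨fun n hn g => by
  show isSign (H.ind (g * n * g⁻¹)) = true
  have k : ∀ a b, mh (ih a) (mh b a) = mh (mh (ih a) b) a := fun a b =>
    (CfsgLib.AltNine.mh_assoc _ _ _).symm
  rw [H.ind_mul, H.ind_mul, H.ind_inv, k]
  exact isSign_conj _ _ hn⟩

variable [Finite Y]

/-- A complement to the subgroup in its normalizer. -/
theorem exists_compl : ∃ C : Subgroup H.N,
    (∀ c ∈ C, H.ind c = 0 → c = 1) ∧ ∀ a, ∃ c ∈ C, H.ind c = a := by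
  classical
  haveI : Fact (Nat.Prime 2) := ⟨Nat.prime_two⟩
  have P : Sylow 2 H.M := default
  have sgn : ∀ s, isSign s = true → ∃ p : H.M, p ∈ (P : Subgroup H.M) ∧ H.ind p = s := by
    intro s hs
    obtain ⟨n, hn, hn'⟩ := H.surj s
    have hi : H.ind ⟨n, hn⟩ = s := H.ind_eq _ _ hn'
    set m : H.M := ⟨⟨n, hn⟩, by rw [H.mem_M, hi]; exact hs⟩ with hm
    have hm2 : ((m * m : H.M) : H.N).1 ∈ H.i.range := (H.ind_eq_zero _).1 (by
      rw [Subgroup.coe_mul, H.ind_mul, hi]; exact (isSign_mul s s hs hs).2.2)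
    have h13 : H.ind (((m * m) ^ 13 : H.M) : H.N) = 0 :=
      (H.ind_eq_zero _).2 (by push_cast; exact pow_mem (by simpa using hm2) 13)
    have hy : IsPGroup 2 (zpowers ((m * m) ^ 13 * m)) := by
      have h2 : ((m * m) ^ 13 * m) ^ 2 = (m * m) ^ 27 := by
        rw [pow_two, ← pow_two m, ← pow_mul, ← pow_succ, ← pow_add, ← pow_mul]
      have h27 : (m * m) ^ 27 = 1 := Subtype.ext (Subtype.ext (by
        push_cast; exact H.pow_27 (by simpa using hm2)))
      obtain ⟨j, -, hj⟩ := (Nat.dvd_prime_pow Nat.prime_two).1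
        (orderOf_dvd_of_pow_eq_one (show ((m * m) ^ 13 * m) ^ 2 ^ 1 = 1 by rw [pow_one, h2, h27]))
      exact IsPGroup.of_card (n := j) (by rw [Nat.card_zpowers, hj])
    obtain ⟨Q, hQ⟩ := hy.exists_le_sylow
    obtain ⟨x, hx⟩ := MulAction.exists_smul_eq H.M Q P
    refine ⟨x * ((m * m) ^ 13 * m) * x⁻¹, ?_, ?_⟩
    · rw [← hx, Sylow.coe_subgroup_smul]
      exact ⟨(m * m) ^ 13 * m, hQ (mem_zpowers _), rfl⟩
    · rw [Subgroup.coe_mul, Subgroup.coe_mul, Subgroup.coe_mul, H.ind_mul, H.ind_mul, H.ind_mul,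
        h13, hi, Subgroup.coe_inv, H.ind_inv]
      have k : ∀ a s, isSign a = true → isSign s = true → mh (ih a) (mh (mh s 0) a) = s := by
        decide +kernel
      exact k _ _ x.2 hs
  refine ⟨normalizer ((P : Subgroup H.M).map H.M.subtype : Set H.N), ?_, ?_⟩
  · intro c hc h0
    obtain ⟨v, hv⟩ := H.exists_el ((H.ind_eq_zero c).1 h0)
    suffices h : v = 0 by exact Subtype.ext (hv.symm.trans (h ▸ H.el_zero))
    refine sign_fix v fun s hs => ?_
    obtain ⟨p, hp, hps⟩ := sgn s hs
    have hq : c * (p : H.N)⁻¹ * c⁻¹ ∈ (P : Subgroup H.M).map H.M.subtype :=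
      (mem_normalizer_iff.1 hc _).1 ⟨p⁻¹, inv_mem hp, rfl⟩
    obtain ⟨q, hqP, hq⟩ := hq
    set w : H.M := p * q with hw
    have hwP : w ∈ (P : Subgroup H.M) := mul_mem hp hqP
    have hwY : ((w : H.N) : Y) = H.el (oct s v) * H.el (-v) := by
      have hq' : ((q : H.N) : Y) = (c : Y) * ((p : H.N) : Y)⁻¹ * (c : Y)⁻¹ :=
        congrArg Subtype.val hq
      have hneg : (H.el v)⁻¹ = H.el (-v) :=
        inv_eq_of_mul_eq_one_right (by rw [← H.el_add, add_neg_cancel, H.el_zero])
      have hsp := H.ind_spec (p : H.N) v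
      rw [hps] at hsp
      rw [← hsp, ← hneg, hw]
      push_cast
      rw [hq', ← hv]
      group
    have hmem : ((w : H.N) : Y) ∈ H.i.range := by
      rw [hwY]; exact mul_mem (H.el_mem _) (H.el_mem _)
    obtain ⟨k, hk⟩ := P.2 ⟨w, hwP⟩
    have h1 : ((w : H.N) : Y) ^ 2 ^ k = 1 :=
      congrArg (fun z : (P : Subgroup H.M) => (((z : H.M) : H.N) : Y)) hk
    have hw1 : ((w : H.N) : Y) = 1 := by
      rw [← orderOf_eq_one_iff]
      exact Nat.eq_one_of_dvd_coprimes (a := 2 ^ k) (b := 27)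
        (Nat.Coprime.pow_left _ (by norm_num))
        (orderOf_dvd_of_pow_eq_one h1) (orderOf_dvd_of_pow_eq_one (H.pow_27 hmem))
    have h2 : H.el (oct s v + -v) = H.el 0 := by rw [H.el_add, ← hwY, hw1, H.el_zero]
    exact add_neg_eq_zero.1 (H.el_inj h2)
  · intro a
    obtain ⟨n, hn, hn'⟩ := H.surj a
    have htop := Sylow.normalizer_sup_eq_top P
    obtain ⟨c, hc, m, hm, hcm⟩ := Subgroup.mem_sup_of_normal_right.1
      (htop ▸ mem_top (⟨n, hn⟩ : H.N))
    obtain ⟨p, hp, hpm⟩ := sgn _ hm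
    refine ⟨c * p, mul_mem hc (le_normalizer ⟨p, hp, rfl⟩), ?_⟩
    rw [H.ind_mul, hpm, ← H.ind_mul, hcm]
    exact H.ind_eq _ _ hn'

theorem normal : H.i.range.Normal := by
  classical
  haveI : Fintype Y := Fintype.ofFinite Y
  obtain ⟨C, hC0, hCs⟩ := H.exists_compl
  have huniq : ∀ c ∈ C, ∀ d ∈ C, H.ind c = H.ind d → c = d := by
    intro c hc d hd e
    refine mul_inv_eq_one.1 (hC0 _ (mul_mem hc (inv_mem hd)) ?_)
    rw [H.ind_mul, H.ind_inv, e]
    exact (mh_ih _).2
  choose s hs hs' using hCs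
  let r : Fin 24 → H.N := fun a => (s a)⁻¹
  have hr : ∀ a, H.ind (r a)⁻¹ = a := fun a => by simp only [r, inv_inv, hs']
  have hrC : ∀ a, r a ∈ C := fun a => inv_mem (hs a)
  have rmul : ∀ a b, r a * r b = r (mh a b) := fun a b =>
    inv_injective (huniq _ (inv_mem (mul_mem (hrC a) (hrC b))) _ (inv_mem (hrC _)) (by
      rw [mul_inv_rev, H.ind_mul, hr, hr, hr]))
  have r0 : r 0 = 1 := inv_injective (huniq _ (inv_mem (hrC 0)) _ (by simp) (by
    rw [hr, inv_one, H.ind_one]))
  have rconj : ∀ b v, ((r b : H.N) : Y)⁻¹ * H.el v * (r b : Y) = H.el (oct b v) := fun b v => by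
    have := H.ind_spec (r b)⁻¹ v
    rwa [hr, Subgroup.coe_inv, inv_inv] at this
  let φ : K →* Y :=
    { toFun := fun x => (r x.h : Y) * H.el (toV x.v)
      map_one' := by
        show (r 0 : Y) * H.el (toV 0) = 1
        rw [r0, toV_zero, H.el_zero, Subgroup.coe_one, one_mul]
      map_mul' := fun x y => by
        show (r (mh x.h y.h) : Y) * H.el (toV (av (act y.h x.v) y.v)) = _
        rw [← rmul, toV_av, toV_act, H.el_add, ← rconj, Subgroup.coe_mul]
        group }
  have hφN : ∀ x, φ x ∈ H.N := fun x => mul_mem (r x.h).2 (H.range_le_N (H.el_mem _))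
  have hrange : φ.range = H.N := by
    refine le_antisymm (by rintro _ ⟨x, rfl⟩; exact hφN x) fun n hn => ?_
    set a := H.ind (⟨n, hn⟩ : H.N)⁻¹ with ha
    have hrn : ((r a)⁻¹ * ⟨n, hn⟩ : H.N).1 ∈ H.i.range := by
      rw [← H.ind_eq_zero, H.ind_mul, hr, ha, H.ind_inv]
      exact (mh_ih _).1
    obtain ⟨v, hv⟩ := H.exists_el hrn
    refine ⟨⟨a, ofV v⟩, ?_⟩
    show (r a : Y) * H.el (toV (ofV v)) = n
    rw [toV_ofV, hv]
    simp
  have hinj : Function.Injective φ := by
    intro x y e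
    have e' : (r x.h : Y) * H.el (toV x.v) = (r y.h : Y) * H.el (toV y.v) := e
    have hh : x.h = y.h := by
      have hx : ∀ (z : K), H.ind ((⟨_, hφN z⟩ : H.N))⁻¹ = z.h := fun z => by
        have hz : (⟨_, hφN z⟩ : H.N) = r z.h * ⟨H.el (toV z.v), H.range_le_N (H.el_mem _)⟩ := rfl
        have h0 : H.ind (⟨H.el (toV z.v), H.range_le_N (H.el_mem _)⟩ : H.N)⁻¹ = 0 :=
          (H.ind_eq_zero _).2 (inv_mem (H.el_mem _))
        rw [hz, mul_inv_rev, H.ind_mul, hr, h0]
        exact (CfsgLib.AltNine.mh_one _).2.1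
      rw [← hx x, ← hx y]
      simp only [e]
    rw [hh] at e'
    exact CfsgLib.AltNine.K.ext hh (by
      rw [← ofV_toV x.v, ← ofV_toV y.v, H.el_inj (mul_left_cancel e')])
  have hφtr : ∀ x ∈ CfsgLib.AltNine.tr, φ x = H.el (toV x.v) := fun x hx => by
    show (r x.h : Y) * _ = _
    rw [CfsgLib.AltNine.mem_tr.1 hx, r0, Subgroup.coe_one, one_mul]
  have hyp : CfsgLib.AltNine.Hyp φ := by
    refine ⟨hinj, fun x hx hx1 g hg => ?_, fun x hx g y hy => ?_⟩
    · rw [hrange]
      rw [hφtr x hx] at hg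
      refine H.cent (ofAdd (toV x.v)) (fun e => hx1 (hinj ?_)) (mem_centralizer_singleton_iff.2 hg)
      rw [hφtr x hx, map_one]
      exact (congrArg H.i e).trans (map_one H.i)
    · rw [hφtr x hx] at hy
      have hA : φ y ∈ H.i.range := hy ▸ H.closed g (ofAdd (toV x.v)) (by
        show g * H.el (toV x.v) * g⁻¹ ∈ H.N
        rw [hy]; exact hφN y)
      obtain ⟨w, hw⟩ := H.exists_el hA
      have hy' : φ y = φ ⟨0, ofV w⟩ := by
        rw [hφtr ⟨0, ofV w⟩ rfl, toV_ofV, hw]
      rw [hinj hy']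
      exact rfl
  have htop := CfsgLib.AltNine.range_eq_top hyp
  rw [hrange] at htop
  exact normalizer_eq_top_iff.1 htop

end OctaHyp

/-- The case of the rotation group. -/
theorem normal_octa {Y : Type u} [Group Y] [Finite Y] (H : OctaHyp Y) : H.i.range.Normal := H.normal

end CfsgLib.McLThree.TwentySeven
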