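import Cfsg.Agent.McLThree.TwentySeven

/-!
An elementary abelian subgroup of order nine equal to the centralizer of each of its non-trivial
elements, with an inverting element as its automizer, is normal.
-/

set_option autoImplicit false
set_option maxRecDepth 100000
set_option linter.style.haveILetI false

namespace CfsgLib.McLThree.TwentySeven

open Subgroup Multiplicative CfsgLib.Char
open scoped ComplexConjugate

universe u

/-- The exponent group of a plane. -/
abbrev W := ZMod 3 × ZMod 3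

/-- The hypotheses. -/
structure PlaneHyp (X : Type u) [Group X] where
  i : Multiplicative W →* X
  inj : Function.Injective i
  cent : ∀ v : W, v ≠ 0 → centralizer ({i (ofAdd v)} : Set X) ≤ i.range
  norm : ∀ n ∈ normalizer (i.range : Set X), (∀ v : W, n * i (ofAdd v) * n⁻¹ = i (ofAdd v)) ∨
    ∀ v : W, n * i (ofAdd v) * n⁻¹ = i (ofAdd (-v))
  surj : ∃ n ∈ normalizer (i.range : Set X), ∀ v : W, n * i (ofAdd v) * n⁻¹ = i (ofAdd (-v))

/-- Representatives of the four classes. -/
def pRep : Fin 4 → W := ![(1, 0), (0, 1), (1, 1), (1, -1)]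

/-- The coefficients. -/
def pCo : Fin 4 → ℤ := ![-1, 1, 0, 0]

namespace PlaneHyp

variable {X : Type u} [Group X] (H : PlaneHyp X)

/-- The element with exponent `v`. -/
def el (v : W) : X := H.i (ofAdd v)

theorem el_inj {v w : W} (h : H.el v = H.el w) : v = w := ofAdd.injective (H.inj h)

theorem el_add (v w : W) : H.el (v + w) = H.el v * H.el w := map_mul H.i _ _

theorem el_zero : H.el 0 = 1 := map_one H.i

theorem el_ne {v : W} (h : v ≠ 0) : H.el v ≠ 1 := fun e => h (H.el_inj (e.trans H.el_zero.symm))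

theorem el_comm (v w : W) : H.el v * H.el w = H.el w * H.el v := by
  rw [← H.el_add, add_comm, H.el_add]

theorem exists_el {a : X} (h : a ∈ H.i.range) : ∃ v, H.el v = a := by
  obtain ⟨x, rfl⟩ := h; exact ⟨x.toAdd, rfl⟩

theorem el_cube (v : W) : H.el v ^ 3 = 1 := by
  have hk : ∀ v : W, v + v + v = 0 := by decide
  rw [pow_succ, pow_two, ← H.el_add, ← H.el_add, hk, H.el_zero]

theorem card_range : Nat.card H.i.range = 9 := by
  rw [← Nat.card_congr (MonoidHom.ofInjective H.inj).toEquiv, Nat.card_congr Multiplicative.toAdd]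
  simp [Nat.card_eq_fintype_card]

theorem card_cent {v : W} (hv : v ≠ 0) : Nat.card (centralizer ({H.el v} : Set X)) = 9 := by
  have he : centralizer ({H.el v} : Set X) = H.i.range := le_antisymm (H.cent v hv) fun a ha => by
    obtain ⟨w, rfl⟩ := H.exists_el ha
    exact mem_centralizer_singleton_iff.2 (H.el_comm _ _)
  rw [he, H.card_range]

theorem mem_range {v : W} (hv : v ≠ 0) {g : X} (h : g * H.el v = H.el v * g) : g ∈ H.i.range :=
  H.cent v hv (mem_centralizer_singleton_iff.2 h)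

theorem card_N : Nat.card (normalizer (H.i.range : Set X)) = 18 := by
  obtain ⟨m, hm, hm'⟩ := H.surj
  have hmA : m ∉ H.i.range := fun h => by
    obtain ⟨u, hu⟩ := H.exists_el h
    have h1 := hm' 1
    rw [← hu] at h1
    change H.el u * H.el 1 * (H.el u)⁻¹ = H.el (-1) at h1
    rw [H.el_comm, mul_inv_cancel_right] at h1
    exact absurd (H.el_inj h1) (by decide)
  let f : H.i.range × Bool → normalizer (H.i.range : Set X) := fun p =>
    ⟨(p.1 : X) * bif p.2 then m else 1, mul_mem (le_normalizer p.1.2) (by cases p.2 with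
      | false => exact one_mem _
      | true => exact hm)⟩
  have hf : Function.Bijective f := by
    constructor
    · rintro ⟨a, b⟩ ⟨a', b'⟩ e
      have e' : (a : X) * (bif b then m else 1) = (a' : X) * (bif b' then m else 1) :=
        congrArg Subtype.val e
      cases b <;> cases b'
      · simp only [cond_false, mul_one] at e'
        exact Prod.ext (Subtype.ext e') rfl
      · refine absurd ?_ hmA
        simp only [cond_false, cond_true, mul_one] at e'
        rw [show m = (a' : X)⁻¹ * a by rw [e', inv_mul_cancel_left]]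
        exact mul_mem (inv_mem a'.2) a.2
      · refine absurd ?_ hmA
        simp only [cond_false, cond_true, mul_one] at e'
        rw [show m = (a : X)⁻¹ * a' by rw [← e', inv_mul_cancel_left]]
        exact mul_mem (inv_mem a.2) a'.2
      · simp only [cond_true] at e'
        exact Prod.ext (Subtype.ext (mul_right_cancel e')) rfl
    · rintro ⟨n, hn⟩
      rcases H.norm n hn with h | h
      · exact ⟨(⟨n, H.mem_range (v := 1) (by decide) (mul_inv_eq_iff_eq_mul.1 (h 1))⟩, false),
          Subtype.ext (mul_one n)⟩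
      · refine ⟨(⟨n * m⁻¹, H.mem_range (v := -1) (by decide) (mul_inv_eq_iff_eq_mul.1 ?_)⟩, true),
          Subtype.ext (inv_mul_cancel_right n m)⟩
        show n * m⁻¹ * H.el (-1) * (n * m⁻¹)⁻¹ = H.el (-1)
        calc n * m⁻¹ * H.el (-1) * (n * m⁻¹)⁻¹ = n * (m⁻¹ * H.el (-1) * m) * n⁻¹ := by group
          _ = n * (m⁻¹ * (m * H.el 1 * m⁻¹) * m) * n⁻¹ := by rw [show m * H.el 1 * m⁻¹ = H.el (-1) from hm' 1]
          _ = n * H.el 1 * n⁻¹ := by group
          _ = _ := h 1
  rw [← Nat.card_eq_of_bijective f hf, Nat.card_prod, H.card_range]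
  simp

variable [Finite X]

theorem conj_mem_N {g : X} {v w : W} (hw : w ≠ 0) (h : g * H.el v * g⁻¹ = H.el w) :
    g ∈ normalizer (H.i.range : Set X) := by
  have key : ∀ a ∈ H.i.range, g * a * g⁻¹ ∈ H.i.range := by
    intro a ha
    obtain ⟨u, rfl⟩ := H.exists_el ha
    refine H.mem_range hw ?_
    rw [← h]
    calc g * H.el u * g⁻¹ * (g * H.el v * g⁻¹) = g * (H.el u * H.el v) * g⁻¹ := by group
      _ = g * (H.el v * H.el u) * g⁻¹ := by rw [H.el_comm]
      _ = _ := by group
  have he := eq_of_le_of_card_ge (H := H.i.range.map (MulAut.conj g).toMonoidHom) (K := H.i.range)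
    (by rintro _ ⟨a, ha, rfl⟩; exact key a ha) (card_map_of_injective (MulEquiv.injective _)).ge
  rw [mem_normalizer_iff]
  intro a
  refine ⟨key a, fun ha => ?_⟩
  rw [← he] at ha
  obtain ⟨b, hb, e⟩ := ha
  have e' : b = a := by simpa using e
  exact e' ▸ hb

theorem isConj_iff_rel {v w : W} (hw : w ≠ 0) : IsConj (H.el v) (H.el w) ↔ v = w ∨ -v = w := by
  rw [isConj_iff]
  constructor
  · rintro ⟨g, hg⟩
    rcases H.norm g (H.conj_mem_N hw hg) with h | h
    · exact Or.inl (H.el_inj ((h v).symm.trans hg))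
    · exact Or.inr (H.el_inj ((h v).symm.trans hg))
  · rintro (rfl | rfl)
    · exact ⟨1, by simp⟩
    · obtain ⟨m, -, hm⟩ := H.surj
      exact ⟨m, hm v⟩

theorem sylow_eq (P : Sylow 3 X) (hP : H.i.range ≤ P) : (P : Subgroup X) = H.i.range := by
  haveI : Fact (Nat.Prime 3) := ⟨Nat.prime_three⟩
  refine le_antisymm (fun x hx => ?_) hP
  haveI : Nontrivial (P : Subgroup X) := ⟨⟨H.el (1, 0), hP ⟨_, rfl⟩⟩, 1, fun e =>
    H.el_ne (by decide) (congrArg Subtype.val e)⟩
  haveI := P.2.center_nontrivial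
  obtain ⟨z, hz⟩ := exists_ne (1 : center (P : Subgroup X))
  have hc : ∀ y ∈ (P : Subgroup X), y * ((z : (P : Subgroup X)) : X) = ((z : (P : Subgroup X)) : X) * y :=
    fun y hy => congrArg Subtype.val (mem_center_iff.1 z.2 ⟨y, hy⟩)
  obtain ⟨u, hu⟩ := H.exists_el (H.mem_range (v := (1, 0)) (by decide) (hc _ (hP ⟨_, rfl⟩)).symm)
  have hu0 : u ≠ 0 := by
    rintro rfl
    exact hz (Subtype.ext (Subtype.ext (hu.symm.trans H.el_zero)))
  refine H.mem_range hu0 ?_
  rw [hu]; exact hc x hx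

theorem pairs_card {u0 v0 w : W} (hu : u0 ≠ 0) (hv : v0 ≠ 0) (hw : w ≠ 0)
    (hne : ¬ (u0 = v0 ∨ -u0 = v0)) :
    Nat.card {p : X × X // IsConj (H.el u0) p.1 ∧ IsConj (H.el v0) p.2 ∧ p.1 * p.2 = H.el w} =
      (Finset.univ.filter fun p : W × W =>
        (u0 = p.1 ∨ -u0 = p.1) ∧ (v0 = p.2 ∨ -v0 = p.2) ∧ p.1 + p.2 = w).card := by
  classical
  haveI : Fact (Nat.Prime 3) := ⟨Nat.prime_three⟩
  have hn : ∀ {a b : W}, a ≠ 0 → (a = b ∨ -a = b) → b ≠ 0 := by decide
  rw [← Fintype.card_subtype, ← Nat.card_eq_fintype_card]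
  refine (Nat.card_congr (Equiv.ofBijective
    (fun p : {p : W × W // (u0 = p.1 ∨ -u0 = p.1) ∧ (v0 = p.2 ∨ -v0 = p.2) ∧ p.1 + p.2 = w} =>
      (⟨(H.el p.1.1, H.el p.1.2), (H.isConj_iff_rel (hn hu p.2.1)).2 p.2.1,
        (H.isConj_iff_rel (hn hv p.2.2.1)).2 p.2.2.1,
        (H.el_add _ _).symm.trans (congrArg H.el p.2.2.2)⟩ :
        {p : X × X // IsConj (H.el u0) p.1 ∧ IsConj (H.el v0) p.2 ∧ p.1 * p.2 = H.el w})) ⟨?_, ?_⟩)).symm
  · intro p p' e
    have e' := congrArg Subtype.val e
    exact Subtype.ext (Prod.ext (H.el_inj (congrArg Prod.fst e')) (H.el_inj (congrArg Prod.snd e')))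
  rintro ⟨⟨x, y⟩, hx, hy, hxy⟩
  have cube : ∀ {v : W} {z : X}, IsConj (H.el v) z → z ^ 3 = 1 := by
    intro v z h
    obtain ⟨g, rfl⟩ := isConj_iff.1 h
    rw [conj_pow, H.el_cube, mul_one, mul_inv_cancel]
  obtain ⟨f, hf1, hf3, hfx, hfy⟩ := ThreeLocalNine.triple_fix (cube hx) (cube hy)
    (by rw [show x * y = H.el w from hxy, H.el_cube]) (fun h =>
      hne ((H.isConj_iff_rel hv).1 ((hx.trans h).trans hy.symm)))
  have hfp : IsPGroup 3 (zpowers f) := by
    refine IsPGroup.of_card (n := 1) ?_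
    rw [Nat.card_zpowers, pow_one, orderOf_eq_prime hf3 hf1]
  obtain ⟨P, hP⟩ := (IsPGroup.of_card (p := 3) (n := 2) (show Nat.card H.i.range = 3 ^ 2 by
    rw [H.card_range]; norm_num)).exists_le_sylow
  obtain ⟨R, hR⟩ := hfp.exists_le_sylow
  obtain ⟨h, hh⟩ := MulAction.exists_smul_eq X R P
  have hfA : h * f * h⁻¹ ∈ H.i.range := by
    rw [← H.sylow_eq P hP, ← hh, Sylow.coe_subgroup_smul]
    exact ⟨f, hR (mem_zpowers f), rfl⟩
  obtain ⟨φ, hφ⟩ := H.exists_el hfA
  have hφ0 : φ ≠ 0 := by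
    rintro rfl
    exact hf1 (conj_eq_one_iff.1 (hφ.symm.trans H.el_zero))
  have move : ∀ z : X, f * z = z * f → h * z * h⁻¹ ∈ H.i.range := by
    intro z hc
    refine H.mem_range hφ0 ?_
    rw [hφ]
    calc h * z * h⁻¹ * (h * f * h⁻¹) = h * (z * f) * h⁻¹ := by group
      _ = h * (f * z) * h⁻¹ := by rw [hc]
      _ = _ := by group
  have hW : h * H.el w * h⁻¹ ∈ H.i.range := by
    rw [← hxy, show h * (x * y) * h⁻¹ = h * x * h⁻¹ * (h * y * h⁻¹) by group]
    exact mul_mem (move x hfx) (move y hfy)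
  obtain ⟨w', hw'⟩ := H.exists_el hW
  have hhN : h ∈ normalizer (H.i.range : Set X) := by
    refine H.conj_mem_N (v := w) (w := w') ?_ hw'.symm
    rintro rfl
    exact H.el_ne hw (conj_eq_one_iff.1 (hw'.symm.trans H.el_zero))
  obtain ⟨p, rfl⟩ := H.exists_el ((mem_normalizer_iff.1 hhN x).2 (move x hfx))
  obtain ⟨q, rfl⟩ := H.exists_el ((mem_normalizer_iff.1 hhN y).2 (move y hfy))
  have hp0 : p ≠ 0 := by
    rintro rfl
    exact H.el_ne hu (isConj_one_left.1 (show IsConj (H.el u0) 1 from H.el_zero ▸ hx))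
  have hq0 : q ≠ 0 := by
    rintro rfl
    exact H.el_ne hv (isConj_one_left.1 (show IsConj (H.el v0) 1 from H.el_zero ▸ hy))
  exact ⟨⟨(p, q), (H.isConj_iff_rel hp0).1 hx, (H.isConj_iff_rel hq0).1 hy,
    H.el_inj ((H.el_add p q).trans hxy)⟩, rfl⟩

/-- The linear character attached to a functional. -/
noncomputable def plin (l : W) : Multiplicative W →* ℂˣ :=
  MonoidHom.toHomUnits
    { toFun := fun v => wE (-(l.1 * v.toAdd.1 + l.2 * v.toAdd.2))
      map_one' := by simp [wE_zero]
      map_mul' := fun v w => by rw [toAdd_mul, ← wE_add]; simp only [Prod.fst_add, Prod.snd_add]; ring_nf }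

theorem conj_plin (l : W) (v : Multiplicative W) :
    conj ((plin l v : ℂˣ) : ℂ) = wE (l.1 * v.toAdd.1 + l.2 * v.toAdd.2) := by
  show conj (wE (-(l.1 * v.toAdd.1 + l.2 * v.toAdd.2))) = _
  rw [conj_wE, neg_neg]

include H in
theorem order_le : 2 * Nat.card X ≤ 81 := by
  classical
  have hmult : ∀ χ, Cfsg.IsIrrCharacter X χ →
      ∃ m : ℤ, ∑ a, (pCo a : ℂ) * conj (χ (H.el (pRep a))) = 3 * m := by
    intro χ hχ
    have hc : Cfsg.IsCharacter (Multiplicative W) (fun x => conj (χ (H.i x))) :=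
      IsCharacter.comp (IsCharacter.conj (IsIrrCharacter.isCharacter hχ)) H.i
    obtain ⟨n1, h1⟩ := IsCharacter.exists_classInner_eq_natCast' hc (isCharacter_ofHom (plin (1, 0)))
    obtain ⟨n2, h2⟩ := IsCharacter.exists_classInner_eq_natCast' hc (isCharacter_ofHom (plin (0, 1)))
    refine ⟨(n1 : ℤ) - n2, ?_⟩
    rw [classInner_def] at h1 h2
    have h9 : (Nat.card (Multiplicative W) : ℂ) = 9 := by
      rw [Nat.card_congr Multiplicative.toAdd, Nat.card_eq_fintype_card]; simp
    rw [h9] at h1 h2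
    have e1 := congrArg (fun z : ℂ => 9 * z) h1
    have e2 := congrArg (fun z : ℂ => 9 * z) h2
    simp only [← mul_assoc, mul_inv_cancel₀ (show (9 : ℂ) ≠ 0 by norm_num), one_mul, conj_plin] at e1 e2
    set f : W → ℂ := fun v => conj (χ (H.el v)) with hf
    have hsym : ∀ v, v ≠ 0 → f (-v) = f v := fun v hv => congrArg conj
      (IsClassFunction.apply_eq_of_isConj (IsIrrCharacter.isClassFunction hχ)
        (((H.isConj_iff_rel (neg_ne_zero.2 hv)).2 (Or.inr rfl)).symm))
    have hm : ∑ v : W, f v * (wE v.1 - wE v.2) = 9 * ((n1 : ℂ) - n2) := by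
      rw [mul_sub, ← e1, ← e2, ← Finset.sum_sub_distrib]
      refine Fintype.sum_equiv Multiplicative.ofAdd _ _ fun v => ?_
      simp only [hf, el, toAdd_ofAdd, zero_mul, add_zero, zero_add]; ring
    have hu : (Finset.univ : Finset W) = {(0, 0), (1, 0), (2, 0), (0, 1), (0, 2), (1, 1), (2, 2), (1, 2), (2, 1)} := by
      decide
    rw [hu] at hm
    repeat rw [Finset.sum_insert (by decide)] at hm
    rw [Finset.sum_singleton] at hm
    have f1 : f (2, 0) = f (1, 0) := hsym (1, 0) (by decide)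
    have f2 : f (0, 2) = f (0, 1) := hsym (0, 1) (by decide)
    have f3 : f (2, 2) = f (1, 1) := hsym (1, 1) (by decide)
    have f4 : f (2, 1) = f (1, 2) := hsym (1, 2) (by decide)
    have w1 : wE 1 = om := by
      simp [wE, wA, wB]
    have w2 : wE 2 = -1 - om := by
      simp [wE, wA, wB, show (2 : ZMod 3) ≠ 0 by decide, show (2 : ZMod 3) ≠ 1 by decide]; ring
    simp only [f1, f2, f3, f4, w1, w2, wE_zero] at hm
    have hs : ∑ a, (pCo a : ℂ) * conj (χ (H.el (pRep a))) = f (0, 1) - f (1, 0) := by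
      simp [Fin.sum_univ_four, pCo, pRep, hf]; ring
    rw [hs]
    push_cast
    linear_combination hm / 3
  have hr : ∀ a, pRep a ≠ 0 := by decide
  have h := order_bound (fun a => H.el (pRep a)) pCo
    (fun a b e => by
      have k : ∀ a b, (pRep a = pRep b ∨ -pRep a = pRep b) → a = b := by decide
      exact k a b ((H.isConj_iff_rel (hr b)).1 e))
    (fun a => H.el_ne (hr a)) 3 9 (by norm_num [map_ofNat]) (by norm_num) hmult
    (by
      rw [Finset.sum_congr rfl fun a _ => by rw [H.card_cent (hr a)]]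
      decide)
    (H.el (1, 1)) (fun a ha e => by
      have k : ∀ a, pCo a ≠ 0 → ¬ (((1, 1) : W) = pRep a ∨ -((1, 1) : W) = pRep a) := by decide
      exact k a ha ((H.isConj_iff_rel (hr a)).1 e))
    0 (by decide) (-1) (Or.inr rfl)
    (by
      rw [Finset.sum_congr rfl fun a _ => by
        rw [H.pairs_card (by decide) (by decide) (hr a) (by decide)]]
      decide)
  rwa [H.card_cent (by decide)] at h

theorem normal : H.i.range.Normal := by
  haveI : Fact (Nat.Prime 3) := ⟨Nat.prime_three⟩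
  obtain ⟨P, hP⟩ := (IsPGroup.of_card (p := 3) (n := 2) (show Nat.card H.i.range = 3 ^ 2 by
    rw [H.card_range]; norm_num)).exists_le_sylow
  have hPe := H.sylow_eq P hP
  have h1 := card_mul_index (normalizer (H.i.range : Set X))
  rw [H.card_N] at h1
  have h2 := H.order_le
  have h3 := card_sylow_modEq_one 3 X
  rw [P.card_eq_index_normalizer] at h3
  rw [← normalizer_eq_top_iff, ← index_eq_one]
  rw [show ((P : Set X)) = (H.i.range : Set X) from congrArg SetLike.coe hPe] at h3
  unfold Nat.ModEq at h3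
  have h4 : (normalizer (H.i.range : Set X)).index ≠ 0 := index_ne_zero_of_finite
  omega

end PlaneHyp

end CfsgLib.McLThree.TwentySeven
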