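import Cfsg.Agent.McLThree.TwentySevenCompl
import Cfsg.Agent.McLThree.TwentySevenPlane
import Cfsg.Agent.Solvable.CoprimeAbelian
import Mathlib.GroupTheory.Transfer
import Mathlib.Algebra.Field.ZMod

/-!
The centralizer of an element with two non-zero coordinates lies in the normalizer.
-/

set_option autoImplicit false
set_option maxRecDepth 100000
set_option linter.style.haveILetI false

namespace CfsgLib.McLThree.TwentySeven

open Subgroup Multiplicative
open CfsgLib.AltNine (mh ih)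

universe u

theorem two_stab : ∀ a, ∀ b : V, wt b = 2 → oct a b = b → mh a a = 0 := by decide +kernel

theorem two_fix : ∀ a, ∀ b : V, a ≠ 0 → wt b = 2 → oct a b = b → ∀ v,
    (∃ k : ZMod 3, v + oct a v = k • b) ∧ (oct a v = v → ∃ k : ZMod 3, v = k • b) := by decide +kernel

theorem two_line : ∀ b : V, wt b = 2 → ∀ v : V, (∀ k : ZMod 3, v ≠ k • b) →
    ∃ k : ZMod 3, v + k • b ≠ 0 ∧ wt (v + k • b) ≠ 2 := by decide +kernel

theorem two_basis : ∀ b : V, wt b = 2 → ∃ e e' : V,
    (∀ v : V, ∃ x y z : ZMod 3, v = x • e + y • e' + z • b) ∧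
      ∀ x y z : ZMod 3, x • e + y • e' + z • b = 0 → x = 0 ∧ y = 0 ∧ z = 0 := by decide +kernel

theorem two_dot : ∀ b : V, wt b = 2 → dot b b ≠ 0 := by decide +kernel

theorem zmod_sq : ∀ x : ZMod 3, x ≠ 0 → x * x = 1 := by decide

namespace MonoHyp

variable {d : Bool} {Y : Type u} [Group Y] (H : MonoHyp d Y)

theorem el_smul (k : ZMod 3) (v : V) : H.el (k • v) = H.el v ^ k.val := by
  conv_lhs => rw [← ZMod.natCast_zmod_val k, Nat.cast_smul_eq_nsmul]
  exact H.el_nsmul _ _

theorem comm_shift {g : Y} {b v : V} (hb : g * H.el b = H.el b * g) (hv : g * H.el v = H.el v * g)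
    (k : ZMod 3) : g * H.el (v + k • b) = H.el (v + k • b) * g := by
  rw [H.el_add, H.el_smul]
  exact Commute.mul_right hv (Commute.pow_right hb _)

/-- Commuting with `b` and a vector off the line of `b` puts an element in the normalizer. -/
theorem mem_N_of_plane {g : Y} {b v : V} (hb2 : wt b = 2) (hb : g * H.el b = H.el b * g)
    (hv : g * H.el v = H.el v * g) (hne : ∀ k : ZMod 3, v ≠ k • b) : g ∈ H.N := by
  obtain ⟨k, hk0, hk2⟩ := two_line b hb2 v hne
  exact H.cent _ hk0 hk2 (mem_centralizer_singleton_iff.2 (H.comm_shift hb hv k))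

variable [Finite Y]

/-- The subgroup is a Sylow subgroup of the centralizer. -/
theorem sylow_cent {b : V} (hb2 : wt b = 2) :
    ∃ P : Sylow 3 (centralizer ({H.el b} : Set Y)),
      (P : Subgroup _) = H.i.range.subgroupOf (centralizer ({H.el b} : Set Y)) := by
  haveI : Fact (Nat.Prime 3) := ⟨Nat.prime_three⟩
  set B := centralizer ({H.el b} : Set Y) with hB
  have hAB : H.i.range ≤ B := fun a ha => by
    obtain ⟨v, rfl⟩ := H.exists_el ha
    exact mem_centralizer_singleton_iff.2 (H.el_comm _ _)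
  have hp : IsPGroup 3 (H.i.range.subgroupOf B) :=
    H.isPGroup_range.of_equiv (subgroupOfEquivOfLe hAB).symm
  obtain ⟨P, hP⟩ := hp.exists_le_sylow
  refine ⟨P, le_antisymm ?_ hP⟩
  by_contra hne
  haveI := P.2.isNilpotent
  have hlt : (H.i.range.subgroupOf B).subgroupOf P < ⊤ := by
    rw [lt_top_iff_ne_top]
    intro h
    exact hne fun x hx => mem_subgroupOf.1 (h ▸ mem_top (⟨x, hx⟩ : (P : Subgroup B)))
  obtain ⟨w, hw, hwA⟩ := SetLike.exists_of_lt (Group.normalizerCondition_of_isNilpotent _ hlt)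
  have hwN : ((w : B) : Y) ∈ H.N := by
    rw [mem_normalizer_iff]
    intro a
    constructor
    · intro ha
      exact mem_subgroupOf.1 (mem_subgroupOf.1 ((mem_normalizer_iff.1 hw
        ⟨⟨a, hAB ha⟩, hP (mem_subgroupOf.2 ha)⟩).1 (mem_subgroupOf.2 (mem_subgroupOf.2 ha))))
    · intro ha
      have haB : a ∈ B := by
        have := mul_mem (mul_mem (inv_mem (w : B).2) (hAB ha)) (w : B).2
        simpa [mul_assoc] using this
      have haP : (⟨a, haB⟩ : B) ∈ (P : Subgroup B) := by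
        have := mul_mem (mul_mem (inv_mem w.2) (hP (x := (w : B) * ⟨a, haB⟩ * (w : B)⁻¹)
          (mem_subgroupOf.2 ha))) w.2
        simpa [mul_assoc] using this
      exact mem_subgroupOf.1 (mem_subgroupOf.1 ((mem_normalizer_iff.1 hw
        ⟨⟨a, haB⟩, haP⟩).2 (mem_subgroupOf.2 (mem_subgroupOf.2 ha))))
  obtain ⟨k, hk⟩ := P.2 w
  apply hwA
  rw [mem_subgroupOf, mem_subgroupOf]
  refine H.ind_pow_three ⟨_, hwN⟩ (k := k) ?_ (two_stab _ b hb2 ?_)
  · exact congrArg (fun z : (P : Subgroup B) => ((z : B) : Y)) hk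
  · exact (H.commute_iff ⟨_, hwN⟩ b).1 (mem_centralizer_singleton_iff.1 (w : B).2)

set_option maxHeartbeats 800000 in
theorem cent_two_free {b : V} (hb2 : wt b = 2)
    (h0 : ∀ a, inList d a = true → oct a b = b → a = 0) :
    centralizer ({H.el b} : Set Y) ≤ H.N := by
  classical
  haveI : Fact (Nat.Prime 3) := ⟨Nat.prime_three⟩
  have hsyl := H.sylow_cent hb2
  set B := centralizer ({H.el b} : Set Y) with hB
  obtain ⟨P, hPe⟩ := hsyl
  have hNB : ∀ g ∈ B, g ∈ H.N → g ∈ H.i.range := fun g hg hgN =>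
    (H.ind_eq_zero ⟨g, hgN⟩).1 (h0 _ (H.ind_inList _)
      ((H.commute_iff ⟨g, hgN⟩ b).1 (mem_centralizer_singleton_iff.1 hg)))
  have hAB : H.i.range ≤ B := fun a ha => by
    obtain ⟨v, rfl⟩ := H.exists_el ha
    exact mem_centralizer_singleton_iff.2 (H.el_comm _ _)
  have hnc : normalizer (P : Set B) ≤ centralizer (P : Set B) := by
    intro g hg
    have hg' : (g : Y) ∈ H.N := by
      rw [mem_normalizer_iff]
      intro a
      constructor
      · intro ha
        have : g * ⟨a, hAB ha⟩ * g⁻¹ ∈ (P : Subgroup B) :=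
          (mem_normalizer_iff.1 hg _).1 (hPe.ge (mem_subgroupOf.2 ha))
        exact mem_subgroupOf.1 (hPe.le this)
      · intro ha
        have haB : a ∈ B := by
          have := mul_mem (mul_mem (inv_mem g.2) (hAB ha)) g.2
          simpa [mul_assoc] using this
        exact mem_subgroupOf.1 (hPe.le ((mem_normalizer_iff.1 hg ⟨a, haB⟩).2
          (hPe.ge (mem_subgroupOf.2 ha))))
    obtain ⟨v, hv⟩ := H.exists_el (hNB g g.2 hg')
    rw [mem_centralizer_iff]
    intro x hx
    obtain ⟨w, hw⟩ := H.exists_el (mem_subgroupOf.1 (hPe.le hx))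
    apply Subtype.ext
    rw [Subgroup.coe_mul, Subgroup.coe_mul, ← hv, ← hw, H.el_comm]
  set U := (MonoidHom.transferSylow P hnc).ker with hU
  have hUP := MonoidHom.ker_transferSylow_isComplement' P hnc
  have hUA : ∀ g : B, g ∈ U → (g : Y) ∈ H.i.range → g = 1 := fun g hg hA =>
    mem_bot.1 (hUP.disjoint.le_bot ⟨hg, hPe.ge (mem_subgroupOf.2 hA)⟩)
  have hUn : U.Normal := MonoidHom.normal_ker _
  have hUcop : ¬ 3 ∣ Nat.card U := MonoidHom.not_dvd_card_ker_transferSylow P hnc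
  rw [← hU] at hUP
  clear_value U
  clear hU
  set K := U.map B.subtype with hK
  obtain ⟨e, e', -, hind⟩ := two_basis b hb2
  let r : Multiplicative W →* Y := H.i.comp (AddMonoidHom.toMultiplicative
    (AddMonoidHom.mk' (fun w : W => w.1 • e + w.2 • e') fun u w => by
      simp only [Prod.fst_add, Prod.snd_add, add_smul]; abel))
  have hrw : ∀ w : W, r (ofAdd w) = H.el (w.1 • e + w.2 • e') := fun w => rfl
  have hrinj : Function.Injective r := by
    refine (injective_iff_map_eq_one r).2 fun x hx => ?_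
    have h := hind x.toAdd.1 x.toAdd.2 0 (by
      rw [zero_smul, add_zero]
      exact H.el_inj ((hrw x.toAdd).symm.trans (hx.trans H.el_zero.symm)))
    exact Multiplicative.toAdd.injective (Prod.ext h.1 h.2.1)
  have hrA : r.range ≤ H.i.range := by rintro _ ⟨x, rfl⟩; exact H.el_mem _
  have hRc : Nat.card r.range = 9 := by
    rw [← Nat.card_congr (MonoidHom.ofInjective hrinj).toEquiv, Nat.card_congr Multiplicative.toAdd]
    simp [Nat.card_eq_fintype_card]
  haveI : IsMulCommutative r.range := ⟨⟨fun x y => Subtype.ext (by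
    obtain ⟨u, hu⟩ := H.exists_el (hrA x.2)
    obtain ⟨v, hv⟩ := H.exists_el (hrA y.2)
    rw [Subgroup.coe_mul, Subgroup.coe_mul, ← hu, ← hv, H.el_comm])⟩⟩
  have hncyc : ¬ IsCyclic r.range := by
    intro hc
    obtain ⟨x, hx⟩ := IsCyclic.exists_ofOrder_eq_natCard (α := r.range)
    rw [hRc] at hx
    have := orderOf_dvd_of_pow_eq_one (x := x) (n := 3) (Subtype.ext (H.cube_mem (hrA x.2)))
    rw [hx] at this
    norm_num at this
  have hRK : r.range ≤ normalizer (K : Set Y) := by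
    intro x hx
    rw [mem_normalizer_iff]
    intro y
    constructor
    · rintro ⟨u, hu, rfl⟩
      exact ⟨⟨x, hAB (hrA hx)⟩ * u * (⟨x, hAB (hrA hx)⟩)⁻¹,
        hUn.conj_mem u hu _, rfl⟩
    · rintro ⟨u, hu, he⟩
      refine ⟨(⟨x, hAB (hrA hx)⟩)⁻¹ * u * (⟨x, hAB (hrA hx)⟩ : B), ?_, ?_⟩
      · have := hUn.conj_mem u hu (⟨x, hAB (hrA hx)⟩ : B)⁻¹
        simpa using this
      · change (u : Y) = x * y * x⁻¹ at he
        show x⁻¹ * (u : Y) * x = y
        rw [he]; group
  have hcop : (Nat.card r.range).Coprime (Nat.card K) := by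
    rw [hRc, hK, card_map_of_injective (subtype_injective B), show 9 = 3 ^ 2 by norm_num]
    exact Nat.Coprime.pow_left _ ((Nat.Prime.coprime_iff_not_dvd Nat.prime_three).2
      hUcop)
  have hbot : K = ⊥ := by
    rw [eq_bot_iff, ← CfsgLib.CoprimeAct.generated_by_centralizers hncyc hRK hcop]
    refine iSup₂_le fun a ha => ?_
    rintro g ⟨⟨u, hu, rfl⟩, hga⟩
    obtain ⟨⟨x, rfl⟩, ha1⟩ := ha
    have hne : ∀ k : ZMod 3, x.toAdd.1 • e + x.toAdd.2 • e' ≠ k • b := by
      intro k hk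
      have h := hind x.toAdd.1 x.toAdd.2 (-k) (by rw [hk, neg_smul, add_neg_cancel])
      exact ha1 (by rw [show x = 1 from Multiplicative.toAdd.injective (Prod.ext h.1 h.2.1), map_one])
    have hN := H.mem_N_of_plane (g := (u : Y)) hb2 (mem_centralizer_singleton_iff.1 u.2)
      (mem_centralizer_singleton_iff.1 hga) hne
    rw [hUA u hu (hNB _ u.2 hN), map_one]
    exact one_mem _
  have hUbot : U = ⊥ := (map_eq_bot_iff_of_injective U (subtype_injective B)).1 hbot
  rw [hUbot, isComplement'_bot_left] at hUP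
  intro g hg
  exact H.range_le_N (mem_subgroupOf.1 (hPe.le (hUP.ge (mem_top (⟨g, hg⟩ : B)))))

set_option maxHeartbeats 800000 in
theorem cent_two_inv {b : V} (hb2 : wt b = 2) {a₀ : Fin 24} (ha₀ : inList d a₀ = true)
    (hfix : oct a₀ b = b) (hne₀ : a₀ ≠ 0) : centralizer ({H.el b} : Set Y) ≤ H.N := by
  classical
  haveI : Fact (Nat.Prime 3) := ⟨Nat.prime_three⟩
  have hsyl := H.sylow_cent hb2
  set B := centralizer ({H.el b} : Set Y) with hB
  obtain ⟨P, hPe⟩ := hsyl
  have hAB : H.i.range ≤ B := fun a ha => by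
    obtain ⟨v, rfl⟩ := H.exists_el ha
    exact mem_centralizer_singleton_iff.2 (H.el_comm _ _)
  let inv' := ((subgroupOfEquivOfLe hAB).trans (MonoidHom.ofInjective H.inj).symm)
  let θ : Multiplicative V →* Multiplicative (ZMod 3) := AddMonoidHom.toMultiplicative
    (AddMonoidHom.mk' (fun v => dot b v) fun u v => dot_add b u v)
  let ψ : H.i.range.subgroupOf B →* Multiplicative (ZMod 3) := θ.comp inv'.toMonoidHom
  let T : B →* Multiplicative (ZMod 3) := MonoidHom.transfer ψ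
  have hidx : ¬ 3 ∣ (H.i.range.subgroupOf B).index := hPe ▸ P.not_dvd_index
  let bB : B := ⟨H.el b, hAB (H.el_mem b)⟩
  have hTb : T bB ≠ 1 := by
    have hbc : ∀ g : B, g * bB = bB * g := fun g =>
      Subtype.ext (mem_centralizer_singleton_iff.1 g.2)
    have h := MonoidHom.transfer_eq_pow ψ bB fun k g₀ _ => by
      rw [mul_assoc, ← (Commute.pow_right (hbc g₀) k).eq, inv_mul_cancel_left]
    intro hT
    have hbA : bB ∈ H.i.range.subgroupOf B := mem_subgroupOf.2 (H.el_mem b)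
    have e : ψ ⟨bB ^ (H.i.range.subgroupOf B).index, pow_mem hbA _⟩ = 1 := h.symm.trans hT
    rw [show (⟨bB ^ (H.i.range.subgroupOf B).index, pow_mem hbA _⟩ : H.i.range.subgroupOf B) =
      ⟨bB, hbA⟩ ^ (H.i.range.subgroupOf B).index from Subtype.ext rfl, map_pow] at e
    have hv : inv' ⟨bB, hbA⟩ = ofAdd b := by
      refine H.inj ?_
      show H.i ((MonoidHom.ofInjective H.inj).symm _) = _
      rw [MonoidHom.apply_ofInjective_symm]
      rfl
    change (θ (inv' ⟨bB, hbA⟩)) ^ _ = 1 at e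
    rw [hv] at e
    change (ofAdd (dot b b)) ^ _ = 1 at e
    rw [← ofAdd_nsmul, ofAdd_eq_one, nsmul_eq_mul, mul_eq_zero] at e
    rcases e with e | e
    · exact hidx ((ZMod.natCast_eq_zero_iff _ _).1 e)
    · exact two_dot b hb2 e
  let F : V →+ ZMod 3 := AddMonoidHom.mk' (fun v => (T ⟨H.el v, hAB (H.el_mem v)⟩).toAdd) fun u v => by
    rw [← toAdd_mul, ← map_mul]
    exact congrArg (fun z => (T z).toAdd) (Subtype.ext (H.el_add u v))
  have hFT : ∀ v, ∀ h : H.el v ∈ B, T ⟨H.el v, h⟩ = ofAdd (F v) := fun v h => rfl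
  have hFb : F b ≠ 0 := fun h => hTb (toAdd_eq_zero.1 h)
  have hFs : ∀ (k : ZMod 3) (v : V), F (k • v) = k * F v := fun k v => by
    conv_lhs => rw [← ZMod.natCast_zmod_val k, Nat.cast_smul_eq_nsmul, map_nsmul, nsmul_eq_mul,
      ZMod.natCast_zmod_val]
  have hFsq := zmod_sq _ hFb
  obtain ⟨e, e', hspan, hind⟩ := two_basis b hb2
  let r : W → V := fun w => w.1 • e + w.2 • e' + (-(F (w.1 • e + w.2 • e') * F b)) • b
  have radd : ∀ u w, r (u + w) = r u + r w := fun u w => by
    simp only [r, Prod.fst_add, Prod.snd_add, map_add, hFs, add_smul, add_mul, neg_add, neg_smul,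
      mul_smul]
    abel
  have hr0 : ∀ w, F (r w) = 0 := fun w => by
    simp only [r, map_add, hFs, neg_mul, mul_assoc, hFsq]
    ring
  have hrne : ∀ w, w ≠ 0 → ∀ k : ZMod 3, r w ≠ k • b := by
    intro w hw k hk
    obtain ⟨h1, h2, -⟩ := hind w.1 w.2 (-(F (w.1 • e + w.2 • e') * F b) - k) (by
      rw [sub_smul, ← add_sub_assoc, sub_eq_zero]; exact hk)
    exact hw (Prod.ext h1 h2)
  have hker : ∀ v, F v = 0 → ∃ w, r w = v := by
    intro v hv
    obtain ⟨x, y, z, rfl⟩ := hspan v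
    refine ⟨(x, y), ?_⟩
    rw [map_add, hFs] at hv
    show _ + (-(F (x • e + y • e') * F b)) • b = _
    rw [eq_neg_of_add_eq_zero_left hv, neg_mul, neg_neg, mul_assoc, hFsq, mul_one]
  set B₁ := T.ker with hB₁
  have hrB : ∀ w, (⟨H.el (r w), hAB (H.el_mem _)⟩ : B) ∈ B₁ := fun w => by
    rw [hB₁, MonoidHom.mem_ker, hFT, hr0, ofAdd_zero]
  let j : Multiplicative W →* B₁ :=
    { toFun := fun w => ⟨⟨H.el (r w.toAdd), hAB (H.el_mem _)⟩, hrB _⟩
      map_one' := Subtype.ext (Subtype.ext (by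
        show H.el (r 0) = 1
        have : r 0 = 0 := by simp [r]
        rw [this, H.el_zero]))
      map_mul' := fun u w => Subtype.ext (Subtype.ext (by
        show H.el (r (u.toAdd + w.toAdd)) = H.el (r u.toAdd) * H.el (r w.toAdd)
        rw [radd, H.el_add])) }
  have jval : ∀ w : W, ((j (ofAdd w) : B₁) : B).1 = H.el (r w) := fun w => rfl
  have jmem : ∀ g : B₁, ((g : B) : Y) ∈ H.i.range → g ∈ j.range := by
    intro g hg
    obtain ⟨v, hv⟩ := H.exists_el hg
    have h1 : T (g : B) = 1 := g.2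
    rw [show (g : B) = ⟨H.el v, hAB (H.el_mem v)⟩ from Subtype.ext hv.symm, hFT, ofAdd_eq_one] at h1
    obtain ⟨w, rfl⟩ := hker v h1
    exact ⟨ofAdd w, Subtype.ext (Subtype.ext hv)⟩
  have toN : ∀ g : B₁, g ∈ normalizer (j.range : Set B₁) → ((g : B) : Y) ∈ H.N := by
    intro g hg
    have key : ∀ a ∈ H.i.range, ((g : B) : Y) * a * ((g : B) : Y)⁻¹ ∈ H.i.range := by
      intro a ha
      obtain ⟨v, rfl⟩ := H.exists_el ha
      obtain ⟨x, y, z, rfl⟩ := hspan v
      obtain ⟨u, hu⟩ := (mem_normalizer_iff.1 hg (j (ofAdd (x, y)))).1 ⟨_, rfl⟩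
      have hu' := congrArg (fun t : B₁ => ((t : B) : Y)) hu
      simp only [Subgroup.coe_mul, Subgroup.coe_inv, jval] at hu'
      have hcb := Commute.pow_right (mem_centralizer_singleton_iff.1 (g : B).2 :
        Commute ((g : B) : Y) (H.el b)) (z + F (x • e + y • e') * F b).val
      have e1 : x • e + y • e' + z • b = r (x, y) + (z + F (x • e + y • e') * F b) • b := by
        simp only [r, add_smul, neg_smul]; abel
      rw [e1, H.el_add, H.el_smul]
      rw [← conj_mul, ← hu', hcb.eq, mul_inv_cancel_right]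
      exact mul_mem (H.el_mem _) (pow_mem (H.el_mem _) _)
    have he := eq_of_le_of_card_ge (H := H.i.range.map (MulAut.conj ((g : B) : Y)).toMonoidHom)
      (K := H.i.range) (by rintro _ ⟨a, ha, rfl⟩; exact key a ha)
      (card_map_of_injective (MulEquiv.injective _)).ge
    rw [mem_normalizer_iff]
    intro a
    refine ⟨key a, fun ha => ?_⟩
    rw [← he] at ha
    obtain ⟨c, hc, ec⟩ := ha
    have e' : c = a := by simpa using ec
    exact e' ▸ hc
  have act : ∀ g : B₁, ∀ hg : ((g : B) : Y) ∈ H.N, H.ind ⟨_, hg⟩ ≠ 0 → ∀ w,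
      oct (H.ind ⟨_, hg⟩) (r w) = r (-w) := by
    intro g hg hne w
    obtain ⟨k, hk⟩ := (two_fix _ b hne hb2
      ((H.commute_iff ⟨_, hg⟩ b).1 (mem_centralizer_singleton_iff.1 (g : B).2)) (r w)).1
    have hF' : F (oct (H.ind ⟨_, hg⟩) (r w)) = 0 := by
      have e1 : (⟨H.el (oct (H.ind ⟨_, hg⟩) (r w)), hAB (H.el_mem _)⟩ : B) =
          (g : B) * ⟨H.el (r w), hAB (H.el_mem _)⟩ * (g : B)⁻¹ :=
        Subtype.ext (H.ind_spec ⟨_, hg⟩ (r w)).symm
      show toAdd (T _) = 0
      have e2 : ∀ t : B, T ((g : B) * t * (g : B)⁻¹) = T t := fun t => by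
        rw [map_mul, map_mul, map_inv, mul_comm (T (g : B)), mul_inv_cancel_right]
      rw [e1, e2]
      exact hr0 w
    have hk0 := congrArg F hk
    rw [map_add, hr0, hF', add_zero, hFs] at hk0
    rcases mul_eq_zero.1 hk0.symm with h | h
    · rw [h, zero_smul] at hk
      have hneg : r (-w) = - r w := eq_neg_of_add_eq_zero_left (by
        rw [← radd, neg_add_cancel]; simp [r])
      rw [hneg]
      exact eq_neg_of_add_eq_zero_right hk
    · exact absurd h hFb
  have hcentj : ∀ w : W, w ≠ 0 → centralizer ({j (ofAdd w)} : Set B₁) ≤ j.range := by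
    intro w hw g hg
    have hc := congrArg (fun t : B₁ => ((t : B) : Y)) (mem_centralizer_singleton_iff.1 hg)
    simp only [Subgroup.coe_mul, jval] at hc
    have hgN := H.mem_N_of_plane hb2 (mem_centralizer_singleton_iff.1 (g : B).2) hc (hrne w hw)
    refine jmem g ((H.ind_eq_zero ⟨_, hgN⟩).1 ?_)
    by_contra hne
    obtain ⟨k, hk⟩ := (two_fix _ b hne hb2
      ((H.commute_iff ⟨_, hgN⟩ b).1 (mem_centralizer_singleton_iff.1 (g : B).2)) (r w)).2
      ((H.commute_iff ⟨_, hgN⟩ _).1 hc)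
    exact hrne w hw k hk
  have hshift : ∀ g : B, g * bB ^ (-(T g).toAdd * F b).val ∈ B₁ := by
    intro g
    rw [hB₁, MonoidHom.mem_ker, map_mul, map_pow,
      show T bB = ofAdd (F b) from rfl, ← ofAdd_nsmul, nsmul_eq_mul, ZMod.natCast_zmod_val,
      mul_assoc, hFsq, mul_one, ofAdd_neg, ofAdd_toAdd, mul_inv_cancel]
  obtain ⟨n, hn, hn'⟩ := H.surj a₀ ha₀
  have hnB : n ∈ B := mem_centralizer_singleton_iff.2 ((H.commute_iff ⟨n, hn⟩ b).2 (by
    rw [H.ind_eq ⟨n, hn⟩ a₀ hn', hfix]))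
  set n₁ : B₁ := ⟨_, hshift ⟨n, hnB⟩⟩
  have hn₁N : ((n₁ : B) : Y) ∈ H.N := by
    show n * ((bB ^ _ : B) : Y) ∈ H.N
    rw [Subgroup.coe_pow]
    exact mul_mem hn (pow_mem (H.range_le_N (H.el_mem b)) _)
  have hn₁a : H.ind ⟨_, hn₁N⟩ = a₀ := by
    have hp : H.el b ^ (-(T ⟨n, hnB⟩).toAdd * F b).val ∈ H.i.range := pow_mem (H.el_mem b) _
    rw [show (⟨_, hn₁N⟩ : H.N) = ⟨n, hn⟩ * ⟨_, H.range_le_N hp⟩ from Subtype.ext (by simp [n₁, bB]),
      H.ind_mul, (H.ind_eq_zero ⟨_, H.range_le_N hp⟩).2 hp, H.ind_eq ⟨n, hn⟩ a₀ hn']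
    exact (CfsgLib.AltNine.mh_one _).1
  have hconj : ∀ g : B₁, ∀ hg : ((g : B) : Y) ∈ H.N, H.ind ⟨_, hg⟩ ≠ 0 → ∀ w : W,
      g * j (ofAdd w) * g⁻¹ = j (ofAdd (-w)) := fun g hg hne w => Subtype.ext (Subtype.ext (by
    simp only [Subgroup.coe_mul, Subgroup.coe_inv, jval]
    exact (H.ind_spec ⟨_, hg⟩ _).trans (congrArg H.el (act g hg hne w))))
  let PH : PlaneHyp B₁ :=
    { i := j
      inj := (injective_iff_map_eq_one j).2 fun x hx => by
        have h0 : r x.toAdd = 0 := H.el_inj ((congrArg (fun t : B₁ => ((t : B) : Y)) hx).trans H.el_zero.symm)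
        by_contra hx1
        exact hrne x.toAdd (fun h => hx1 (toAdd_eq_zero.1 h)) 0 (by rw [h0, zero_smul])
      cent := hcentj
      norm := fun g hg => by
        by_cases h0 : H.ind ⟨_, toN g hg⟩ = 0
        · refine Or.inl fun w => Subtype.ext (Subtype.ext ?_)
          simp only [Subgroup.coe_mul, Subgroup.coe_inv, jval]
          exact (H.ind_spec ⟨_, toN g hg⟩ _).trans (by rw [h0, oct_zero])
        · exact Or.inr (hconj g _ h0)
      surj := ⟨n₁, by
        rw [mem_normalizer_iff]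
        intro t
        have hc := hconj n₁ hn₁N (by rw [hn₁a]; exact hne₀)
        constructor
        · rintro ⟨x, rfl⟩
          exact ⟨ofAdd (-x.toAdd), (hc x.toAdd).symm⟩
        · rintro ⟨x, hx⟩
          refine ⟨ofAdd (-x.toAdd), ?_⟩
          have := hc (-x.toAdd)
          rw [neg_neg, ofAdd_toAdd, hx] at this
          exact (mul_left_cancel (mul_right_cancel this)),
        hconj n₁ hn₁N (by rw [hn₁a]; exact hne₀)⟩ }
  have hnorm : normalizer (j.range : Set B₁) = ⊤ := normalizer_eq_top_iff.2 PH.normal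
  intro g hg
  set k := (-(T ⟨g, hg⟩).toAdd * F b).val
  have h1 := toN ⟨_, hshift ⟨g, hg⟩⟩ (hnorm ▸ mem_top _)
  have h2 : g * H.el b ^ k ∈ H.N := by
    have h3 : (((⟨g, hg⟩ : B) * bB ^ k : B) : Y) = g * H.el b ^ k := by simp [bB]
    exact h3 ▸ h1
  simpa using mul_mem h2 (inv_mem (pow_mem (H.range_le_N (H.el_mem b)) k))

/-- All non-trivial elements of the subgroup have centralizer in the normalizer. -/
theorem cent_all {v : V} (hv : v ≠ 0) : centralizer ({H.el v} : Set Y) ≤ H.N := by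
  by_cases h2 : wt v = 2
  · by_cases h : ∀ a, inList d a = true → oct a v = v → a = 0
    · exact H.cent_two_free h2 h
    · push Not at h
      obtain ⟨a, ha, hfix, hne⟩ := h
      exact H.cent_two_inv h2 ha hfix hne
  · exact H.cent v hv h2

/-- Fusion into the normalizer ends in the subgroup. -/
theorem closed {g : Y} {v : V} (h : g * H.el v * g⁻¹ ∈ H.N) : g * H.el v * g⁻¹ ∈ H.i.range := by
  by_contra hA
  have hv : v ≠ 0 := by
    rintro rfl
    exact hA (by rw [H.el_zero, mul_one, mul_inv_cancel]; exact one_mem _)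
  by_cases h2 : wt v = 2
  · set x : H.N := ⟨_, h⟩ with hx
    have hx3 : (x : Y) ^ 3 = 1 := by
      show (g * H.el v * g⁻¹) ^ 3 = 1
      rw [conj_pow, H.el_cube, mul_one, mul_inv_cancel]
    obtain ⟨f, hf0, hf2, hff, -⟩ := fix_three _ (fun e => hA ((H.ind_eq_zero x).1 e)) (H.ind_cube x hx3)
    have hxf : g * H.el v * g⁻¹ * H.el f = H.el f * (g * H.el v * g⁻¹) := (H.commute_iff x f).2 hff
    set y := g⁻¹ * H.el f * g with hy
    have hyv : y * H.el v = H.el v * y := by
      calc y * H.el v = g⁻¹ * (H.el f * (g * H.el v * g⁻¹)) * g := by rw [hy]; group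
        _ = g⁻¹ * (g * H.el v * g⁻¹ * H.el f) * g := by rw [hxf]
        _ = _ := by rw [hy]; group
    have hyN : y ∈ H.N := H.cent_all hv (mem_centralizer_singleton_iff.2 hyv)
    have hy3 : y ^ 3 ^ 1 = 1 := by
      rw [pow_one, hy]
      have := conj_pow (a := g⁻¹) (b := H.el f) (i := 3)
      rwa [inv_inv, H.el_cube, mul_one, inv_mul_cancel] at this
    obtain ⟨u, hu⟩ := H.exists_el (H.ind_pow_three ⟨y, hyN⟩ hy3
      (two_stab _ v h2 ((H.commute_iff ⟨y, hyN⟩ v).1 hyv)))
    have hgN : g ∈ H.N := H.conj_mem_N (v := u) (H.cent f hf0 hf2)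
      (by rw [hu]; show g * y * g⁻¹ = H.el f; rw [hy]; group)
    exact hA ((mem_normalizer_iff.1 hgN _).1 (H.el_mem v))
  · refine H.nofuse _ h hA ?_ v hv h2 g⁻¹ ?_
    · rw [conj_pow, H.el_cube, mul_one, mul_inv_cancel]
    · show g⁻¹ * (g * H.el v * g⁻¹) * g⁻¹⁻¹ = H.el v
      group

end MonoHyp

end CfsgLib.McLThree.TwentySeven
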